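import Mathlib.GroupTheory.Sylow
import Mathlib.GroupTheory.Perm.Cycle.Type
import Mathlib.GroupTheory.GroupAction.ConjAct
import Mathlib.GroupTheory.Index
import Mathlib.GroupTheory.QuotientGroup.Basic
import Mathlib.Data.ZMod.Basic
import Mathlib.Algebra.Field.ZMod

set_option autoImplicit false

universe u

namespace Cfsg.Agent.Lib.Helper48

open Subgroup
open scoped Pointwise

/-! ### Fixed points of maps of `p`-power order -/

theorem not_dvd_card_fixed_of_iterate {α : Type*} [Finite α] {p : ℕ} [hp : Fact p.Prime] (f : α → α)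
    (hf : ∀ x, f^[p] x = x) (hcard : ¬ p ∣ Nat.card α) : ¬ p ∣ Nat.card {x : α // f x = x} := by
  classical
  have := Fintype.ofFinite α
  let F : Function.End α := f
  have hpow : ∀ n : ℕ, ∀ x, (F ^ n) x = f^[n] x := by
    intro n
    induction n with
    | zero => intro x; rfl
    | succ n ih =>
      intro x
      rw [pow_succ, Function.iterate_succ_apply]
      show (F ^ n) (F x) = _
      rw [ih]
  have h1 : F ^ p ^ 1 = 1 := by
    rw [pow_one]
    funext x
    rw [hpow, hf]; rfl
  have h2 := Equiv.Perm.card_fixedPoints_modEq (f := F) h1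
  intro hdvd
  apply hcard
  rw [Nat.card_eq_fintype_card]
  have h3 : Fintype.card (Function.fixedPoints F) = Nat.card {x : α // f x = x} := by
    rw [← Nat.card_eq_fintype_card]
    rfl
  rw [h3] at h2
  exact (Nat.modEq_zero_iff_dvd.mp (h2.trans (Nat.modEq_zero_iff_dvd.mpr hdvd)))

theorem exists_fixed_of_iterate {α : Type*} [Finite α] {p : ℕ} [hp : Fact p.Prime] (f : α → α)
    (hf : ∀ x, f^[p] x = x) (hcard : ¬ p ∣ Nat.card α) : ∃ x, f x = x := by
  have h := not_dvd_card_fixed_of_iterate f hf hcard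
  by_contra hne
  push Not at hne
  have : IsEmpty {x : α // f x = x} := ⟨fun x => hne x.1 x.2⟩
  apply h
  rw [Nat.card_of_isEmpty]
  exact dvd_zero p

theorem exists_common_fixed {α : Type*} [Finite α] {p : ℕ} [hp : Fact p.Prime] (f g : α → α)
    (hf : ∀ x, f^[p] x = x) (hg : ∀ x, g^[p] x = x) (hfg : ∀ x, f (g x) = g (f x))
    (hcard : ¬ p ∣ Nat.card α) : ∃ x, f x = x ∧ g x = x := by
  have h := not_dvd_card_fixed_of_iterate f hf hcard
  let g' : {x : α // f x = x} → {x : α // f x = x} := fun x => ⟨g x.1, by rw [hfg, x.2]⟩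
  have hg'iter : ∀ n : ℕ, ∀ x, ((g')^[n] x).1 = g^[n] x.1 := by
    intro n
    induction n with
    | zero => intro x; rfl
    | succ n ih => intro x; rw [Function.iterate_succ_apply, Function.iterate_succ_apply, ih]
  have hg' : ∀ x, (g')^[p] x = x := fun x => Subtype.ext (by rw [hg'iter, hg])
  obtain ⟨x, hx⟩ := exists_fixed_of_iterate g' hg' h
  exact ⟨x.1, x.2, congrArg Subtype.val hx⟩

/-! ### Lifting fixed points from a quotient (coprime case, acting element of order `p`) -/

theorem exists_mul_mem_commute {G : Type*} [Group G] [Finite G] {p : ℕ} [hp : Fact p.Prime]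
    (Z : Subgroup G) [hZn : Z.Normal] (hZ : ¬ p ∣ Nat.card Z) (c y : G) (hc : c ^ p = 1)
    (hy : y⁻¹ * (c * y * c⁻¹) ∈ Z) : ∃ z ∈ Z, c * (y * z) * c⁻¹ = y * z := by
  let f : Z → Z := fun z => ⟨(y⁻¹ * (c * y * c⁻¹)) * (c * z * c⁻¹), Z.mul_mem hy (hZn.conj_mem _ z.2 _)⟩
  have hiter : ∀ n : ℕ, ∀ z : Z, y * ((f^[n] z : Z) : G) = c ^ n * (y * z) * (c ^ n)⁻¹ := by
    intro n
    induction n with
    | zero => intro z; simp
    | succ n ih =>
      intro z
      rw [Function.iterate_succ_apply', pow_succ']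
      show y * ((y⁻¹ * (c * y * c⁻¹)) * (c * ((f^[n] z : Z) : G) * c⁻¹)) = _
      have : y * ((y⁻¹ * (c * y * c⁻¹)) * (c * ((f^[n] z : Z) : G) * c⁻¹))
          = c * (y * ((f^[n] z : Z) : G)) * c⁻¹ := by group
      rw [this, ih]; group
  have hf : ∀ z, f^[p] z = z := by
    intro z
    apply Subtype.ext
    have := hiter p z
    rw [hc] at this
    simpa using this
  obtain ⟨z, hz⟩ := exists_fixed_of_iterate f hf hZ
  refine ⟨z, z.2, ?_⟩
  have h1 := hiter 1 z
  rw [Function.iterate_one, hz, pow_one] at h1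
  exact h1.symm

/-! ### Invariant Sylow subgroups -/

theorem exists_invariant_sylow {G : Type*} [Group G] [Finite G] {p : ℕ} [hp : Fact p.Prime]
    (K : Subgroup G) [hKn : K.Normal] (hK : ¬ p ∣ Nat.card K) (a b : G) (ha : a ^ p = 1)
    (hb : b ^ p = 1) (hab : a * b = b * a) (q : ℕ) [Fact q.Prime] :
    ∃ S : Sylow q K, (∀ x ∈ (S : Subgroup K).map K.subtype, a * x * a⁻¹ ∈ (S : Subgroup K).map K.subtype) ∧
      (∀ x ∈ (S : Subgroup K).map K.subtype, b * x * b⁻¹ ∈ (S : Subgroup K).map K.subtype) := by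
  let φ : G →* MulAut K := MulAut.conjNormal
  let f : Sylow q K → Sylow q K := fun S => φ a • S
  let g : Sylow q K → Sylow q K := fun S => φ b • S
  have hfiter : ∀ n : ℕ, ∀ S, f^[n] S = φ (a ^ n) • S := by
    intro n
    induction n with
    | zero => intro S; simp
    | succ n ih =>
      intro S
      rw [Function.iterate_succ_apply', ih, pow_succ', map_mul, mul_smul]
  have hgiter : ∀ n : ℕ, ∀ S, g^[n] S = φ (b ^ n) • S := by
    intro n
    induction n with
    | zero => intro S; simp
    | succ n ih =>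
      intro S
      rw [Function.iterate_succ_apply', ih, pow_succ', map_mul, mul_smul]
  have hf : ∀ S, f^[p] S = S := by intro S; rw [hfiter, ha, map_one, one_smul]
  have hg : ∀ S, g^[p] S = S := by intro S; rw [hgiter, hb, map_one, one_smul]
  have hfg : ∀ S, f (g S) = g (f S) := by
    intro S
    show φ a • (φ b • S) = φ b • (φ a • S)
    rw [← mul_smul, ← mul_smul, ← map_mul, ← map_mul, hab]
  have hcard : ¬ p ∣ Nat.card (Sylow q K) := by
    intro h
    apply hK
    obtain ⟨S⟩ : Nonempty (Sylow q K) := inferInstance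
    exact h.trans ((Sylow.card_dvd_index S).trans (Subgroup.index_dvd_card _))
  obtain ⟨S, hSa, hSb⟩ := exists_common_fixed f g hf hg hfg hcard
  refine ⟨S, ?_, ?_⟩
  · rintro _ ⟨x, hx, rfl⟩
    have h1 : φ a • x ∈ φ a • (S : Subgroup K) := Subgroup.smul_mem_pointwise_smul _ _ _ hx
    have h2 : φ a • (S : Subgroup K) = (S : Subgroup K) := by
      have := congrArg (fun T : Sylow q K => (T : Subgroup K)) hSa
      exact this
    rw [h2] at h1
    exact ⟨_, h1, by simp [φ, MulAut.smul_def, MulAut.conjNormal_apply]⟩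
  · rintro _ ⟨x, hx, rfl⟩
    have h1 : φ b • x ∈ φ b • (S : Subgroup K) := Subgroup.smul_mem_pointwise_smul _ _ _ hx
    have h2 : φ b • (S : Subgroup K) = (S : Subgroup K) := by
      have := congrArg (fun T : Sylow q K => (T : Subgroup K)) hSb
      exact this
    rw [h2] at h1
    exact ⟨_, h1, by simp [φ, MulAut.smul_def, MulAut.conjNormal_apply]⟩

/-! ### The generating set and transfer lemmas -/

/-- Representatives of the cyclic subgroups of `⟨a, b⟩`: `b` and the `a * b ^ n`. -/
def genSet {G : Type*} [Group G] (a b : G) : Set G := {c | c = b ∨ ∃ n : ℕ, c = a * b ^ n}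

/-- The subgroup of `K` generated by the centralizers in `K` of the elements of `genSet a b`. -/
def genSub {G : Type*} [Group G] (K : Subgroup G) (a b : G) : Subgroup G :=
  ⨆ c ∈ genSet a b, K ⊓ centralizer {c}

theorem genSub_le {G : Type*} [Group G] (K : Subgroup G) (a b : G) : genSub K a b ≤ K := by
  unfold genSub
  exact iSup₂_le fun c _ => inf_le_left

theorem le_genSub {G : Type*} [Group G] (K : Subgroup G) (a b : G) {c : G} (hc : c ∈ genSet a b) :
    K ⊓ centralizer {c} ≤ genSub K a b := by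
  unfold genSub
  exact le_iSup₂ (f := fun c (_ : c ∈ genSet a b) => K ⊓ centralizer {c}) c hc

theorem genSub_mono {G : Type*} [Group G] {K L : Subgroup G} (h : K ≤ L) (a b : G) :
    genSub K a b ≤ genSub L a b := by
  unfold genSub
  exact iSup₂_mono fun c _ => inf_le_inf_right _ h

theorem map_mem_genSet {G H : Type*} [Group G] [Group H] (f : G →* H) {a b c : G}
    (hc : c ∈ genSet a b) : f c ∈ genSet (f a) (f b) := by
  rcases hc with rfl | ⟨n, rfl⟩
  · exact Or.inl rfl
  · exact Or.inr ⟨n, by rw [map_mul, map_pow]⟩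

theorem exists_of_mem_genSet_map {G H : Type*} [Group G] [Group H] (f : G →* H) {a b : G} {d : H}
    (hd : d ∈ genSet (f a) (f b)) : ∃ c ∈ genSet a b, f c = d := by
  rcases hd with rfl | ⟨n, rfl⟩
  · exact ⟨b, Or.inl rfl, rfl⟩
  · exact ⟨a * b ^ n, Or.inr ⟨n, rfl⟩, by rw [map_mul, map_pow]⟩

theorem pow_eq_one_of_mem_genSet {G : Type*} [Group G] {p : ℕ} {a b c : G} (ha : a ^ p = 1)
    (hb : b ^ p = 1) (hab : a * b = b * a) (hc : c ∈ genSet a b) : c ^ p = 1 := by
  rcases hc with rfl | ⟨n, rfl⟩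
  · exact hb
  · have hcomm : Commute a (b ^ n) := (show Commute a b from hab).pow_right n
    rw [hcomm.mul_pow, ha, ← pow_mul, mul_comm, pow_mul, hb, one_pow, one_mul]

/-- Transfer from an ambient subgroup. -/
theorem genSub_transfer_subgroup {G : Type*} [Group G] (G₁ Q : Subgroup G) (a b : G) (ha : a ∈ G₁)
    (hb : b ∈ G₁) (hQ : Q ≤ G₁)
    (h : Q.subgroupOf G₁ ≤ genSub (Q.subgroupOf G₁) (⟨a, ha⟩ : G₁) ⟨b, hb⟩) :
    Q ≤ genSub Q a b := by
  intro x hx
  have h1 : (⟨x, hQ hx⟩ : G₁) ∈ genSub (Q.subgroupOf G₁) (⟨a, ha⟩ : G₁) ⟨b, hb⟩ :=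
    h (by rw [Subgroup.mem_subgroupOf]; exact hx)
  have h2 : (genSub (Q.subgroupOf G₁) (⟨a, ha⟩ : G₁) ⟨b, hb⟩).map G₁.subtype ≤ genSub Q a b := by
    rw [Subgroup.map_le_iff_le_comap]
    unfold genSub
    apply iSup₂_le
    intro c hc
    rw [← Subgroup.map_le_iff_le_comap]
    have hc' : (c : G) ∈ genSet a b := map_mem_genSet G₁.subtype hc
    refine le_trans ?_ (le_iSup₂ (f := fun c (_ : c ∈ genSet a b) => Q ⊓ centralizer {c}) (c : G) hc')
    rintro _ ⟨y, hy, rfl⟩
    obtain ⟨hy1, hy2⟩ := Subgroup.mem_inf.mp hy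
    refine Subgroup.mem_inf.mpr ⟨Subgroup.mem_subgroupOf.mp hy1, ?_⟩
    rw [Subgroup.mem_centralizer_singleton_iff] at hy2 ⊢
    exact congrArg Subtype.val hy2
  exact h2 ⟨_, h1, rfl⟩

/-- Transfer from a quotient (coprime case). -/
theorem genSub_transfer_quotient {G : Type*} [Group G] [Finite G] {p : ℕ} [Fact p.Prime]
    (K M : Subgroup G) [hMn : M.Normal] (hMK : M ≤ K) (hM : ¬ p ∣ Nat.card M) (a b : G)
    (ha : a ^ p = 1) (hb : b ^ p = 1) (hab : a * b = b * a)
    (hM0 : M ≤ genSub K a b)
    (h : K.map (QuotientGroup.mk' M) ≤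
      genSub (K.map (QuotientGroup.mk' M)) (QuotientGroup.mk' M a) (QuotientGroup.mk' M b)) :
    K ≤ genSub K a b := by
  have h2 : genSub (K.map (QuotientGroup.mk' M)) (QuotientGroup.mk' M a) (QuotientGroup.mk' M b)
      ≤ (genSub K a b).map (QuotientGroup.mk' M) := by
    unfold genSub
    apply iSup₂_le
    intro d hd
    obtain ⟨c, hc, rfl⟩ := exists_of_mem_genSet_map (QuotientGroup.mk' M) hd
    rintro y' hy'
    obtain ⟨hy1, hy2⟩ := Subgroup.mem_inf.mp hy'
    obtain ⟨y, hyK, rfl⟩ := hy1
    rw [Subgroup.mem_centralizer_singleton_iff] at hy2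
    have hcp : c ^ p = 1 := pow_eq_one_of_mem_genSet ha hb hab hc
    have hyM : y⁻¹ * (c * y * c⁻¹) ∈ M := by
      rw [← QuotientGroup.eq_one_iff, ← QuotientGroup.mk'_apply]
      simp only [map_mul, map_inv]
      rw [← hy2]; group
    obtain ⟨z, hz, hfix⟩ := exists_mul_mem_commute M hM c y hcp hyM
    refine ⟨y * z, ?_, ?_⟩
    · have h3 : y * z ∈ K ⊓ centralizer {c} := by
        refine Subgroup.mem_inf.mpr ⟨K.mul_mem hyK (hMK hz), ?_⟩
        rw [Subgroup.mem_centralizer_singleton_iff]
        calc y * z * c = (c * (y * z) * c⁻¹) * c := by rw [hfix]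
          _ = c * (y * z) := by group
      exact (le_iSup₂ (f := fun c (_ : c ∈ genSet a b) => K ⊓ centralizer {c}) c hc) h3
    · rw [map_mul]
      have : (QuotientGroup.mk' M) z = 1 := by
        rw [QuotientGroup.mk'_apply, QuotientGroup.eq_one_iff]; exact hz
      rw [this, mul_one]
  intro x hx
  obtain ⟨k₀, hk₀, hk₀x⟩ := h2 (h ⟨x, hx, rfl⟩)
  have h3 : k₀⁻¹ * x ∈ M := by
    rw [QuotientGroup.mk'_apply, QuotientGroup.mk'_apply] at hk₀x
    exact QuotientGroup.eq.mp hk₀x
  have h4 : k₀ * (k₀⁻¹ * x) ∈ genSub K a b := (genSub K a b).mul_mem hk₀ (hM0 h3)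
  simpa using h4

/-! ### The abelian case -/

section Abelian

variable {K : Type*} [CommGroup K] {p : ℕ} [hp : Fact p.Prime]

/-- `γ ^ t` for `t : ZMod p`. -/
def zp (γ : MulAut K) (t : ZMod p) : MulAut K := γ ^ t.val

theorem pow_mod_of_pow_eq_one {M : Type*} [Monoid M] {γ : M} {p : ℕ} (hγ : γ ^ p = 1) (n : ℕ) :
    γ ^ (n % p) = γ ^ n := by
  conv_rhs => rw [← Nat.div_add_mod n p, pow_add, pow_mul, hγ, one_pow, one_mul]

theorem zp_natCast {γ : MulAut K} (hγ : γ ^ p = 1) (n : ℕ) : zp γ (n : ZMod p) = γ ^ n := by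
  unfold zp
  rw [ZMod.val_natCast, pow_mod_of_pow_eq_one hγ]

theorem zp_add_one {γ : MulAut K} (hγ : γ ^ p = 1) (t : ZMod p) : zp γ (t + 1) = γ * zp γ t := by
  have : NeZero p := ⟨hp.out.ne_zero⟩
  have h1 : t + 1 = ((t.val + 1 : ℕ) : ZMod p) := by
    rw [Nat.cast_add, ZMod.natCast_zmod_val, Nat.cast_one]
  rw [h1, zp_natCast hγ, pow_succ']
  rfl

/-- The norm `∏_{t} γ^t x`. -/
noncomputable def normAut (γ : MulAut K) (x : K) : K :=
  haveI : NeZero p := ⟨hp.out.ne_zero⟩
  ∏ t : ZMod p, (zp (p := p) γ t) x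

theorem normAut_fixed {γ : MulAut K} (hγ : γ ^ p = 1) (x : K) :
    γ (normAut (p := p) γ x) = normAut (p := p) γ x := by
  have : NeZero p := ⟨hp.out.ne_zero⟩
  unfold normAut
  rw [map_prod]
  have h1 : ∀ t : ZMod p, γ ((zp (p := p) γ t) x) = (zp (p := p) γ (t + 1)) x := by
    intro t
    rw [zp_add_one hγ]; rfl
  simp_rw [h1]
  exact Equiv.prod_comp (Equiv.addRight (1 : ZMod p)) (fun t => (zp (p := p) γ t) x)

theorem zp_mul_pow {α β : MulAut K} (hβ : β ^ p = 1) (hαβ : α * β = β * α)
    (i t : ZMod p) : zp (p := p) (α * β ^ i.val) t = zp (p := p) α t * zp (p := p) β (i * t) := by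
  have : NeZero p := ⟨hp.out.ne_zero⟩
  have hcomm : Commute α (β ^ i.val) := (show Commute α β from hαβ).pow_right _
  have h1 : i * t = ((i.val * t.val : ℕ) : ZMod p) := by
    rw [Nat.cast_mul, ZMod.natCast_zmod_val, ZMod.natCast_zmod_val]
  rw [h1, zp_natCast hβ]
  unfold zp
  rw [hcomm.mul_pow, ← pow_mul]

theorem prod_normAut_eq {α β : MulAut K} (hβ : β ^ p = 1)
    (hαβ : α * β = β * α) (x : K) :
    haveI : NeZero p := ⟨hp.out.ne_zero⟩
    (∏ i : ZMod p, normAut (p := p) (α * β ^ i.val) x) * normAut (p := p) β x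
      = x ^ p * ∏ t : ZMod p, ∏ m : ZMod p, (zp (p := p) α t * zp (p := p) β m) x := by
  have : NeZero p := ⟨hp.out.ne_zero⟩
  classical
  unfold normAut
  simp_rw [zp_mul_pow hβ hαβ]
  rw [Finset.prod_comm]
  -- F t = ∏ i, (zp α t * zp β (i * t)) x ; R t = ∏ m, (zp α t * zp β m) x
  have hF : ∀ t : ZMod p, t ≠ 0 →
      (∏ i : ZMod p, (zp (p := p) α t * zp (p := p) β (i * t)) x)
        = ∏ m : ZMod p, (zp (p := p) α t * zp (p := p) β m) x := by
    intro t ht
    exact Equiv.prod_comp (Equiv.mulRight₀ t ht) (fun m => (zp (p := p) α t * zp (p := p) β m) x)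
  have hF0 : (∏ i : ZMod p, (zp (p := p) α 0 * zp (p := p) β (i * 0)) x) = x ^ p := by
    have : ∀ i : ZMod p, (zp (p := p) α 0 * zp (p := p) β (i * 0)) x = x := by
      intro i
      simp [zp]
    simp_rw [this]
    rw [Finset.prod_const, Finset.card_univ, ZMod.card]
  have hR0 : (∏ m : ZMod p, (zp (p := p) β m) x)
      = ∏ m : ZMod p, (zp (p := p) α 0 * zp (p := p) β m) x := by
    apply Finset.prod_congr rfl
    intro m _
    simp [zp]
  rw [hR0]
  rw [← Finset.mul_prod_erase Finset.univ _ (Finset.mem_univ (0 : ZMod p))]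
  rw [← Finset.mul_prod_erase Finset.univ
    (fun t => ∏ m : ZMod p, (zp (p := p) α t * zp (p := p) β m) x) (Finset.mem_univ (0 : ZMod p))]
  rw [hF0]
  have hE : ∏ t ∈ Finset.univ.erase (0 : ZMod p), ∏ i : ZMod p, (zp (p := p) α t * zp (p := p) β (i * t)) x
      = ∏ t ∈ Finset.univ.erase (0 : ZMod p), ∏ m : ZMod p, (zp (p := p) α t * zp (p := p) β m) x := by
    apply Finset.prod_congr rfl
    intro t ht
    exact hF t (Finset.ne_of_mem_erase ht)
  rw [hE]
  simp only [mul_comm, mul_left_comm]

end Abelian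

theorem mem_of_pow_mem_of_coprime {K : Type*} [Group K] [Finite K] {p : ℕ} [hp : Fact p.Prime]
    (hK : ¬ p ∣ Nat.card K) (T : Subgroup K) {x : K} (hx : x ^ p ∈ T) : x ∈ T := by
  have hcop : (orderOf x).Coprime p := by
    rw [Nat.coprime_comm, Nat.Prime.coprime_iff_not_dvd hp.out]
    exact fun h => hK (h.trans (orderOf_dvd_natCard x))
  by_cases h1 : orderOf x = 1
  · rw [orderOf_eq_one_iff.mp h1]; exact T.one_mem
  · have hlt : 1 < orderOf x := by
      have := orderOf_pos x
      omega
    obtain ⟨m, -, hm⟩ := Nat.exists_mul_mod_eq_one_of_coprime hcop.symm hlt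
    have h2 : (x ^ p) ^ m = x := by
      rw [← pow_mul, ← pow_mod_orderOf, hm, pow_one]
    rw [← h2]
    exact T.pow_mem hx m

section Abelian2

variable {K : Type*} [CommGroup K] {p : ℕ} [hp : Fact p.Prime]

theorem abelian_gen [Finite K] (hK : ¬ p ∣ Nat.card K) (α β : MulAut K) (hα : α ^ p = 1)
    (hβ : β ^ p = 1) (hαβ : α * β = β * α) (T : Subgroup K)
    (hT : ∀ γ ∈ genSet α β, ∀ x : K, γ x = x → x ∈ T) (x : K) : x ∈ T := by
  have : NeZero p := ⟨hp.out.ne_zero⟩
  apply mem_of_pow_mem_of_coprime hK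
  have hid := prod_normAut_eq (p := p) hβ hαβ x
  -- W
  set W : K := ∏ t : ZMod p, ∏ m : ZMod p, (zp (p := p) α t * zp (p := p) β m) x with hW
  have hWfix : β W = W := by
    rw [hW, map_prod]
    apply Finset.prod_congr rfl
    intro t _
    rw [map_prod]
    have h1 : ∀ m : ZMod p, β ((zp (p := p) α t * zp (p := p) β m) x)
        = (zp (p := p) α t * zp (p := p) β (m + 1)) x := by
      intro m
      rw [zp_add_one hβ]
      have hc : Commute β (zp (p := p) α t) := by
        unfold zp
        exact ((show Commute α β from hαβ).symm).pow_right _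
      show (β * (zp (p := p) α t * zp (p := p) β m)) x = _
      rw [← mul_assoc, hc.eq, mul_assoc]
    simp_rw [h1]
    exact Equiv.prod_comp (Equiv.addRight (1 : ZMod p)) (fun m => (zp (p := p) α t * zp (p := p) β m) x)
  have hWT : W ∈ T := hT β (Or.inl rfl) W hWfix
  have hβT : normAut (p := p) β x ∈ T := hT β (Or.inl rfl) _ (normAut_fixed hβ x)
  have hiT : ∀ i : ZMod p, normAut (p := p) (α * β ^ i.val) x ∈ T := by
    intro i
    have hmem : α * β ^ i.val ∈ genSet α β := Or.inr ⟨i.val, rfl⟩
    exact hT _ hmem _ (normAut_fixed (pow_eq_one_of_mem_genSet hα hβ hαβ hmem) x)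
  have hprodT : (∏ i : ZMod p, normAut (p := p) (α * β ^ i.val) x) ∈ T :=
    Subgroup.prod_mem T (fun i _ => hiT i)
  have : x ^ p = ((∏ i : ZMod p, normAut (p := p) (α * β ^ i.val) x) * normAut (p := p) β x) * W⁻¹ := by
    rw [hid, mul_inv_cancel_right]
  rw [this]
  exact T.mul_mem (T.mul_mem hprodT hβT) (T.inv_mem hWT)

end Abelian2

/-! ### The abelian case inside an ambient group -/

theorem gen_abelian_case {G : Type*} [Group G] [Finite G] {p : ℕ} [hp : Fact p.Prime]
    (K : Subgroup G) [hKn : K.Normal] (hcomm : ∀ x ∈ K, ∀ y ∈ K, x * y = y * x) (a b : G)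
    (ha : a ^ p = 1) (hb : b ^ p = 1) (hab : a * b = b * a) (hK : ¬ p ∣ Nat.card K) :
    K ≤ genSub K a b := by
  let _ : CommGroup K :=
    { (inferInstance : Group K) with mul_comm := fun x y => Subtype.ext (hcomm x x.2 y y.2) }
  let φ : G →* MulAut K := MulAut.conjNormal
  have hα : (φ a) ^ p = 1 := by rw [← map_pow, ha, map_one]
  have hβ : (φ b) ^ p = 1 := by rw [← map_pow, hb, map_one]
  have hαβ : φ a * φ b = φ b * φ a := by rw [← map_mul, ← map_mul, hab]
  have hT : ∀ γ ∈ genSet (φ a) (φ b), ∀ x : K, γ x = x → x ∈ (genSub K a b).subgroupOf K := by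
    intro γ hγ x hx
    obtain ⟨c, hc, rfl⟩ := exists_of_mem_genSet_map φ hγ
    rw [Subgroup.mem_subgroupOf]
    apply le_genSub K a b hc
    refine Subgroup.mem_inf.mpr ⟨x.2, ?_⟩
    rw [Subgroup.mem_centralizer_singleton_iff]
    have h1 : c * (x : G) * c⁻¹ = x := by
      have := congrArg Subtype.val hx
      simpa [φ, MulAut.conjNormal_apply] using this
    calc (x : G) * c = (c * (x : G) * c⁻¹) * c := by rw [h1]
      _ = c * x := by group
  intro x hx
  have := abelian_gen (p := p) hK (φ a) (φ b) hα hβ hαβ _ hT ⟨x, hx⟩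
  exact Subgroup.mem_subgroupOf.mp this

/-! ### Counting lemmas -/

theorem le_of_forall_sylow_le {G : Type*} [Group G] [Finite G] (K T : Subgroup G) (hTK : T ≤ K)
    (h : ∀ q : ℕ, ∀ _ : Fact q.Prime, ∃ S : Sylow q K, (S : Subgroup K).map K.subtype ≤ T) :
    K ≤ T := by
  have hT0 : Nat.card T ≠ 0 := Nat.card_pos.ne'
  have hK0 : Nat.card K ≠ 0 := Nat.card_pos.ne'
  have hdvd : Nat.card K ∣ Nat.card T := by
    rw [← Nat.factorization_le_iff_dvd hK0 hT0]
    intro q
    by_cases hq : q.Prime
    · have hqf : Fact q.Prime := ⟨hq⟩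
      obtain ⟨S, hS⟩ := h q hqf
      have h1 : Nat.card ((S : Subgroup K).map K.subtype) = q ^ (Nat.card K).factorization q := by
        rw [← Sylow.card_eq_multiplicity S]
        exact Nat.card_congr ((S : Subgroup K).equivMapOfInjective K.subtype
          (Subgroup.subtype_injective K)).symm.toEquiv
      have h2 : q ^ (Nat.card K).factorization q ∣ Nat.card T := by
        rw [← h1]; exact Subgroup.card_dvd_of_le hS
      exact (hq.pow_dvd_iff_le_factorization hT0).mp h2
    · rw [Nat.factorization_eq_zero_of_not_prime _ hq]; exact Nat.zero_le _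
  exact (Subgroup.eq_of_le_of_card_ge hTK (Nat.le_of_dvd Nat.card_pos hdvd)).ge

theorem card_map_mk_mul {G : Type*} [Group G] [Finite G] (K M : Subgroup G) [M.Normal]
    (hMK : M ≤ K) :
    Nat.card (K.map (QuotientGroup.mk' M)) * Nat.card M = Nat.card K := by
  have hsurj : Function.Surjective (QuotientGroup.mk' M) := QuotientGroup.mk'_surjective M
  have h1 : (K.map (QuotientGroup.mk' M)).comap (QuotientGroup.mk' M) = K := by
    apply Subgroup.comap_map_eq_self
    rw [QuotientGroup.ker_mk']; exact hMK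
  have h2 : ((K.map (QuotientGroup.mk' M)).comap (QuotientGroup.mk' M)).index
      = (K.map (QuotientGroup.mk' M)).index := Subgroup.index_comap_of_surjective _ hsurj
  rw [h1] at h2
  have h3 : Nat.card K * K.index = Nat.card G := Subgroup.card_mul_index K
  have h4 : Nat.card (K.map (QuotientGroup.mk' M)) * (K.map (QuotientGroup.mk' M)).index
      = Nat.card (G ⧸ M) := Subgroup.card_mul_index _
  have h5 : Nat.card G = Nat.card (G ⧸ M) * Nat.card M :=
    Subgroup.card_eq_card_quotient_mul_card_subgroup M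
  have hpos : 0 < K.index := Nat.pos_of_ne_zero (Subgroup.index_ne_zero_of_finite)
  have h6 : Nat.card (K.map (QuotientGroup.mk' M)) * Nat.card M * K.index = Nat.card K * K.index := by
    rw [h3, h5, ← h4, h2]; ring
  exact Nat.eq_of_mul_eq_mul_right hpos h6

/-! ### The main theorem -/

theorem coprime_gen_aux (p : ℕ) [hp : Fact p.Prime] : ∀ (n : ℕ) (G : Type u) [Group G] [Finite G]
    (K : Subgroup G) [K.Normal] (a b : G), a ^ p = 1 → b ^ p = 1 → a * b = b * a →
    ¬ p ∣ Nat.card K → Nat.card K = n → K ≤ genSub K a b := by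
  intro n
  induction n using Nat.strong_induction_on with
  | _ n ih =>
    intro G _ _ K hKn a b ha hb hab hK hn
    -- Case A: K abelian
    by_cases hcomm : ∀ x ∈ K, ∀ y ∈ K, x * y = y * x
    · exact gen_abelian_case K hcomm a b ha hb hab hK
    -- Z = centre of K, as a subgroup of G
    set Z : Subgroup G := (Subgroup.center K).map K.subtype with hZ
    have hZn : Z.Normal := ConjAct.normal_of_characteristic_of_normal
    have hZK : Z ≤ K := by
      rintro _ ⟨z, _, rfl⟩; exact z.2
    have hZne : Z ≠ K := by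
      intro h
      apply hcomm
      intro x hx y hy
      have hxZ : x ∈ Z := by rw [h]; exact hx
      obtain ⟨z, hz, rfl⟩ := hxZ
      have := Subgroup.mem_center_iff.mp hz ⟨y, hy⟩
      exact (congrArg Subtype.val this).symm
    by_cases hZbot : Z = ⊥
    · -- Case C: trivial centre, so no Sylow subgroup of K is all of K
      apply le_of_forall_sylow_le K (genSub K a b) (genSub_le K a b)
      intro q hq
      obtain ⟨S, hSa, hSb⟩ := exists_invariant_sylow K hK a b ha hb hab q
      refine ⟨S, ?_⟩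
      set Q : Subgroup G := (S : Subgroup K).map K.subtype with hQ
      have hQK : Q ≤ K := by
        rintro _ ⟨z, _, rfl⟩; exact z.2
      have hQne : Q ≠ K := by
        intro h
        -- then K is a q-group with nontrivial centre
        have hS_top : (S : Subgroup K) = ⊤ := by
          rw [eq_top_iff]
          intro x _
          have hxQ : (x : G) ∈ Q := by rw [h]; exact x.2
          obtain ⟨z, hz, hzx⟩ := hxQ
          have : z = x := Subtype.ext hzx
          exact this ▸ hz
        have hKq : IsPGroup q K := by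
          have := S.2
          rw [hS_top] at this
          exact this.of_equiv Subgroup.topEquiv
        have hKnt : Nontrivial K := by
          by_contra hnt
          rw [not_nontrivial_iff_subsingleton] at hnt
          apply hcomm
          intro x hx y hy
          have : (⟨x, hx⟩ : K) = ⟨y, hy⟩ := Subsingleton.elim _ _
          have hxy : x = y := congrArg Subtype.val this
          rw [hxy]
        have hcnt : Nontrivial (Subgroup.center K) := hKq.center_nontrivial
        have : (Subgroup.center K) ≠ ⊥ := (Subgroup.nontrivial_iff_ne_bot _).mp hcnt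
        apply this
        rw [← Subgroup.map_eq_bot_iff_of_injective _ (Subgroup.subtype_injective K)]
        exact hZbot
      have hQlt : Nat.card Q < Nat.card K := by
        apply lt_of_le_of_ne (Subgroup.card_le_of_le hQK)
        intro hcard
        exact hQne (Subgroup.eq_of_le_of_card_ge hQK hcard.ge)
      -- a, b normalize Q
      have mem_norm : ∀ c : G, c ^ p = 1 → (∀ x ∈ Q, c * x * c⁻¹ ∈ Q) → c ∈ normalizer (Q : Set G) := by
        intro c hcp hc
        rw [Subgroup.mem_normalizer_iff]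
        intro x
        refine ⟨hc x, fun hx => ?_⟩
        -- x = c^(p-1) (c x c⁻¹) c^-(p-1)
        have hiter : ∀ k : ℕ, ∀ y ∈ Q, c ^ k * y * (c ^ k)⁻¹ ∈ Q := by
          intro k
          induction k with
          | zero => intro y hy; simpa using hy
          | succ k ihk =>
            intro y hy
            have := hc _ (ihk y hy)
            have h2 : c ^ (k + 1) * y * (c ^ (k + 1))⁻¹ = c * (c ^ k * y * (c ^ k)⁻¹) * c⁻¹ := by
              rw [pow_succ']; group
            rw [h2]; exact this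
        have h3 := hiter (p - 1) _ hx
        have hp1 : p - 1 + 1 = p := Nat.sub_add_cancel hp.out.one_le
        have h4 : c ^ (p - 1) * c = 1 := by rw [← pow_succ, hp1, hcp]
        have h5 : c ^ (p - 1) * (c * x * c⁻¹) * (c ^ (p - 1))⁻¹ = x := by
          have h6 : (c ^ (p - 1))⁻¹ = c := inv_eq_of_mul_eq_one_right h4
          rw [h6]
          calc c ^ (p - 1) * (c * x * c⁻¹) * c = (c ^ (p - 1) * c) * x * (c⁻¹ * c) := by group
            _ = x := by rw [h4]; group
        rw [h5] at h3; exact h3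
      have haN : a ∈ normalizer (Q : Set G) := mem_norm a ha hSa
      have hbN : b ∈ normalizer (Q : Set G) := mem_norm b hb hSb
      have hQnorm : (Q.subgroupOf (normalizer (Q : Set G))).Normal := Subgroup.normal_in_normalizer
      have hcardQ : Nat.card (Q.subgroupOf (normalizer (Q : Set G))) = Nat.card Q :=
        Nat.card_congr (Subgroup.subgroupOfEquivOfLe Subgroup.le_normalizer).toEquiv
      have hQp : ¬ p ∣ Nat.card (Q.subgroupOf (normalizer (Q : Set G))) := by
        rw [hcardQ]
        exact fun h => hK (h.trans (Subgroup.card_dvd_of_le hQK))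
      have hih := ih (Nat.card Q) (hn ▸ hQlt) (normalizer (Q : Set G))
        (Q.subgroupOf (normalizer (Q : Set G))) ⟨a, haN⟩ ⟨b, hbN⟩
        (Subtype.ext (by simpa using ha)) (Subtype.ext (by simpa using hb))
        (Subtype.ext (by simpa using hab)) hQp hcardQ
      have := genSub_transfer_subgroup (normalizer (Q : Set G)) Q a b haN hbN Subgroup.le_normalizer hih
      exact this.trans (genSub_mono hQK a b)
    · -- Case B: nontrivial proper centre: quotient step
      have hZp : ¬ p ∣ Nat.card Z := fun h => hK (h.trans (Subgroup.card_dvd_of_le hZK))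
      have hZlt : Nat.card Z < Nat.card K := by
        apply lt_of_le_of_ne (Subgroup.card_le_of_le hZK)
        intro hcard
        exact hZne (Subgroup.eq_of_le_of_card_ge hZK hcard.ge)
      have hZ0 : Z ≤ genSub K a b :=
        (ih (Nat.card Z) (hn ▸ hZlt) G Z a b ha hb hab hZp rfl).trans (genSub_mono hZK a b)
      have hcardmul := card_map_mk_mul K Z hZK
      have hZcard2 : 2 ≤ Nat.card Z := by
        have h1 : Nat.card Z ≠ 1 := fun h => hZbot (Subgroup.card_eq_one.mp h)
        have h0 : 0 < Nat.card Z := Nat.card_pos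
        omega
      have hK'lt : Nat.card (K.map (QuotientGroup.mk' Z)) < Nat.card K := by
        have hpos : 0 < Nat.card (K.map (QuotientGroup.mk' Z)) := Nat.card_pos
        nlinarith
      have hK'p : ¬ p ∣ Nat.card (K.map (QuotientGroup.mk' Z)) := by
        intro h
        apply hK
        rw [← hcardmul]
        exact h.trans (dvd_mul_right _ _)
      have hK'n : (K.map (QuotientGroup.mk' Z)).Normal :=
        hKn.map _ (QuotientGroup.mk'_surjective Z)
      have hih := ih _ (hn ▸ hK'lt) (G ⧸ Z) (K.map (QuotientGroup.mk' Z))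
        (QuotientGroup.mk' Z a) (QuotientGroup.mk' Z b)
        (by rw [← map_pow, ha, map_one]) (by rw [← map_pow, hb, map_one])
        (by rw [← map_mul, ← map_mul, hab]) hK'p rfl
      exact genSub_transfer_quotient K Z hZK hZp a b ha hb hab hZ0 hih

/-- Generation by centralizers: a normal `p'`-subgroup `K` of a finite group is generated by the
centralizers in `K` of `b` and the `a * b ^ n`, for commuting `a`, `b` with `a ^ p = b ^ p = 1`. -/
theorem coprime_gen {G : Type u} [Group G] [Finite G] {p : ℕ} [Fact p.Prime] (K : Subgroup G)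
    [K.Normal] (a b : G) (ha : a ^ p = 1) (hb : b ^ p = 1) (hab : a * b = b * a)
    (hK : ¬ p ∣ Nat.card K) : K ≤ genSub K a b :=
  coprime_gen_aux p _ G K a b ha hb hab hK rfl

end Cfsg.Agent.Lib.Helper48
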