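import Mathlib

/-!
# Counting conjugates of a TI-subset

Pure group theory (no BG input).  `card_conjUnion` : if `Z` is `N`-invariant and
`g z g⁻¹ ∈ Z → g ∈ N` for `z ∈ Z`, then the union of the conjugates of `Z` has
`|G : N| * |Z|` elements.  `false_of_two_ti` : two such families with `|N| < 2 |Z|`
cannot have disjoint conjugate unions.  `false_of_two_prod` : the special case
`Z = T# × K#`, `N = T ⊔ K` with `T`, `K` commuting of coprime odd orders `≥ 3`.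
-/

namespace Cfsg.Agent.Lib.Helper48.TICount

open Subgroup

variable {G : Type*} [Group G]

/-- The union of all conjugates of `Z`. -/
def conjUnion (Z : Set G) : Set G := {x | ∃ g : G, ∃ z ∈ Z, x = g * z * g⁻¹}

theorem mem_conjUnion {Z : Set G} {x : G} :
    x ∈ conjUnion Z ↔ ∃ g : G, ∃ z ∈ Z, x = g * z * g⁻¹ := Iff.rfl

/-- the conjugate `a z a⁻¹` as an element of the union. -/
def mkC (Z : Set G) (a : G) (z : Z) : conjUnion Z := ⟨a * z * a⁻¹, a, z, z.2, rfl⟩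

theorem card_conjUnion [Finite G] (N : Subgroup G) (Z : Set G)
    (hinv : ∀ n ∈ N, ∀ z ∈ Z, n * z * n⁻¹ ∈ Z)
    (hTI : ∀ z ∈ Z, ∀ g : G, g * z * g⁻¹ ∈ Z → g ∈ N) :
    Nat.card (conjUnion Z) * Nat.card N = Nat.card G * Nat.card Z := by
  classical
  -- representatives
  have hex : ∀ x : conjUnion Z, ∃ p : G × G, p.2 ∈ Z ∧ (x : G) = p.1 * p.2 * p.1⁻¹ := by
    rintro ⟨x, g, z, hz, rfl⟩
    exact ⟨(g, z), hz, rfl⟩
  choose rep hrepZ hrep using hex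
  have key : ∀ (x : conjUnion Z) (g : G) (z : G), z ∈ Z → (x : G) = g * z * g⁻¹ →
      (rep x).1⁻¹ * g ∈ N := by
    intro x g z hz hx
    apply hTI z hz
    have h1 : (rep x).1 * (rep x).2 * (rep x).1⁻¹ = g * z * g⁻¹ := by
      rw [← hrep x, hx]
    have h2 : (rep x).1⁻¹ * g * z * ((rep x).1⁻¹ * g)⁻¹ = (rep x).2 := by
      have : (rep x).2 = (rep x).1⁻¹ * (g * z * g⁻¹) * (rep x).1 := by
        rw [← h1]; group
      rw [this]; group
    rw [h2]; exact hrepZ x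
  have hZn : ∀ (x : conjUnion Z) (n : N), (n : G)⁻¹ * (rep x).2 * (n : G) ∈ Z := by
    intro x n
    have := hinv (n : G)⁻¹ (N.inv_mem n.2) _ (hrepZ x)
    simpa using this
  let f : (conjUnion Z) × N → G × Z := fun p =>
    ((rep p.1).1 * (p.2 : G), ⟨(p.2 : G)⁻¹ * (rep p.1).2 * (p.2 : G), hZn p.1 p.2⟩)
  let g : G × Z → (conjUnion Z) × N := fun q =>
    (mkC Z q.1 q.2, ⟨(rep (mkC Z q.1 q.2)).1⁻¹ * q.1, key (mkC Z q.1 q.2) q.1 q.2 q.2.2 rfl⟩)
  have hgf : ∀ p, g (f p) = p := by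
    rintro ⟨x, n⟩
    have hx : mkC Z ((rep x).1 * (n : G))
        ⟨(n : G)⁻¹ * (rep x).2 * (n : G), hZn x n⟩ = x := by
      apply Subtype.ext
      show (rep x).1 * (n : G) * ((n : G)⁻¹ * (rep x).2 * (n : G)) *
        ((rep x).1 * (n : G))⁻¹ = (x : G)
      rw [hrep x]; group
    refine Prod.ext hx ?_
    apply Subtype.ext
    show (rep (mkC Z ((rep x).1 * (n : G))
        ⟨(n : G)⁻¹ * (rep x).2 * (n : G), hZn x n⟩)).1⁻¹ * ((rep x).1 * (n : G)) = (n : G)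
    rw [hx]; group
  have hfg : ∀ q, f (g q) = q := by
    rintro ⟨a, z⟩
    refine Prod.ext ?_ ?_
    · show (rep (mkC Z a z)).1 * ((rep (mkC Z a z)).1⁻¹ * a) = a
      group
    · apply Subtype.ext
      show ((rep (mkC Z a z)).1⁻¹ * a)⁻¹ * (rep (mkC Z a z)).2 *
        ((rep (mkC Z a z)).1⁻¹ * a) = (z : G)
      have h1 : (rep (mkC Z a z)).1 * (rep (mkC Z a z)).2 * (rep (mkC Z a z)).1⁻¹
          = a * (z : G) * a⁻¹ := by
        rw [← hrep (mkC Z a z)]; rfl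
      have : (rep (mkC Z a z)).2
          = (rep (mkC Z a z)).1⁻¹ * (a * (z : G) * a⁻¹) * (rep (mkC Z a z)).1 := by
        rw [← h1]; group
      rw [this]; group
  let e : (conjUnion Z) × N ≃ G × Z := ⟨f, g, hgf, hfg⟩
  have := Nat.card_congr e
  rw [Nat.card_prod, Nat.card_prod] at this
  exact this

theorem false_of_two_ti [Finite G] (N N' : Subgroup G) (Z Z' : Set G)
    (hinv : ∀ n ∈ N, ∀ z ∈ Z, n * z * n⁻¹ ∈ Z)
    (hTI : ∀ z ∈ Z, ∀ g : G, g * z * g⁻¹ ∈ Z → g ∈ N)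
    (hinv' : ∀ n ∈ N', ∀ z ∈ Z', n * z * n⁻¹ ∈ Z')
    (hTI' : ∀ z ∈ Z', ∀ g : G, g * z * g⁻¹ ∈ Z' → g ∈ N')
    (hbig : Nat.card N < 2 * Nat.card Z) (hbig' : Nat.card N' < 2 * Nat.card Z')
    (hdisj : ∀ z ∈ Z, ∀ z' ∈ Z', ∀ g : G, g * z * g⁻¹ ≠ z') : False := by
  classical
  have h1 := card_conjUnion N Z hinv hTI
  have h2 := card_conjUnion N' Z' hinv' hTI'
  have hd : Disjoint (conjUnion Z) (conjUnion Z') := by
    rw [Set.disjoint_left]
    rintro x ⟨g, z, hz, rfl⟩ ⟨g', z', hz', h⟩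
    apply hdisj z hz z' hz' (g'⁻¹ * g)
    have : z' = g'⁻¹ * (g * z * g⁻¹) * g' := by rw [h]; group
    rw [this]; group
  have hle : Nat.card (conjUnion Z) + Nat.card (conjUnion Z') ≤ Nat.card G := by
    have := Set.ncard_union_eq hd (Set.toFinite _) (Set.toFinite _)
    rw [← Nat.card_coe_set_eq, ← Nat.card_coe_set_eq, ← Nat.card_coe_set_eq] at this
    rw [← this]
    exact Finite.card_subtype_le _
  have hN : 0 < Nat.card N := Nat.card_pos
  have hN' : 0 < Nat.card N' := Nat.card_pos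
  have hG : 0 < Nat.card G := Nat.card_pos
  -- 2 |cU Z| > |G|
  have k1 : Nat.card G < 2 * Nat.card (conjUnion Z) := by
    by_contra hc
    push Not at hc
    have : 2 * Nat.card (conjUnion Z) * Nat.card N ≤ Nat.card G * Nat.card N :=
      Nat.mul_le_mul_right _ hc
    have h3 : Nat.card G * Nat.card N < Nat.card G * (2 * Nat.card Z) :=
      Nat.mul_lt_mul_of_pos_left hbig hG
    nlinarith
  have k2 : Nat.card G < 2 * Nat.card (conjUnion Z') := by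
    by_contra hc
    push Not at hc
    have : 2 * Nat.card (conjUnion Z') * Nat.card N' ≤ Nat.card G * Nat.card N' :=
      Nat.mul_le_mul_right _ hc
    have h3 : Nat.card G * Nat.card N' < Nat.card G * (2 * Nat.card Z') :=
      Nat.mul_lt_mul_of_pos_left hbig' hG
    nlinarith
  omega

/-- `T# · K#`. -/
def prodSharp (T K : Subgroup G) : Set G :=
  {x | ∃ t ∈ T, t ≠ 1 ∧ ∃ k ∈ K, k ≠ 1 ∧ x = t * k}

theorem mem_sup_of_commute {T K : Subgroup G} (hc : ∀ t ∈ T, ∀ k ∈ K, t * k = k * t)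
    {x : G} (hx : x ∈ T ⊔ K) : ∃ t ∈ T, ∃ k ∈ K, x = t * k := by
  rw [sup_eq_closure_mul] at hx
  induction hx using closure_induction with
  | mem y hy =>
    obtain ⟨t, ht, k, hk, rfl⟩ := hy
    exact ⟨t, ht, k, hk, rfl⟩
  | one => exact ⟨1, T.one_mem, 1, K.one_mem, by simp⟩
  | mul a b _ _ ha hb =>
    obtain ⟨t, ht, k, hk, rfl⟩ := ha
    obtain ⟨t', ht', k', hk', rfl⟩ := hb
    refine ⟨t * t', T.mul_mem ht ht', k * k', K.mul_mem hk hk', ?_⟩
    have := hc t' ht' k hk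
    calc t * k * (t' * k') = t * (k * t') * k' := by group
      _ = t * (t' * k) * k' := by rw [this]
      _ = t * t' * (k * k') := by group
  | inv a _ ha =>
    obtain ⟨t, ht, k, hk, rfl⟩ := ha
    refine ⟨t⁻¹, T.inv_mem ht, k⁻¹, K.inv_mem hk, ?_⟩
    have := hc t ht k hk
    rw [mul_inv_rev]
    have h2 : k⁻¹ * t⁻¹ = t⁻¹ * k⁻¹ := by
      rw [← mul_inv_rev, ← mul_inv_rev, this]
    exact h2

theorem card_sup_le_of_commute [Finite G] {T K : Subgroup G}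
    (hc : ∀ t ∈ T, ∀ k ∈ K, t * k = k * t) :
    Nat.card (T ⊔ K : Subgroup G) ≤ Nat.card T * Nat.card K := by
  classical
  rw [← Nat.card_prod]
  let φ : T × K → (T ⊔ K : Subgroup G) := fun p =>
    ⟨(p.1 : G) * (p.2 : G), (T ⊔ K).mul_mem (le_sup_left (a := T) p.1.2) (le_sup_right (b := K) p.2.2)⟩
  apply Nat.card_le_card_of_surjective φ
  rintro ⟨x, hx⟩
  obtain ⟨t, ht, k, hk, rfl⟩ := mem_sup_of_commute hc hx
  exact ⟨(⟨t, ht⟩, ⟨k, hk⟩), rfl⟩

theorem prodSharp_subset_sup (T K : Subgroup G) : prodSharp T K ⊆ (T ⊔ K : Subgroup G) := by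
  rintro x ⟨t, ht, _, k, hk, _, rfl⟩
  exact (T ⊔ K).mul_mem (le_sup_left (a := T) ht) (le_sup_right (b := K) hk)

theorem prodSharp_inv {T K : Subgroup G} (hc : ∀ t ∈ T, ∀ k ∈ K, t * k = k * t) :
    ∀ n ∈ (T ⊔ K : Subgroup G), ∀ z ∈ prodSharp T K, n * z * n⁻¹ ∈ prodSharp T K := by
  rintro n hn z ⟨t, ht, ht1, k, hk, hk1, rfl⟩
  obtain ⟨t0, ht0, k0, hk0, rfl⟩ := mem_sup_of_commute hc hn
  refine ⟨t0 * t * t0⁻¹, T.mul_mem (T.mul_mem ht0 ht) (T.inv_mem ht0), ?_,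
    k0 * k * k0⁻¹, K.mul_mem (K.mul_mem hk0 hk) (K.inv_mem hk0), ?_, ?_⟩
  · intro h
    apply ht1
    have : t = t0⁻¹ * (t0 * t * t0⁻¹) * t0 := by group
    rw [this, h]; group
  · intro h
    apply hk1
    have : k = k0⁻¹ * (k0 * k * k0⁻¹) * k0 := by group
    rw [this, h]; group
  · -- t0 k0 t k k0⁻¹ t0⁻¹ = (t0 t t0⁻¹)(k0 k k0⁻¹)
    have e1 : k0 * t = t * k0 := (hc t ht k0 hk0).symm
    have e2 : k0⁻¹ * t0⁻¹ = t0⁻¹ * k0⁻¹ := by
      rw [← mul_inv_rev, ← mul_inv_rev, hc t0 ht0 k0 hk0]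
    have e3 : (k0 * k * k0⁻¹) * t0⁻¹ = t0⁻¹ * (k0 * k * k0⁻¹) :=
      (hc t0⁻¹ (T.inv_mem ht0) _ (K.mul_mem (K.mul_mem hk0 hk) (K.inv_mem hk0))).symm
    calc t0 * k0 * (t * k) * (t0 * k0)⁻¹
        = t0 * (k0 * t) * k * (k0⁻¹ * t0⁻¹) := by group
      _ = t0 * (t * k0) * k * (t0⁻¹ * k0⁻¹) := by rw [e1, e2]
      _ = t0 * t * ((k0 * k) * t0⁻¹) * k0⁻¹ := by group
      _ = t0 * t * (t0⁻¹ * (k0 * k)) * k0⁻¹ := by
          rw [(hc t0⁻¹ (T.inv_mem ht0) _ (K.mul_mem hk0 hk)).symm]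
      _ = t0 * t * t0⁻¹ * (k0 * k * k0⁻¹) := by group

theorem card_prodSharp [Finite G] {T K : Subgroup G}
    (hcop : (Nat.card T).Coprime (Nat.card K)) :
    Nat.card (prodSharp T K) = (Nat.card T - 1) * (Nat.card K - 1) := by
  classical
  have hbot : T ⊓ K = ⊥ := (disjoint_of_coprime_natCard hcop).eq_bot
  let φ : T × K → G := fun p => (p.1 : G) * (p.2 : G)
  have hφ : Function.Injective φ := by
    rintro ⟨⟨t, ht⟩, ⟨k, hk⟩⟩ ⟨⟨t', ht'⟩, ⟨k', hk'⟩⟩ h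
    have h' : t * k = t' * k' := h
    have h1 : t'⁻¹ * t = k' * k⁻¹ := by
      have : t'⁻¹ * (t * k) * k⁻¹ = t'⁻¹ * (t' * k') * k⁻¹ := by rw [h']
      calc t'⁻¹ * t = t'⁻¹ * (t * k) * k⁻¹ := by group
        _ = t'⁻¹ * (t' * k') * k⁻¹ := this
        _ = k' * k⁻¹ := by group
    have hm : t'⁻¹ * t ∈ T ⊓ K := by
      refine mem_inf.mpr ⟨T.mul_mem (T.inv_mem ht') ht, ?_⟩
      rw [h1]; exact K.mul_mem hk' (K.inv_mem hk)
    rw [hbot, mem_bot] at hm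
    have e1 : t = t' := by
      have : t = t' * (t'⁻¹ * t) := by group
      rw [this, hm, mul_one]
    have e2 : k = k' := by
      have hk1 : k' * k⁻¹ = 1 := by rw [← h1, hm]
      have : k' = (k' * k⁻¹) * k := by group
      rw [this, hk1, one_mul]
    subst e1; subst e2; rfl
  have hset : prodSharp T K = φ '' (({1}ᶜ : Set T) ×ˢ ({1}ᶜ : Set K)) := by
    ext x
    constructor
    · rintro ⟨t, ht, ht1, k, hk, hk1, rfl⟩
      refine ⟨(⟨t, ht⟩, ⟨k, hk⟩), ⟨?_, ?_⟩, rfl⟩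
      · simp only [Set.mem_compl_iff, Set.mem_singleton_iff]
        intro h; exact ht1 (congrArg Subtype.val h)
      · simp only [Set.mem_compl_iff, Set.mem_singleton_iff]
        intro h; exact hk1 (congrArg Subtype.val h)
    · rintro ⟨⟨⟨t, ht⟩, ⟨k, hk⟩⟩, ⟨h1, h2⟩, rfl⟩
      simp only [Set.mem_compl_iff, Set.mem_singleton_iff] at h1 h2
      refine ⟨t, ht, ?_, k, hk, ?_, rfl⟩
      · intro h; exact h1 (Subtype.ext h)
      · intro h; exact h2 (Subtype.ext h)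
  rw [Nat.card_coe_set_eq, hset, Set.ncard_image_of_injective _ hφ, Set.ncard_prod,
    Set.ncard_compl, Set.ncard_compl, Set.ncard_singleton, Set.ncard_singleton]

theorem arith_lt {a b : ℕ} (ha : 3 ≤ a) (hb : 3 ≤ b) (hao : Odd a) (hbo : Odd b)
    (hcop : a.Coprime b) : a * b < 2 * ((a - 1) * (b - 1)) := by
  have hne : a ≠ b := by
    rintro rfl
    have : a = 1 := by simpa using hcop
    omega
  obtain ⟨x, rfl⟩ := hao
  obtain ⟨y, rfl⟩ := hbo
  have hx : 1 ≤ x := by omega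
  have hy : 1 ≤ y := by omega
  have hxy : x ≠ y := by intro h; apply hne; rw [h]
  have e1 : 2 * x + 1 - 1 = 2 * x := by omega
  have e2 : 2 * y + 1 - 1 = 2 * y := by omega
  rw [e1, e2]
  rcases Nat.lt_or_gt_of_ne hxy with h | h
  · have hy2 : 2 ≤ y := by omega
    nlinarith
  · have hx2 : 2 ≤ x := by omega
    nlinarith

/-- Two pairs `(T, K)`, `(T', K')` of commuting subgroups of coprime odd orders `≥ 3` whose
sets `T# K#`, `T'# K'#` are TI with normalizers `T ⊔ K`, `T' ⊔ K'` cannot have disjoint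
conjugate unions: together they would cover more than `|G|` elements. -/
theorem false_of_two_prod [Finite G] (T K T' K' : Subgroup G)
    (hc : ∀ t ∈ T, ∀ k ∈ K, t * k = k * t) (hcop : (Nat.card T).Coprime (Nat.card K))
    (hT3 : 3 ≤ Nat.card T) (hK3 : 3 ≤ Nat.card K)
    (hTo : Odd (Nat.card T)) (hKo : Odd (Nat.card K))
    (hc' : ∀ t ∈ T', ∀ k ∈ K', t * k = k * t) (hcop' : (Nat.card T').Coprime (Nat.card K'))
    (hT3' : 3 ≤ Nat.card T') (hK3' : 3 ≤ Nat.card K')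
    (hTo' : Odd (Nat.card T')) (hKo' : Odd (Nat.card K'))
    (hTI : ∀ z ∈ prodSharp T K, ∀ g : G, g * z * g⁻¹ ∈ prodSharp T K → g ∈ T ⊔ K)
    (hTI' : ∀ z ∈ prodSharp T' K', ∀ g : G, g * z * g⁻¹ ∈ prodSharp T' K' → g ∈ T' ⊔ K')
    (hdisj : ∀ z ∈ prodSharp T K, ∀ z' ∈ prodSharp T' K', ∀ g : G, g * z * g⁻¹ ≠ z') :
    False := by
  refine false_of_two_ti (T ⊔ K) (T' ⊔ K') (prodSharp T K) (prodSharp T' K')
    (prodSharp_inv hc) hTI (prodSharp_inv hc') hTI' ?_ ?_ hdisj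
  · rw [card_prodSharp hcop]
    exact lt_of_le_of_lt (card_sup_le_of_commute hc) (arith_lt hT3 hK3 hTo hKo hcop)
  · rw [card_prodSharp hcop']
    exact lt_of_le_of_lt (card_sup_le_of_commute hc') (arith_lt hT3' hK3' hTo' hKo' hcop')

/-- Same as `false_of_two_prod`, with oddness taken from `Odd (Nat.card G)`. -/
theorem false_of_two_prod_of_odd [Finite G] (hodd : Odd (Nat.card G)) (T K T' K' : Subgroup G)
    (hc : ∀ t ∈ T, ∀ k ∈ K, t * k = k * t) (hcop : (Nat.card T).Coprime (Nat.card K))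
    (hT1 : T ≠ ⊥) (hK1 : K ≠ ⊥)
    (hc' : ∀ t ∈ T', ∀ k ∈ K', t * k = k * t) (hcop' : (Nat.card T').Coprime (Nat.card K'))
    (hT1' : T' ≠ ⊥) (hK1' : K' ≠ ⊥)
    (hTI : ∀ z ∈ prodSharp T K, ∀ g : G, g * z * g⁻¹ ∈ prodSharp T K → g ∈ T ⊔ K)
    (hTI' : ∀ z ∈ prodSharp T' K', ∀ g : G, g * z * g⁻¹ ∈ prodSharp T' K' → g ∈ T' ⊔ K')
    (hdisj : ∀ z ∈ prodSharp T K, ∀ z' ∈ prodSharp T' K', ∀ g : G, g * z * g⁻¹ ≠ z') :
    False := by
  have odd_sub : ∀ H : Subgroup G, Odd (Nat.card H) := fun H =>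
    Odd.of_dvd_nat hodd (Subgroup.card_subgroup_dvd_card H)
  have three : ∀ H : Subgroup G, H ≠ ⊥ → 3 ≤ Nat.card H := by
    intro H hH
    have h1 : Nat.card H ≠ 1 := by
      intro h
      exact hH (Subgroup.card_eq_one.mp h)
    have h0 : 0 < Nat.card H := Nat.card_pos
    obtain ⟨m, hm⟩ := odd_sub H
    omega
  exact false_of_two_prod T K T' K' hc hcop (three T hT1) (three K hK1) (odd_sub T) (odd_sub K)
    hc' hcop' (three T' hT1') (three K' hK1') (odd_sub T') (odd_sub K') hTI hTI' hdisj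

end Cfsg.Agent.Lib.Helper48.TICount
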