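import Mathlib.GroupTheory.Sylow
import Mathlib.GroupTheory.GroupAction.ConjAct
import Mathlib.GroupTheory.Index
import Cfsg.Prelude.Def_CaseTheorems

set_option autoImplicit false

namespace Cfsg.Agent.Lib.Helper48

open Subgroup

variable {G : Type*} [Group G]

theorem card_sup_dvd_mul' (H K : Subgroup G) [K.Normal] :
    Nat.card (H ⊔ K : Subgroup G) ∣ Nat.card H * Nat.card K := by
  have h1 : Nat.card K * K.relIndex (H ⊔ K) = Nat.card (H ⊔ K : Subgroup G) := by
    have := Subgroup.relIndex_mul_relIndex (⊥ : Subgroup G) K (H ⊔ K) bot_le le_sup_right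
    rwa [Subgroup.relIndex_bot_left, Subgroup.relIndex_bot_left] at this
  rw [← h1, Subgroup.relIndex_sup_right, mul_comm]
  exact Nat.mul_dvd_mul_right (Subgroup.relIndex_dvd_card K H) _

/-- The `p'`-core of a finite group has order prime to `p`. -/
theorem pPrimeCore_card_coprime [Finite G] (p : ℕ) :
    (Nat.card (Cfsg.pPrimeCore p G)).Coprime p := by
  classical
  set S : Set (Subgroup G) := {N : Subgroup G | N.Normal ∧ (Nat.card N).Coprime p} with hS
  have hne : S.Nonempty := ⟨⊥, inferInstance, by simp⟩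
  obtain ⟨M, hM⟩ := (Set.toFinite S).exists_maximal hne
  have hMS : M ∈ S := hM.prop
  have hle : ∀ N ∈ S, N ≤ M := by
    intro N hN
    have : N.Normal := hN.1
    have : M.Normal := hMS.1
    have hsup : M ⊔ N ∈ S := by
      refine ⟨inferInstance, ?_⟩
      exact Nat.Coprime.coprime_dvd_left (card_sup_dvd_mul' M N) (Nat.Coprime.mul_left hMS.2 hN.2)
    have := hM.le_of_ge hsup le_sup_left
    exact le_sup_right.trans this
  have : Cfsg.pPrimeCore p G = M := le_antisymm (sSup_le hle) (le_sSup hMS)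
  rw [this]
  exact hMS.2

theorem le_pPrimeCore {p : ℕ} {N : Subgroup G} (hN : N.Normal) (h : (Nat.card N).Coprime p) :
    N ≤ Cfsg.pPrimeCore p G :=
  le_sSup ⟨hN, h⟩

/-- A nontrivial normal subgroup of a finite `p`-group meets the centre nontrivially. -/
theorem normal_meets_center' {P : Type*} [Group P] [Finite P] {p : ℕ} [hp : Fact p.Prime]
    (hP : IsPGroup p P) (N : Subgroup P) [hN : N.Normal] (hne : N ≠ ⊥) :
    ∃ b ∈ N, b ≠ 1 ∧ b ∈ Subgroup.center P := by
  classical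
  have hPc : IsPGroup p (ConjAct P) := hP.of_equiv ConjAct.toConjAct
  have hNp : IsPGroup p ↥N := hP.to_subgroup N
  have : Nontrivial ↥N := (Subgroup.nontrivial_iff_ne_bot N).2 hne
  have hdvd : p ∣ Nat.card ↥N := by
    obtain ⟨n, hn0, hn⟩ := hNp.nontrivial_iff_card.mp inferInstance
    exact hn.symm ▸ dvd_pow_self _ (ne_of_gt hn0)
  have hfix1 : (1 : ↥N) ∈ MulAction.fixedPoints (ConjAct P) ↥N := by
    intro g
    exact smul_one g
  obtain ⟨b, hb, hb1⟩ := hPc.exists_fixed_point_of_prime_dvd_card_of_fixed_point ↥N hdvd hfix1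
  refine ⟨(b : P), b.2, ?_, ?_⟩
  · intro h
    apply hb1
    apply Subtype.ext
    simpa using h.symm
  · rw [Subgroup.mem_center_iff]
    intro g
    have h1 := hb (ConjAct.toConjAct g)
    have h2 : ((ConjAct.toConjAct g • b : ↥N) : P) = (b : P) := by rw [h1]
    rw [ConjAct.Subgroup.val_conj_smul, ConjAct.toConjAct_smul] at h2
    calc g * (b : P) = (g * b * g⁻¹) * g := by group
      _ = b * g := by rw [h2]

/-- An involution acting fixed-point-freely on a finite normal subgroup inverts it. -/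
theorem inverts_of_fixedPointFree [Finite G] {K : Subgroup G} [hK : K.Normal] {z : G}
    (hz : z * z = 1) (hfix : ∀ k ∈ K, k * z = z * k → k = 1) :
    ∀ k ∈ K, z * k * z⁻¹ = k⁻¹ := by
  have hzinv : z⁻¹ = z := inv_eq_of_mul_eq_one_right hz
  -- f k = k⁻¹ * (z k z⁻¹)
  let f : K → K := fun k => ⟨(k : G)⁻¹ * (z * k * z⁻¹), K.mul_mem (K.inv_mem k.2) (hK.conj_mem _ k.2 _)⟩
  have hinj : Function.Injective f := by
    intro k l hkl
    have h1 : (k : G)⁻¹ * (z * k * z⁻¹) = (l : G)⁻¹ * (z * l * z⁻¹) := congrArg Subtype.val hkl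
    have h2 : ((l : G) * (k : G)⁻¹) * z = z * ((l : G) * (k : G)⁻¹) := by
      have h3 : (l : G) * (k : G)⁻¹ = (z * l * z⁻¹) * (z * k * z⁻¹)⁻¹ := by
        have : (l : G) * ((k : G)⁻¹ * (z * k * z⁻¹)) * (z * k * z⁻¹)⁻¹ = (l : G) * ((l : G)⁻¹ * (z * l * z⁻¹)) * (z * k * z⁻¹)⁻¹ := by rw [h1]
        calc (l : G) * (k : G)⁻¹ = (l : G) * ((k : G)⁻¹ * (z * k * z⁻¹)) * (z * k * z⁻¹)⁻¹ := by group
          _ = (l : G) * ((l : G)⁻¹ * (z * l * z⁻¹)) * (z * k * z⁻¹)⁻¹ := this
          _ = (z * l * z⁻¹) * (z * k * z⁻¹)⁻¹ := by group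
      have h4 : (z * l * z⁻¹) * (z * k * z⁻¹)⁻¹ = z * ((l : G) * (k : G)⁻¹) * z⁻¹ := by group
      rw [h4] at h3
      calc ((l : G) * (k : G)⁻¹) * z = (z * ((l : G) * (k : G)⁻¹) * z⁻¹) * z := by rw [← h3]
        _ = z * ((l : G) * (k : G)⁻¹) := by group
    have h5 := hfix _ (K.mul_mem l.2 (K.inv_mem k.2)) h2
    apply Subtype.ext
    have : (l : G) = k := by
      have : (l : G) * (k : G)⁻¹ * k = 1 * k := by rw [h5]
      simpa using this
    exact this.symm
  have hsurj : Function.Surjective f := Finite.surjective_of_injective hinj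
  intro k hk
  obtain ⟨l, hl⟩ := hsurj ⟨k, hk⟩
  have h1 : (l : G)⁻¹ * (z * l * z⁻¹) = k := congrArg Subtype.val hl
  rw [← h1, hzinv]
  calc z * ((l : G)⁻¹ * (z * l * z)) * z = (z * (l : G)⁻¹ * z) * l * (z * z) := by group
    _ = (z * (l : G)⁻¹ * z) * l := by rw [hz, mul_one]
    _ = ((l : G)⁻¹ * (z * l * z))⁻¹ := by
      have : ((l : G)⁻¹ * (z * l * z))⁻¹ = z⁻¹ * (l : G)⁻¹ * z⁻¹ * l := by group
      rw [this, hzinv]

end Cfsg.Agent.Lib.Helper48
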