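import Mathlib
import Cfsg.Agent.Lib.Helper24.WardStmt
import Cfsg.Agent.Lib.Helper24.SylowInv
import Cfsg.Agent.Lib.Helper24.CoprimeAbelian
import Cfsg.Agent.Lib.Helper10.FixedPts

/-!
Reduction of Ward's theorem to its three-layer core: basic transfer lemmas.
-/

set_option autoImplicit false
set_option linter.unusedSectionVars false
set_option linter.unusedVariables false
set_option linter.style.haveILetI false

namespace Cfsg.Agent.Lib.Helper48.Ward

open Subgroup

universe u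

section nil
variable {Γ : Type u} [Group Γ]

theorem nil_of_le {H K : Subgroup Γ} (hHK : H ≤ K) (hK : Group.IsNilpotent ↥K) :
    Group.IsNilpotent ↥H := by
  obtain ⟨n, hn⟩ := (isNilpotent_iff_lowerCentralSeries K).mp hK
  refine (isNilpotent_iff_lowerCentralSeries H).mpr ⟨n, ?_⟩
  have := lowerCentralSeries_mono n hHK
  simp only at this
  rw [hn] at this
  exact le_bot_iff.mp this

theorem lcs_le_ker_of_map_nil {Γ' : Type*} [Group Γ'] (f : Γ →* Γ') (R : Subgroup Γ)
    (h : Group.IsNilpotent ↥(R.map f)) : ∃ n, ∀ m, n ≤ m → R.lowerCentralSeries m ≤ f.ker := by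
  obtain ⟨n, hn⟩ := (isNilpotent_iff_lowerCentralSeries (R.map f)).mp h
  refine ⟨n, fun m hm => ?_⟩
  have h1 : (R.lowerCentralSeries m).map f = ⊥ := by
    rw [map_lowerCentralSeries]
    have := (R.map f).lowerCentralSeries_antitone hm
    rw [hn] at this
    exact le_bot_iff.mp this
  intro x hx
  rw [MonoidHom.mem_ker]
  have : f x ∈ (R.lowerCentralSeries m).map f := mem_map_of_mem f hx
  rw [h1] at this
  exact Subgroup.mem_bot.mp this

theorem nil_of_map_two {Γ₁ Γ₂ : Type*} [Group Γ₁] [Group Γ₂] (f₁ : Γ →* Γ₁) (f₂ : Γ →* Γ₂)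
    (R : Subgroup Γ) (h₁ : Group.IsNilpotent ↥(R.map f₁)) (h₂ : Group.IsNilpotent ↥(R.map f₂))
    (hker : f₁.ker ⊓ f₂.ker = ⊥) : Group.IsNilpotent ↥R := by
  obtain ⟨n₁, hn₁⟩ := lcs_le_ker_of_map_nil f₁ R h₁
  obtain ⟨n₂, hn₂⟩ := lcs_le_ker_of_map_nil f₂ R h₂
  refine (isNilpotent_iff_lowerCentralSeries R).mpr ⟨max n₁ n₂, ?_⟩
  have := le_inf (hn₁ _ (le_max_left n₁ n₂)) (hn₂ _ (le_max_right n₁ n₂))
  rw [hker] at this
  exact le_bot_iff.mp this

theorem nil_of_map_central {Γ' : Type*} [Group Γ'] (f : Γ →* Γ') (R : Subgroup Γ)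
    (h : Group.IsNilpotent ↥(R.map f)) (hc : ⁅f.ker, R⁆ = ⊥) : Group.IsNilpotent ↥R := by
  obtain ⟨n, hn⟩ := lcs_le_ker_of_map_nil f R h
  refine (isNilpotent_iff_lowerCentralSeries R).mpr ⟨n + 1, ?_⟩
  rw [Subgroup.lowerCentralSeries_succ]
  have := commutator_mono (hn n le_rfl) (le_refl R)
  rw [hc] at this
  exact le_bot_iff.mp this

end nil

/-- the standing hypotheses of the reduction, inside an ambient group -/
structure WCtx (Γ : Type u) [Group Γ] (r : ℕ) (A G : Subgroup Γ) : Prop where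
  hr : r.Prime
  elem : Cfsg.IsElementaryAbelian r A
  card : Nat.card A = r ^ 2
  normal : G.Normal
  sup : A ⊔ G = ⊤
  solv : Group.IsSolvable ↥G
  fix : G ⊓ centralizer (A : Set Γ) = ⊥

/-- the conclusion: some term of the lower central series is nilpotent -/
def FH2 {Γ : Type u} [Group Γ] (G : Subgroup Γ) : Prop :=
  ∃ k, Group.IsNilpotent ↥(G.lowerCentralSeries k)

section ctx
variable {Γ : Type u} [Group Γ] {r : ℕ} {A G : Subgroup Γ}

theorem WCtx.isPGroup (h : WCtx Γ r A G) : IsPGroup r ↥A := by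
  intro a
  refine ⟨1, ?_⟩
  have := h.elem.2 a a.2
  rw [pow_one]
  exact Subtype.ext (by simpa using this)

theorem WCtx.comm (h : WCtx Γ r A G) : ∀ a ∈ A, ∀ b ∈ A, a * b = b * a := by
  intro a ha b hb
  have := h.elem.1.is_comm.comm ⟨a, ha⟩ ⟨b, hb⟩
  exact congrArg Subtype.val this

theorem WCtx.solvA (h : WCtx Γ r A G) : Group.IsSolvable ↥A := by
  exact Group.isSolvable_of_comm (fun a b => Subtype.ext (h.comm a a.2 b b.2))

theorem WCtx.coprime [Finite Γ] (h : WCtx Γ r A G) : (Nat.card A).Coprime (Nat.card G) := by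
  haveI : Fact r.Prime := ⟨h.hr⟩
  haveI := h.normal
  have h1 := Cfsg.Agent.Lib.Helper10.card_modEq_one_of_fixedPoints_trivial A G h.isPGroup h.fix
  rw [h.card]
  apply Nat.Coprime.pow_left
  rw [Nat.Prime.coprime_iff_not_dvd h.hr]
  intro hdvd
  have h2 : Nat.card G ≡ 0 [MOD r] := (Nat.modEq_zero_iff_dvd).mpr hdvd
  have h3 : (1 : ℕ) ≡ 0 [MOD r] := h1.symm.trans h2
  have h4 : r ∣ 1 := (Nat.modEq_zero_iff_dvd).mp h3
  exact h.hr.one_lt.ne' (Nat.dvd_one.mp h4)

theorem WCtx.coprime_of_le [Finite Γ] (h : WCtx Γ r A G) {K : Subgroup Γ} (hK : K ≤ G) :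
    (Nat.card A).Coprime (Nat.card K) :=
  Nat.Coprime.coprime_dvd_right (card_dvd_of_le hK) h.coprime

theorem WCtx.inf_eq_bot [Finite Γ] (h : WCtx Γ r A G) : A ⊓ G = ⊥ :=
  (disjoint_of_coprime_natCard h.coprime).eq_bot

end ctx

section quot
variable {Γ : Type u} [Group Γ] [Finite Γ] {r : ℕ} {A G : Subgroup Γ}

theorem card_map_mk_mul (V G : Subgroup Γ) [V.Normal] (hVG : V ≤ G) :
    Nat.card V * Nat.card (G.map (QuotientGroup.mk' V)) = Nat.card G := by
  have h1 := relIndex_ker (QuotientGroup.mk' V) (K := G)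
  rw [QuotientGroup.ker_mk'] at h1
  rw [← h1]
  have h2 := relIndex_mul_relIndex (⊥ : Subgroup Γ) V G bot_le hVG
  rw [relIndex_bot_left, relIndex_bot_left] at h2
  exact h2

theorem card_map_mk_lt (V G : Subgroup Γ) [V.Normal] (hVG : V ≤ G) (hV : V ≠ ⊥) :
    Nat.card (G.map (QuotientGroup.mk' V)) < Nat.card G := by
  have h1 := card_map_mk_mul V G hVG
  have h2 : 1 < Nat.card V := by
    rw [Subgroup.one_lt_card_iff_ne_bot]
    exact hV
  have h3 : 0 < Nat.card (G.map (QuotientGroup.mk' V)) := Nat.card_pos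
  nlinarith

theorem WCtx.quot (h : WCtx Γ r A G) (V : Subgroup Γ) [V.Normal] (hVG : V ≤ G) :
    WCtx (Γ ⧸ V) r (A.map (QuotientGroup.mk' V)) (G.map (QuotientGroup.mk' V)) := by
  set f := QuotientGroup.mk' V with hf
  have hsurj : Function.Surjective f := QuotientGroup.mk'_surjective V
  have hAV : A ⊓ V = ⊥ := le_bot_iff.mp (le_trans (inf_le_inf_left A hVG) h.inf_eq_bot.le)
  refine ⟨h.hr, ⟨?_, ?_⟩, ?_, ?_, ?_, ?_, ?_⟩
  · refine ⟨⟨fun x y => ?_⟩⟩
    obtain ⟨x, hx⟩ := x
    obtain ⟨y, hy⟩ := y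
    obtain ⟨a, ha, rfl⟩ := hx
    obtain ⟨b, hb, rfl⟩ := hy
    apply Subtype.ext
    show f a * f b = f b * f a
    rw [← map_mul, ← map_mul, h.comm a ha b hb]
  · rintro x ⟨a, ha, rfl⟩
    rw [← map_pow, h.elem.2 a ha, map_one]
  · rw [← h.card]
    have hg : Function.Injective (f.comp A.subtype) := by
      rw [injective_iff_map_eq_one]
      intro a ha
      have h1 : (a : Γ) ∈ V := by
        have : f (a : Γ) = 1 := ha
        rwa [hf, QuotientGroup.mk'_apply, QuotientGroup.eq_one_iff] at this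
      have h2 : (a : Γ) ∈ A ⊓ V := ⟨a.2, h1⟩
      rw [hAV] at h2
      exact Subtype.ext (Subgroup.mem_bot.mp h2)
    have hrange : (f.comp A.subtype).range = A.map f := by
      rw [MonoidHom.range_comp, A.range_subtype]
    rw [← hrange]
    exact (Nat.card_congr (MonoidHom.ofInjective hg).toEquiv).symm
  · exact h.normal.map f hsurj
  · rw [← Subgroup.map_sup, h.sup, Subgroup.map_top_of_surjective f hsurj]
  · haveI := h.solv
    exact Group.isSolvable_of_surjective (f := f.subgroupMap G) (f.subgroupMap_surjective G)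
  · rw [eq_bot_iff]
    rintro x ⟨⟨g, hg, rfl⟩, hx2⟩
    rw [Subgroup.mem_bot]
    have hk : ∀ a ∈ A, a * g * a⁻¹ * g⁻¹ ∈ V := by
      intro a ha
      have h1 := mem_centralizer_iff.mp hx2 (f a) (mem_map_of_mem f ha)
      have h2 : f (a * g * a⁻¹ * g⁻¹) = 1 := by
        simp only [map_mul, map_inv]
        rw [h1]
        group
      rwa [hf, QuotientGroup.mk'_apply, QuotientGroup.eq_one_iff] at h2
    have hAn : A ≤ normalizer (V : Set Γ) := by
      rw [normalizer_eq_top]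
      exact le_top
    obtain ⟨n, hn, hc⟩ := Cfsg.Agent.Lib.Helper24.fixed_point_lemma V A hAn
      (h.coprime_of_le hVG) (Or.inr h.solvA) g hk
    have h3 : n⁻¹ * g ∈ G ⊓ centralizer (A : Set Γ) :=
      ⟨G.mul_mem (G.inv_mem (hVG hn)) hg, hc⟩
    rw [h.fix, Subgroup.mem_bot] at h3
    have h4 : g = n := by
      have := congrArg (fun t => n * t) h3
      simpa using this
    rw [h4, hf, QuotientGroup.mk'_apply, QuotientGroup.eq_one_iff]
    exact hn

end quot

end Cfsg.Agent.Lib.Helper48.Ward
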