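import Mathlib
import Cfsg.Agent.Lib.Helper48.WardRedA
import Cfsg.Agent.Lib.Helper1.Carter1
import Cfsg.Agent.Lib.Helper19.TR2

/-!
Reduction of Ward's theorem to its three-layer core: pure group theory lemmas
(Hall subgroups of nilpotent normal subgroups, Frattini, commutator computations).
-/

set_option autoImplicit false
set_option linter.unusedSectionVars false
set_option linter.unusedVariables false
set_option linter.style.haveILetI false

namespace Cfsg.Agent.Lib.Helper48.Ward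

open Subgroup
open scoped commutatorElement
open Cfsg.Agent.Lib.Helper33
open Cfsg.Agent.Lib.Helper24

universe u

section pure
variable {Γ : Type u} [Group Γ]

theorem normal_of_forall_cj_le {H : Subgroup Γ} (h : ∀ γ : Γ, cj γ H ≤ H) : H.Normal :=
  ⟨fun n hn g => h g (conj_mem_cj hn)⟩

theorem cj_eq_of_normal (γ : Γ) (H : Subgroup Γ) [hH : H.Normal] : cj γ H = H :=
  cj_eq_self_iff.mpr (by rw [normalizer_eq_top]; exact mem_top γ)

theorem cj_le_of_le_normal (γ : Γ) {Q K : Subgroup Γ} [K.Normal] (hQK : Q ≤ K) : cj γ Q ≤ K := by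
  have : cj γ Q ≤ cj γ K := cj_mono hQK
  rwa [cj_eq_of_normal γ K] at this

variable [Finite Γ]

/-- A Hall subgroup of a nilpotent normal subgroup is normal in the whole group. -/
theorem hall_normal_of_nilpotent_normal (K Q : Subgroup Γ) [K.Normal] (hQK : Q ≤ K)
    (hK : Group.IsNilpotent ↥K) (hcop : (Nat.card Q).Coprime (Q.relIndex K)) : Q.Normal := by
  have hnorm := Cfsg.Agent.Lib.Helper1.le_normalizer_of_hall_of_isNilpotent K Q hQK hK hcop
  refine ⟨fun n hn g => ?_⟩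
  have h1 : cj g Q ≤ K := cj_le_of_le_normal g hQK
  have h2 := Cfsg.Agent.Lib.Helper1.eq_of_normal_hall_of_card K Q (cj g Q) hQK h1 hnorm hcop
    (card_cj g Q)
  rw [← h2]
  exact conj_mem_cj hn

theorem eq_of_forall_prime_not_dvd_relIndex (H R : Subgroup Γ) (hHR : H ≤ R)
    (h : ∀ s : ℕ, s.Prime → ¬ s ∣ H.relIndex R) : H = R := by
  have h1 : H.relIndex R = 1 := by
    by_contra hne
    obtain ⟨s, hs, hdvd⟩ := Nat.exists_prime_and_dvd hne
    exact h s hs hdvd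
  exact le_antisymm hHR (relIndex_eq_one.mp h1)

theorem not_dvd_relIndex_of_le {s : ℕ} {S H : Subgroup Γ} (R : Subgroup Γ) (hSH : S ≤ H)
    (h : ¬ s ∣ S.relIndex R) : ¬ s ∣ H.relIndex R :=
  fun hd => h (hd.trans (relIndex_dvd_of_le_left R hSH))

theorem not_dvd_relIndex_of_le_right {s : ℕ} {S N R : Subgroup Γ} (hSN : S ≤ N) (hNR : N ≤ R)
    (h : ¬ s ∣ S.relIndex R) : ¬ s ∣ S.relIndex N := by
  intro hd
  apply h
  rw [← relIndex_mul_relIndex S N R hSN hNR]
  exact hd.mul_right _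

theorem coprime_card_relIndex {s : ℕ} (hs : s.Prime) {S R : Subgroup Γ} (hS : IsPGroup s S)
    (hidx : ¬ s ∣ S.relIndex R) : (Nat.card S).Coprime (S.relIndex R) := by
  haveI := Fact.mk hs
  obtain ⟨k, hk⟩ := hS.exists_card_eq
  rw [hk]
  exact Nat.Coprime.pow_left k ((Nat.Prime.coprime_iff_not_dvd hs).mpr hidx)

/-- commutators with `E ⊔ P` when `E` centralizes `W` -/
theorem commutator_sup_le (W E P : Subgroup Γ) (hE : E ≤ centralizer (W : Set Γ))
    (hPW : P ≤ normalizer (W : Set Γ)) (hPE : P ≤ normalizer (E : Set Γ)) :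
    ⁅W, E ⊔ P⁆ ≤ ⁅W, P⁆ := by
  rw [commutator_le]
  intro w hw y hy
  have hy' : y ∈ ((E ⊔ P : Subgroup Γ) : Set Γ) := hy
  rw [coe_mul_of_right_le_normalizer_left E P hPE] at hy'
  obtain ⟨e, he, p, hp, rfl⟩ := hy'
  have h1 : ⁅w, p⁆ ∈ W := by
    rw [commutatorElement_def]
    have : p * w⁻¹ * p⁻¹ ∈ W := (mem_normalizer_iff.mp (hPW hp) w⁻¹).mp (W.inv_mem hw)
    have h2 := W.mul_mem hw this
    have e1 : w * (p * w⁻¹ * p⁻¹) = w * p * w⁻¹ * p⁻¹ := by group
    rwa [e1] at h2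
  have c1 : w * e = e * w := mem_centralizer_iff.mp (hE he) w hw
  have c2 : ⁅w, p⁆ * e = e * ⁅w, p⁆ := mem_centralizer_iff.mp (hE he) _ h1
  have h2 : ⁅w, e * p⁆ = ⁅w, p⁆ := by
    calc ⁅w, e * p⁆ = w * e * p * w⁻¹ * p⁻¹ * e⁻¹ := by rw [commutatorElement_def]; group
      _ = e * w * p * w⁻¹ * p⁻¹ * e⁻¹ := by rw [c1]
      _ = e * ⁅w, p⁆ * e⁻¹ := by rw [commutatorElement_def]; group
      _ = ⁅w, p⁆ * e * e⁻¹ := by rw [← c2]
      _ = ⁅w, p⁆ := by group
  rw [h2]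
  exact commutator_mem_commutator hw hp

theorem cj_inf_centralizer_eq {p : Γ} {X W : Subgroup Γ} (hpX : p ∈ normalizer (X : Set Γ))
    (hpW : p ∈ normalizer (W : Set Γ)) :
    cj p (X ⊓ centralizer (W : Set Γ)) = X ⊓ centralizer (W : Set Γ) := by
  rw [cj_inf, ← centralizer_cj, cj_eq_self_iff.mpr hpX, cj_eq_self_iff.mpr hpW]

/-- If `W` is an `s`-subgroup normal in `X`, centralized by a Sylow `t`-subgroup of `X` for
every prime `t ≠ s`, and `W ≤ ⁅W, X⁆`, then `W` is trivial. -/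
theorem eq_bot_of_le_commutator_of_sylows {s : ℕ} (hs : s.Prime) (W X : Subgroup Γ)
    (hW : IsPGroup s W) (hWX : W ≤ X) (hXW : X ≤ normalizer (W : Set Γ))
    (hT : ∀ t : ℕ, t.Prime → t ≠ s → ∃ T : Subgroup Γ, T ≤ X ∧ ¬ t ∣ T.relIndex X ∧
      T ≤ centralizer (W : Set Γ))
    (hcomm : W ≤ ⁅W, X⁆) : W = ⊥ := by
  haveI := Fact.mk hs
  have hW' : IsPGroup s (W.subgroupOf X) := hW.comap_subtype
  obtain ⟨P, hP⟩ := hW'.exists_le_sylow
  obtain ⟨hP1, hP2, hP3⟩ := sylow_map_facts X P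
  set P' := (P : Subgroup X).map X.subtype with hP'
  have hWP : W ≤ P' := by
    intro w hw
    exact ⟨⟨w, hWX hw⟩, hP (show (⟨w, hWX hw⟩ : X) ∈ W.subgroupOf X from hw), rfl⟩
  set E := X ⊓ centralizer (W : Set Γ) with hE
  have hPE : P' ≤ normalizer (E : Set Γ) := by
    intro p hp
    rw [← cj_eq_self_iff]
    exact cj_inf_centralizer_eq (le_normalizer (hP1 hp)) (hXW (hP1 hp))
  have hH : E ⊔ P' = X := by
    apply eq_of_forall_prime_not_dvd_relIndex _ _ (sup_le inf_le_left hP1)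
    intro t ht
    by_cases hts : t = s
    · subst hts
      exact not_dvd_relIndex_of_le X le_sup_right hP3
    · obtain ⟨T, hTX, hTi, hTc⟩ := hT t ht hts
      exact not_dvd_relIndex_of_le X (le_trans (le_inf hTX hTc) le_sup_left) hTi
  have h1 : ⁅W, X⁆ ≤ ⁅W, P'⁆ := by
    rw [← hH]
    exact commutator_sup_le W E P' inf_le_right (hP1.trans hXW) hPE
  have hnil : Group.IsNilpotent ↥P' := hP2.isNilpotent
  exact Cfsg.Agent.Lib.Helper19.eq_bot_of_le_commutator hnil hWP le_rfl (hcomm.trans h1)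

/-- Normal complement of a Sylow subgroup in a nilpotent normal subgroup. -/
theorem exists_normal_complement_of_nilpotent_normal {s : ℕ} (hs : s.Prime) (M S : Subgroup Γ)
    [M.Normal] (hM : Group.IsNilpotent ↥M) (hSM : S ≤ M) (hS : IsPGroup s S)
    (hidx : ¬ s ∣ S.relIndex M) :
    ∃ K : Subgroup Γ, K.Normal ∧ K ≤ M ∧ S ⊓ K = ⊥ ∧ M ≤ S ⊔ K := by
  have hcop := coprime_card_relIndex hs hS hidx
  have hnorm := Cfsg.Agent.Lib.Helper1.le_normalizer_of_hall_of_isNilpotent M S hSM hM hcop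
  haveI : (S.subgroupOf M).Normal := (normal_subgroupOf_iff_le_normalizer hSM).mpr hnorm
  have hcop' : (Nat.card (S.subgroupOf M)).Coprime (S.subgroupOf M).index := by
    rw [Cfsg.Agent.Lib.Helper1.card_subgroupOf_of_le hSM]
    exact hcop
  obtain ⟨H₀, hH₀⟩ := exists_right_complement'_of_coprime hcop'
  set K := H₀.map M.subtype with hK
  have hKM : K ≤ M := map_subtype_le _
  have hKsub : K.subgroupOf M = H₀ := by
    rw [hK, subgroupOf, comap_map_eq_self_of_injective M.subtype_injective]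
  have hcardK : Nat.card K = S.relIndex M := by
    rw [hK, card_map_of_injective M.subtype_injective]
    exact hH₀.symm.index_eq_card.symm
  have hidxK : K.relIndex M = Nat.card S := by
    rw [relIndex, hKsub, hH₀.index_eq_card, Cfsg.Agent.Lib.Helper1.card_subgroupOf_of_le hSM]
  have hKn : K.Normal := by
    apply hall_normal_of_nilpotent_normal M K hKM hM
    rw [hcardK, hidxK]
    exact hcop.symm
  refine ⟨K, hKn, hKM, ?_, ?_⟩
  · apply (disjoint_of_coprime_natCard _).eq_bot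
    rw [hcardK]
    exact hcop
  · intro m hm
    have h1 : (⟨m, hm⟩ : M) ∈ S.subgroupOf M ⊔ H₀ := by
      rw [hH₀.sup_eq_top]
      exact mem_top _
    have h2 : m ∈ (S.subgroupOf M ⊔ H₀).map M.subtype := ⟨⟨m, hm⟩, h1, rfl⟩
    rw [Subgroup.map_sup, subgroupOf_map_subtype] at h2
    exact (sup_le_sup_right inf_le_left K) h2

section quotient
variable (V R S : Subgroup Γ) [V.Normal] [R.Normal]

theorem sylow_map_mk {s : ℕ} (hVR : V ≤ R) (hSR : S ≤ R) (hidx : ¬ s ∣ S.relIndex R) :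
    ¬ s ∣ (S.map (QuotientGroup.mk' V)).relIndex (R.map (QuotientGroup.mk' V)) := by
  rw [relIndex_map_map, QuotientGroup.ker_mk', sup_of_le_left hVR]
  exact not_dvd_relIndex_of_le R le_sup_left hidx

/-- `V ⊔ S` is normal when `S` is a Sylow subgroup of `R` and `R / V` is nilpotent. -/
theorem sup_sylow_normal {s : ℕ} (hs : s.Prime) (hVR : V ≤ R)
    (hnil : Group.IsNilpotent ↥(R.map (QuotientGroup.mk' V))) (hSR : S ≤ R) (hS : IsPGroup s S)
    (hidx : ¬ s ∣ S.relIndex R) : (V ⊔ S).Normal := by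
  set f := QuotientGroup.mk' V with hf
  have hsurj : Function.Surjective f := QuotientGroup.mk'_surjective V
  haveI : (R.map f).Normal := Normal.map inferInstance f hsurj
  have h1 : (S.map f).Normal := by
    apply hall_normal_of_nilpotent_normal (R.map f) (S.map f) (map_mono hSR) hnil
    exact coprime_card_relIndex hs (hS.map f) (sylow_map_mk V R S hVR hSR hidx)
  have h2 : V ⊔ S = (S.map f).comap f := by
    rw [comap_map_eq, hf, QuotientGroup.ker_mk', sup_comm]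
  rw [h2]
  exact h1.comap f

/-- A normal complement modulo `V`. -/
theorem exists_normal_complement_mod {s : ℕ} (hs : s.Prime) (hVR : V ≤ R)
    (hnil : Group.IsNilpotent ↥(R.map (QuotientGroup.mk' V))) (hSR : S ≤ R) (hS : IsPGroup s S)
    (hidx : ¬ s ∣ S.relIndex R) :
    ∃ K : Subgroup Γ, K.Normal ∧ V ≤ K ∧ (V ⊔ S) ⊓ K ≤ V ∧ R ≤ S ⊔ K := by
  set f := QuotientGroup.mk' V with hf
  have hsurj : Function.Surjective f := QuotientGroup.mk'_surjective V
  have hker : ∀ x : Γ, f x = 1 ↔ x ∈ V := by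
    intro x
    rw [hf, QuotientGroup.mk'_apply, QuotientGroup.eq_one_iff]
  haveI : (R.map f).Normal := Normal.map inferInstance f hsurj
  obtain ⟨K', hK'n, hK'M, hK'd, hK's⟩ := exists_normal_complement_of_nilpotent_normal hs
    (R.map f) (S.map f) hnil (map_mono hSR) (hS.map f) (sylow_map_mk V R S hVR hSR hidx)
  refine ⟨K'.comap f, hK'n.comap f, ?_, ?_, ?_⟩
  · intro v hv
    rw [mem_comap, (hker v).mpr hv]
    exact K'.one_mem
  · rintro x ⟨hx1, hx2⟩
    obtain ⟨v, hv, y, hy, rfl⟩ := mem_sup_of_normal_left.mp hx1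
    have h1 : f (v * y) = f y := by rw [map_mul, (hker v).mpr hv, one_mul]
    have h2 : f (v * y) ∈ S.map f ⊓ K' := by
      refine ⟨?_, hx2⟩
      rw [h1]
      exact mem_map_of_mem f hy
    rw [hK'd, mem_bot] at h2
    exact (hker _).mp h2
  · intro x hx
    have h1 : f x ∈ S.map f ⊔ K' := hK's (mem_map_of_mem f hx)
    haveI := hK'n
    obtain ⟨y', hy', k', hk', hyk⟩ := mem_sup_of_normal_right.mp h1
    obtain ⟨y, hy, rfl⟩ := hy'
    have h2 : y⁻¹ * x ∈ K'.comap f := by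
      rw [mem_comap, map_mul, map_inv, ← hyk]
      simpa using hk'
    have h3 : x = y * (y⁻¹ * x) := by group
    rw [h3]
    exact mul_mem_sup hy h2

end quotient

/-- Sylow conjugation inside `V ⊔ S`. -/
theorem exists_cj_eq_of_sup_normal {s : ℕ} (hs : s.Prime) (V S : Subgroup Γ) [V.Normal]
    (hN : (V ⊔ S).Normal) (hS : IsPGroup s S) (hidx : ¬ s ∣ S.relIndex (V ⊔ S)) (γ : Γ) :
    ∃ v ∈ V, cj γ S = cj v S := by
  haveI := Fact.mk hs
  haveI := hN
  have h1 : cj γ S ≤ V ⊔ S := cj_le_of_le_normal γ le_sup_right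
  obtain ⟨n, hn, hn2⟩ := sylow_cj_of_facts (V ⊔ S) S (cj γ S) le_sup_right hS hidx h1
    (isPGroup_cj hS) (card_cj γ S)
  obtain ⟨v, hv, x, hx, rfl⟩ := mem_sup_of_normal_left.mp hn
  refine ⟨v, hv, ?_⟩
  rw [hn2, cj_mul, cj_eq_self_of_mem hx]

/-- Frattini argument. -/
theorem le_sup_inf_normalizer {s : ℕ} (hs : s.Prime) (V S G : Subgroup Γ) [V.Normal]
    (hVG : V ≤ G) (hN : (V ⊔ S).Normal) (hS : IsPGroup s S) (hidx : ¬ s ∣ S.relIndex (V ⊔ S)) :
    G ≤ V ⊔ (G ⊓ normalizer (S : Set Γ)) := by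
  intro g hg
  obtain ⟨v, hv, hvg⟩ := exists_cj_eq_of_sup_normal hs V S hN hS hidx g
  have h1 : v⁻¹ * g ∈ normalizer (S : Set Γ) := by
    rw [← cj_eq_self_iff, cj_mul, hvg, cj_inv_cj]
  have h2 : g = v * (v⁻¹ * g) := by group
  rw [h2]
  exact mul_mem_sup hv ⟨G.mul_mem (G.inv_mem (hVG hv)) hg, h1⟩

/-- The key step: `S = ⁅S, N_G(S)⁆` when `R = ⁅R, G⁆` and `R / V` is nilpotent. -/
theorem le_commutator_normalizer {s : ℕ} (hs : s.Prime) (V R S G : Subgroup Γ) [V.Normal]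
    [R.Normal] (hVR : V ≤ R) (hRG : R ≤ G) (hRc : R ≤ ⁅R, G⁆)
    (hnil : Group.IsNilpotent ↥(R.map (QuotientGroup.mk' V))) (hSR : S ≤ R) (hS : IsPGroup s S)
    (hidx : ¬ s ∣ S.relIndex R) (hVS : V ⊓ S = ⊥) :
    S ≤ ⁅S, G ⊓ normalizer (S : Set Γ)⁆ := by
  obtain ⟨K, hKn, hVK, hNK, hRK⟩ := exists_normal_complement_mod V R S hs hVR hnil hSR hS hidx
  haveI := hKn
  have hN : (V ⊔ S).Normal := sup_sylow_normal V R S hs hVR hnil hSR hS hidx
  have hidxN : ¬ s ∣ S.relIndex (V ⊔ S) :=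
    not_dvd_relIndex_of_le_right le_sup_right (sup_le hVR hSR) hidx
  have hfrat := le_sup_inf_normalizer hs V S G (hVR.trans hRG) hN hS hidxN
  set Y := G ⊓ normalizer (S : Set Γ) with hY
  have hcl : ⁅S, Y⁆ ≤ S := le_normalizer_iff_commutator_le_left.mp inf_le_right
  have key : ⁅R, G⁆ ≤ ⁅S, Y⁆ ⊔ K := by
    rw [commutator_le]
    intro x hx g hg
    obtain ⟨x₁, hx₁, k, hk, rfl⟩ := mem_sup_of_normal_right.mp (hRK hx)
    obtain ⟨v, hv, y, hy, rfl⟩ := mem_sup_of_normal_left.mp (hfrat hg)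
    set f' := QuotientGroup.mk' K with hf'
    have hker : ∀ z : Γ, z ∈ K → f' z = 1 := by
      intro z hz
      rw [hf', QuotientGroup.mk'_apply, QuotientGroup.eq_one_iff]
      exact hz
    have h1 : f' ⁅x₁ * k, v * y⁆ = f' ⁅x₁, y⁆ := by
      rw [map_commutatorElement, map_commutatorElement, map_mul, map_mul, hker k hk,
        hker v (hVK hv), mul_one, one_mul]
    have h2 : (⁅x₁, y⁆)⁻¹ * ⁅x₁ * k, v * y⁆ ∈ K := by
      rw [← QuotientGroup.eq]
      exact h1.symm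
    have h3 : ⁅x₁ * k, v * y⁆ = ⁅x₁, y⁆ * ((⁅x₁, y⁆)⁻¹ * ⁅x₁ * k, v * y⁆) := by group
    rw [h3]
    exact mul_mem_sup (commutator_mem_commutator hx₁ hy) h2
  intro x hx
  obtain ⟨c, hc, k, hk, hck⟩ := mem_sup_of_normal_right.mp (key (hRc (hSR hx)))
  have hcS : c ∈ S := hcl hc
  have hkS : k ∈ S := by
    have : k = c⁻¹ * x := by rw [← hck]; group
    rw [this]
    exact S.mul_mem (S.inv_mem hcS) hx
  have hkV : k ∈ V := hNK ⟨mem_sup_right hkS, hk⟩
  have hk1 : k = 1 := by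
    have : k ∈ V ⊓ S := ⟨hkV, hkS⟩
    rwa [hVS, mem_bot] at this
  rw [← hck, hk1, mul_one]
  exact hc

end pure

end Cfsg.Agent.Lib.Helper48.Ward
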