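import Cfsg.Agent.Lib.Helper48.BG139Hyps
import Cfsg.Agent.Lib.Helper60.BG139S1
import Cfsg.Agent.S1422
import Cfsg.Agent.S1428

/-!
# B&G 13.9 (S1378): pieces T3, T5 of the plan and the final statement

* `Cfg.le_sigmaCore`, `Cfg.abelian`, `Cfg.inf_eq` (T3), `Cfg.tau2_empty` (T5).
* `s1378_final` : the statement of S1378, unconditionally.
-/

set_option autoImplicit false
set_option linter.style.haveILetI false
set_option linter.unusedSectionVars false

universe u

namespace Cfsg.Agent.Lib.Helper48.BG139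

open Subgroup Cfsg Cfsg.Agent.Lib.Helper21.BG139 Cfsg.Agent.Lib.Helper47.BG139

variable {G : Type u} [Group G] [Finite G]

/-- a Sylow subgroup of `G` inside a nilpotent subgroup `K` is normalized by `N(K)` -/
theorem normalizer_le_normalizer_sylow_of_nilpotent {K : Subgroup G}
    (hK : Group.IsNilpotent ↥K) {p : ℕ} [Fact p.Prime] (P : Sylow p G)
    (hPK : (↑P : Subgroup G) ≤ K) :
    normalizer (K : Set G) ≤ normalizer ((P : Subgroup G) : Set G) := by
  haveI := hK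
  have hn : ((P.subtype hPK : Sylow p ↥K) : Subgroup ↥K).Normal := inferInstance
  haveI : ((P.subtype hPK : Sylow p ↥K) : Subgroup ↥K).Characteristic :=
    Sylow.characteristic_of_normal _ hn
  have h1 := Cfsg.Agent.Lib.Helper24.normalizer_le_normalizer_map_of_characteristic K
    ((P.subtype hPK : Sylow p ↥K) : Subgroup ↥K)
  have h2 : ((P.subtype hPK : Sylow p ↥K) : Subgroup ↥K).map K.subtype = (↑P : Subgroup G) := by
    rw [Sylow.coe_subtype, Subgroup.subgroupOf_map_subtype, inf_of_le_left hPK]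
  rwa [h2] at h1

variable {M N : Subgroup G} {p : ℕ} [Fact p.Prime] {P : Sylow p G}

/-- T3: `P ≤ M_σ` -/
theorem Cfg.le_sigmaCore (hG : IsMinSimpleOddOrder G) (c : Cfg M N p P) :
    (↑P : Subgroup G) ≤ sigmaCore M :=
  Cfsg.Agent.Lib.Helper68.BG1215.le_sigmaCore_of_isPGroup
    (Cfsg.Agent.S1350.result hG M c.hM).1 c.hpM c.hPM P.isPGroup'

/-- T3: `P` is abelian -/
theorem Cfg.abelian (hG : IsMinSimpleOddOrder G) (c : Cfg M N p P) :
    ∀ a ∈ (P : Subgroup G), ∀ b ∈ (P : Subgroup G), a * b = b * a := by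
  by_contra hna
  have hPna : ¬ IsMulCommutative (↑P : Subgroup G) := by
    intro h
    apply hna
    intro a ha b hb
    have h1 := h.is_comm.comm ⟨a, ha⟩ ⟨b, hb⟩
    exact congrArg Subtype.val h1
  obtain ⟨L, -, huniq⟩ := Cfsg.Agent.S1422.result hG p (↑P) P.isPGroup' hPna
  have h1 : M = L := huniq M ⟨c.hM, c.hPM⟩
  have h2 : N = L := huniq N ⟨c.hN, c.hPN⟩
  exact Cfsg.Agent.Lib.Helper22.BG139.ne_of_cfg c (h1.trans h2.symm)

/-- T3: `M ∩ N = N_G(P)` -/
theorem Cfg.inf_eq (hG : IsMinSimpleOddOrder G) (c : Cfg M N p P) :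
    M ⊓ N = normalizer ((P : Subgroup G) : Set G) := by
  apply le_antisymm
  · have hnil := Cfsg.Agent.Lib.Helper60.BG139.nilpotent_inf hG c.hM c.hN c.hnc
    have hPJ : (↑P : Subgroup G) ≤ sigmaCore M ⊓ sigmaCore N :=
      le_inf (Cfg.le_sigmaCore hG c) (Cfg.le_sigmaCore hG c.symm)
    have h1 := normalizer_le_normalizer_sylow_of_nilpotent hnil P hPJ
    refine le_trans ?_ h1
    refine le_trans ?_ (Subgroup.inf_normalizer_le_normalizer_inf)
    exact inf_le_inf (Cfsg.Agent.Lib.Helper24.BG.le_normalizer_sigmaCore M)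
      (Cfsg.Agent.Lib.Helper24.BG.le_normalizer_sigmaCore N)
  · exact le_inf (Cfsg.Agent.Lib.Helper22.BG139.normalizer_le_left c)
      (Cfsg.Agent.Lib.Helper22.BG139.normalizer_le_right c)

/-- T5: `τ₂(M) = ∅` -/
theorem Cfg.tau2_empty (hG : IsMinSimpleOddOrder G) (c : Cfg M N p P) : tau2 M = ∅ := by
  rw [Set.eq_empty_iff_forall_notMem]
  intro t ht
  haveI : Fact t.Prime := ⟨ht.1⟩
  have hnil := Cfsg.Agent.Lib.Helper63.BG13.nilpotent_sigmaCore_of_tau2 hG c.hM ht
  have h1 := normalizer_le_normalizer_sylow_of_nilpotent hnil P (Cfg.le_sigmaCore hG c)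
  have hMN : M ≤ N := (Cfsg.Agent.Lib.Helper24.BG.le_normalizer_sigmaCore M).trans
    (h1.trans (Cfsg.Agent.Lib.Helper22.BG139.normalizer_le_right c))
  have hNM : N = M := (c.hM.le_iff_eq c.hN.1).mp hMN
  exact Cfsg.Agent.Lib.Helper22.BG139.ne_of_cfg c hNM.symm

/-- **B&G Theorem 13.9.** -/
theorem s1378_final (hG : IsMinSimpleOddOrder G) :
    (∀ p : ℕ, p.Prime → p ∣ Nat.card G → ∃ M : Subgroup G, IsCoatom M ∧ p ∈ sigma M) ∧
      ∀ M N : Subgroup G, IsCoatom M → IsCoatom N → (sigma M ∩ sigma N).Nonempty →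
        ∃ g : G, N = M.map (MulAut.conj g).toMonoidHom :=
  s1378_of hG
    (fun M hM E hE p hp P hPE hP R hRE hR =>
      Cfsg.Agent.S1428.result hG M hM E hE p hp P hPE hP R hRE hR)
    (fun _ _ _ _ _ c => Cfg.inf_eq hG c) (fun _ _ _ _ _ c => Cfg.abelian hG c)
    (fun _ _ _ _ _ c => Cfg.le_sigmaCore hG c) (fun _ _ _ _ _ c => Cfg.tau2_empty hG c)

end Cfsg.Agent.Lib.Helper48.BG139
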