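import Cfsg.Agent.S1404
import Cfsg.Agent.S1423
import Cfsg.Agent.Lib.Helper19.BG124a
import Cfsg.Agent.Lib.Helper48.TICount

/-!
# The TI step of the final count in B&G 13.9

`mem_of_conj_beta` : a non-identity element `k ∈ M` all of whose prime divisors lie in `β(M)`
and a `g` with `g k g⁻¹ ∈ M` force `g ∈ M` (S1404 + S1423).

`ti_step` : for `T, K ≤ M` commuting of coprime orders, `K` a `β(M)`-group, `T ⊓ M' = ⊥`,
`C_M(t) ≤ T ⊔ K` for `t ∈ T#`: the set `T# K#` is TI with normalizer `T ⊔ K`.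
-/

set_option linter.style.haveILetI false

universe u

namespace Cfsg.Agent.Lib.Helper48.TIStep

open Subgroup Cfsg Cfsg.Agent.Lib.Helper48.TICount
open scoped commutatorElement

variable {G : Type u} [Group G] [Finite G]

theorem beta_subset_sigma (hG : IsMinSimpleOddOrder G) {M : Subgroup G} (hM : IsCoatom M)
    {s : ℕ} (hs : s ∈ beta M) : s ∈ sigma M :=
  Cfsg.Agent.Lib.Helper23.alpha_subset_sigma hG (Cfsg.Agent.Lib.Helper19.BG124.uniqStmt hG) hM hs.1

theorem mem_of_conj_beta (hG : IsMinSimpleOddOrder G) {M : Subgroup G} (hM : IsCoatom M)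
    {k : G} (hkM : k ∈ M) (hk1 : k ≠ 1)
    (hkβ : ∀ s : ℕ, s.Prime → s ∣ orderOf k → s ∈ beta M)
    {g : G} (hg : g * k * g⁻¹ ∈ M) : g ∈ M := by
  classical
  have hord : orderOf k ≠ 1 := by
    intro h; exact hk1 (orderOf_eq_one_iff.mp h)
  obtain ⟨s, hs, hsd⟩ := Nat.exists_prime_and_dvd hord
  haveI : Fact s.Prime := ⟨hs⟩
  have hsβ := hkβ s hs hsd
  have hsσ := beta_subset_sigma hG hM hsβ
  -- element of order s
  set y : G := k ^ (orderOf k / s) with hy
  have hyo : orderOf y = s := by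
    rw [hy]
    exact orderOf_pow_orderOf_div (orderOf_pos k).ne' hsd
  have hyM : y ∈ M := M.pow_mem hkM _
  have hgy : g * y * g⁻¹ ∈ M := by
    have : g * y * g⁻¹ = (g * k * g⁻¹) ^ (orderOf k / s) := by
      rw [hy, conj_pow]
    rw [this]; exact M.pow_mem hg _
  let X : Subgroup G := zpowers y
  have hXc : Nat.card X = s := by
    rw [Nat.card_zpowers, hyo]
  have hXM : X ≤ M := by
    rw [zpowers_le]; exact hyM
  have hXp : IsPGroup s X := IsPGroup.of_card (n := 1) (by rw [hXc, pow_one])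
  have hX1 : X ≠ ⊥ := by
    intro h
    have : Nat.card X = 1 := by rw [h]; exact Subgroup.card_bot
    rw [hXc] at this
    exact hs.one_lt.ne' this
  have hXg : X.map (MulAut.conj g).toMonoidHom ≤ M := by
    rw [MonoidHom.map_zpowers, zpowers_le]
    simpa [MulAut.conj_apply] using hgy
  obtain ⟨m, hm, c, hc, rfl⟩ :=
    (Cfsg.Agent.S1404.result hG M hM s hsσ X hXp hX1 hXM).1 g hXg
  obtain ⟨P⟩ : Nonempty (Sylow s ↥(sigmaCore M)) := inferInstance
  have h23 := (Cfsg.Agent.S1423.result hG M hM s hsσ X hXM hXc P (Or.inl hsβ)).1.1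
  exact M.mul_mem hm (h23 hc)

/-- The TI step: `T# K#` is a TI-subset with normalizer `T ⊔ K`. -/
theorem ti_step (hG : IsMinSimpleOddOrder G) {M T K : Subgroup G} (hM : IsCoatom M)
    (hTM : T ≤ M) (hKM : K ≤ M)
    (hc : ∀ t ∈ T, ∀ k ∈ K, t * k = k * t)
    (hcop : (Nat.card T).Coprime (Nat.card K))
    (hKβ : ∀ s : ℕ, s.Prime → s ∣ Nat.card K → s ∈ beta M)
    (hTder : T ⊓ ⁅M, M⁆ = ⊥)
    (hcent : ∀ t ∈ T, t ≠ 1 → M ⊓ centralizer ({t} : Set G) ≤ T ⊔ K) :
    ∀ z ∈ prodSharp T K, ∀ g : G, g * z * g⁻¹ ∈ prodSharp T K → g ∈ T ⊔ K := by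
  classical
  rintro z ⟨t, ht, ht1, k, hk, hk1, rfl⟩ g ⟨t', ht', ht1', k', hk', hk1', hconj⟩
  -- orders
  have hcopo : ∀ a ∈ T, ∀ b ∈ K, (orderOf a).Coprime (orderOf b) := by
    intro a ha b hb
    exact Nat.Coprime.coprime_dvd_left (Subgroup.orderOf_dvd_natCard T ha)
      (Nat.Coprime.coprime_dvd_right (Subgroup.orderOf_dvd_natCard K hb) hcop)
  -- the exponent `n = |T|` kills the `T`-part
  set n := Nat.card T with hn
  have htn : ∀ a ∈ T, a ^ n = 1 := fun a ha => by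
    rw [hn]
    have := pow_card_eq_one' (G := T) (x := ⟨a, ha⟩)
    exact congrArg Subtype.val this
  -- (t k)^n = k^n, (t' k')^n = k'^n
  have e1 : (t * k) ^ n = k ^ n := by
    rw [(show Commute t k from hc t ht k hk).mul_pow, htn t ht, one_mul]
  have e2 : (t' * k') ^ n = k' ^ n := by
    rw [(show Commute t' k' from hc t' ht' k' hk').mul_pow, htn t' ht', one_mul]
  have e3 : g * k ^ n * g⁻¹ = k' ^ n := by
    rw [← e1, ← e2, ← hconj, conj_pow]
  -- k^n ≠ 1
  have hkn1 : k ^ n ≠ 1 := by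
    intro h
    have h1 : orderOf k ∣ n := orderOf_dvd_of_pow_eq_one h
    have h2 : orderOf k ∣ Nat.card K := Subgroup.orderOf_dvd_natCard K hk
    have h3 : orderOf k ∣ Nat.gcd n (Nat.card K) := Nat.dvd_gcd h1 h2
    rw [hn, hcop.gcd_eq_one] at h3
    exact hk1 (orderOf_eq_one_iff.mp (Nat.dvd_one.mp h3))
  have hknM : k ^ n ∈ M := M.pow_mem (hKM hk) _
  have hknβ : ∀ s : ℕ, s.Prime → s ∣ orderOf (k ^ n) → s ∈ beta M := by
    intro s hs hsd
    apply hKβ s hs
    exact dvd_trans hsd (Subgroup.orderOf_dvd_natCard K (K.pow_mem hk _))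
  have hgM : g ∈ M := by
    apply mem_of_conj_beta hG hM hknM hkn1 hknβ
    rw [e3]; exact M.pow_mem (hKM hk') _
  -- now the T-parts: use exponent m = |K|
  set m := Nat.card K with hm
  have hkm : ∀ b ∈ K, b ^ m = 1 := fun b hb => by
    rw [hm]
    have := pow_card_eq_one' (G := K) (x := ⟨b, hb⟩)
    exact congrArg Subtype.val this
  have f1 : (t * k) ^ m = t ^ m := by
    rw [(show Commute t k from hc t ht k hk).mul_pow, hkm k hk, mul_one]
  have f2 : (t' * k') ^ m = t' ^ m := by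
    rw [(show Commute t' k' from hc t' ht' k' hk').mul_pow, hkm k' hk', mul_one]
  have f3 : g * t ^ m * g⁻¹ = t' ^ m := by
    rw [← f1, ← f2, ← hconj, conj_pow]
  -- commutator [g, t^m] ∈ T ∩ M' = 1
  have htmT : t ^ m ∈ T := T.pow_mem ht _
  have hcomm : g * t ^ m * g⁻¹ * (t ^ m)⁻¹ ∈ T ⊓ ⁅M, M⁆ := by
    refine mem_inf.mpr ⟨?_, ?_⟩
    · rw [f3]; exact T.mul_mem (T.pow_mem ht' _) (T.inv_mem htmT)
    · have : g * t ^ m * g⁻¹ * (t ^ m)⁻¹ = ⁅g, t ^ m⁆ := by
        rw [commutatorElement_def]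
      rw [this]
      exact commutator_mem_commutator hgM (hTM htmT)
  rw [hTder, mem_bot] at hcomm
  have hgc : g * t ^ m = t ^ m * g := by
    have : g * t ^ m * g⁻¹ = t ^ m := by
      have := hcomm
      rwa [mul_inv_eq_one] at this
    calc g * t ^ m = g * t ^ m * g⁻¹ * g := by group
      _ = t ^ m * g := by rw [this]
  have htm1 : t ^ m ≠ 1 := by
    intro h
    have h1 : orderOf t ∣ m := orderOf_dvd_of_pow_eq_one h
    have h2 : orderOf t ∣ Nat.card T := Subgroup.orderOf_dvd_natCard T ht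
    have h3 : orderOf t ∣ Nat.gcd (Nat.card T) m := Nat.dvd_gcd h2 h1
    rw [hm, hcop.gcd_eq_one] at h3
    exact ht1 (orderOf_eq_one_iff.mp (Nat.dvd_one.mp h3))
  apply hcent (t ^ m) htmT htm1
  refine mem_inf.mpr ⟨hgM, ?_⟩
  rw [mem_centralizer_iff]
  intro x hx
  rw [Set.mem_singleton_iff] at hx
  subst hx
  exact hgc.symm

end Cfsg.Agent.Lib.Helper48.TIStep
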