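import Mathlib
import Cfsg.Agent.S0660
import Cfsg.Agent.S4381
import Cfsg.Agent.Lib.Helper46.Subnormal

set_option autoImplicit false
set_option linter.unusedSectionVars false
set_option linter.style.haveILetI false
set_option linter.deprecated false
set_option linter.unusedVariables false

/-!
# Maschke's theorem for an elementary abelian section `K / M` of a finite group, in ambient form
-/

namespace Cfsg.Agent.Lib.Helper48

open Subgroup
open scoped commutatorElement

open scoped IsMulCommutative in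
/-- Let `M ⊴ G`, `M ≤ U ≤ K` with `K / M` an elementary abelian `t`-group, and let `A` be a subgroup of
order prime to `t` normalizing `K` and `U`. Then `U / M` has an `A`-invariant complement `X / M`
in `K / M`. -/
theorem exists_invariant_complement_section {G : Type*} [Group G] [Finite G] (t : ℕ) [Fact t.Prime]
    (A K M U : Subgroup G) [hMn : M.Normal] (hMU : M ≤ U) (hUK : U ≤ K)
    (hAK : A ≤ normalizer (K : Set G)) (hAU : A ≤ normalizer (U : Set G))
    (hcomm : ⁅K, K⁆ ≤ M) (hpow : ∀ x ∈ K, x ^ t ∈ M) (hcop : (Nat.card A).Coprime t) :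
    ∃ X : Subgroup G, M ≤ X ∧ X ≤ K ∧ A ≤ normalizer (X : Set G) ∧ U ⊓ X = M ∧ U ⊔ X = K := by
  classical
  set π := QuotientGroup.mk' M with hπ
  have hπs : Function.Surjective π := QuotientGroup.mk'_surjective M
  have hker : ∀ x : G, π x = 1 ↔ x ∈ M := fun x => QuotientGroup.eq_one_iff x
  set Kb := K.map π with hKb
  set Ub := U.map π with hUb
  have hUKb : Ub ≤ Kb := Subgroup.map_mono hUK
  -- Kb is elementary abelian
  have hKbcomm : ∀ x ∈ Kb, ∀ y ∈ Kb, x * y = y * x := by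
    rintro _ ⟨k₁, hk₁, rfl⟩ _ ⟨k₂, hk₂, rfl⟩
    have h1 : ⁅k₁, k₂⁆ ∈ M := hcomm (Subgroup.commutator_mem_commutator hk₁ hk₂)
    have h2 : π ⁅k₁, k₂⁆ = 1 := (hker _).mpr h1
    rw [map_commutatorElement, commutatorElement_eq_one_iff_mul_comm] at h2
    exact h2
  haveI : IsMulCommutative Kb :=
    Subgroup.le_centralizer_iff_isMulCommutative.mp (fun x hx y hy => hKbcomm y hy x hx)
  have hexp : ∀ x : Kb, x ^ t = 1 := by
    rintro ⟨_, ⟨k, hk, rfl⟩⟩
    apply Subtype.ext
    simp only [SubgroupClass.coe_pow, OneMemClass.coe_one]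
    rw [← map_pow]
    exact (hker _).mpr (hpow k hk)
  have hKbp : IsPGroup t Kb := fun x => ⟨1, by rw [pow_one]; exact hexp x⟩
  have hcop' : (Nat.card A).Coprime (Nat.card Kb) := by
    obtain ⟨n, hn⟩ := IsPGroup.iff_card.mp hKbp
    rw [hn]
    exact Nat.Coprime.pow_right _ hcop
  -- the action
  have hnorm : ∀ a : A, π (a : G) ∈ normalizer (Kb : Set (G ⧸ M)) := fun a =>
    Subgroup.le_normalizer_map π (Subgroup.mem_map_of_mem π (hAK a.2))
  have hnormU : ∀ a : A, π (a : G) ∈ normalizer (Ub : Set (G ⧸ M)) := fun a =>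
    Subgroup.le_normalizer_map π (Subgroup.mem_map_of_mem π (hAU a.2))
  let φ : A → (↥Kb →* ↥Kb) := fun a => Cfsg.Agent.S0660.conjHom Kb (π (a : G)) (hnorm a)
  have hφ1 : ∀ v, φ 1 v = v := by
    intro v; ext; simp [φ, Cfsg.Agent.S0660.conjHom_coe]
  have hφmul : ∀ a b v, φ (a * b) v = φ a (φ b v) := by
    intro a b v; ext; simp [φ, Cfsg.Agent.S0660.conjHom_coe, mul_assoc]
  have hU : ∀ a, ∀ u ∈ Ub.subgroupOf Kb, φ a u ∈ Ub.subgroupOf Kb := by
    intro a u hu
    rw [Subgroup.mem_subgroupOf] at hu ⊢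
    rw [Cfsg.Agent.S0660.conjHom_coe]
    exact (Subgroup.mem_normalizer_iff.mp (hnormU a) _).mp hu
  obtain ⟨W', hW1, hW2, hW3⟩ :=
    Cfsg.Agent.S4381.exists_inv_compl t hexp φ hφ1 hφmul hcop' (Ub.subgroupOf Kb) hU
  refine ⟨(W'.map Kb.subtype).comap π, ?_, ?_, ?_, ?_, ?_⟩
  · intro m hm
    rw [Subgroup.mem_comap, (hker m).mpr hm]
    exact Subgroup.one_mem _
  · intro x hx
    rw [Subgroup.mem_comap] at hx
    obtain ⟨w, _, hwx⟩ := hx
    obtain ⟨k, hk, hkw⟩ := w.2
    have h1 : π (k⁻¹ * x) = 1 := by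
      rw [map_mul, map_inv, hkw, ← hwx]
      simp
    have h2 : k⁻¹ * x ∈ K := hUK (hMU ((hker _).mp h1))
    have : x = k * (k⁻¹ * x) := by group
    rw [this]
    exact K.mul_mem hk h2
  · apply Cfsg.Agent.Lib.Helper46.le_normalizer_of_conj_mem
    intro a ha x hx
    rw [Subgroup.mem_comap] at hx ⊢
    obtain ⟨w, hw, hwx⟩ := hx
    refine ⟨φ ⟨a, ha⟩ w, hW1 ⟨a, ha⟩ w hw, ?_⟩
    simp only [Subgroup.coe_subtype] at hwx ⊢
    rw [Cfsg.Agent.S0660.conjHom_coe, hwx, map_mul, map_mul, map_inv]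
  · apply le_antisymm
    · intro x hx
      have hxU : x ∈ U := hx.1
      have hxX : x ∈ (W'.map Kb.subtype).comap π := hx.2
      rw [Subgroup.mem_comap] at hxX
      obtain ⟨w, hw, hwx⟩ := hxX
      simp only [Subgroup.coe_subtype] at hwx
      have hwU : w ∈ Ub.subgroupOf Kb := by
        rw [Subgroup.mem_subgroupOf, hwx]
        exact Subgroup.mem_map_of_mem π hxU
      have : w ∈ Ub.subgroupOf Kb ⊓ W' := ⟨hwU, hw⟩
      rw [hW2, Subgroup.mem_bot] at this
      rw [this] at hwx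
      exact (hker x).mp hwx.symm
    · apply le_inf hMU
      intro m hm
      rw [Subgroup.mem_comap, (hker m).mpr hm]
      exact Subgroup.one_mem _
  · apply le_antisymm
    · apply sup_le hUK
      intro x hx
      rw [Subgroup.mem_comap] at hx
      obtain ⟨w, _, hwx⟩ := hx
      obtain ⟨k, hk, hkw⟩ := w.2
      have h1 : π (k⁻¹ * x) = 1 := by
        rw [map_mul, map_inv, hkw, ← hwx]
        simp
      have h2 : k⁻¹ * x ∈ K := hUK (hMU ((hker _).mp h1))
      have : x = k * (k⁻¹ * x) := by group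
      rw [this]
      exact K.mul_mem hk h2
    · intro k hk
      have hkb : π k ∈ Kb := Subgroup.mem_map_of_mem π hk
      have hmem : (⟨π k, hkb⟩ : Kb) ∈ Ub.subgroupOf Kb ⊔ W' := by rw [hW3]; trivial
      obtain ⟨u, hu, w, hw, huw⟩ := Subgroup.mem_sup.mp hmem
      rw [Subgroup.mem_subgroupOf] at hu
      obtain ⟨u₀, hu₀, hu₀u⟩ := hu
      obtain ⟨x₀, hx₀⟩ := hπs (w : G ⧸ M)
      have hx₀X : x₀ ∈ (W'.map Kb.subtype).comap π := by
        rw [Subgroup.mem_comap]
        exact ⟨w, hw, hx₀.symm⟩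
      have h3 : π k = π u₀ * π x₀ := by
        rw [hu₀u, hx₀]
        have := congrArg Subtype.val huw
        simpa using this.symm
      have h4 : π ((u₀ * x₀)⁻¹ * k) = 1 := by
        rw [map_mul, map_inv, map_mul, h3]
        group
      have h5 : (u₀ * x₀)⁻¹ * k ∈ M := (hker _).mp h4
      have h6 : k = u₀ * (x₀ * ((u₀ * x₀)⁻¹ * k)) := by group
      rw [h6]
      apply Subgroup.mul_mem_sup hu₀
      apply Subgroup.mul_mem _ hx₀X
      rw [Subgroup.mem_comap, (hker _).mpr h5]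
      exact Subgroup.one_mem _

end Cfsg.Agent.Lib.Helper48
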