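import Mathlib
import Cfsg.Agent.Lib.Helper2.BGLin
import Cfsg.Agent.Lib.Helper99.SympForm

/-! # Definitions for the S5955 hive (helper48): invariant totally isotropic subspaces -/

set_option autoImplicit false

namespace Cfsg.Agent.Lib.Helper48.Ti

open Polynomial Module
open Cfsg.Agent.Lib.Helper2.BG Cfsg.Agent.Lib.Helper99

section defs

variable {F V : Type*} [Field F] [AddCommGroup V] [Module F V]

/-- totally isotropic subspace -/
def TI (B : V →ₗ[F] V →ₗ[F] F) (W : Submodule F V) : Prop :=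
  ∀ u ∈ W, ∀ v ∈ W, B u v = 0

/-- isometry of a bilinear form -/
def Isom (B : V →ₗ[F] V →ₗ[F] F) (f : Module.End F V) : Prop :=
  ∀ u v, B (f u) (f v) = B u v

/-- there is an `f`-invariant totally isotropic subspace of dimension `m` inside `Z` -/
def Good (B : V →ₗ[F] V →ₗ[F] F) (f : Module.End F V) (Z : Submodule F V) (m : ℕ) : Prop :=
  ∃ U : Submodule F V, U ≤ Z ∧ Inv f U ∧ TI B U ∧ Module.finrank F U = m

/-- `P` has at most `τ` monic irreducible factors -/
def FactorBound (P : F[X]) (τ : ℕ) : Prop :=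
  ∀ S : Finset F[X], (∀ g ∈ S, Irreducible g ∧ g.Monic ∧ g ∣ P) → S.card ≤ τ

end defs

end Cfsg.Agent.Lib.Helper48.Ti
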