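import Mathlib
import Cfsg.Agent.Lib.Helper9.SimpleSmall
import Cfsg.Agent.Lib.Helper5.Order60
import Cfsg.Agent.Lib.Helper17.SylowTools

/-!
# Small-order facts used for the recognition of `SL(2,5)`

* `exists_normal_of_not_simple`
* `solvable_of_card_lt_sixty` : groups of order `< 60` are solvable
* `simple_of_card_sixty` : a non-solvable group of order `60` is simple
* `not_simple_of_card_120` : there is no simple group of order `120`
-/

set_option autoImplicit false

universe u

namespace Cfsg.Agent.Lib.Helper48.O120

theorem exists_normal_of_not_simple {H : Type*} [Group H] [Nontrivial H]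
    (h : ¬ IsSimpleGroup H) : ∃ M : Subgroup H, M.Normal ∧ M ≠ ⊥ ∧ M ≠ ⊤ := by
  by_contra hcon
  push Not at hcon
  exact h
    { exists_pair_ne := exists_pair_ne H
      eq_bot_or_eq_top_of_normal := fun M hM => by
        by_cases hb : M = ⊥
        · exact Or.inl hb
        · exact Or.inr (hcon M hM hb) }

theorem card_lt_of_normal {H : Type*} [Group H] [Finite H] (M : Subgroup H)
    (hb : M ≠ ⊥) (ht : M ≠ ⊤) :
    Nat.card M < Nat.card H ∧ Nat.card (H ⧸ M) < Nat.card H ∧
      Nat.card (H ⧸ M) * Nat.card M = Nat.card H ∧ 1 < Nat.card M ∧ 1 < Nat.card (H ⧸ M) := by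
  have h1 : 1 < Nat.card M := M.one_lt_card_iff_ne_bot.mpr hb
  have h2 : Nat.card (H ⧸ M) ≠ 1 := fun h => ht (Subgroup.index_eq_one.mp h)
  have h3 : Nat.card (H ⧸ M) ≠ 0 := Nat.card_pos.ne'
  have h4 := (Subgroup.card_eq_card_quotient_mul_card_subgroup M).symm
  have h5 : 1 < Nat.card (H ⧸ M) := by omega
  refine ⟨?_, ?_, h4, h1, h5⟩ <;> nlinarith

theorem solvable_of_normal {H : Type*} [Group H] (M : Subgroup H) [M.Normal]
    (h1 : Group.IsSolvable M) (h2 : Group.IsSolvable (H ⧸ M)) : Group.IsSolvable H :=
  (Group.isSolvable_iff_subgroup_quotient M).mpr ⟨h1, h2⟩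

theorem solvable_of_card_lt_sixty : ∀ (n : ℕ) (H : Type u) [Group H] [Finite H],
    Nat.card H = n → n < 60 → Group.IsSolvable H := by
  intro n
  induction n using Nat.strong_induction_on with
  | _ n ih =>
    intro H _ _ hn hlt
    by_cases hsub : Subsingleton H
    · exact inferInstance
    have : Nontrivial H := not_subsingleton_iff_nontrivial.mp hsub
    by_cases hs : IsSimpleGroup H
    · have hcyc : IsCyclic H := by
        by_contra hnc
        have := Cfsg.Agent.Lib.Helper9.card_eq_sixty_of_simple_le_hundred hnc (by omega)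
        omega
      exact Group.isSolvable_of_comm (fun a b => (IsCyclic.commGroup (α := H)).mul_comm a b)
    · obtain ⟨M, hMn, hMb, hMt⟩ := exists_normal_of_not_simple hs
      obtain ⟨h1, h2, -, -, -⟩ := card_lt_of_normal M hMb hMt
      have s1 : Group.IsSolvable M := ih _ (hn ▸ h1) M rfl (by omega)
      have s2 : Group.IsSolvable (H ⧸ M) := ih _ (hn ▸ h2) (H ⧸ M) rfl (by omega)
      exact solvable_of_normal M s1 s2

theorem simple_of_card_sixty {H : Type u} [Group H] [Finite H] (h : Nat.card H = 60)
    (hns : ¬ Group.IsSolvable H) : IsSimpleGroup H := by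
  by_contra hs
  have : Nontrivial H := (Finite.one_lt_card_iff_nontrivial).mp (by rw [h]; norm_num)
  obtain ⟨M, hMn, hMb, hMt⟩ := exists_normal_of_not_simple hs
  obtain ⟨h1, h2, -, -, -⟩ := card_lt_of_normal M hMb hMt
  have s1 : Group.IsSolvable M := solvable_of_card_lt_sixty _ M rfl (by omega)
  have s2 : Group.IsSolvable (H ⧸ M) := solvable_of_card_lt_sixty _ (H ⧸ M) rfl (by omega)
  exact hns (solvable_of_normal M s1 s2)

open Cfsg.Agent.Lib.Helper17 in
/-- There is no simple group of order `120`. -/
theorem not_simple_of_card_120 {G : Type*} [Group G] [Finite G] [IsSimpleGroup G]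
    (h : Nat.card G = 120) : False := by
  classical
  have : Fact (Nat.Prime 5) := ⟨by norm_num⟩
  have hnc : ¬ IsMulCommutative G := not_comm_of_simple_of_not_prime (by rw [h]; norm_num)
  let P : Sylow 5 G := default
  have hP : Nat.card (P : Subgroup G) = 5 := by
    have hG' : Nat.card G = 5 ^ 1 * 24 := by rw [h]; norm_num
    simpa using card_sylow_of_card_eq P hG' (by norm_num)
  have hidx : (P : Subgroup G).index = 24 := by
    have := (P : Subgroup G).card_mul_index
    rw [hP, h] at this
    omega
  have hn5 : Nat.card (Sylow 5 G) = 6 := by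
    have h1 : Nat.card (Sylow 5 G) ≡ 1 [MOD 5] := card_sylow_modEq_one 5 G
    have h2 : Nat.card (Sylow 5 G) ∣ 24 := hidx ▸ Sylow.card_dvd_index P
    have h3 : Nat.card (Sylow 5 G) ≠ 1 := by
      intro h1'
      have hnorm : (P : Subgroup G).Normal := by
        have : Subsingleton (Sylow 5 G) := (Nat.card_eq_one_iff_unique.mp h1').1
        exact Sylow.normal_of_subsingleton P
      rcases hnorm.eq_bot_or_eq_top with hb | ht
      · rw [hb, Subgroup.card_bot] at hP; omega
      · rw [ht, Subgroup.card_top, h] at hP; omega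
    have h4 : Nat.card (Sylow 5 G) ≤ 24 := Nat.le_of_dvd (by norm_num) h2
    generalize Nat.card (Sylow 5 G) = k at *
    unfold Nat.ModEq at h1
    interval_cases k <;> omega
  haveI : Fintype (Sylow 5 G) := Fintype.ofFinite _
  let f : G →* Equiv.Perm (Sylow 5 G) := MulAction.toPermHom G (Sylow 5 G)
  have hf : Function.Injective f := by
    rw [← MonoidHom.ker_eq_bot_iff]
    rcases ker_eq_bot_or_top f with hb | ht
    · exact hb
    · exfalso
      -- the action is trivial, but transitive on six points
      have htriv : ∀ (g : G) (Q : Sylow 5 G), g • Q = Q := by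
        intro g Q
        have hg : g ∈ f.ker := ht ▸ Subgroup.mem_top g
        have := congrArg (fun σ => σ Q) (MonoidHom.mem_ker.mp hg)
        simpa [f] using this
      have : Subsingleton (Sylow 5 G) := by
        constructor
        intro Q1 Q2
        obtain ⟨g, hg⟩ := MulAction.exists_smul_eq G Q1 Q2
        rw [← hg, htriv]
      have := Finite.card_le_one_iff_subsingleton.mpr this
      omega
  obtain ⟨φ, hφ⟩ := exists_embedding_alternating hnc f hf
  have h5 : 5 ≤ Nat.card (Sylow 5 G) := by omega
  have : IsSimpleGroup (alternatingGroup (Sylow 5 G)) := alternatingGroup.isSimpleGroup h5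
  have : Nontrivial (Sylow 5 G) := (Finite.one_lt_card_iff_nontrivial).mp (by omega)
  have hA : Nat.card (alternatingGroup (Sylow 5 G)) = 360 := by
    rw [nat_card_alternatingGroup, hn5]; rfl
  have hH : Nat.card φ.range = 120 := by
    rw [← h]
    exact Nat.card_congr (MonoidHom.ofInjective hφ).toEquiv.symm
  have hne : φ.range ≠ ⊤ := by
    intro ht
    rw [ht, Subgroup.card_top, hA] at hH
    omega
  have hinj := toPermHom_injective φ.range hne
  have hidx3 : Nat.card (alternatingGroup (Sylow 5 G) ⧸ φ.range) = 3 := by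
    have := Subgroup.card_eq_card_quotient_mul_card_subgroup φ.range
    rw [hA, hH] at this
    omega
  have hle := Nat.card_le_card_of_injective _ hinj
  rw [hA, Nat.card_perm, hidx3] at hle
  norm_num [Nat.factorial] at hle

end Cfsg.Agent.Lib.Helper48.O120
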