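import Mathlib
import Cfsg.Agent.S3377
import Cfsg.Agent.Lib.Helper38.SLCard

/-!
# The group `SL(2,5)` and its `(3,5,2)` presentation with a central involution

* `card_le`: a group generated by `x, y` with `x^3 = y^5 = 1`, `(x*y)^2 = z` central of
  square one has at most `120` elements.
* `genA, genB`: explicit generators of `SL(2,5)`; `closure_gen`: they generate.
-/

set_option autoImplicit false

namespace Cfsg.Agent.Lib.Helper48.SL25

/-- A group generated by `x, y` with `x^3 = y^5 = 1`, `(x*y)^2 = z`, `z` central with `z^2 = 1`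
has at most `120` elements. -/
theorem card_le {G : Type*} [Group G] (x y z : G) (hx : x ^ 3 = 1) (hy : y ^ 5 = 1)
    (hz : z ^ 2 = 1) (hzx : z * x = x * z) (hzy : z * y = y * z) (hxy : (x * y) ^ 2 = z)
    (hgen : Subgroup.closure {x, y} = ⊤) : Finite G ∧ Nat.card G ≤ 120 := by
  -- `z` is central
  have hzc : ∀ g : G, g * z = z * g := by
    have hle : Subgroup.closure {x, y} ≤ Subgroup.centralizer {z} := by
      rw [Subgroup.closure_le]
      rintro g (rfl | rfl)
      · exact Subgroup.mem_centralizer_singleton_iff.mpr hzx.symm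
      · exact Subgroup.mem_centralizer_singleton_iff.mpr hzy.symm
    intro g
    have hg : g ∈ Subgroup.centralizer {z} := hle (hgen ▸ Subgroup.mem_top g)
    exact Subgroup.mem_centralizer_singleton_iff.mp hg
  let N : Subgroup G := Subgroup.zpowers z
  have hNc : ∀ n ∈ N, ∀ g : G, g * n = n * g := by
    intro n hn g
    obtain ⟨k, rfl⟩ := Subgroup.mem_zpowers_iff.mp hn
    exact ((Commute.zpow_right (hzc g) k)).eq
  have hNn : N.Normal := ⟨fun n hn g => by
    rw [hNc n hn g, mul_inv_cancel_right]; exact hn⟩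
  have hNcard : Nat.card N ≤ 2 := by
    rw [Nat.card_zpowers]
    exact Nat.le_of_dvd (by norm_num) (orderOf_dvd_of_pow_eq_one hz)
  have hNfin : Finite N := by
    have hfo : IsOfFinOrder z := isOfFinOrder_iff_pow_eq_one.mpr ⟨2, by norm_num, hz⟩
    apply Nat.finite_of_card_ne_zero
    rw [Nat.card_zpowers]
    exact (orderOf_pos_iff.mpr hfo).ne'
  -- the quotient
  let π : G →* G ⧸ N := QuotientGroup.mk' N
  have h1 : (π x) ^ 3 = 1 := by rw [← map_pow, hx, map_one]
  have h2 : (π y) ^ 5 = 1 := by rw [← map_pow, hy, map_one]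
  have h3 : (π x * π y) ^ 2 = 1 := by
    rw [← map_mul, ← map_pow, hxy]
    exact (QuotientGroup.eq_one_iff z).mpr (Subgroup.mem_zpowers z)
  have h4 : Subgroup.closure {π x, π y} = ⊤ := by
    have := congrArg (Subgroup.map π) hgen
    rw [MonoidHom.map_closure, Subgroup.map_top_of_surjective π (QuotientGroup.mk'_surjective N)]
      at this
    rw [← this]
    congr 1
    ext w
    simp [Set.image_insert_eq]
  obtain ⟨hfin, hcard⟩ := Cfsg.Agent.S3377.card_le (π x) (π y) h1 h2 h3 h4
  have : Finite G := Finite.of_equiv _ (Subgroup.groupEquivQuotientProdSubgroup (s := N)).symm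
  refine ⟨inferInstance, ?_⟩
  rw [Subgroup.card_eq_card_quotient_mul_card_subgroup N]
  calc Nat.card (G ⧸ N) * Nat.card N ≤ 60 * 2 := Nat.mul_le_mul hcard hNcard
    _ = 120 := by norm_num

/-- five is prime -/
instance fact_five : Fact (Nat.Prime 5) := ⟨by norm_num⟩

/-- The group `SL(2,5)`. -/
abbrev SL25 := Matrix.SpecialLinearGroup (Fin 2) (ZMod 5)

/-- generator of order three -/
def genA : SL25 := ⟨!![0, -1; 1, -1], by decide⟩
/-- generator of order five -/
def genB : SL25 := ⟨!![1, 1; 0, 1], by decide⟩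

theorem genA_pow : genA ^ 3 = 1 := by decide
theorem genB_pow : genB ^ 5 = 1 := by decide
theorem genAB_sq : (genA * genB) ^ 2 = -1 := by decide
theorem neg_one_sq : (-1 : SL25) ^ 2 = 1 := by decide
theorem neg_one_genA : (-1 : SL25) * genA = genA * (-1) := by decide
theorem neg_one_genB : (-1 : SL25) * genB = genB * (-1) := by decide

theorem card_SL25 : Nat.card SL25 = 120 := by
  rw [Cfsg.Agent.Lib.Helper38.card_SL2]
  simp [ZMod.card]

/-- upper unitriangular element -/
def upper (t : ZMod 5) : SL25 := ⟨!![1, t; 0, 1], by simp [Matrix.det_fin_two]⟩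
/-- lower unitriangular element -/
def lower (t : ZMod 5) : SL25 := ⟨!![1, 0; t, 1], by simp [Matrix.det_fin_two]⟩

theorem upper_eq : ∀ t : ZMod 5, upper t = genB ^ t.val := by decide

theorem lower_eq : ∀ t : ZMod 5,
    lower t = (genA * genB) * genB ^ (-t).val * (genA * genB)⁻¹ := by decide

theorem decomp {F : Type*} [Field F] (a b c d : F) (h : a * d - b * c = 1) (hc : c ≠ 0) :
    (!![a, b; c, d] : Matrix (Fin 2) (Fin 2) F) =
      !![1, (a - 1) / c; 0, 1] * !![1, 0; c, 1] * !![1, (d - 1) / c; 0, 1] := by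
  rw [Matrix.mul_fin_two, Matrix.mul_fin_two]
  have e1 : (a - 1) / c * c = a - 1 := div_mul_cancel₀ _ hc
  have e2 : c * ((d - 1) / c) = d - 1 := mul_div_cancel₀ _ hc
  ext i j
  fin_cases i <;> fin_cases j
  · simp [e1]
  · simp [e1]
    field_simp
    linear_combination (-1 : F) * h
  · simp
  · simp [e2]

theorem upper_mem (H : Subgroup SL25) (hB : genB ∈ H) (t : ZMod 5) : upper t ∈ H := by
  rw [upper_eq]; exact H.pow_mem hB _

theorem lower_mem (H : Subgroup SL25) (hA : genA ∈ H) (hB : genB ∈ H) (t : ZMod 5) :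
    lower t ∈ H := by
  rw [lower_eq]
  exact H.mul_mem (H.mul_mem (H.mul_mem hA hB) (H.pow_mem hB _)) (H.inv_mem (H.mul_mem hA hB))

/-- `genA` and `genB` generate `SL(2,5)`. -/
theorem eq_top_of_mem (H : Subgroup SL25) (hA : genA ∈ H) (hB : genB ∈ H) : H = ⊤ := by
  rw [eq_top_iff]
  intro M _
  have key : ∀ M : SL25, M.1 1 0 ≠ 0 → M ∈ H := by
    intro M hc
    have hdet : M.1 0 0 * M.1 1 1 - M.1 0 1 * M.1 1 0 = 1 := by
      have := M.2; rwa [Matrix.det_fin_two] at this
    have hM : M = upper ((M.1 0 0 - 1) / M.1 1 0) * lower (M.1 1 0) *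
        upper ((M.1 1 1 - 1) / M.1 1 0) := by
      apply Subtype.ext
      rw [Matrix.SpecialLinearGroup.coe_mul, Matrix.SpecialLinearGroup.coe_mul]
      show M.1 = !![1, _; 0, 1] * !![1, 0; _, 1] * !![1, _; 0, 1]
      rw [← decomp _ _ _ _ hdet hc]
      exact Matrix.eta_fin_two M.1
    rw [hM]
    exact H.mul_mem (H.mul_mem (upper_mem H hB _) (lower_mem H hA hB _)) (upper_mem H hB _)
  by_cases hc : M.1 1 0 = 0
  · have h00 : M.1 0 0 ≠ 0 := by
      intro h0
      have := M.2
      rw [Matrix.det_fin_two, h0, hc] at this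
      simp at this
    have h1 : lower 1 * M ∈ H := by
      apply key
      rw [Matrix.SpecialLinearGroup.coe_mul]
      simp [lower, Matrix.mul_apply, Fin.sum_univ_two, hc, h00]
    have h2 := H.mul_mem (H.inv_mem (lower_mem H hA hB 1)) h1
    rwa [inv_mul_cancel_left] at h2
  · exact key M hc

theorem closure_gen : Subgroup.closure {genA, genB} = ⊤ :=
  eq_top_of_mem _ (Subgroup.subset_closure (by simp)) (Subgroup.subset_closure (by simp))

/-! ### The presentation -/

/-- the relators of the presentation -/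
def rels : Set (FreeGroup (Fin 3)) :=
  {FreeGroup.of (0 : Fin 3) ^ 3, FreeGroup.of (1 : Fin 3) ^ 5, FreeGroup.of (2 : Fin 3) ^ 2,
    (FreeGroup.of (2 : Fin 3))⁻¹ * FreeGroup.of 0 * FreeGroup.of 2 * (FreeGroup.of (0 : Fin 3))⁻¹,
    (FreeGroup.of (2 : Fin 3))⁻¹ * FreeGroup.of 1 * FreeGroup.of 2 * (FreeGroup.of (1 : Fin 3))⁻¹,
    (FreeGroup.of (0 : Fin 3) * FreeGroup.of 1) ^ 2 * (FreeGroup.of (2 : Fin 3))⁻¹}

/-- first generator -/
def gX : PresentedGroup rels := PresentedGroup.of 0
/-- second generator -/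
def gY : PresentedGroup rels := PresentedGroup.of 1
/-- third generator -/
def gZ : PresentedGroup rels := PresentedGroup.of 2

theorem gX_pow : gX ^ 3 = 1 := by
  have h : PresentedGroup.mk rels (FreeGroup.of (0 : Fin 3) ^ 3) = 1 :=
    PresentedGroup.one_of_mem (by simp [rels])
  rwa [map_pow] at h

theorem gY_pow : gY ^ 5 = 1 := by
  have h : PresentedGroup.mk rels (FreeGroup.of (1 : Fin 3) ^ 5) = 1 :=
    PresentedGroup.one_of_mem (by simp [rels])
  rwa [map_pow] at h

theorem gZ_pow : gZ ^ 2 = 1 := by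
  have h : PresentedGroup.mk rels (FreeGroup.of (2 : Fin 3) ^ 2) = 1 :=
    PresentedGroup.one_of_mem (by simp [rels])
  rwa [map_pow] at h

theorem gZ_gX : gZ * gX = gX * gZ := by
  have h : PresentedGroup.mk rels ((FreeGroup.of (2 : Fin 3))⁻¹ * FreeGroup.of 0 *
      FreeGroup.of 2 * (FreeGroup.of (0 : Fin 3))⁻¹) = 1 :=
    PresentedGroup.one_of_mem (by simp [rels])
  rw [map_mul, map_mul, map_mul, map_inv, map_inv] at h
  have h' : gZ⁻¹ * gX * gZ * gX⁻¹ = 1 := h
  calc gZ * gX = gZ * (gZ⁻¹ * gX * gZ * gX⁻¹) * gX := by rw [h', mul_one]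
    _ = gX * gZ := by group

theorem gZ_gY : gZ * gY = gY * gZ := by
  have h : PresentedGroup.mk rels ((FreeGroup.of (2 : Fin 3))⁻¹ * FreeGroup.of 1 *
      FreeGroup.of 2 * (FreeGroup.of (1 : Fin 3))⁻¹) = 1 :=
    PresentedGroup.one_of_mem (by simp [rels])
  rw [map_mul, map_mul, map_mul, map_inv, map_inv] at h
  have h' : gZ⁻¹ * gY * gZ * gY⁻¹ = 1 := h
  calc gZ * gY = gZ * (gZ⁻¹ * gY * gZ * gY⁻¹) * gY := by rw [h', mul_one]
    _ = gY * gZ := by group

theorem gXY_sq : (gX * gY) ^ 2 = gZ := by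
  have h : PresentedGroup.mk rels ((FreeGroup.of (0 : Fin 3) * FreeGroup.of 1) ^ 2 *
      (FreeGroup.of (2 : Fin 3))⁻¹) = 1 :=
    PresentedGroup.one_of_mem (by simp [rels])
  rw [map_mul, map_pow, map_mul, map_inv] at h
  have h' : (gX * gY) ^ 2 * gZ⁻¹ = 1 := h
  exact mul_inv_eq_one.mp h'

theorem closure_gXY : Subgroup.closure {gX, gY} = ⊤ := by
  rw [eq_top_iff, ← PresentedGroup.closure_range_of rels, Subgroup.closure_le]
  rintro _ ⟨i, rfl⟩
  have hX : gX ∈ Subgroup.closure {gX, gY} := Subgroup.subset_closure (by simp)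
  have hY : gY ∈ Subgroup.closure {gX, gY} := Subgroup.subset_closure (by simp)
  fin_cases i
  · exact hX
  · exact hY
  · show gZ ∈ _
    rw [← gXY_sq]
    exact Subgroup.pow_mem _ (Subgroup.mul_mem _ hX hY) 2

theorem pres_card_le : Finite (PresentedGroup rels) ∧ Nat.card (PresentedGroup rels) ≤ 120 :=
  card_le gX gY gZ gX_pow gY_pow gZ_pow gZ_gX gZ_gY gXY_sq closure_gXY

section hom
variable {G : Type*} [Group G] (x y z : G) (hx : x ^ 3 = 1) (hy : y ^ 5 = 1)
  (hz : z ^ 2 = 1) (hzx : z * x = x * z) (hzy : z * y = y * z) (hxy : (x * y) ^ 2 = z)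
include hx hy hz hzx hzy hxy

theorem rels_hold : ∀ r ∈ rels, FreeGroup.lift ![x, y, z] r = 1 := by
  intro r hr
  rcases hr with rfl | rfl | rfl | rfl | rfl | rfl
  · simpa using hx
  · simpa using hy
  · simpa using hz
  · simp only [map_mul, map_inv, FreeGroup.lift_apply_of]
    show z⁻¹ * x * z * x⁻¹ = 1
    rw [mul_assoc z⁻¹, ← hzx]; group
  · simp only [map_mul, map_inv, FreeGroup.lift_apply_of]
    show z⁻¹ * y * z * y⁻¹ = 1
    rw [mul_assoc z⁻¹, ← hzy]; group
  · simp only [map_mul, map_inv, map_pow, FreeGroup.lift_apply_of]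
    show (x * y) ^ 2 * z⁻¹ = 1
    rw [hxy, mul_inv_cancel]

/-- the homomorphism from the presented group attached to a `(3,5,2;z)` triple -/
def presHom : PresentedGroup rels →* G :=
  PresentedGroup.toGroup (rels_hold x y z hx hy hz hzx hzy hxy)

theorem presHom_gX : presHom x y z hx hy hz hzx hzy hxy gX = x :=
  PresentedGroup.toGroup.of _

theorem presHom_gY : presHom x y z hx hy hz hzx hzy hxy gY = y :=
  PresentedGroup.toGroup.of _

theorem presHom_bijective [Finite G] (hG : Nat.card G = 120)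
    (hgen : Subgroup.closure {x, y} = ⊤) :
    Function.Bijective (presHom x y z hx hy hz hzx hzy hxy) := by
  have hsurj : Function.Surjective (presHom x y z hx hy hz hzx hzy hxy) := by
    rw [← MonoidHom.range_eq_top, eq_top_iff, ← hgen, Subgroup.closure_le]
    intro g hg
    rcases hg with hg | hg
    · rw [hg]; exact ⟨gX, presHom_gX x y z hx hy hz hzx hzy hxy⟩
    · rw [Set.mem_singleton_iff.mp hg]; exact ⟨gY, presHom_gY x y z hx hy hz hzx hzy hxy⟩
  have := pres_card_le.1
  apply hsurj.bijective_of_nat_card_le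
  rw [hG]; exact pres_card_le.2

end hom

/-- the presented group is `SL(2,5)` -/
theorem presEquiv : Nonempty (PresentedGroup rels ≃* SL25) :=
  ⟨MulEquiv.ofBijective _ (presHom_bijective genA genB (-1) genA_pow genB_pow neg_one_sq
    neg_one_genA neg_one_genB genAB_sq card_SL25 closure_gen)⟩

/-- a finite group of order `120` generated by a `(3,5,2;z)` triple is `SL(2,5)` -/
theorem equiv_of_triple {G : Type*} [Group G] [Finite G] (hG : Nat.card G = 120) (x y z : G)
    (hx : x ^ 3 = 1) (hy : y ^ 5 = 1) (hz : z ^ 2 = 1) (hzx : z * x = x * z)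
    (hzy : z * y = y * z) (hxy : (x * y) ^ 2 = z) (hgen : Subgroup.closure {x, y} = ⊤) :
    Nonempty (G ≃* SL25) := by
  obtain ⟨e⟩ := presEquiv
  exact ⟨(MulEquiv.ofBijective _
    (presHom_bijective x y z hx hy hz hzx hzy hxy hG hgen)).symm.trans e⟩

end Cfsg.Agent.Lib.Helper48.SL25
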