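import Mathlib.GroupTheory.Sylow
import Mathlib.Algebra.Group.Subgroup.Pointwise
import Cfsg.Prelude.Def_EvenType

set_option autoImplicit false

namespace Cfsg.Agent.Lib.Helper48

open Subgroup
open scoped Pointwise

variable {G : Type*} [Group G]

theorem exists_orderOf_eq_of_ne_bot [Finite G] {p : ℕ} [Fact p.Prime] {Q : Subgroup G}
    (hQ : IsPGroup p Q) (hne : Q ≠ ⊥) : ∃ x ∈ Q, orderOf x = p := by
  have h1 : p ∣ Nat.card Q := by
    rcases hQ.card_eq_or_dvd with h | h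
    · exact absurd (Subgroup.card_eq_one.mp h) hne
    · exact h
  obtain ⟨x, hx⟩ := exists_prime_orderOf_dvd_card' p h1
  exact ⟨x, x.2, by rw [← hx, Subgroup.orderOf_coe]⟩

theorem not_pRankLE_zero_of_ne_bot [Finite G] {p : ℕ} [Fact p.Prime] {Q : Subgroup G}
    (hQ : IsPGroup p Q) (hne : Q ≠ ⊥) : ¬ Cfsg.PRankLE p 0 Q := by
  intro h
  obtain ⟨x, hxQ, hx⟩ := exists_orderOf_eq_of_ne_bot hQ hne
  have hp : p.Prime := Fact.out
  have h1 := h (Subgroup.zpowers (⟨x, hxQ⟩ : Q)) inferInstance (by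
    intro a ha
    obtain ⟨k, rfl⟩ := Subgroup.mem_zpowers_iff.mp ha
    have : (⟨x, hxQ⟩ : Q) ^ p = 1 := by
      apply Subtype.ext
      simp only [SubgroupClass.coe_pow, OneMemClass.coe_one]
      rw [← hx]; exact pow_orderOf_eq_one x
    rw [← zpow_natCast, ← zpow_mul, mul_comm, zpow_mul, zpow_natCast, this, one_zpow])
  rw [Nat.card_zpowers, Subgroup.orderOf_mk, hx, pow_zero] at h1
  exact absurd h1 (not_le.mpr hp.one_lt)

theorem ne_bot_of_not_pRankLE_zero {p : ℕ} {Q : Subgroup G}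
    (h : ¬ Cfsg.PRankLE p 0 Q) : Q ≠ ⊥ := by
  rintro rfl
  apply h
  intro A _ _
  have : Subsingleton (⊥ : Subgroup G) := inferInstance
  have : Subsingleton A := inferInstance
  simp [Nat.card_unique]

theorem normalizer_le_kGeneratedCore [Finite G] {p : ℕ} [Fact p.Prime] {P Q : Subgroup G}
    (hP : IsPGroup p P) (hQP : Q ≤ P) (hne : Q ≠ ⊥) :
    normalizer (Q : Set G) ≤ Cfsg.kGeneratedCore p 1 P := by
  unfold Cfsg.kGeneratedCore
  have hQ : IsPGroup p Q := hP.to_le hQP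
  exact le_iSup (fun Q : {Q : Subgroup G // Q ≤ P ∧ ¬ Cfsg.PRankLE p (1 - 1) Q} =>
    normalizer ((Q : Subgroup G) : Set G)) ⟨Q, hQP, by simpa using not_pRankLE_zero_of_ne_bot hQ hne⟩

theorem kGeneratedCore_one_le {p : ℕ} {P H : Subgroup G}
    (h : ∀ Q : Subgroup G, Q ≤ P → Q ≠ ⊥ → normalizer (Q : Set G) ≤ H) :
    Cfsg.kGeneratedCore p 1 P ≤ H := by
  unfold Cfsg.kGeneratedCore
  apply iSup_le
  rintro ⟨Q, hQP, hQ⟩
  exact h Q hQP (ne_bot_of_not_pRankLE_zero (by simpa using hQ))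

/-- Sylow conjugation inside a subgroup `H` containing a Sylow subgroup `P` of `G`. -/
theorem exists_conj_le_sylow [Finite G] {p : ℕ} [Fact p.Prime] {H : Subgroup G} (P : Sylow p G)
    (hP : (P : Subgroup G) ≤ H) {R : Subgroup G} (hR : IsPGroup p R) (hRH : R ≤ H) :
    ∃ h ∈ H, ∀ r ∈ R, h * r * h⁻¹ ∈ (P : Subgroup G) := by
  have hR' : IsPGroup p (R.subgroupOf H) := hR.comap_subtype
  obtain ⟨Q, hQ⟩ := hR'.exists_le_sylow
  obtain ⟨h, hh⟩ := MulAction.exists_smul_eq H Q (P.subtype hP)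
  refine ⟨h, h.2, ?_⟩
  intro r hr
  have h1 : (⟨r, hRH hr⟩ : H) ∈ (Q : Subgroup H) := hQ (by
    rw [Subgroup.mem_subgroupOf]; exact hr)
  have h2 : MulAut.conj h • (⟨r, hRH hr⟩ : H) ∈ MulAut.conj h • (Q : Subgroup H) :=
    Subgroup.smul_mem_pointwise_smul _ _ _ h1
  have h3 : MulAut.conj h • (Q : Subgroup H) = ((P.subtype hP : Sylow p H) : Subgroup H) := by
    rw [← hh]; rfl
  rw [h3, Sylow.coe_subtype, Subgroup.mem_subgroupOf] at h2
  simpa [MulAut.smul_def, MulAut.conj_apply] using h2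

/-- Classical data for a strongly `p`-embedded subgroup. -/
structure SEData (p : ℕ) (H : Subgroup G) (P : Sylow p G) : Prop where
  le : (P : Subgroup G) ≤ H
  ne_bot : (P : Subgroup G) ≠ ⊥
  norm_le : normalizer ((P : Subgroup G) : Set G) ≤ H
  cent_le : ∀ x ∈ (P : Subgroup G), orderOf x = p → centralizer ({x} : Set G) ≤ H

theorem centralizer_singleton_le_normalizer_zpowers (x : G) :
    centralizer ({x} : Set G) ≤ normalizer ((zpowers x : Subgroup G) : Set G) := by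
  intro g hg
  rw [Subgroup.mem_centralizer_singleton_iff] at hg
  rw [Subgroup.mem_normalizer_iff]
  intro y
  have hc : ∀ k : ℤ, g * x ^ k * g⁻¹ = x ^ k := by
    intro k
    have : Commute g (x ^ k) := (Commute.zpow_right hg k)
    rw [this.eq, mul_inv_cancel_right]
  constructor
  · intro hy
    obtain ⟨k, rfl⟩ := Subgroup.mem_zpowers_iff.mp hy
    rw [hc k]; exact Subgroup.zpow_mem_zpowers x k
  · intro hy
    obtain ⟨k, hk⟩ := Subgroup.mem_zpowers_iff.mp hy
    have : y = x ^ k := by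
      have h2 : g⁻¹ * (g * y * g⁻¹) * g = g⁻¹ * (x ^ k) * g := by rw [hk]
      have h3 : g⁻¹ * x ^ k * g = x ^ k := by
        have := hc k
        calc g⁻¹ * x ^ k * g = g⁻¹ * (g * x ^ k * g⁻¹) * g := by rw [this]
          _ = x ^ k := by group
      rw [h3] at h2
      rw [← h2]; group
    rw [this]; exact Subgroup.zpow_mem_zpowers x k

theorem zpowers_ne_bot_of_orderOf_eq_prime {p : ℕ} [hp : Fact p.Prime] {x : G} (hx : orderOf x = p) :
    (zpowers x : Subgroup G) ≠ ⊥ := by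
  intro h
  rw [Subgroup.zpowers_eq_bot] at h
  rw [h, orderOf_one] at hx
  exact hp.out.ne_one hx.symm

theorem isPGroup_zpowers_of_orderOf_eq {p : ℕ} [Fact p.Prime] {x : G} (hx : orderOf x = p) :
    IsPGroup p (zpowers x : Subgroup G) := by
  apply IsPGroup.of_card (n := 1)
  rw [Nat.card_zpowers, hx, pow_one]

theorem SEData.of_stronglyPEmbedded [Finite G] {p : ℕ} [Fact p.Prime] {H : Subgroup G}
    (hH : Cfsg.IsStronglyPEmbedded p H) :
    ∃ P : Sylow p G, SEData p H P ∧ Cfsg.kGeneratedCore p 1 (P : Subgroup G) ≤ H := by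
  obtain ⟨hdvd, _, P, hP⟩ := hH
  have hne : (P : Subgroup G) ≠ ⊥ := P.ne_bot_of_dvd_card hdvd
  have hnorm : ∀ Q : Subgroup G, Q ≤ (P : Subgroup G) → Q ≠ ⊥ → normalizer (Q : Set G) ≤ H :=
    fun Q hQP hQ => (normalizer_le_kGeneratedCore P.2 hQP hQ).trans hP
  refine ⟨P, ⟨?_, hne, hnorm _ le_rfl hne, ?_⟩, hP⟩
  · exact Subgroup.le_normalizer.trans (hnorm _ le_rfl hne)
  · intro x hx hxp
    refine (centralizer_singleton_le_normalizer_zpowers x).trans (hnorm _ ?_ ?_)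
    · rw [Subgroup.zpowers_le]; exact hx
    · exact zpowers_ne_bot_of_orderOf_eq_prime hxp

/-- A nontrivial finite `p`-subgroup has a central element of order `p`. -/
theorem exists_central_orderOf_eq [Finite G] {p : ℕ} [Fact p.Prime] {P : Subgroup G}
    (hP : IsPGroup p P) (hne : P ≠ ⊥) :
    ∃ z ∈ P, orderOf z = p ∧ ∀ x ∈ P, x * z = z * x := by
  have : Nontrivial P := (Subgroup.nontrivial_iff_ne_bot P).mpr hne
  have h1 : (Subgroup.center P) ≠ ⊥ := (IsPGroup.bot_lt_center hP).ne'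
  have h2 : IsPGroup p (Subgroup.center P) := hP.to_subgroup _
  obtain ⟨z, hz, hzp⟩ := exists_orderOf_eq_of_ne_bot h2 h1
  refine ⟨(z : G), z.2, by rw [Subgroup.orderOf_coe]; exact hzp, ?_⟩
  intro x hx
  have := Subgroup.mem_center_iff.mp hz ⟨x, hx⟩
  exact congrArg Subtype.val this

theorem orderOf_conj' (g x : G) : orderOf (g * x * g⁻¹) = orderOf x := by
  have : g * x * g⁻¹ = MulAut.conj g x := by simp [MulAut.conj_apply]
  rw [this, MulEquiv.orderOf_eq]

namespace SEData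

variable [Finite G] {p : ℕ} [Fact p.Prime] {H : Subgroup G} {P : Sylow p G}

theorem cent_le' (hd : SEData p H P) {w : G} (hw : w ∈ H) (hwp : orderOf w = p) :
    centralizer ({w} : Set G) ≤ H := by
  obtain ⟨h, hh, hconj⟩ := exists_conj_le_sylow P hd.le (isPGroup_zpowers_of_orderOf_eq hwp)
    (by rw [Subgroup.zpowers_le]; exact hw)
  have h1 : h * w * h⁻¹ ∈ (P : Subgroup G) := hconj w (Subgroup.mem_zpowers w)
  have h2 := hd.cent_le _ h1 (by rw [orderOf_conj', hwp])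
  intro c hc
  rw [Subgroup.mem_centralizer_singleton_iff] at hc
  have h3 : h * c * h⁻¹ ∈ centralizer ({h * w * h⁻¹} : Set G) := by
    rw [Subgroup.mem_centralizer_singleton_iff]
    calc h * c * h⁻¹ * (h * w * h⁻¹) = h * (c * w) * h⁻¹ := by group
      _ = h * (w * c) * h⁻¹ := by rw [hc]
      _ = h * w * h⁻¹ * (h * c * h⁻¹) := by group
  have h4 : h * c * h⁻¹ ∈ H := h2 h3
  have h5 : h⁻¹ * (h * c * h⁻¹) * h ∈ H := H.mul_mem (H.mul_mem (H.inv_mem hh) h4) hh
  simpa [mul_assoc] using h5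

theorem mem_of_conj_sylow_le (hd : SEData p H P) {k : G}
    (hk : ∀ x ∈ (P : Subgroup G), k * x * k⁻¹ ∈ H) : k ∈ H := by
  have hR : IsPGroup p ((P : Subgroup G).map (MulAut.conj k).toMonoidHom) := P.2.map _
  have hRH : (P : Subgroup G).map (MulAut.conj k).toMonoidHom ≤ H := by
    rintro _ ⟨x, hx, rfl⟩
    simpa [MulAut.conj_apply] using hk x hx
  obtain ⟨h, hh, hconj⟩ := exists_conj_le_sylow P hd.le hR hRH
  have h1 : ((h * k) • P : Sylow p G) = P := by
    apply Sylow.ext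
    symm
    apply (Sylow.is_maximal' ((h * k) • P) P.2)
    intro y hy
    rw [Sylow.coe_subgroup_smul] at hy
    obtain ⟨x, hx, rfl⟩ := (Subgroup.mem_smul_pointwise_iff_exists _ _ _).mp hy
    have := hconj (k * x * k⁻¹) ⟨x, hx, by simp [MulAut.conj_apply]⟩
    simpa [MulAut.smul_def, MulAut.conj_apply, mul_assoc] using this
  have h2 : h * k ∈ H := hd.norm_le (Sylow.smul_eq_iff_mem_normalizer.mp h1)
  have h3 : h⁻¹ * (h * k) ∈ H := H.mul_mem (H.inv_mem hh) h2
  simpa using h3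

theorem mem_of_conj_mem (hd : SEData p H P) {g y : G} (hyp : orderOf y = p) (hy : y ∈ H)
    (hgy : g * y * g⁻¹ ∈ H) : g ∈ H := by
  obtain ⟨h, hh, hconj⟩ := exists_conj_le_sylow P hd.le (isPGroup_zpowers_of_orderOf_eq hyp)
    (by rw [Subgroup.zpowers_le]; exact hy)
  have h1 : h * y * h⁻¹ ∈ (P : Subgroup G) := hconj y (Subgroup.mem_zpowers y)
  obtain ⟨z₀, hz₀P, hz₀p, hz₀c⟩ := exists_central_orderOf_eq P.2 hd.ne_bot
  have hu : centralizer ({g * y * g⁻¹} : Set G) ≤ H :=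
    hd.cent_le' hgy (by rw [orderOf_conj', hyp])
  -- w = g h⁻¹ z₀ h g⁻¹
  have hw : (g * h⁻¹) * z₀ * (g * h⁻¹)⁻¹ ∈ H := by
    apply hu
    rw [Subgroup.mem_centralizer_singleton_iff]
    have hc := hz₀c _ h1
    calc (g * h⁻¹) * z₀ * (g * h⁻¹)⁻¹ * (g * y * g⁻¹)
        = (g * h⁻¹) * (z₀ * (h * y * h⁻¹)) * (g * h⁻¹)⁻¹ := by group
      _ = (g * h⁻¹) * ((h * y * h⁻¹) * z₀) * (g * h⁻¹)⁻¹ := by rw [hc]
      _ = g * y * g⁻¹ * ((g * h⁻¹) * z₀ * (g * h⁻¹)⁻¹) := by group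
  have hwp : orderOf ((g * h⁻¹) * z₀ * (g * h⁻¹)⁻¹) = p := by rw [orderOf_conj', hz₀p]
  have hCw := hd.cent_le' hw hwp
  have h2 : g * h⁻¹ ∈ H := by
    apply hd.mem_of_conj_sylow_le
    intro x hx
    apply hCw
    rw [Subgroup.mem_centralizer_singleton_iff]
    have hc := hz₀c x hx
    calc (g * h⁻¹) * x * (g * h⁻¹)⁻¹ * ((g * h⁻¹) * z₀ * (g * h⁻¹)⁻¹)
        = (g * h⁻¹) * (x * z₀) * (g * h⁻¹)⁻¹ := by group
      _ = (g * h⁻¹) * (z₀ * x) * (g * h⁻¹)⁻¹ := by rw [hc]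
      _ = (g * h⁻¹) * z₀ * (g * h⁻¹)⁻¹ * ((g * h⁻¹) * x * (g * h⁻¹)⁻¹) := by group
  have h3 : g * h⁻¹ * h ∈ H := H.mul_mem h2 hh
  simpa using h3

theorem normalizer_le (hd : SEData p H P) {Q : Subgroup G} (hQH : Q ≤ H) (hQ : IsPGroup p Q)
    (hne : Q ≠ ⊥) : normalizer (Q : Set G) ≤ H := by
  obtain ⟨y, hyQ, hyp⟩ := exists_orderOf_eq_of_ne_bot hQ hne
  intro g hg
  exact hd.mem_of_conj_mem hyp (hQH hyQ) (hQH ((Subgroup.mem_normalizer_iff.mp hg y).mp hyQ))

theorem stronglyPEmbedded (hd : SEData p H P) (hH : H ≠ ⊤) : Cfsg.IsStronglyPEmbedded p H := by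
  refine ⟨?_, hH, P, ?_⟩
  · have h1 : p ∣ Nat.card (P : Subgroup G) := by
      rcases P.2.card_eq_or_dvd with h | h
      · exact absurd (Subgroup.card_eq_one.mp h) hd.ne_bot
      · exact h
    exact h1.trans (Subgroup.card_subgroup_dvd_card _)
  · apply kGeneratedCore_one_le
    intro Q hQP hQ
    exact hd.normalizer_le (hQP.trans hd.le) (P.2.to_le hQP) hQ

end SEData

/-- Sylow conjugation inside a subgroup `K`, for an arbitrary Sylow subgroup of `K`. -/
theorem exists_conj_mem_sylow_map [Finite G] {p : ℕ} [Fact p.Prime] {K : Subgroup G} (Q : Sylow p K)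
    {R : Subgroup G} (hR : IsPGroup p R) (hRK : R ≤ K) :
    ∃ c ∈ K, ∀ r ∈ R, c * r * c⁻¹ ∈ (Q : Subgroup K).map K.subtype := by
  have hR' : IsPGroup p (R.subgroupOf K) := hR.comap_subtype
  obtain ⟨Q', hQ'⟩ := hR'.exists_le_sylow
  obtain ⟨c, hc⟩ := MulAction.exists_smul_eq K Q' Q
  refine ⟨c, c.2, ?_⟩
  intro r hr
  have h1 : (⟨r, hRK hr⟩ : K) ∈ (Q' : Subgroup K) := hQ' (by
    rw [Subgroup.mem_subgroupOf]; exact hr)
  have h2 : MulAut.conj c • (⟨r, hRK hr⟩ : K) ∈ MulAut.conj c • (Q' : Subgroup K) :=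
    Subgroup.smul_mem_pointwise_smul _ _ _ h1
  have h3 : MulAut.conj c • (Q' : Subgroup K) = (Q : Subgroup K) := by
    rw [← hc]; rfl
  rw [h3] at h2
  refine ⟨_, h2, ?_⟩
  simp [MulAut.smul_def, MulAut.conj_apply]

theorem SEData.pgroup_le_of_mem [Finite G] {p : ℕ} [Fact p.Prime] {H : Subgroup G} {P : Sylow p G}
    (hd : SEData p H P) {R : Subgroup G} (hR : IsPGroup p R) {y : G} (hyR : y ∈ R) (hyH : y ∈ H)
    (hyp : orderOf y = p) : R ≤ H := by
  have hne : R ≠ ⊥ := by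
    intro h
    rw [h, Subgroup.mem_bot] at hyR
    rw [hyR, orderOf_one] at hyp
    exact (Fact.out : p.Prime).ne_one hyp.symm
  obtain ⟨z, hzR, hzp, hzc⟩ := exists_central_orderOf_eq hR hne
  have hzH : z ∈ H := by
    apply hd.cent_le' hyH hyp
    rw [Subgroup.mem_centralizer_singleton_iff]
    exact (hzc y hyR).symm
  intro r hr
  apply hd.cent_le' hzH hzp
  rw [Subgroup.mem_centralizer_singleton_iff]
  exact hzc r hr

/-- If `S` is a Sylow `p`-subgroup of `H` and `N_G(S) ≤ H`, then `S` is a Sylow `p`-subgroup of `G`. -/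
theorem exists_sylow_eq_map_of_normalizer_le [Finite G] {p : ℕ} [Fact p.Prime] {H : Subgroup G}
    (S : Sylow p H)
    (hN : normalizer (((S : Subgroup H).map H.subtype : Subgroup G) : Set G) ≤ H) :
    ∃ P : Sylow p G, (P : Subgroup G) = (S : Subgroup H).map H.subtype := by
  set S' : Subgroup G := (S : Subgroup H).map H.subtype with hS'
  have hS'p : IsPGroup p S' := S.2.map _
  have hS'H : S' ≤ H := by
    rintro _ ⟨x, _, rfl⟩; exact x.2
  obtain ⟨P, hP⟩ := hS'p.exists_le_sylow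
  refine ⟨P, ?_⟩
  -- T = N_G(S') ⊓ P is a p-subgroup of H containing S'
  have hT : IsPGroup p ((normalizer (S' : Set G) ⊓ (P : Subgroup G) : Subgroup G)) :=
    P.2.to_le inf_le_right
  have hTH : (normalizer (S' : Set G) ⊓ (P : Subgroup G) : Subgroup G) ≤ H := inf_le_left.trans hN
  have hST : S' ≤ (normalizer (S' : Set G) ⊓ (P : Subgroup G) : Subgroup G) :=
    le_inf Subgroup.le_normalizer hP
  have hTS : (normalizer (S' : Set G) ⊓ (P : Subgroup G) : Subgroup G) ≤ S' := by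
    have h1 : ((normalizer (S' : Set G) ⊓ (P : Subgroup G) : Subgroup G)).subgroupOf H
        = (S : Subgroup H) := by
      apply S.is_maximal' hT.comap_subtype
      intro x hx
      show (x : G) ∈ (normalizer (S' : Set G) ⊓ (P : Subgroup G) : Subgroup G)
      exact hST ⟨x, hx, rfl⟩
    intro x hx
    have : (⟨x, hTH hx⟩ : H) ∈ (S : Subgroup H) := by
      rw [← h1, Subgroup.mem_subgroupOf]; exact hx
    exact ⟨⟨x, hTH hx⟩, this, rfl⟩
  -- normalizer condition in P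
  by_contra hne
  have hlt : S'.subgroupOf (P : Subgroup G) < ⊤ := by
    rw [lt_top_iff_ne_top]
    intro h
    apply hne
    apply le_antisymm _ hP
    intro x hx
    have : (⟨x, hx⟩ : (P : Subgroup G)) ∈ S'.subgroupOf (P : Subgroup G) := by rw [h]; trivial
    exact Subgroup.mem_subgroupOf.mp this
  have hnil : Group.IsNilpotent (P : Subgroup G) := P.2.isNilpotent
  have hnc := Group.normalizerCondition_of_isNilpotent (G := (P : Subgroup G)) _ hlt
  obtain ⟨n, hn1, hn2⟩ := SetLike.exists_of_lt hnc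
  apply hn2
  rw [Subgroup.mem_subgroupOf]
  apply hTS
  refine Subgroup.mem_inf.mpr ⟨?_, n.2⟩
  rw [Subgroup.mem_normalizer_iff]
  intro x
  rw [Subgroup.mem_normalizer_iff] at hn1
  constructor
  · intro hx
    have := (hn1 ⟨x, hP hx⟩).mp (by rw [Subgroup.mem_subgroupOf]; exact hx)
    rw [Subgroup.mem_subgroupOf] at this
    simpa using this
  · intro hx
    have hxP : x ∈ (P : Subgroup G) := by
      have h1 : (n : G) * x * (n : G)⁻¹ ∈ (P : Subgroup G) := hP hx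
      have h2 : (n : G)⁻¹ * ((n : G) * x * (n : G)⁻¹) * (n : G) ∈ (P : Subgroup G) :=
        (P : Subgroup G).mul_mem ((P : Subgroup G).mul_mem ((P : Subgroup G).inv_mem n.2) h1) n.2
      simpa [mul_assoc] using h2
    have := (hn1 ⟨x, hxP⟩).mpr (by rw [Subgroup.mem_subgroupOf]; simpa using hx)
    exact Subgroup.mem_subgroupOf.mp this

end Cfsg.Agent.Lib.Helper48
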