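import Mathlib
import Cfsg.Agent.Lib.Helper20.SuHeis

set_option autoImplicit false
set_option linter.unusedSectionVars false

/-!
# SQ-PSU-B : the square of an upper Eichler element is a commutator in `UU ⊓ SUJ`
-/

namespace Cfsg.Agent.Lib.Helper20.Sq

open Matrix Subgroup Cfsg.Agent.Lib.Helper20.PslF Cfsg.Agent.Lib.Helper20.SuF
open scoped commutatorElement

variable {n : ℕ} {K : Type*} [Field K] [Fintype K]

theorem psu_siegel_sq (F : SuF.Inv K) [CharP K 2] {a : Fin n} (ha : a < Fin.rev a) {w : Fin n → K}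
    (hw : ∀ x, w x ≠ 0 → a < x ∧ x < Fin.rev a) {c : K} (hc : c + F.sg c + hf F w w = 0) :
    (SgT F (eb a) w c) ^ 2 ∈ ⁅((UU : Subgroup (SLn n K)) ⊓ SUJ F),
      ((UU : Subgroup (SLn n K)) ⊓ SUJ F)⁆ := by
  have h1 : hf F (eb a : Fin n → K) (eb a) = 0 := hf_eb_self_eq_zero F (ne_of_lt ha)
  have hwz : ∀ (v : Fin n → K), (∀ x, v x ≠ 0 → a < x ∧ x < Fin.rev a) →
      hf F v (eb a) = 0 := by
    intro v hv
    rw [hf_eb_right]
    by_contra h
    exact lt_irrefl _ (hv _ h).2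
  have h2 : hf F w (eb a) = 0 := hwz w hw
  obtain ⟨lam, hlam⟩ := F.tr_surj 1 (map_one _)
  have hw' : ∀ x, (lam • w) x ≠ 0 → a < x ∧ x < Fin.rev a := by
    intro x hx
    apply hw
    intro h0
    apply hx
    rw [Pi.smul_apply, h0, smul_zero]
  have h2' : hf F (lam • w) (eb a) = 0 := hwz _ hw'
  have hH : F.sg (hf F w w) = hf F w w := hf_conj F w w
  have hfix : F.sg (-(lam * F.sg lam * hf F w w)) = -(lam * F.sg lam * hf F w w) := by
    rw [map_neg, map_mul, map_mul, F.invol, hH]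
    ring
  obtain ⟨c', hc'⟩ := F.tr_surj _ hfix
  have hc'' : c' + F.sg c' + hf F (lam • w) (lam • w) = 0 := by
    rw [hf_smul_left, hf_smul_right, hc']
    ring
  have hrm : SgT F (eb a) w c ∈ (UU : Subgroup (SLn n K)) ⊓ SUJ F :=
    ⟨SgT_mem_UU F c ha hw, SgT_mem_SUJ F h1 h2 hc⟩
  have hrm' : SgT F (eb a) (lam • w) c' ∈ (UU : Subgroup (SLn n K)) ⊓ SUJ F :=
    ⟨SgT_mem_UU F c' ha hw', SgT_mem_SUJ F h1 h2' hc''⟩
  have h2K : (2 : K) = 0 := CharTwo.two_eq_zero
  have hww : w + w = 0 := by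
    funext x
    exact CharTwo.add_self_eq_zero (w x)
  have h3 : hf F (lam • w + w) (eb a) = 0 := by
    rw [hf_add_left, h2, h2', add_zero]
  have key : SgT F (eb a) w c ^ 2 * (SgT F (eb a) (lam • w) c' * SgT F (eb a) w c) =
      SgT F (eb a) w c * SgT F (eb a) (lam • w) c' := by
    rw [pow_two, SgT_mul F c c h1 h2 h2, SgT_mul F c' c h1 h2' h2, SgT_mul F c c' h1 h2 h2',
      hww, SgT_mul F _ _ h1 (hf_zero_left F _) h3]
    have ev : (0 : Fin n → K) + (lam • w + w) = w + lam • w := by rw [zero_add, add_comm]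
    have ec : c + c - hf F w w + (c' + c - hf F w (lam • w)) - hf F (lam • w + w) 0 =
        c + c' - hf F (lam • w) w := by
      rw [hf_zero_right, hf_smul_right, hf_smul_left]
      linear_combination (c - hf F w w * (1 - lam)) * h2K - hf F w w * hlam
    rw [ev, ec]
  have hcomm : SgT F (eb a) w c ^ 2 = ⁅SgT F (eb a) w c, SgT F (eb a) (lam • w) c'⁆ := by
    rw [commutatorElement_def, ← key]
    group
  rw [hcomm]
  exact Subgroup.commutator_mem_commutator hrm hrm'

end Cfsg.Agent.Lib.Helper20.Sq
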