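import Cfsg.Agent.S1404
import Cfsg.Agent.S1410
import Cfsg.Agent.S1461
import Cfsg.Agent.Lib.Helper24.BG108
import Cfsg.Agent.Lib.Helper1.HallConj
import Cfsg.Agent.Lib.Helper1.Carter1

/-!
# Fusion in nilpotent Hall subgroups of a minimal simple group of odd order, part A

Relative Sylow and Hall conjugacy, control of fusion by Sylow normalizers inside an arbitrary
subgroup, and the splitting `H = P × H'` of a nilpotent subgroup.
-/

set_option autoImplicit false
set_option linter.unusedSectionVars false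
set_option linter.unusedVariables false
set_option linter.style.haveILetI false

namespace Cfsg.Agent.Lib.Helper48.NilHall

open Subgroup Cfsg
open Cfsg.Agent.Lib.Helper33 (cj cj_def mem_cj mem_cj' cj_mul cj_mono card_cj isPGroup_cj
  conj_mem_cj cj_sup cj_eq_self_iff)
open scoped Pointwise

universe u

variable {G : Type u} [Group G] [Finite G]

theorem smul_eq_cj (g : G) (H : Subgroup G) : MulAut.conj g • H = cj g H := rfl

theorem relIndex_mul_card {H K : Subgroup G} (h : H ≤ K) :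
    H.relIndex K * Nat.card H = Nat.card K := by
  have h1 := relIndex_mul_relIndex (⊥ : Subgroup G) H K bot_le h
  rw [relIndex_bot_left, relIndex_bot_left] at h1
  rw [mul_comm]; exact h1

/-- conjugacy of Sylow subgroups inside a subgroup `X` -/
theorem sylow_conj_in {p : ℕ} [Fact p.Prime] (X P₁ P₂ : Subgroup G) (h₁ : P₁ ≤ X) (h₂ : P₂ ≤ X)
    (hp₁ : IsPGroup p P₁) (hp₂ : IsPGroup p P₂) (hs₁ : ¬ p ∣ P₁.relIndex X)
    (hcard : Nat.card P₁ = Nat.card P₂) : ∃ c ∈ X, cj c P₂ = P₁ := by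
  classical
  have hq₁ : IsPGroup p (P₁.subgroupOf X) := hp₁.comap_subtype
  have hq₂ : IsPGroup p (P₂.subgroupOf X) := hp₂.comap_subtype
  let S₁ : Sylow p X := hq₁.toSylow hs₁
  obtain ⟨S₂, hS₂⟩ := hq₂.exists_le_sylow
  obtain ⟨g, hg⟩ := MulAction.exists_smul_eq X S₁ S₂
  -- P₂ ≤ g P₁ g⁻¹
  have hle : P₂ ≤ cj (g : G) P₁ := by
    intro x hx
    have hxX : x ∈ X := h₂ hx
    have h1 : (⟨x, hxX⟩ : X) ∈ (S₂ : Subgroup X) := hS₂ (by rw [mem_subgroupOf]; exact hx)
    rw [← hg, Sylow.coe_subgroup_smul, Subgroup.mem_pointwise_smul_iff_inv_smul_mem] at h1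
    have h2 : ((MulAut.conj g)⁻¹ • (⟨x, hxX⟩ : X) : X) ∈ P₁.subgroupOf X := h1
    rw [mem_subgroupOf] at h2
    rw [mem_cj]
    simpa [MulAut.smul_def, MulAut.conj_inv_apply] using h2
  have heq : P₂ = cj (g : G) P₁ := by
    apply Subgroup.eq_of_le_of_card_ge hle
    rw [card_cj, hcard]
  refine ⟨(g : G)⁻¹, X.inv_mem g.2, ?_⟩
  rw [heq, ← cj_mul, inv_mul_cancel]
  ext x
  rw [mem_cj]
  simp

/-- conjugacy of Hall subgroups inside a solvable subgroup `X` -/
theorem hall_conj_in (X : Subgroup G) [hX : Group.IsSolvable X] (H₁ H₂ : Subgroup G) (h₁ : H₁ ≤ X)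
    (h₂ : H₂ ≤ X) (hcard : Nat.card H₂ = Nat.card H₁)
    (hcop : (Nat.card H₁).Coprime (H₁.relIndex X)) : ∃ c ∈ X, cj c H₂ = H₁ := by
  classical
  have hX' : Nat.card X = Nat.card H₁ * H₁.relIndex X := by
    rw [mul_comm]; exact (relIndex_mul_card h₁).symm
  have hc₁ : Nat.card (H₁.subgroupOf X) = Nat.card H₁ :=
    Nat.card_congr (subgroupOfEquivOfLe h₁).toEquiv
  have hc₂ : Nat.card (H₂.subgroupOf X) = Nat.card H₁ := by
    rw [Nat.card_congr (subgroupOfEquivOfLe h₂).toEquiv, hcard]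
  obtain ⟨g, hg⟩ := Cfsg.Agent.Lib.Helper1.hallConj_all ↥X hX _ _ hX' hcop
    (H₂.subgroupOf X) (H₁.subgroupOf X) hc₂ hc₁
  refine ⟨(g : G), g.2, ?_⟩
  apply Subgroup.eq_of_le_of_card_ge
  · intro x hx
    rw [mem_cj] at hx
    have hxX : x ∈ X := by
      have : x = (g : G) * ((g : G)⁻¹ * x * (g : G)) * (g : G)⁻¹ := by group
      rw [this]
      exact X.mul_mem (X.mul_mem g.2 (h₂ hx)) (X.inv_mem g.2)
    have h1 : (⟨x, hxX⟩ : X) ∈ MulAut.conj g • H₂.subgroupOf X := by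
      rw [Subgroup.mem_pointwise_smul_iff_inv_smul_mem, mem_subgroupOf]
      simpa [MulAut.smul_def] using hx
    rw [hg, mem_subgroupOf] at h1
    exact h1
  · rw [card_cj, hcard]

end Cfsg.Agent.Lib.Helper48.NilHall
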