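import Cfsg.Agent.Lib.Helper48.TiHub

/-! # S5955 hive (helper48): the peeling inductions -/

set_option autoImplicit false

namespace Cfsg.Agent.Lib.Helper48.Ti

open Polynomial Module
open Cfsg.Agent.Lib.Helper2.BG Cfsg.Agent.Lib.Helper99

section ind

variable {F V : Type*} [Field F] [AddCommGroup V] [Module F V] [FiniteDimensional F V]
variable {B : V →ₗ[F] V →ₗ[F] F}

/-- a totally isotropic subspace inside a pointwise fixed nondegenerate subspace -/
theorem ind_good_of_fixed (hB : ∀ v, B v v = 0) {f : Module.End F V} {Z C' : Submodule F V}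
    (hC' : C' ≤ Z) (hfix : ∀ v ∈ C', f v = v) (hNd : Nd B C') {m : ℕ}
    (hm : 2 * m ≤ finrank F C') : Good B f Z m := by
  obtain ⟨U, hUC, hU, hUm⟩ := exists_ti_of_nd hB hNd hm
  refine ⟨U, hUC.trans hC', ?_, hU, hUm⟩
  intro v hv
  rw [hfix v (hUC hv)]
  exact hv

theorem ind_fix_of_mem_ker {f : Module.End F V} {v : V} (hv : v ∈ LinearMap.ker (f - 1)) :
    f v = v := by
  rw [LinearMap.mem_ker, LinearMap.sub_apply, Module.End.one_apply, sub_eq_zero] at hv
  exact hv

theorem ind_killed {f : Module.End F V} {P : F[X]} {Z : Submodule F V} :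
    ∀ v ∈ Z ⊓ LinearMap.ker (aeval f P), aeval f P v = 0 := by
  intro v hv
  exact LinearMap.mem_ker.mp hv.2

/-- one peeling step followed by glueing -/
theorem ind_step (hB : ∀ v, B v v = 0) {f : Module.End F V} (hf : Isom B f)
    (hinj : Function.Injective f) (hss : f.IsSemisimple) {Z Y : Submodule F V}
    (hZ : Nd B Z) (hZf : Inv f Z) (hYZ : Y ≤ Z) (hYf : Inv f Y) (hY : TI B Y) {m : ℕ}
    (hstep : ∀ Z' : Submodule F V, Z' ≤ Z → Inv f Z' → Nd B Z' →
      finrank F Z' + 2 * finrank F Y = finrank F Z → Good B f Z' m) :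
    Good B f Z (finrank F Y + m) := by
  obtain ⟨Z', hZ'Z, hZ'f, hZ'nd, hdisj, horth, hdim⟩ := peel hB hf hinj hss hZ hZf hYZ hYf hY
  obtain ⟨U', hU'Z', hU'f, hU', hU'm⟩ := hstep Z' hZ'Z hZ'f hZ'nd hdim
  obtain ⟨h1, h2, h3⟩ := glue hB hYf hY hdisj horth hU'Z' hU'f hU'
  exact ⟨Y ⊔ U', sup_le hYZ (hU'Z'.trans hZ'Z), h1, h2, by rw [h3, hU'm]⟩

/-- the case `i` odd -/
theorem exists_ti_odd (hB : ∀ v, B v v = 0) {f : Module.End F V} (hf : Isom B f)
    (hinj : Function.Injective f) (hss : f.IsSemisimple) {P : F[X]} (hP0 : P ≠ 0) {i : ℕ}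
    (hi : Odd i) (hdeg : AllIrrDeg P i) (hcop : IsCoprime (X - 1 : F[X]) P)
    (hkill : aeval f ((X - 1) * P) = 0) :
    ∀ (m : ℕ) (Z : Submodule F V), Nd B Z → Inv f Z → 2 * m ≤ finrank F Z →
      2 * (m % i) ≤ finrank F Z % (2 * i) → Good B f Z m := by
  intro m
  induction m using Nat.strong_induction_on with
  | _ m ih =>
    intro Z hZ hZf h2m hmod
    have hi1 : 1 ≤ i := by
      rcases hi with ⟨t, ht⟩
      omega
    obtain ⟨hC, hR, hsum⟩ := fix_split hB hf hcop hkill hZ hZf
    have hRf : Inv f (Z ⊓ LinearMap.ker (aeval f P)) := hZf.inf (inv_ker_aeval f P)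
    have hdvd : i ∣ finrank F ↥(Z ⊓ LinearMap.ker (aeval f P)) :=
      dvd_finrank_of_inv hss hP0 hdeg _ _ rfl hRf ind_killed
    have heven : Even (finrank F ↥(Z ⊓ LinearMap.ker (aeval f P))) := even_finrank_of_nd hB hR
    have h2i : 2 * i ∣ finrank F ↥(Z ⊓ LinearMap.ker (aeval f P)) := by
      have hcop2 : Nat.Coprime 2 i := (Nat.coprime_two_left).mpr hi
      exact hcop2.mul_dvd_of_dvd_of_dvd heven.two_dvd hdvd
    have hfixC : ∀ v ∈ Z ⊓ LinearMap.ker (f - 1), f v = v := fun v hv => ind_fix_of_mem_ker hv.2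
    have hmodC : finrank F Z % (2 * i) ≤ finrank F ↥(Z ⊓ LinearMap.ker (f - 1)) := by
      obtain ⟨t, ht⟩ := h2i
      rw [← hsum, ht, Nat.add_mul_mod_self_left]
      exact Nat.mod_le _ _
    by_cases hmi : m < i
    · rw [Nat.mod_eq_of_lt hmi] at hmod
      exact ind_good_of_fixed hB inf_le_left hfixC hC (le_trans hmod hmodC)
    · push Not at hmi
      by_cases hbot : Z ⊓ LinearMap.ker (aeval f P) = ⊥
      · rw [hbot, finrank_bot, add_zero] at hsum
        exact ind_good_of_fixed hB inf_le_left hfixC hC (by omega)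
      · obtain ⟨_, Y, hYR, hYf, hYi⟩ := exists_inv_finrank_eq f hP0 hdeg hRf ind_killed hbot
        have hirr : ∀ W : Submodule F V, W ≤ Y → Inv f W → W = ⊥ ∨ W = Y := by
          intro W hWY hWf
          have hWk : ∀ v ∈ W, aeval f P v = 0 := fun v hv => ind_killed v (hYR (hWY hv))
          have hd : i ∣ finrank F W := dvd_finrank_of_inv hss hP0 hdeg _ _ rfl hWf hWk
          have hle : finrank F W ≤ i := hYi ▸ Submodule.finrank_mono hWY
          obtain ⟨t, ht⟩ := hd
          rcases Nat.eq_zero_or_pos t with h0 | hpos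
          · left
            rw [h0, mul_zero] at ht
            exact Submodule.finrank_eq_zero.mp ht
          · right
            have : finrank F W = finrank F Y := by
              rw [hYi]
              have : i ≤ i * t := Nat.le_mul_of_pos_right i hpos
              omega
            exact Submodule.eq_of_le_of_finrank_eq hWY this
        have hYti : TI B Y := ti_of_odd_irreducible hB hf hinj hYf hirr (hYi ▸ hi)
        have hYZ : Y ≤ Z := hYR.trans inf_le_left
        have key := ind_step (m := m - i) hB hf hinj hss hZ hZf hYZ hYf hYti (by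
          intro Z' _ hZ'f hZ'nd hdim
          rw [hYi] at hdim
          refine ih (m - i) (by omega) Z' hZ'nd hZ'f (by omega) ?_
          have e1 : (m - i) % i = m % i := by
            conv_rhs => rw [← Nat.sub_add_cancel hmi]
            rw [Nat.add_mod_right]
          have e2 : finrank F Z' % (2 * i) = finrank F Z % (2 * i) := by
            rw [← hdim, Nat.add_mod_right]
          rw [e1, e2]
          exact hmod)
        rw [hYi, Nat.add_sub_cancel' hmi] at key
        exact key

/-- the general case with a bound on the number of irreducible factors -/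
theorem exists_ti_even [Finite F] (hB : ∀ v, B v v = 0) {f : Module.End F V} (hf : Isom B f)
    (hinj : Function.Injective f) (hss : f.IsSemisimple) {P : F[X]} (hsq : Squarefree P)
    {i τ : ℕ} (hi0 : 0 < i) (hdeg : AllIrrDeg P i) (hτ : FactorBound P τ)
    (hcop : IsCoprime (X - 1 : F[X]) P) (hkill : aeval f ((X - 1) * P) = 0) :
    ∀ (m : ℕ) (Z : Submodule F V), Nd B Z → Inv f Z → 2 * (m % i) ≤ finrank F Z % i →
      τ + 2 * (m / i) ≤ finrank F Z / i → Good B f Z m := by
  have hP0 : P ≠ 0 := hsq.ne_zero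
  intro m
  induction m using Nat.strong_induction_on with
  | _ m ih =>
    intro Z hZ hZf hmod hτm
    obtain ⟨hC, hR, hsum⟩ := fix_split hB hf hcop hkill hZ hZf
    have hRf : Inv f (Z ⊓ LinearMap.ker (aeval f P)) := hZf.inf (inv_ker_aeval f P)
    have hdvd : i ∣ finrank F ↥(Z ⊓ LinearMap.ker (aeval f P)) :=
      dvd_finrank_of_inv hss hP0 hdeg _ _ rfl hRf ind_killed
    have hfixC : ∀ v ∈ Z ⊓ LinearMap.ker (f - 1), f v = v := fun v hv => ind_fix_of_mem_ker hv.2
    have hmodC : finrank F Z % i ≤ finrank F ↥(Z ⊓ LinearMap.ker (f - 1)) := by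
      obtain ⟨t, ht⟩ := hdvd
      rw [← hsum, ht, Nat.add_mul_mod_self_left]
      exact Nat.mod_le _ _
    by_cases hmi : m < i
    · rw [Nat.mod_eq_of_lt hmi] at hmod
      exact ind_good_of_fixed hB inf_le_left hfixC hC (le_trans hmod hmodC)
    · push Not at hmi
      by_cases hbig : i * τ < finrank F ↥(Z ⊓ LinearMap.ker (aeval f P))
      · obtain ⟨φ, hφ, hφP, hφdim⟩ :=
          exists_factor_large hss hsq hdeg hτ hRf ind_killed hbig
        have hφi : φ.natDegree = i := hdeg φ hφ hφP
        have hZ₁f : Inv f (Z ⊓ LinearMap.ker (aeval f P) ⊓ LinearMap.ker (aeval f φ)) :=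
          hRf.inf (inv_ker_aeval f φ)
        obtain ⟨Y, hYZ₁, hYf, hYti, hYi⟩ :=
          exists_ti_irreducible_cw hB hf hss hφ hZ₁f ind_killed (by rw [hφi]; omega)
        rw [hφi] at hYi
        have hYZ : Y ≤ Z := hYZ₁.trans (inf_le_left.trans inf_le_left)
        have key := ind_step (m := m - i) hB hf hinj hss hZ hZf hYZ hYf hYti (by
          intro Z' _ hZ'f hZ'nd hdim
          rw [hYi] at hdim
          have e1 : (m - i) % i = m % i := by
            conv_rhs => rw [← Nat.sub_add_cancel hmi]
            rw [Nat.add_mod_right]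
          have e2 : finrank F Z' % i = finrank F Z % i := by
            rw [← hdim, Nat.add_mul_mod_self_right]
          have e3 : m / i = (m - i) / i + 1 := by
            conv_lhs => rw [← Nat.sub_add_cancel hmi]
            rw [Nat.add_div_right _ hi0]
          have e4 : finrank F Z / i = finrank F Z' / i + 2 := by
            rw [← hdim, mul_comm 2 i, Nat.add_mul_div_left _ _ hi0]
          refine ih (m - i) (by omega) Z' hZ'nd hZ'f ?_ ?_
          · rw [e1, e2]; exact hmod
          · omega)
        rw [hYi, Nat.add_sub_cancel' hmi] at key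
        exact key
      · push Not at hbig
        refine ind_good_of_fixed hB inf_le_left hfixC hC ?_
        have h1 := Nat.div_add_mod (finrank F Z) i
        have h2 := Nat.div_add_mod m i
        have h3 : i * (τ + 2 * (m / i)) ≤ i * (finrank F Z / i) := Nat.mul_le_mul_left i hτm
        have h4 : i * (τ + 2 * (m / i)) = i * τ + 2 * (i * (m / i)) := by ring
        omega

/-- the case of a single irreducible polynomial killing `f` -/
theorem exists_ti_irred [Finite F] (hB : ∀ v, B v v = 0) {f : Module.End F V} (hf : Isom B f)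
    (hinj : Function.Injective f) (hss : f.IsSemisimple) {φ : F[X]} (hφ : Irreducible φ)
    (hkill : aeval f φ = 0) :
    ∀ (k : ℕ) (Z : Submodule F V), Nd B Z → Inv f Z →
      2 * (k * φ.natDegree) ≤ finrank F Z → Good B f Z (k * φ.natDegree) := by
  intro k
  induction k with
  | zero =>
    intro Z _ _ _
    refine ⟨⊥, bot_le, inv_bot f, ?_, by simp⟩
    intro u hu v _
    rw [(Submodule.mem_bot F).mp hu, map_zero, LinearMap.zero_apply]
  | succ k ih =>
    intro Z hZ hZf hdim
    have hk : ∀ v ∈ Z, aeval f φ v = 0 := by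
      intro v _
      rw [hkill, LinearMap.zero_apply]
    obtain ⟨Y, hYZ, hYf, hYti, hYi⟩ :=
      exists_ti_irreducible_cw hB hf hss hφ hZf hk (by
        have : (k + 1) * φ.natDegree = k * φ.natDegree + φ.natDegree := by ring
        omega)
    have key := ind_step (m := k * φ.natDegree) hB hf hinj hss hZ hZf hYZ hYf hYti (by
      intro Z' _ hZ'f hZ'nd hdim'
      rw [hYi] at hdim'
      refine ih Z' hZ'nd hZ'f ?_
      have : (k + 1) * φ.natDegree = k * φ.natDegree + φ.natDegree := by ring
      omega)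
    rw [hYi] at key
    have : (k + 1) * φ.natDegree = φ.natDegree + k * φ.natDegree := by ring
    rw [this]
    exact key

end ind

end Cfsg.Agent.Lib.Helper48.Ti
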