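import Cfsg.Agent.Lib.Helper48.U3XeDefs
import Cfsg.Agent.Lib.Helper33.U3ACT
import Cfsg.Agent.Lib.Helper33.U3MEM
import Cfsg.Agent.Lib.Helper54.U3REL
import Cfsg.Agent.Lib.Helper54.U3TS
import Cfsg.Agent.Lib.Helper77.U3XENT
import Cfsg.Agent.Lib.Helper54.U3XeA
import Cfsg.Agent.Lib.Helper32.U3XeCOMM
import Cfsg.Agent.Lib.Helper35.U3XeGEN
import Cfsg.Agent.Lib.Helper70.U3XeM

/-!
# U3 hive (S2283, owner helper23): leaf U3-XE core `e_mem_Tset_core` (sub-architect helper48)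

Assembly of the XE sub-hive: the long root group at `e` lies in `H = closure {u1, u2}`.
Sub-leaves: XE-A (helper54), XE-M (helper70), XE-COMM (helper32), XE-GEN (helper35), XE-NT (helper77),
XE-5 (helper54), XE-8 (helper23 + helper38).
-/

set_option autoImplicit false

namespace Cfsg.Agent.Lib.Helper23.U3

open Matrix Cfsg.Agent.Lib.Helper99 Cfsg.Agent.Lib.Helper13 Cfsg.Agent.Lib.Helper90.Psu

variable {F : Type*} [Field F] [Fintype F] {q : ℕ}

local notation "hh" => Cfsg.hermForm 3 F q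


/-- U3-XE core: the long root group at `e` lies in `H`, given the two exceptional cases `q = 5`
(XE-5) and `q = 8` (XE-8) as hypotheses.  All other sub-leaves (XE-A, XE-M, XE-COMM, XE-GEN, XE-NT)
are already plugged in. -/
theorem e_mem_Tset_core (hF : Fintype.card F = q ^ 2) (hq : 3 ≤ q) (C : Cfg q F)
    (hμo : orderOf C.μ = q + 1)
    (h5c : q = 5 → heis q C.e (((C.μ⁻¹ ^ 3) ^ 1 * C.a) • C.ε) C.β ∈ C.H → C.e ∈ Tset q C.H)
    (h8c : q = 8 → C.e ∈ Tset q C.H) : C.e ∈ Tset q C.H := by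
  have hrel := cfg_rel hF C
  have ha := cfg_a_ne_zero C
  obtain ⟨hT, hS⟩ := TS_mem_H hF C
  have hSU := S_mem_suGL hF C
  have hA := xe_A hF C hrel hS hSU (act_S C)
  by_cases h5 : q = 5
  · exact h5c h5 (hA 1)
  by_cases h8' : q = 8
  · exact h8c h8'
  have hnt := u3xent_core hF hq h5 h8' C.μ hμo
  apply xe_gen hF C (fun r₁ r₂ h₁ h₂ => xe_comm hF C h₁ h₂)
  have hν1 : (C.μ⁻¹ ^ 3) ^ (q + 1) = 1 := by
    rw [← pow_mul, mul_comm, pow_mul, inv_pow, C.hμ, inv_one, one_pow]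
  have hmem : ∀ j : ℕ, (C.μ⁻¹ ^ 3) ^ j * C.a ∈ xeM C := by
    intro j
    refine ⟨C.β, ?_, hA j⟩
    rw [mul_pow, ← pow_mul, mul_comm j, pow_mul, hν1, one_pow, one_mul]
    exact hrel
  let N : AddSubgroup F :=
    { carrier := {r | r * C.a ∈ xeM C}
      zero_mem' := by
        show (0 : F) * C.a ∈ xeM C
        rw [zero_mul]
        exact xe_M_zero hF C
      add_mem' := by
        intro x y hx hy
        show (x + y) * C.a ∈ xeM C
        rw [add_mul]
        exact xe_M_add hF C hx hy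
      neg_mem' := by
        intro x hx
        show (-x) * C.a ∈ xeM C
        rw [neg_mul]
        exact xe_M_neg hF C hx }
  have hN : N = ⊤ := by
    rw [eq_top_iff, ← hnt]
    apply (AddSubgroup.closure_le N).mpr
    rintro x ⟨j, rfl⟩
    exact hmem j
  intro r
  have h1 : r / C.a ∈ N := hN ▸ AddSubgroup.mem_top _
  have h2 : r / C.a * C.a ∈ xeM C := h1
  rwa [div_mul_cancel₀ _ ha] at h2

end Cfsg.Agent.Lib.Helper23.U3
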