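import Mathlib
import Cfsg.Prelude.Def_ClassicalGeometry
import Cfsg.Agent.Lib.Helper2.BGLin
import Cfsg.Agent.Lib.Helper2.BGPoly
import Cfsg.Agent.Lib.Helper2.BGDer
import Cfsg.Agent.Lib.Helper99.SympForm
import Cfsg.Agent.Lib.Helper48.TiDefs

/-! # S5955 hive (helper48): TI-CYC, cyclotomic polynomials over a finite field -/

set_option autoImplicit false

namespace Cfsg.Agent.Lib.Helper48.Ti

open Polynomial Module
open Cfsg.Agent.Lib.Helper2.BG Cfsg.Agent.Lib.Helper99

section concrete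

variable {F : Type*} [Field F]

/-- TI-CYC (4) -/
theorem natCast_ne_zero_of_ne_char {p : ℕ} [Fact p.Prime] [CharP F p] {r : ℕ}
    [Fact r.Prime] (hrp : r ≠ p) : (r : F) ≠ 0 :=
  natCast_ne_zero_of_ne hrp

/-- TI-CYC (3) -/
theorem orderOf_card_pos [Fintype F] {p : ℕ} [Fact p.Prime] [CharP F p] {r : ℕ}
    [Fact r.Prime] (hrp : r ≠ p) : 0 < orderOf ((Fintype.card F : ℕ) : ZMod r) := by
  have hpP : p.Prime := Fact.out
  have hrP : r.Prime := Fact.out
  obtain ⟨k, _, hk⟩ := FiniteField.card F p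
  have hcop : (Fintype.card F).Coprime r := by
    rw [hk]
    exact ((Nat.coprime_primes hpP hrP).mpr (Ne.symm hrp)).pow_left _
  have : NeZero r := ⟨hrP.ne_zero⟩
  rw [← ZMod.coe_unitOfCoprime (Fintype.card F) hcop, orderOf_units]
  exact orderOf_pos _

/-- TI-CYC (2) -/
theorem squarefree_cyclotomic_of_ne [Fintype F] {p : ℕ} [Fact p.Prime] [CharP F p] {r : ℕ}
    [Fact r.Prime] (hrp : r ≠ p) : Squarefree (cyclotomic r F) :=
  (squarefree_X_pow_sub_one (F := F) (natCast_ne_zero_of_ne hrp)).squarefree_of_dvd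
    (cyclotomic.dvd_X_pow_sub_one r F)

/-- distinct monic irreducible polynomials are coprime -/
theorem cyc_isCoprime {g h : F[X]} (hg : Irreducible g) (hh : Irreducible h) (hgm : g.Monic)
    (hhm : h.Monic) (hne : g ≠ h) : IsCoprime g h := by
  rw [hg.coprime_iff_not_dvd]
  intro hdvd
  exact hne (eq_of_monic_of_associated hgm hhm (hg.associated_of_dvd hh hdvd))

/-- TI-CYC (1) -/
theorem factorBound_cyclotomic [Fintype F] {p : ℕ} [Fact p.Prime] [CharP F p] {r : ℕ}
    [Fact r.Prime] (hrp : r ≠ p) :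
    FactorBound (cyclotomic r F) ((r - 1) / orderOf ((Fintype.card F : ℕ) : ZMod r)) := by
  classical
  have hrP : r.Prime := Fact.out
  intro S hS
  have hi0 := orderOf_card_pos (F := F) hrp
  have hdeg := allIrrDeg_cyclotomic (F := F) hrp
  rw [Nat.le_div_iff_mul_le hi0]
  have hprod : (∏ g ∈ S, g) ∣ cyclotomic r F := by
    apply Finset.prod_dvd_of_coprime
    · intro g hg h hh hne
      exact cyc_isCoprime (hS g hg).1 (hS h hh).1 (hS g hg).2.1 (hS h hh).2.1 hne
    · intro g hg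
      exact (hS g hg).2.2
  have h1 : (∏ g ∈ S, g).natDegree = ∑ g ∈ S, g.natDegree :=
    natDegree_prod_of_monic _ _ (fun g hg => (hS g hg).2.1)
  have h2 : ∑ g ∈ S, g.natDegree = S.card * orderOf ((Fintype.card F : ℕ) : ZMod r) := by
    rw [Finset.sum_congr rfl (fun g hg => hdeg g (hS g hg).1 (hS g hg).2.2), Finset.sum_const,
      smul_eq_mul]
  have h3 : (∏ g ∈ S, g).natDegree ≤ (cyclotomic r F).natDegree :=
    natDegree_le_of_dvd hprod (cyclotomic_ne_zero r F)
  rw [natDegree_cyclotomic, Nat.totient_prime hrP, h1, h2] at h3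
  exact h3

end concrete

end Cfsg.Agent.Lib.Helper48.Ti
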