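import Mathlib.GroupTheory.Sylow
import Mathlib.GroupTheory.IsSubnormal
import Cfsg.Prelude.Def_CaseTheorems
import Cfsg.Agent.Lib.Helper48.PCore

set_option autoImplicit false

namespace Cfsg.Agent.Lib.Helper48

open Subgroup

/-- `Z` has characteristic `p`: `C_Z(O_p(Z)) ≤ O_p(Z)`. -/
def CharP (p : ℕ) (Z : Type*) [Group Z] : Prop :=
  centralizer (Cfsg.pCore p Z : Set Z) ≤ Cfsg.pCore p Z

theorem pCore_map_le {p : ℕ} {Z W : Type*} [Group Z] [Group W] (e : Z ≃* W) :
    (Cfsg.pCore p Z).map e.toMonoidHom ≤ Cfsg.pCore p W := by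
  rw [Subgroup.map_le_iff_le_comap]
  unfold Cfsg.pCore
  apply sSup_le
  rintro N ⟨hN, hNp⟩
  rw [← Subgroup.map_le_iff_le_comap]
  apply le_sSup
  exact ⟨hN.map _ e.surjective, hNp.map _⟩

theorem mem_pCore_of_equiv {p : ℕ} {Z W : Type*} [Group Z] [Group W] (e : Z ≃* W) {z : Z}
    (hz : z ∈ Cfsg.pCore p Z) : e z ∈ Cfsg.pCore p W :=
  pCore_map_le e ⟨z, hz, rfl⟩

theorem CharP.of_equiv {p : ℕ} {Z W : Type*} [Group Z] [Group W] (e : Z ≃* W) (h : CharP p Z) :
    CharP p W := by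
  intro c hc
  have h1 : e.symm c ∈ centralizer (Cfsg.pCore p Z : Set Z) := by
    rw [Subgroup.mem_centralizer_iff] at hc ⊢
    intro q hq
    have := hc (e q) (mem_pCore_of_equiv e hq)
    apply e.injective
    simpa using this
  have := mem_pCore_of_equiv e (h h1)
  simpa using this

/-- An element of order prime to `p` stabilising the series `Q ≥ R ≥ 1` of a `p`-group acts trivially. -/
theorem commute_of_coprime_of_stab {Z : Type*} [Group Z] [Finite Z] {p : ℕ} [Fact p.Prime]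
    {c q : Z} (hc : (orderOf c).Coprime p) {r : Z} (hr : c * q * c⁻¹ = q * r) (hrc : c * r = r * c)
    (hrp : ∃ k : ℕ, orderOf r = p ^ k) : c * q = q * c := by
  have hpow : ∀ k : ℕ, c ^ k * q * (c ^ k)⁻¹ = q * r ^ k := by
    intro k
    induction k with
    | zero => simp
    | succ k ih =>
      have hck : c * r ^ k * c⁻¹ = r ^ k := by
        have : Commute c (r ^ k) := Commute.pow_right hrc k
        rw [this.eq, mul_inv_cancel_right]
      calc c ^ (k + 1) * q * (c ^ (k + 1))⁻¹ = c * (c ^ k * q * (c ^ k)⁻¹) * c⁻¹ := by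
            rw [pow_succ']; group
        _ = c * (q * r ^ k) * c⁻¹ := by rw [ih]
        _ = (c * q * c⁻¹) * (c * r ^ k * c⁻¹) := by group
        _ = q * r * r ^ k := by rw [hr, hck]
        _ = q * r ^ (k + 1) := by rw [pow_succ', mul_assoc]
  have h1 := hpow (orderOf c)
  rw [pow_orderOf_eq_one] at h1
  have h2 : r ^ orderOf c = 1 := by
    have : q = q * r ^ orderOf c := by simpa using h1
    exact (mul_eq_left (a := q)).mp this.symm
  obtain ⟨k, hk⟩ := hrp
  have h3 : orderOf r ∣ orderOf c := orderOf_dvd_of_pow_eq_one h2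
  have h4 : orderOf r = 1 := by
    have hcop : (orderOf r).Coprime (orderOf c) := by
      rw [hk]; exact (Nat.Coprime.pow_right k hc).symm
    exact Nat.Coprime.eq_one_of_dvd hcop h3
  have h5 : r = 1 := orderOf_eq_one_iff.mp h4
  rw [h5, mul_one] at hr
  calc c * q = c * q * c⁻¹ * c := by group
    _ = q * c := by rw [hr]

theorem isPGroup_of_coprime_trivial {C : Type*} [Group C] [Finite C] {p : ℕ} [hp : Fact p.Prime]
    (h : ∀ c : C, (orderOf c).Coprime p → c = 1) : IsPGroup p C := by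
  intro c
  have hpos : orderOf c ≠ 0 := (orderOf_pos c).ne'
  obtain ⟨a, m, hm, hcm⟩ := Nat.exists_eq_pow_mul_and_not_dvd hpos p hp.out.ne_one
  refine ⟨a, ?_⟩
  apply h
  have h1 : orderOf (c ^ p ^ a) = orderOf c / p ^ a :=
    orderOf_pow_of_dvd (pow_ne_zero _ hp.out.ne_zero) (by rw [hcm]; exact dvd_mul_right _ _)
  rw [h1, hcm, Nat.mul_div_cancel_left _ (pow_pos hp.out.pos _)]
  exact ((Nat.Prime.coprime_iff_not_dvd hp.out).mpr hm).symm

theorem CharP.normal {Z : Type*} [Group Z] [Finite Z] {p : ℕ} [Fact p.Prime] (h : CharP p Z)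
    (N : Subgroup Z) [hN : N.Normal] : CharP p N := by
  have hQn : (Cfsg.pCore p Z).Normal := Cfsg.pCore_normal p Z
  have hQp : IsPGroup p (Cfsg.pCore p Z) := isPGroup_pCore p Z
  -- (3) Q ⊓ N ≤ O_p(N)
  have h3 : ((Cfsg.pCore p Z) ⊓ N).subgroupOf N ≤ Cfsg.pCore p N := by
    apply le_pCore
    · have : ((Cfsg.pCore p Z) ⊓ N).Normal := inferInstance
      infer_instance
    · exact (hQp.to_le inf_le_left).comap_subtype
  -- C is a p-group
  have hCn : (centralizer (Cfsg.pCore p N : Set N)).Normal := by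
    have : (Cfsg.pCore p N).Normal := Cfsg.pCore_normal p N
    infer_instance
  have hCp : IsPGroup p (centralizer (Cfsg.pCore p N : Set N)) := by
    apply isPGroup_of_coprime_trivial
    intro c hc
    have hcN : ((c : N) : Z) ∈ N := (c : N).2
    have hcop : (orderOf ((c : N) : Z)).Coprime p := by
      rw [Subgroup.orderOf_coe, Subgroup.orderOf_coe]; exact hc
    -- c centralizes Q
    have hcent : ((c : N) : Z) ∈ centralizer (Cfsg.pCore p Z : Set Z) := by
      rw [Subgroup.mem_centralizer_iff]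
      intro q hq
      symm
      -- r = q⁻¹ c q c⁻¹
      have hrQ : q⁻¹ * (((c : N) : Z) * q * ((c : N) : Z)⁻¹) ∈ Cfsg.pCore p Z :=
        (Cfsg.pCore p Z).mul_mem ((Cfsg.pCore p Z).inv_mem hq) (hQn.conj_mem q hq _)
      have hrN : q⁻¹ * (((c : N) : Z) * q * ((c : N) : Z)⁻¹) ∈ N := by
        have h1 : q⁻¹ * ((c : N) : Z) * q⁻¹⁻¹ ∈ N := hN.conj_mem _ hcN _
        have h2 : q⁻¹ * ((c : N) : Z) * q⁻¹⁻¹ * ((c : N) : Z)⁻¹ ∈ N := N.mul_mem h1 (N.inv_mem hcN)
        have : q⁻¹ * (((c : N) : Z) * q * ((c : N) : Z)⁻¹) = q⁻¹ * ((c : N) : Z) * q⁻¹⁻¹ * ((c : N) : Z)⁻¹ := by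
          group
        rw [this]; exact h2
      have hrON : (⟨_, hrN⟩ : N) ∈ Cfsg.pCore p N := h3 (by
        rw [Subgroup.mem_subgroupOf]; exact Subgroup.mem_inf.mpr ⟨hrQ, hrN⟩)
      have hcomm := Subgroup.mem_centralizer_iff.mp c.2 _ hrON
      have hcomm' : q⁻¹ * (((c : N) : Z) * q * ((c : N) : Z)⁻¹) * ((c : N) : Z) = ((c : N) : Z) * (q⁻¹ * (((c : N) : Z) * q * ((c : N) : Z)⁻¹)) :=
        congrArg Subtype.val hcomm
      apply commute_of_coprime_of_stab (p := p) hcop (r := q⁻¹ * (((c : N) : Z) * q * ((c : N) : Z)⁻¹))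
      · group
      · exact hcomm'.symm
      · exact (IsPGroup.iff_orderOf.mp hQp ⟨_, hrQ⟩).imp (fun k hk => by
          rw [← hk, Subgroup.orderOf_mk])
    have hcQ : ((c : N) : Z) ∈ Cfsg.pCore p Z := h hcent
    -- c is a p-element of order coprime to p
    obtain ⟨k, hk⟩ := IsPGroup.iff_orderOf.mp hQp ⟨_, hcQ⟩
    rw [Subgroup.orderOf_mk] at hk
    have h1 : orderOf ((c : N) : Z) = 1 := by
      have : (p ^ k).Coprime p := hk ▸ hcop
      rcases Nat.eq_zero_or_pos k with h0 | hpos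
      · rw [hk, h0, pow_zero]
      · exfalso
        have hp : p.Prime := Fact.out
        have : p ∣ 1 := by
          have h2 : p ∣ Nat.gcd (p ^ k) p := Nat.dvd_gcd (dvd_pow_self p hpos.ne') dvd_rfl
          rwa [Nat.Coprime.gcd_eq_one this] at h2
        exact hp.one_lt.ne' (Nat.dvd_one.mp this)
    have h2 : ((c : N) : Z) = 1 := orderOf_eq_one_iff.mp h1
    apply Subtype.ext
    apply Subtype.ext
    simpa using h2
  exact le_pCore hCn hCp

theorem CharP.subnormal {X : Type*} [Group X] [Finite X] {p : ℕ} [Fact p.Prime] (h : CharP p X)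
    {Y : Subgroup X} (hY : Y.IsSubnormal) : CharP p Y := by
  induction hY with
  | top => exact h.of_equiv Subgroup.topEquiv.symm
  | step H K hHK _ hN ih =>
    have h1 : CharP p (H.subgroupOf K) := @CharP.normal K _ _ p _ ih (H.subgroupOf K) hN
    exact h1.of_equiv (Subgroup.subgroupOfEquivOfLe hHK)

end Cfsg.Agent.Lib.Helper48
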