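import Cfsg.Agent.Lib.Helper34.TateDefs

set_option autoImplicit false

/-!
# [T4] extension of an invariant character of a normal subgroup of index `p`
-/

namespace Cfsg.Agent.Lib.Helper34.Tate

/-- [T4] extension of an invariant character of a normal subgroup of index `p` -/
theorem exists_extension {G : Type*} [Group G] [Finite G] {p : ℕ} [Fact p.Prime]
    (T : Subgroup G) [T.Normal] (hidx : T.index = p) {A : Type*} [CommGroup A] (k : T →* A)
    (hinv : ∀ (g : G) (t : T), k ⟨g * t * g⁻¹, ‹T.Normal›.conj_mem t t.2 g⟩ = k t)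
    (hpow : ∀ (g : G) (hg : g ^ p ∈ T), k ⟨g ^ p, hg⟩ = 1) :
    ∃ K : G →* A, ∀ t : T, K t = k t := by
  classical
  have hp : p.Prime := Fact.out
  -- an element outside `T`
  have hTtop : T ≠ ⊤ := by
    intro h
    rw [h, Subgroup.index_top] at hidx
    exact hp.one_lt.ne hidx
  obtain ⟨g, hg⟩ : ∃ g : G, g ∉ T := by
    by_contra h
    push Not at h
    exact hTtop (eq_top_iff.mpr fun x _ => h x)
  have hcard : Nat.card (G ⧸ T) = p := by
    rw [← hidx]; rfl
  have hg1 : (QuotientGroup.mk g : G ⧸ T) ≠ 1 := by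
    intro h
    exact hg ((QuotientGroup.eq_one_iff g).mp h)
  have hgen : Subgroup.zpowers (QuotientGroup.mk g : G ⧸ T) = ⊤ :=
    zpowers_eq_top_of_prime_card hcard hg1
  have hord : orderOf (QuotientGroup.mk g : G ⧸ T) = p := by
    have h1 : orderOf (QuotientGroup.mk g : G ⧸ T) ∣ p := by
      rw [← hcard]; exact orderOf_dvd_natCard _
    rcases (Nat.dvd_prime hp).mp h1 with h | h
    · exact absurd (orderOf_eq_one_iff.mp h) hg1
    · exact h
  -- powers of `g` lying in `T` are killed by `k`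
  have hkill : ∀ (n : ℤ) (h : g ^ n ∈ T), k ⟨g ^ n, h⟩ = 1 := by
    intro n h
    have h1 : (QuotientGroup.mk g : G ⧸ T) ^ n = 1 := by
      rw [← QuotientGroup.mk_zpow]
      exact (QuotientGroup.eq_one_iff _).mpr h
    have h2 : (p : ℤ) ∣ n := by
      rw [← hord]
      exact orderOf_dvd_iff_zpow_eq_one.mpr h1
    obtain ⟨m, rfl⟩ := h2
    have hgp : g ^ p ∈ T := by
      have : (QuotientGroup.mk (g ^ p) : G ⧸ T) = 1 := by
        rw [QuotientGroup.mk_pow, ← hord, pow_orderOf_eq_one]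
      exact (QuotientGroup.eq_one_iff _).mp this
    have e : (⟨g ^ ((p : ℤ) * m), h⟩ : T) = (⟨g ^ p, hgp⟩ : T) ^ m := by
      apply Subtype.ext
      simp [zpow_mul]
    rw [e, map_zpow, hpow g hgp, one_zpow]
  -- decomposition
  have hdec : ∀ x : G, ∃ (i : ℤ) (t : T), x = g ^ i * t := by
    intro x
    have hx : (QuotientGroup.mk x : G ⧸ T) ∈ Subgroup.zpowers (QuotientGroup.mk g : G ⧸ T) := by
      rw [hgen]; trivial
    obtain ⟨i, hi⟩ := Subgroup.mem_zpowers_iff.mp hx
    have hmem : (g ^ i)⁻¹ * x ∈ T := by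
      apply (QuotientGroup.eq_one_iff _).mp
      rw [QuotientGroup.mk_mul, QuotientGroup.mk_inv, QuotientGroup.mk_zpow, hi]
      simp
    exact ⟨i, ⟨_, hmem⟩, by simp⟩
  -- conjugation invariance, general form
  have hinv' : ∀ (a : G) (t : T) (h : a * t * a⁻¹ ∈ T), k ⟨a * t * a⁻¹, h⟩ = k t :=
    fun a t _ => hinv a t
  -- well-definedness
  have hwd : ∀ (i j : ℤ) (t s : T), g ^ i * (t : G) = g ^ j * (s : G) → k t = k s := by
    intro i j t s h
    have h1 : g ^ (i - j) = (s : G) * (t : G)⁻¹ := by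
      have h0 : g ^ (i - j) = (g ^ j)⁻¹ * g ^ i := by
        rw [sub_eq_neg_add, zpow_add, zpow_neg]
      have : g ^ i = g ^ j * (s : G) * (t : G)⁻¹ := by rw [← h]; group
      rw [h0, this]; group
    have hmem : g ^ (i - j) ∈ T := by
      rw [h1]; exact T.mul_mem s.2 (T.inv_mem t.2)
    have h2 := hkill (i - j) hmem
    have e : (⟨g ^ (i - j), hmem⟩ : T) = s * t⁻¹ := Subtype.ext h1
    rw [e, map_mul, map_inv, mul_inv_eq_one] at h2
    exact h2.symm
  -- the extension
  let f : G → A := fun x => k (Classical.choose (Classical.choose_spec (hdec x)))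
  have hf : ∀ (x : G) (i : ℤ) (t : T), x = g ^ i * t → f x = k t := by
    intro x i t hx
    have hs := Classical.choose_spec (Classical.choose_spec (hdec x))
    exact hwd _ _ _ _ (hs.symm.trans hx)
  have hmul : ∀ x y : G, f (x * y) = f x * f y := by
    intro x y
    obtain ⟨i, t, rfl⟩ := hdec x
    obtain ⟨j, s, rfl⟩ := hdec y
    have hc : (g ^ j)⁻¹ * (t : G) * ((g ^ j)⁻¹)⁻¹ ∈ T := ‹T.Normal›.conj_mem t t.2 _
    have e : g ^ i * (t : G) * (g ^ j * (s : G))
        = g ^ (i + j) * ((⟨(g ^ j)⁻¹ * (t : G) * ((g ^ j)⁻¹)⁻¹, hc⟩ * s : T) : G) := by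
      rw [zpow_add]
      simp only [Subgroup.coe_mul]
      group
    rw [hf _ (i + j) _ e, hf _ i t rfl, hf _ j s rfl, map_mul, hinv' _ t hc]
  refine ⟨MonoidHom.mk' f hmul, fun t => ?_⟩
  show f (t : G) = k t
  exact hf _ 0 t (by simp)

end Cfsg.Agent.Lib.Helper34.Tate
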