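import Cfsg.Agent.Lib.Helper34.TateDefs

set_option autoImplicit false

/-!
# [T5] fixed points of a `p`-group on an invariant subgroup of a finite `p`-group
-/

namespace Cfsg.Agent.Lib.Helper34.Tate

/-- [T5] fixed points of a `p`-group on an invariant subgroup of a finite `p`-group -/
theorem exists_fixed_ne_one {p : ℕ} [Fact p.Prime] {G : Type*} [Group G] [Finite G]
    (hG : IsPGroup p G) {V : Type*} [Group V] [Finite V] (hV : IsPGroup p V)
    (act : G →* MulAut V) (U : Subgroup V) (hU : ∀ g, ∀ k ∈ U, act g k ∈ U) (hne : U ≠ ⊥) :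
    ∃ k ∈ U, k ≠ 1 ∧ ∀ g, act g k = k := by
  classical
  letI inst : MulAction G U :=
    { smul := fun g u => ⟨act g u, hU g u u.2⟩
      one_smul := fun u => by
        apply Subtype.ext
        show act 1 (u : V) = u
        simp
      mul_smul := fun g h u => by
        apply Subtype.ext
        show act (g * h) (u : V) = act g (act h (u : V))
        simp }
  have hsm : ∀ (g : G) (u : U), ((g • u : U) : V) = act g u := fun _ _ => rfl
  have hUp : IsPGroup p U := hV.to_subgroup U
  have hnt : Nontrivial U := (Subgroup.nontrivial_iff_ne_bot U).mpr hne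
  have hdvd : p ∣ Nat.card U := by
    obtain ⟨n, hn⟩ := IsPGroup.iff_card.mp hUp
    have hn0 : n ≠ 0 := by
      rintro rfl
      have h1 : Nat.card U = 1 := by simpa using hn
      have := Finite.one_lt_card (α := U)
      omega
    rw [hn]
    exact dvd_pow_self p hn0
  have h1 : (1 : U) ∈ MulAction.fixedPoints G U := by
    intro g
    apply Subtype.ext
    rw [hsm]
    simp
  obtain ⟨b, hb, hb1⟩ := hG.exists_fixed_point_of_prime_dvd_card_of_fixed_point U hdvd h1
  refine ⟨b, b.2, ?_, ?_⟩
  · intro h
    apply hb1
    apply Subtype.ext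
    simpa using h.symm
  · intro g
    have := hb g
    have h2 := congrArg Subtype.val this
    rwa [hsm] at h2

end Cfsg.Agent.Lib.Helper34.Tate
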