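import Cfsg.Agent.Lib.Helper48.Gt_P1Defs

/-! # Gt hive (S2734, helper37): leaf GT-STAB-NEG `not_P1_Yn4` -/

set_option autoImplicit false
set_option linter.unusedSectionVars false
set_option linter.unusedVariables false

namespace Cfsg.Agent.Lib.Helper37.Gt

open Matrix Module QuadraticMap
open Cfsg.Agent.Lib.Helper8 Cfsg.Agent.Lib.Helper13 Cfsg.Agent.Lib.Helper37 Cfsg.Agent.Lib.Helper37.D4O8

variable {F : Type*} [Field F]

/-- GT-STAB-NEG. `Yn 4 1 = X 5 1 * X 10 1 * X 11 1` maps `e₁` to `e₁ + e₂`. -/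
theorem not_P1_Yn4 : ¬ P1 (Yn 4 (1 : F)) := by
  rintro ⟨c, hc, h⟩
  rw [Yn_4] at h
  simp only [act_mul] at h
  simp only [act_X5, act_X10, act_X11] at h
  have h2 := congrArg ca2 h
  simp [ve1] at h2

end Cfsg.Agent.Lib.Helper37.Gt
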