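import Cfsg.Agent.Lib.Helper48.Gt_P1Defs

/-! # Gt hive (S2734, helper37): leaf GT-STAB-Z `P1_center` -/

set_option autoImplicit false
set_option linter.unusedSectionVars false
set_option linter.unusedVariables false

namespace Cfsg.Agent.Lib.Helper37.Gt

open Matrix Module QuadraticMap
open Cfsg.Agent.Lib.Helper8 Cfsg.Agent.Lib.Helper13 Cfsg.Agent.Lib.Helper37 Cfsg.Agent.Lib.Helper37.D4O8

variable {F : Type*} [Field F]

/-- a vector fixed by `X 18 1, …, X 23 1` is a multiple of `e₁` -/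
theorem stabz_fixed (v : I8 → F)
    (h18 : act (Q8 F) (X 18 1) v = v) (h19 : act (Q8 F) (X 19 1) v = v)
    (h20 : act (Q8 F) (X 20 1) v = v) (h21 : act (Q8 F) (X 21 1) v = v)
    (h22 : act (Q8 F) (X 22 1) v = v) (h23 : act (Q8 F) (X 23 1) v = v) :
    v = ca1 v • ve1 := by
  rw [act_X18] at h18
  rw [act_X19] at h19
  rw [act_X20] at h20
  rw [act_X21] at h21
  rw [act_X22] at h22
  rw [act_X23] at h23
  have a2 : ca2 v = 0 := by
    have := congrArg ca1 h18
    simpa using this
  have b1 : cb1 v = 0 := by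
    have := congrArg cb2 h18
    simpa using this
  have a3 : ca3 v = 0 := by
    have := congrArg ca1 h19
    simpa using this
  have b4 : cb4 v = 0 := by
    have := congrArg ca1 h20
    simpa using this
  have a4 : ca4 v = 0 := by
    have := congrArg ca1 h21
    simpa using this
  have b3 : cb3 v = 0 := by
    have := congrArg ca1 h22
    simpa using this
  have b2 : cb2 v = 0 := by
    have := congrArg ca1 h23
    simpa using this
  apply ext8 <;> simp [ve1, a2, a3, a4, b1, b2, b3, b4]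

/-- the positive root elements `X r t`, `18 ≤ r`, fix `e₁` -/
theorem stabz_fix_e1 (r : Fin 24) (hr : 18 ≤ r.val) (t : F) : act (Q8 F) (X r t) (ve1 : I8 → F) = ve1 := by
  have h : r = 18 ∨ r = 19 ∨ r = 20 ∨ r = 21 ∨ r = 22 ∨ r = 23 := by
    rcases r with ⟨r, hr'⟩
    simp only [Fin.ext_iff] at hr ⊢
    have : r = 18 ∨ r = 19 ∨ r = 20 ∨ r = 21 ∨ r = 22 ∨ r = 23 := by omega
    rcases this with h | h | h | h | h | h <;> subst h <;> simp
  rcases h with h | h | h | h | h | h <;> subst h
  · rw [act_X18]; apply ext8 <;> simp [ve1]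
  · rw [act_X19]; apply ext8 <;> simp [ve1]
  · rw [act_X20]; apply ext8 <;> simp [ve1]
  · rw [act_X21]; apply ext8 <;> simp [ve1]
  · rw [act_X22]; apply ext8 <;> simp [ve1]
  · rw [act_X23]; apply ext8 <;> simp [ve1]

/-- GT-STAB-Z. A central element `z` of `EE F` commutes with `X r 1` (`r ≥ 18`), which fix `e₁`; so `z e₁` is fixed by all of
them, and the common fixed vectors of `X 18 1, …, X 23 1` are the multiples of `e₁`; `z e₁ ≠ 0`. -/
theorem P1_center (z : ↥(EE F)) (hz : z ∈ Subgroup.center ↥(EE F)) : P1 (z : OG F) := by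
  have hcomm : ∀ r : Fin 24, X r (1 : F) * (z : OG F) = (z : OG F) * X r 1 := by
    intro r
    have h := Subgroup.mem_center_iff.1 hz ⟨X r 1, X_mem_EE r 1⟩
    exact congrArg Subtype.val h
  have hfix : ∀ r : Fin 24, 18 ≤ r.val →
      act (Q8 F) (X r 1) (act (Q8 F) (z : OG F) ve1) = act (Q8 F) (z : OG F) ve1 := by
    intro r hr
    rw [← act_mul, hcomm r, act_mul, stabz_fix_e1 r hr]
  have hv := stabz_fixed (act (Q8 F) (z : OG F) ve1) (hfix 18 (by decide)) (hfix 19 (by decide))
    (hfix 20 (by decide)) (hfix 21 (by decide)) (hfix 22 (by decide)) (hfix 23 (by decide))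
  refine ⟨ca1 (act (Q8 F) (z : OG F) ve1), ?_, hv⟩
  intro h0
  rw [h0, zero_smul] at hv
  have h1 : act (Q8 F) ((z : OG F)⁻¹) (act (Q8 F) (z : OG F) ve1) = ve1 := by
    rw [← act_mul, inv_mul_cancel, act_one]
  rw [hv] at h1
  have h2 : act (Q8 F) ((z : OG F)⁻¹) (0 : I8 → F) = 0 := by
    unfold act
    exact Matrix.mulVec_zero _
  rw [h2] at h1
  have h3 := congrArg ca1 h1
  simp [ve1] at h3

end Cfsg.Agent.Lib.Helper37.Gt
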