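import Mathlib
import Cfsg.Agent.Lib.Helper99.SympForm
import Cfsg.Agent.Lib.Helper59.TqDefs

/-! # TQ-DEREVEN (helper48, for helper59's Tq hive): the model space

`(Fin N → W) × C` with the quadratic form `Σ_l Q0 (w l) + Qc c` and the map
`(w, c) ↦ (l ↦ y ^ (s l) (w l), c)`. -/

set_option autoImplicit false

namespace Cfsg.Agent.Lib.Helper59.Tq

open Module

section dereven_defs

variable {F : Type*} [Field F] {W : Type*} [AddCommGroup W] [Module F W]
  {C : Type*} [AddCommGroup C] [Module F C]

/-- the quadratic form of the model -/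
noncomputable def dereven_Q (Q0 : QuadraticForm F W) (Qc : QuadraticForm F C) (N : ℕ) :
    QuadraticForm F ((Fin N → W) × C) :=
  (QuadraticMap.pi fun _ : Fin N => Q0).prod Qc

theorem dereven_Q_apply (Q0 : QuadraticForm F W) (Qc : QuadraticForm F C) (N : ℕ)
    (m : (Fin N → W) × C) : dereven_Q Q0 Qc N m = ∑ l, Q0 (m.1 l) + Qc m.2 := by
  unfold dereven_Q
  rw [QuadraticMap.prod_apply, QuadraticMap.pi_apply]

theorem dereven_polar (Q0 : QuadraticForm F W) (Qc : QuadraticForm F C) (N : ℕ)
    (m m' : (Fin N → W) × C) :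
    QuadraticMap.polar (dereven_Q Q0 Qc N) m m' =
      ∑ l, QuadraticMap.polar Q0 (m.1 l) (m'.1 l) + QuadraticMap.polar Qc m.2 m'.2 := by
  unfold dereven_Q
  rw [QuadraticMap.polar_prod, QuadraticMap.Ring.polar_pi]

/-- the map of the model on the block part -/
noncomputable def dereven_gR {N : ℕ} (y : Module.End F W) (s : Fin N → ℕ) :
    Module.End F (Fin N → W) :=
  LinearMap.pi fun l => (y ^ s l) ∘ₗ LinearMap.proj l

theorem dereven_gR_apply {N : ℕ} (y : Module.End F W) (s : Fin N → ℕ) (w : Fin N → W) (l : Fin N) :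
    dereven_gR y s w l = (y ^ s l) (w l) := rfl

/-- the map of the model -/
noncomputable def dereven_g (C : Type*) [AddCommGroup C] [Module F C] {N : ℕ}
    (y : Module.End F W) (s : Fin N → ℕ) : Module.End F ((Fin N → W) × C) :=
  LinearMap.prodMap (dereven_gR y s) LinearMap.id

theorem dereven_g_apply {N : ℕ} (y : Module.End F W) (s : Fin N → ℕ) (m : (Fin N → W) × C) :
    dereven_g C y s m = (dereven_gR y s m.1, m.2) := rfl

/-- the exponent pattern: the types `1, …, u - 1` once each, then the type `0` -/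
def dereven_tau (u N : ℕ) (hu : 0 < u) (l : Fin N) : Fin u :=
  if h : l.val + 1 < u then ⟨l.val + 1, h⟩ else ⟨0, hu⟩

end dereven_defs

end Cfsg.Agent.Lib.Helper59.Tq
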