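import Cfsg.Agent.Lib.Helper6.FH.BDefs

/-! # FH-B1 (helper48, for helper6's Feit–Higman project): products of Hecke operators with the idempotent `hop 1` -/

set_option autoImplicit false
set_option linter.unusedSectionVars false

namespace Cfsg.Agent.Lib.Helper6.FH

open Cfsg Cfsg.Agent.Lib.Helper6 Cfsg.Agent.Lib.Helper6.St Cfsg.Agent.S0320

variable {G : Type*} [Group G] [Fintype G] (P : Cfsg.BNPair G)
variable {V : Type*} [AddCommGroup V] [Module ℂ V] (ρ : Representation ℂ G V)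

open Classical in
/-- the un-normalised cell sum -/
noncomputable def b1_S (w : Wg P) : Module.End ℂ V := ∑ g : G, if g ∈ Cw P w then ρ g else 0

lemma b1_hop_eq (w : Wg P) : hop P ρ w = (Nat.card P.B : ℂ)⁻¹ • b1_S P ρ w := rfl

lemma b1_mul_mem_iff (w : Wg P) {b k : G} (hb : b ∈ P.B) : b * k ∈ Cw P w ↔ k ∈ Cw P w := by
  unfold Cw
  constructor
  · intro h
    have := mul_mem_C_left P (P.B.inv_mem hb) h
    simpa using this
  · exact mul_mem_C_left P hb

lemma b1_mem_mul_iff (w : Wg P) {b k : G} (hb : b ∈ P.B) : k * b ∈ Cw P w ↔ k ∈ Cw P w := by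
  unfold Cw
  constructor
  · intro h
    have := mul_mem_C_right P (P.B.inv_mem hb) h
    simpa using this
  · exact mul_mem_C_right P hb

lemma b1_rho_mul_S (w : Wg P) {b : G} (hb : b ∈ P.B) : ρ b * b1_S P ρ w = b1_S P ρ w := by
  classical
  unfold b1_S
  rw [Finset.mul_sum]
  refine Fintype.sum_equiv (Equiv.mulLeft b) _ _ ?_
  intro g
  have e : (Equiv.mulLeft b) g = b * g := rfl
  by_cases hg : g ∈ Cw P w
  · have hg' : (Equiv.mulLeft b) g ∈ Cw P w := by rw [e]; exact (b1_mul_mem_iff P w hb).mpr hg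
    rw [if_pos hg, if_pos hg', e, map_mul]
  · have hg' : ¬ (Equiv.mulLeft b) g ∈ Cw P w := by
      rw [e]; exact fun h => hg ((b1_mul_mem_iff P w hb).mp h)
    rw [if_neg hg, if_neg hg', mul_zero]

lemma b1_S_mul_rho (w : Wg P) {b : G} (hb : b ∈ P.B) : b1_S P ρ w * ρ b = b1_S P ρ w := by
  classical
  unfold b1_S
  rw [Finset.sum_mul]
  refine Fintype.sum_equiv (Equiv.mulRight b) _ _ ?_
  intro g
  have e : (Equiv.mulRight b) g = g * b := rfl
  by_cases hg : g ∈ Cw P w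
  · have hg' : (Equiv.mulRight b) g ∈ Cw P w := by rw [e]; exact (b1_mem_mul_iff P w hb).mpr hg
    rw [if_pos hg, if_pos hg', e, map_mul]
  · have hg' : ¬ (Equiv.mulRight b) g ∈ Cw P w := by
      rw [e]; exact fun h => hg ((b1_mem_mul_iff P w hb).mp h)
    rw [if_neg hg, if_neg hg', zero_mul]

open Classical in
lemma b1_card_ite (w : Wg P) :
    (∑ g : G, if g ∈ Cw P w then (1 : ℂ) else 0) = (Nat.card (Cw P w) : ℂ) := by
  classical
  rw [Finset.sum_ite, Finset.sum_const_zero, add_zero, Finset.sum_const, nsmul_eq_mul, mul_one]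
  congr 1
  rw [Nat.card_eq_fintype_card, Fintype.card_subtype]

lemma b1_S_one_mul (w : Wg P) : b1_S P ρ 1 * b1_S P ρ w = (Nat.card P.B : ℂ) • b1_S P ρ w := by
  classical
  have h1 : b1_S P ρ 1 * b1_S P ρ w = ∑ g : G, if g ∈ Cw P (1 : Wg P) then b1_S P ρ w else 0 := by
    conv_lhs => unfold b1_S
    rw [Finset.sum_mul]
    refine Finset.sum_congr rfl ?_
    intro g _
    by_cases hg : g ∈ Cw P (1 : Wg P)
    · rw [if_pos hg, if_pos hg]
      have hb : g ∈ P.B := by rw [Cw_one] at hg; exact hg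
      have := b1_rho_mul_S P ρ w hb
      unfold b1_S at this ⊢
      exact this
    · rw [if_neg hg, if_neg hg, zero_mul]
  rw [h1]
  have h2 : (∑ g : G, if g ∈ Cw P (1 : Wg P) then b1_S P ρ w else 0) =
      (∑ g : G, if g ∈ Cw P (1 : Wg P) then (1 : ℂ) else 0) • b1_S P ρ w := by
    rw [Finset.sum_smul]
    refine Finset.sum_congr rfl ?_
    intro g _
    by_cases hg : g ∈ Cw P (1 : Wg P)
    · rw [if_pos hg, if_pos hg, one_smul]
    · rw [if_neg hg, if_neg hg, zero_smul]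
  rw [h2, b1_card_ite, Cw_one]
  rfl

lemma b1_S_mul_one (w : Wg P) : b1_S P ρ w * b1_S P ρ 1 = (Nat.card P.B : ℂ) • b1_S P ρ w := by
  classical
  have h1 : b1_S P ρ w * b1_S P ρ 1 = ∑ g : G, if g ∈ Cw P (1 : Wg P) then b1_S P ρ w else 0 := by
    conv_lhs => rw [show b1_S P ρ 1 = ∑ g : G, if g ∈ Cw P (1 : Wg P) then ρ g else 0 from rfl]
    rw [Finset.mul_sum]
    refine Finset.sum_congr rfl ?_
    intro g _
    by_cases hg : g ∈ Cw P (1 : Wg P)
    · rw [if_pos hg, if_pos hg]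
      have hb : g ∈ P.B := by rw [Cw_one] at hg; exact hg
      exact b1_S_mul_rho P ρ w hb
    · rw [if_neg hg, if_neg hg, mul_zero]
  rw [h1]
  have h2 : (∑ g : G, if g ∈ Cw P (1 : Wg P) then b1_S P ρ w else 0) =
      (∑ g : G, if g ∈ Cw P (1 : Wg P) then (1 : ℂ) else 0) • b1_S P ρ w := by
    rw [Finset.sum_smul]
    refine Finset.sum_congr rfl ?_
    intro g _
    by_cases hg : g ∈ Cw P (1 : Wg P)
    · rw [if_pos hg, if_pos hg, one_smul]
    · rw [if_neg hg, if_neg hg, zero_smul]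
  rw [h2, b1_card_ite, Cw_one]
  rfl

lemma b1_cardB_ne_zero : (Nat.card P.B : ℂ) ≠ 0 := by
  have : Nat.card P.B ≠ 0 := Nat.card_pos.ne'
  exact_mod_cast this

theorem hop_one_mul (w : Wg P) : hop P ρ 1 * hop P ρ w = hop P ρ w := by
  rw [b1_hop_eq, b1_hop_eq, smul_mul_smul_comm, b1_S_one_mul, smul_smul]
  congr 1
  have := b1_cardB_ne_zero P
  field_simp

theorem hop_mul_one (w : Wg P) : hop P ρ w * hop P ρ 1 = hop P ρ w := by
  rw [b1_hop_eq, b1_hop_eq, smul_mul_smul_comm, b1_S_mul_one, smul_smul]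
  congr 1
  have := b1_cardB_ne_zero P
  field_simp

/-- the sandwich `S₁ ρ(k) S₁` is constant on a cell -/
lemma b1_sandwich_const {w : Wg P} {g k : G} (hg : g ∈ Cw P w) (hk : k ∈ Cw P w) :
    b1_S P ρ 1 * ρ k * b1_S P ρ 1 = b1_S P ρ 1 * ρ g * b1_S P ρ 1 := by
  have hk' : k ∈ C P g := by
    unfold Cw at hg hk
    rw [C_eq_of_mem P hg]
    exact hk
  rw [mem_C] at hk'
  obtain ⟨x, hx, y, hy, rfl⟩ := hk'
  rw [map_mul, map_mul]
  calc b1_S P ρ 1 * (ρ x * ρ g * ρ y) * b1_S P ρ 1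
      = (b1_S P ρ 1 * ρ x) * ρ g * (ρ y * b1_S P ρ 1) := by simp only [mul_assoc]
    _ = b1_S P ρ 1 * ρ g * b1_S P ρ 1 := by rw [b1_S_mul_rho P ρ 1 hx, b1_rho_mul_S P ρ 1 hy]

theorem hop_sandwich {w : Wg P} {g : G} (hg : g ∈ Cw P w) :
    hop P ρ 1 * ρ g * hop P ρ 1 = (qidx P w : ℂ)⁻¹ • hop P ρ w := by
  classical
  -- sum the constant sandwich over the cell
  have h1 : b1_S P ρ 1 * b1_S P ρ w * b1_S P ρ 1 =
      (Nat.card (Cw P w) : ℂ) • (b1_S P ρ 1 * ρ g * b1_S P ρ 1) := by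
    conv_lhs => rw [show b1_S P ρ w = ∑ k : G, if k ∈ Cw P w then ρ k else 0 from rfl]
    rw [Finset.mul_sum, Finset.sum_mul, ← b1_card_ite, Finset.sum_smul]
    refine Finset.sum_congr rfl ?_
    intro k _
    by_cases hk : k ∈ Cw P w
    · rw [if_pos hk, if_pos hk, one_smul]
      exact b1_sandwich_const P ρ hg hk
    · rw [if_neg hk, if_neg hk, zero_smul, mul_zero, zero_mul]
  have h2 : b1_S P ρ 1 * b1_S P ρ w * b1_S P ρ 1 =
      ((Nat.card P.B : ℂ) * (Nat.card P.B : ℂ)) • b1_S P ρ w := by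
    rw [b1_S_one_mul, smul_mul_assoc, b1_S_mul_one, smul_smul]
  have hB := b1_cardB_ne_zero P
  have hq : (qidx P w : ℂ) ≠ 0 := by
    have : qidx P w ≠ 0 := (qidx_pos P w).ne'
    exact_mod_cast this
  have hcard : (Nat.card (Cw P w) : ℂ) = (qidx P w : ℂ) * (Nat.card P.B : ℂ) := by
    rw [card_Cw]
    push_cast
    ring
  have h3 : b1_S P ρ 1 * ρ g * b1_S P ρ 1 =
      ((qidx P w : ℂ)⁻¹ * (Nat.card P.B : ℂ)) • b1_S P ρ w := by
    have h4 : (Nat.card (Cw P w) : ℂ) • (b1_S P ρ 1 * ρ g * b1_S P ρ 1) =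
        ((Nat.card P.B : ℂ) * (Nat.card P.B : ℂ)) • b1_S P ρ w := by rw [← h1, h2]
    have hc : (Nat.card (Cw P w) : ℂ) ≠ 0 := by rw [hcard]; exact mul_ne_zero hq hB
    have h5 : b1_S P ρ 1 * ρ g * b1_S P ρ 1 =
        (Nat.card (Cw P w) : ℂ)⁻¹ • ((Nat.card (Cw P w) : ℂ) • (b1_S P ρ 1 * ρ g * b1_S P ρ 1)) := by
      rw [smul_smul, inv_mul_cancel₀ hc, one_smul]
    rw [h5, h4, smul_smul, hcard]
    congr 1
    field_simp
  have h6 : hop P ρ 1 * ρ g * hop P ρ 1 =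
      ((Nat.card P.B : ℂ)⁻¹ * (Nat.card P.B : ℂ)⁻¹) • (b1_S P ρ 1 * ρ g * b1_S P ρ 1) := by
    rw [b1_hop_eq]
    simp only [smul_mul_assoc, mul_smul_comm, smul_smul]
  rw [h6, h3, b1_hop_eq, smul_smul, smul_smul]
  congr 1
  field_simp

end Cfsg.Agent.Lib.Helper6.FH
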