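import Mathlib
import Cfsg.Agent.Lib.Helper47.G42Defs
import Cfsg.Agent.Lib.Helper48.Order120
import Cfsg.Agent.Lib.Helper5.Order60

/-!
# G42 hive (S2553, owner helper47): leaf G42-O120

A group of order `120` without non-trivial solvable normal subgroups is `S₅`.
-/

set_option autoImplicit false

namespace Cfsg.Agent.Lib.Helper47.G42

open Equiv
open Cfsg.Agent.Lib.Helper48.O120
open Cfsg.Agent.Lib.Helper17

/-- In a simple group of order `60` the normaliser of a Sylow `2`-subgroup has index `5`. -/
theorem o120_index_normalizer {M : Type*} [Group M] [Finite M] [IsSimpleGroup M]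
    (h : Nat.card M = 60) [Fact (Nat.Prime 2)] (V : Sylow 2 M) :
    (Subgroup.normalizer ((V : Subgroup M) : Set M)).index = 5 := by
  classical
  have hV : Nat.card (V : Subgroup M) = 4 := by
    have hG' : Nat.card M = 2 ^ 2 * 15 := by rw [h]; norm_num
    simpa using card_sylow_of_card_eq V hG' (by norm_num)
  have hidxV : (V : Subgroup M).index = 15 := by
    have := (V : Subgroup M).card_mul_index
    rw [hV, h] at this
    omega
  have hn : Nat.card (Sylow 2 M) = (Subgroup.normalizer ((V : Subgroup M) : Set M)).index := V.card_eq_index_normalizer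
  have h1 : (Subgroup.normalizer ((V : Subgroup M) : Set M)).index ≡ 1 [MOD 2] := hn ▸ card_sylow_modEq_one 2 M
  have h2 : (Subgroup.normalizer ((V : Subgroup M) : Set M)).index ∣ 15 := hidxV ▸ hn ▸ Sylow.card_dvd_index V
  have hcm := (Subgroup.normalizer ((V : Subgroup M) : Set M)).card_mul_index
  rw [h] at hcm
  have hle : (V : Subgroup M) ≤ Subgroup.normalizer ((V : Subgroup M) : Set M) := Subgroup.le_normalizer
  generalize hN : Subgroup.normalizer ((V : Subgroup M) : Set M) = N at *
  generalize hk : N.index = k at *
  have hk15 : k ≤ 15 := Nat.le_of_dvd (by norm_num) h2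
  have hk0 : 0 < k := Nat.pos_of_dvd_of_pos h2 (by norm_num)
  unfold Nat.ModEq at h1
  have hcases : k = 1 ∨ k = 3 ∨ k = 5 ∨ k = 15 := by
    interval_cases k <;> omega
  rcases hcases with rfl | rfl | rfl | rfl
  · -- normal Sylow 2
    exfalso
    have htop : N = ⊤ := Subgroup.index_eq_one.mp hk
    have hnorm : (V : Subgroup M).Normal := Subgroup.normalizer_eq_top_iff.mp (hN.trans htop)
    rcases hnorm.eq_bot_or_eq_top with hb | ht
    · rw [hb, Subgroup.card_bot] at hV; omega
    · rw [ht, Subgroup.card_top, h] at hV; omega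
  · -- index 3
    exfalso
    have hne : N ≠ ⊤ := by
      intro ht
      rw [ht, Subgroup.index_top] at hk
      omega
    have := Cfsg.Agent.Lib.Helper5.card_dvd_factorial_index N hne
    rw [h, hk] at this
    revert this
    decide
  · rfl
  · -- index 15: Burnside transfer
    exfalso
    have hNcard : Nat.card N = 4 := by omega
    have hNV : (V : Subgroup M) = N :=
      Subgroup.eq_of_le_of_card_ge hle (by rw [hNcard, hV])
    have hcomm : ∀ a b : (V : Subgroup M), a * b = b * a :=
      (IsPGroup.isMulCommutative_of_card_eq_prime_sq (p := 2) (by rw [hV]; norm_num)).is_comm.comm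
    have hP : Subgroup.normalizer ((V : Subgroup M) : Set M) ≤ Subgroup.centralizer (V : Set M) := by
      rw [hN, ← hNV]
      intro x hx y hy
      have := hcomm ⟨y, hy⟩ ⟨x, hx⟩
      exact congrArg Subtype.val this
    have hcompl := MonoidHom.ker_transferSylow_isComplement' V hP
    have hcard := hcompl.card_mul_card
    rw [hV, h] at hcard
    have hker : Nat.card (MonoidHom.transferSylow V hP).ker = 15 := by omega
    rcases (MonoidHom.normal_ker (MonoidHom.transferSylow V hP)).eq_bot_or_eq_top with hb | ht
    · rw [hb, Subgroup.card_bot] at hker; omega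
    · rw [ht, Subgroup.card_top, h] at hker; omega

/-- LEAF G42-O120. -/
theorem equiv_perm5_of_card_120 {G : Type*} [Group G] [Finite G] (h : Nat.card G = 120)
    (hR : RadFree G) : Nonempty (G ≃* Perm (Fin 5)) := by
  classical
  have hp2 : Fact (Nat.Prime 2) := ⟨Nat.prime_two⟩
  have : Nontrivial G := (Finite.one_lt_card_iff_nontrivial).mp (by rw [h]; norm_num)
  -- `G` is not simple
  have hs : ¬ IsSimpleGroup G := fun hs => not_simple_of_card_120 h
  obtain ⟨M, hMn, hMb, hMt⟩ := exists_normal_of_not_simple hs
  obtain ⟨h1, h2, h3, h4, h5⟩ := card_lt_of_normal M hMb hMt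
  rw [h] at h1 h2 h3
  -- `M` is not solvable, so of order 60
  have hMns : ¬ Group.IsSolvable M := fun hsol => hMb (hR M hMn hsol)
  have hM60 : Nat.card M = 60 := by
    have hge : 60 ≤ Nat.card M := by
      by_contra hlt
      push Not at hlt
      exact hMns (solvable_of_card_lt_sixty _ M rfl hlt)
    have hdvd : Nat.card M ∣ 120 := ⟨Nat.card (G ⧸ M), by rw [← h3, mul_comm]⟩
    generalize Nat.card M = m at *
    interval_cases m <;> omega
  have hMidx : M.index = 2 := by
    have := M.card_mul_index
    rw [hM60, h] at this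
    omega
  have hMsimple : IsSimpleGroup M := simple_of_card_sixty hM60 hMns
  -- the Sylow 2 of `M` and its normaliser in `G`
  let V : Sylow 2 M := default
  have hV5 := o120_index_normalizer hM60 V
  set K : Subgroup G := Subgroup.normalizer (((V : Subgroup M).map M.subtype : Subgroup G) : Set G)
    with hK
  have hfr : K ⊔ M = ⊤ := Sylow.normalizer_sup_eq_top V
  have hrelM : M.relIndex K = 2 := by
    rw [← Subgroup.relIndex_sup_right, hfr, Subgroup.relIndex_top_right, hMidx]
  have hVle : (V : Subgroup M).map M.subtype ≤ M := Subgroup.map_subtype_le _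
  have hrelK : K.relIndex M = 5 := by
    have e1 : K.subgroupOf M = Subgroup.normalizer ((V : Subgroup M) : Set M) := by
      rw [hK, Subgroup.subgroupOf_normalizer_eq hVle]
      congr 1
      rw [Subgroup.subgroupOf, Subgroup.comap_map_eq_self_of_injective M.subtype_injective]
    rw [Subgroup.relIndex, e1, hV5]
  have hKidx : K.index = 5 := by
    have e1 : (K ⊓ M).relIndex K * K.index = (K ⊓ M).index :=
      Subgroup.relIndex_mul_index inf_le_left
    have e2 : (K ⊓ M).relIndex M * M.index = (K ⊓ M).index :=
      Subgroup.relIndex_mul_index inf_le_right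
    rw [Subgroup.inf_relIndex_left, hrelM] at e1
    rw [Subgroup.inf_relIndex_right, hrelK, hMidx] at e2
    omega
  have hKcard : Nat.card K = 24 := by
    have := K.card_mul_index
    rw [hKidx, h] at this
    omega
  -- the action on the cosets of `K` is faithful
  let f : G →* Perm (G ⧸ K) := MulAction.toPermHom G (G ⧸ K)
  have hker : f.ker = ⊥ := by
    apply hR _ (MonoidHom.normal_ker f)
    have hle : f.ker ≤ K := by
      rw [← Subgroup.normalCore_eq_ker]
      exact Subgroup.normalCore_le K
    have hcard : Nat.card f.ker ≤ 24 := hKcard ▸ Subgroup.card_le_of_le hle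
    exact solvable_of_card_lt_sixty _ f.ker rfl (by omega)
  have hinj : Function.Injective f := (MonoidHom.ker_eq_bot_iff f).mp hker
  have hq : Nat.card (G ⧸ K) = 5 := hKidx
  have e5 : (G ⧸ K) ≃ Fin 5 := Finite.equivFinOfCardEq hq
  let g : G →* Perm (Fin 5) := (e5.permCongrHom : Perm (G ⧸ K) →* Perm (Fin 5)).comp f
  have hginj : Function.Injective g := by
    intro a b hab
    exact hinj (e5.permCongrHom.injective hab)
  have hgbij : Function.Bijective g := by
    rw [Nat.bijective_iff_injective_and_card]
    refine ⟨hginj, ?_⟩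
    rw [h, Nat.card_eq_fintype_card, Fintype.card_perm, Fintype.card_fin]
    rfl
  exact ⟨MulEquiv.ofBijective g hgbij⟩

end Cfsg.Agent.Lib.Helper47.G42
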