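import Mathlib
import Cfsg.Agent.Lib.Helper47.G42Defs
import Cfsg.Agent.Lib.Helper48.Order120
import Cfsg.Agent.Lib.Helper5.Order60

/-!
# G42 hive (S2553, owner helper47): leaves G42-O60 and G42-SIMP168
-/

set_option autoImplicit false

namespace Cfsg.Agent.Lib.Helper47.G42

open Equiv
open Cfsg.Agent.Lib.Helper48.O120
open Cfsg.Agent.Lib.Helper17

/-- LEAF G42-O60. -/
theorem equiv_alt5_of_card_60 {G : Type*} [Group G] [Finite G] (h : Nat.card G = 60)
    (hns : ¬ Group.IsSolvable G) : Nonempty (G ≃* alternatingGroup (Fin 5)) := by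
  have := simple_of_card_sixty h hns
  exact Cfsg.Agent.Lib.Helper5.mulEquiv_alternatingGroup_five_of_card_eq_sixty h

/-- a group of order `84` is solvable (normal Sylow `7`). -/
theorem simp168_solvable_84 {H : Type*} [Group H] [Finite H] (h : Nat.card H = 84) :
    Group.IsSolvable H := by
  classical
  have : Fact (Nat.Prime 7) := ⟨by norm_num⟩
  let P : Sylow 7 H := default
  have hP : Nat.card (P : Subgroup H) = 7 := by
    have hG' : Nat.card H = 7 ^ 1 * 12 := by rw [h]; norm_num
    simpa using card_sylow_of_card_eq P hG' (by norm_num)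
  have hidx : (P : Subgroup H).index = 12 := by
    have := (P : Subgroup H).card_mul_index
    rw [hP, h] at this
    omega
  have hn7 : Nat.card (Sylow 7 H) = 1 := by
    have h1 : Nat.card (Sylow 7 H) ≡ 1 [MOD 7] := card_sylow_modEq_one 7 H
    have h2 : Nat.card (Sylow 7 H) ∣ 12 := hidx ▸ Sylow.card_dvd_index P
    have h4 : Nat.card (Sylow 7 H) ≤ 12 := Nat.le_of_dvd (by norm_num) h2
    have h0 : 0 < Nat.card (Sylow 7 H) := Nat.pos_of_dvd_of_pos h2 (by norm_num)
    generalize Nat.card (Sylow 7 H) = k at *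
    unfold Nat.ModEq at h1
    interval_cases k <;> omega
  have hnorm : (P : Subgroup H).Normal := by
    have : Subsingleton (Sylow 7 H) := (Nat.card_eq_one_iff_unique.mp hn7).1
    exact Sylow.normal_of_subsingleton P
  have hq : Nat.card (H ⧸ (P : Subgroup H)) = 12 := hidx
  exact solvable_of_normal (P : Subgroup H)
    (solvable_of_card_lt_sixty _ (P : Subgroup H) rfl (by omega))
    (solvable_of_card_lt_sixty _ (H ⧸ (P : Subgroup H)) rfl (by omega))

/-- LEAF G42-SIMP168. -/
theorem simple_of_card_168 {G : Type*} [Group G] [Finite G] (h : Nat.card G = 168)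
    (hns : ¬ Group.IsSolvable G) : IsSimpleGroup G := by
  by_contra hs
  have : Nontrivial G := (Finite.one_lt_card_iff_nontrivial).mp (by rw [h]; norm_num)
  obtain ⟨M, hMn, hMb, hMt⟩ := exists_normal_of_not_simple hs
  obtain ⟨h1, h2, h3, h4, h5⟩ := card_lt_of_normal M hMb hMt
  rw [h] at h1 h2 h3
  have key : ∀ a b : ℕ, a * b = 168 → 1 < a → 1 < b → b < 60 ∨ b = 84 := by
    intro a b hab ha hb
    have hdvd : b ∣ 168 := ⟨a, by rw [← hab, mul_comm]⟩
    have hle : b ≤ 84 := by nlinarith
    by_cases hlt : b < 60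
    · exact Or.inl hlt
    · right
      push Not at hlt
      interval_cases b <;> omega
  have s1 : Group.IsSolvable M := by
    rcases key _ _ h3 h5 h4 with hlt | heq
    · exact solvable_of_card_lt_sixty _ M rfl hlt
    · exact simp168_solvable_84 heq
  have s2 : Group.IsSolvable (G ⧸ M) := by
    rcases key _ _ (by rw [mul_comm]; exact h3) h4 h5 with hlt | heq
    · exact solvable_of_card_lt_sixty _ (G ⧸ M) rfl hlt
    · exact simp168_solvable_84 heq
  exact hns (solvable_of_normal M s1 s2)

end Cfsg.Agent.Lib.Helper47.G42
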