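import Cfsg.Agent.Lib.Helper48.BG139T9

/-!
# B&G 13.9 (S1378): the statement from the bundle `Hyps G`

`s1378_of_hyps` : both conjuncts of S1378, given `Hyps G` (13.1(a), T2, T3, T5, T6 for all
configurations).
-/

set_option autoImplicit false
set_option linter.style.haveILetI false
set_option linter.unusedSectionVars false

universe u

namespace Cfsg.Agent.Lib.Helper48.BG139

open Subgroup Cfsg Cfsg.Agent.Lib.Helper21.BG139 Cfsg.Agent.Lib.Helper47.BG139
  Cfsg.Agent.Lib.Helper33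

variable {G : Type u} [Group G] [Finite G]

/-- for `p ∈ σ(M)`, `M` contains a Sylow `p`-subgroup of `G` -/
theorem exists_sylow_le_of_sigma {M : Subgroup G} {p : ℕ} [Fact p.Prime] (hp : p ∈ sigma M) :
    ∃ P : Sylow p G, (↑P : Subgroup G) ≤ M := by
  obtain ⟨-, Q, hQM, hQp, hQi, hQN⟩ := Cfsg.Agent.Lib.Helper32.BG12.mem_sigma_iff'.mp hp
  have hQi' : ¬ p ∣ Q.index :=
    Cfsg.Agent.Lib.Helper23.not_dvd_index_of_normalizer_le hQM hQp hQi hQN
  exact ⟨hQp.toSylow hQi', by rw [IsPGroup.toSylow_coe]; exact hQM⟩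

/-- every prime divisor of `|G|` lies in `σ(M)` for some maximal subgroup `M` -/
theorem exists_sigma (hG : IsMinSimpleOddOrder G) {p : ℕ} (hp : p.Prime) (hpG : p ∣ Nat.card G) :
    ∃ M : Subgroup G, IsCoatom M ∧ p ∈ sigma M := by
  haveI : Fact p.Prime := ⟨hp⟩
  obtain ⟨P⟩ : Nonempty (Sylow p G) := inferInstance
  have hP1 : (↑P : Subgroup G) ≠ ⊥ := Sylow.ne_bot_of_dvd_card P hpG
  have hPtop : (↑P : Subgroup G) ≠ ⊤ := fun h =>
    Cfsg.Agent.Lib.Helper23.not_isPGroup_top hG p (h ▸ P.isPGroup')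
  have hNtop := Cfsg.Agent.Lib.Helper63.BG10.normalizer_ne_top hG hP1 hPtop
  obtain ⟨M, hM, hNM⟩ := Cfsg.Agent.Lib.Helper64.BG9.exists_coatom_ge hNtop
  have hPM : (↑P : Subgroup G) ≤ M := le_normalizer.trans hNM
  refine ⟨M, hM, ?_⟩
  rw [Cfsg.Agent.Lib.Helper32.BG12.mem_sigma_iff']
  exact ⟨(Sylow.dvd_card_of_dvd_card P hpG).trans (Subgroup.card_dvd_of_le hPM), ↑P, hPM,
    P.isPGroup', fun h => P.not_dvd_index (h.trans (Subgroup.relIndex_dvd_index_of_le hPM)), hNM⟩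

/-- **B&G Theorem 13.9** from the bundle `Hyps G`. -/
theorem s1378_of_hyps (hG : IsMinSimpleOddOrder G) (hh : Hyps G) :
    (∀ p : ℕ, p.Prime → p ∣ Nat.card G → ∃ M : Subgroup G, IsCoatom M ∧ p ∈ sigma M) ∧
      ∀ M N : Subgroup G, IsCoatom M → IsCoatom N → (sigma M ∩ sigma N).Nonempty →
        ∃ g : G, N = M.map (MulAut.conj g).toMonoidHom := by
  refine ⟨fun p hp hpG => exists_sigma hG hp hpG, ?_⟩
  rintro M N hM hN ⟨p, hpM, hpN⟩
  by_contra hnc
  push Not at hnc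
  haveI : Fact p.Prime := ⟨hpM.1⟩
  obtain ⟨P, hPM⟩ := exists_sylow_le_of_sigma hpM
  obtain ⟨P', hP'N⟩ := exists_sylow_le_of_sigma hpN
  obtain ⟨g, hg⟩ := sylow_exists_cj P' P
  have hPN' : (↑P : Subgroup G) ≤ cj g N := by
    rw [← hg]
    exact cj_mono hP'N
  have c : Cfg M (cj g N) p P :=
    { hM := hM
      hN := Cfsg.Agent.Lib.Helper63.BG13.isCoatom_cj hN g
      hnc := by
        intro h heq
        apply hnc (g⁻¹ * h)
        have h1 : cj g N = cj h M := heq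
        rw [cj_eq_iff] at h1
        rw [h1, ← cj_mul]
        rfl
      hpM := hpM
      hpN := Cfsg.Agent.Lib.Helper63.BG13.sigma_cj g hpN
      hPM := hPM
      hPN := hPN' }
  exact not_cfg hG hh c

end Cfsg.Agent.Lib.Helper48.BG139
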