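import Cfsg.Agent.Lib.Helper48.BG139Final
import Cfsg.Agent.Lib.Helper60.BG139T6
import Cfsg.Agent.Lib.Helper60.BG131a
import Cfsg.Agent.Lib.Helper60.BG139S2

/-!
# B&G 13.9 (S1378): building the bundle `Hyps G`

`hyps_of` : `Hyps G` from S1428 (as `Stmt1428 G`), T3 (`inf_eq`, `abelian`, `le_sigmaCore`) and
T5 (`tau2 M = ∅`) for all configurations; T1/T2/T6 and 13.1(a) are helper60's, T4 is helper22's.
`s1378_of` : the statement of S1378 from the same data.
-/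

set_option autoImplicit false
set_option linter.style.haveILetI false
set_option linter.unusedSectionVars false

universe u

namespace Cfsg.Agent.Lib.Helper48.BG139

open Subgroup Cfsg Cfsg.Agent.Lib.Helper21.BG139 Cfsg.Agent.Lib.Helper47.BG139

variable {G : Type u} [Group G] [Finite G]

theorem hyps_of (hG : IsMinSimpleOddOrder G) (h28 : Cfsg.Agent.Lib.Helper21.BG139.Stmt1428 G)
    (t3eq : ∀ (M N : Subgroup G) (p : ℕ) [Fact p.Prime] (P : Sylow p G), Cfg M N p P →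
      M ⊓ N = normalizer ((P : Subgroup G) : Set G))
    (t3ab : ∀ (M N : Subgroup G) (p : ℕ) [Fact p.Prime] (P : Sylow p G), Cfg M N p P →
      ∀ a ∈ (P : Subgroup G), ∀ b ∈ (P : Subgroup G), a * b = b * a)
    (t3le : ∀ (M N : Subgroup G) (p : ℕ) [Fact p.Prime] (P : Sylow p G), Cfg M N p P →
      (↑P : Subgroup G) ≤ sigmaCore M)
    (t5 : ∀ (M N : Subgroup G) (p : ℕ) [Fact p.Prime] (P : Sylow p G), Cfg M N p P →
      tau2 M = ∅) : Hyps G where
  h31 := Cfsg.Agent.Lib.Helper60.BG131a.stmt131a hG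
  t2 := fun _ hM _ _ hE hT => Cfsg.Agent.Lib.Helper60.BG139.semiprime_tau1 hG h28 hM hE hT
  t3le := t3le
  t3eq := t3eq
  t5 := t5
  t6 := fun M N p _ P c _ hT => Cfsg.Agent.Lib.Helper60.BG139T6.hallT hG c
    (Cfsg.Agent.Lib.Helper60.BG131a.stmt131a hG) (t3eq M N p P c) (t3ab M N p P c)
    (t3le M N p P c) (Cfsg.Agent.Lib.Helper22.BG139.mul_eq hG c)
    (Cfsg.Agent.Lib.Helper22.BG139.tau1_subset hG c) hT

/-- **B&G Theorem 13.9** from S1428, T3 and T5. -/
theorem s1378_of (hG : IsMinSimpleOddOrder G) (h28 : Cfsg.Agent.Lib.Helper21.BG139.Stmt1428 G)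
    (t3eq : ∀ (M N : Subgroup G) (p : ℕ) [Fact p.Prime] (P : Sylow p G), Cfg M N p P →
      M ⊓ N = normalizer ((P : Subgroup G) : Set G))
    (t3ab : ∀ (M N : Subgroup G) (p : ℕ) [Fact p.Prime] (P : Sylow p G), Cfg M N p P →
      ∀ a ∈ (P : Subgroup G), ∀ b ∈ (P : Subgroup G), a * b = b * a)
    (t3le : ∀ (M N : Subgroup G) (p : ℕ) [Fact p.Prime] (P : Sylow p G), Cfg M N p P →
      (↑P : Subgroup G) ≤ sigmaCore M)
    (t5 : ∀ (M N : Subgroup G) (p : ℕ) [Fact p.Prime] (P : Sylow p G), Cfg M N p P →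
      tau2 M = ∅) :
    (∀ p : ℕ, p.Prime → p ∣ Nat.card G → ∃ M : Subgroup G, IsCoatom M ∧ p ∈ sigma M) ∧
      ∀ M N : Subgroup G, IsCoatom M → IsCoatom N → (sigma M ∩ sigma N).Nonempty →
        ∃ g : G, N = M.map (MulAut.conj g).toMonoidHom :=
  s1378_of_hyps hG (hyps_of hG h28 t3eq t3ab t3le t5)

end Cfsg.Agent.Lib.Helper48.BG139
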