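import Cfsg.Agent.S1415
import Cfsg.Agent.S1350
import Cfsg.Agent.Lib.Helper63.BG13a
import Cfsg.Agent.Lib.Helper68.BG1215b
import Cfsg.Agent.Lib.Helper24.CoprimeAbelian
import Cfsg.Agent.Lib.Helper24.S1421A
import Cfsg.Agent.Lib.Helper48.NilHallA

/-!
# B&G 13.9, tool C: a `τ₃`-element cannot centralize a Hall `τ₁`-subgroup when `τ₂ = ∅`

`tau3_cent_false` : `L` maximal, `τ₂(L) = ∅`, `T` a Hall `τ₁(L)`-subgroup of `L`,
`y ∈ L` of prime order `s ∈ τ₃(L)` centralizing `T`: impossible.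
(Complement `E ⊇ ⟨y⟩ T`, `E = E₃ T`, `E₃ ≤ E' ≤ [E₃, T]` by S1415, coprime action.)
-/

set_option linter.style.haveILetI false

universe u

namespace Cfsg.Agent.Lib.Helper48.BG139

open Subgroup Cfsg
open scoped commutatorElement

variable {G : Type u} [Group G]

/-- elements of `A ⊔ T` are products when `T` normalizes `A` -/
theorem mem_sup_of_le_normalizer {A T : Subgroup G} (hTA : T ≤ normalizer (A : Set G))
    {x : G} (hx : x ∈ A ⊔ T) : ∃ a ∈ A, ∃ t ∈ T, x = a * t := by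
  have hn : ∀ t ∈ T, ∀ a ∈ A, t * a * t⁻¹ ∈ A := fun t ht a ha =>
    (mem_normalizer_iff.mp (hTA ht) a).mp ha
  rw [sup_eq_closure_mul] at hx
  induction hx using closure_induction with
  | mem y hy =>
    obtain ⟨a, ha, t, ht, rfl⟩ := hy
    exact ⟨a, ha, t, ht, rfl⟩
  | one => exact ⟨1, A.one_mem, 1, T.one_mem, by simp⟩
  | mul x y _ _ hx hy =>
    obtain ⟨a, ha, t, ht, rfl⟩ := hx
    obtain ⟨a', ha', t', ht', rfl⟩ := hy
    refine ⟨a * (t * a' * t⁻¹), A.mul_mem ha (hn t ht a' ha'), t * t', T.mul_mem ht ht', ?_⟩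
    group
  | inv x _ hx =>
    obtain ⟨a, ha, t, ht, rfl⟩ := hx
    refine ⟨t⁻¹ * a⁻¹ * t⁻¹⁻¹, hn t⁻¹ (T.inv_mem ht) a⁻¹ (A.inv_mem ha), t⁻¹, T.inv_mem ht, ?_⟩
    group

/-- `E = A T` with `A`, `T` abelian and `T` normalizing `A`: `E' ≤ [A, T]`. -/
theorem commutator_le_of_abelian_factors {E A T : Subgroup G}
    (hA : ∀ a ∈ A, ∀ b ∈ A, a * b = b * a) (hT : ∀ s ∈ T, ∀ t ∈ T, s * t = t * s)
    (hTA : T ≤ normalizer (A : Set G))
    (hE : ∀ e ∈ E, ∃ a ∈ A, ∃ t ∈ T, e = a * t) : ⁅E, E⁆ ≤ ⁅A, T⁆ := by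
  have hn : ∀ t ∈ T, ∀ a ∈ A, t * a * t⁻¹ ∈ A := fun t ht a ha =>
    (mem_normalizer_iff.mp (hTA ht) a).mp ha
  rw [commutator_le]
  intro g₁ h₁ g₂ h₂
  obtain ⟨a, ha, t, ht, rfl⟩ := hE g₁ h₁
  obtain ⟨a', ha', t', ht', rfl⟩ := hE g₂ h₂
  -- u = [t, a'] and v = [a, t']
  have hu : t * a' * t⁻¹ * a'⁻¹ ∈ ⁅A, T⁆ := by
    have h := commutator_mem_commutator ha' ht
    have e : t * a' * t⁻¹ * a'⁻¹ = ⁅a', t⁆⁻¹ := by
      rw [commutatorElement_def]; group
    rw [e]; exact inv_mem h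
  have hv : a * t' * a⁻¹ * t'⁻¹ ∈ ⁅A, T⁆ := by
    have h := commutator_mem_commutator ha ht'
    rwa [commutatorElement_def] at h
  have key : ⁅a * t, a' * t'⁆ = (t * a' * t⁻¹ * a'⁻¹) * (a * t' * a⁻¹ * t'⁻¹) := by
    rw [commutatorElement_def]
    set b := t * a' * t⁻¹ with hb
    set c := t' * a⁻¹ * t'⁻¹ with hc
    have hbA : b ∈ A := hn t ht a' ha'
    have hcA : c ∈ A := hn t' ht' a⁻¹ (A.inv_mem ha)
    have htt : t * t' * t⁻¹ = t' := by
      rw [hT t ht t' ht']; group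
    have e1 : a * t * (a' * t') * (a * t)⁻¹ * (a' * t')⁻¹
        = a * b * (t * t' * t⁻¹) * a⁻¹ * t'⁻¹ * a'⁻¹ := by
      rw [hb]; group
    rw [e1, htt]
    have e2 : a * b * t' * a⁻¹ * t'⁻¹ * a'⁻¹ = a * b * c * a'⁻¹ := by
      rw [hc]; group
    rw [e2]
    have e3 : a * t' * a⁻¹ * t'⁻¹ = a * c := by rw [hc]; group
    rw [e3]
    -- all in the abelian group A
    have c1 : a * b = b * a := hA a ha b hbA
    have c2 : (a * c) * a'⁻¹ = a'⁻¹ * (a * c) :=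
      hA _ (A.mul_mem ha hcA) _ (A.inv_mem ha')
    calc a * b * c * a'⁻¹ = b * a * c * a'⁻¹ := by rw [c1]
      _ = b * ((a * c) * a'⁻¹) := by group
      _ = b * (a'⁻¹ * (a * c)) := by rw [c2]
      _ = b * a'⁻¹ * (a * c) := by group
  rw [key]
  exact mul_mem hu hv

variable [Finite G]

/-- A Hall `τ₃`-subgroup of a complement `E ⊇ T` over a given subgroup `X` of order prime to
`|T|`, when `τ₂(L) = ∅` and `T` is a Hall `τ₁(L)`-subgroup; with the S1415 facts. -/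
theorem exists_hall_tau3 (hG : IsMinSimpleOddOrder G) {L T E X : Subgroup G} (hL : IsCoatom L)
    (h2 : tau2 L = ∅) (hT : IsPiHallOf (tau1 L) T L) (hE : IsComplIn E (sigmaCore L) L)
    (hTE : T ≤ E) (hXE : X ≤ E) (hXn : (Nat.card X).Coprime (Nat.card T)) :
    ∃ E₃ : Subgroup G, IsPiHallOf (tau3 L) E₃ E ∧ X ≤ E₃ ∧ IsCyclic E₃ ∧ E₃ ≤ ⁅E, E⁆ ∧
      E ≤ normalizer (E₃ : Set G) ∧ (Nat.card E₃).Coprime (Nat.card T) ∧ E₃ ⊔ T = E := by
  classical
  have hLtop : L ≠ ⊤ := hL.1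
  have hEL : E ≤ L := hE.1
  have hEtop : E ≠ ⊤ := fun h => hLtop (top_le_iff.mp (h ▸ hEL))
  haveI : Group.IsSolvable ↥E := Cfsg.Agent.Lib.Helper23.isSolvable_of_ne_top hG hEtop
  have hTprimes : ∀ q : ℕ, q.Prime → q ∣ Nat.card T → q ∈ tau1 L := hT.2.1
  set n := Nat.card T with hn
  set m := T.relIndex E with hm
  have hmn : Nat.card E = m * n := by
    rw [hm, hn]; exact (Cfsg.Agent.Lib.Helper48.NilHall.relIndex_mul_card hTE).symm
  have hmdvd : m ∣ T.relIndex L := by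
    rw [hm, ← Subgroup.relIndex_mul_relIndex T E L hTE hEL]
    exact dvd_mul_right _ _
  have hcopmn : m.Coprime n := by
    apply Nat.coprime_of_dvd
    intro q hq hqm hqn
    exact hT.2.2 q hq (hTprimes q hq hqn) (hqm.trans hmdvd)
  obtain ⟨E₃, hE₃E, hE₃c, hXE₃⟩ :=
    Cfsg.Agent.Lib.Helper68.BG1215.hall_exists_ge (K := E) m n hmn hcopmn hXE hXn
  have hmpos : 0 < m := by
    rcases Nat.eq_zero_or_pos m with h | h
    · rw [h, zero_mul] at hmn
      exact absurd hmn (Nat.card_pos (α := E)).ne'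
    · exact h
  have hrel : E₃.relIndex E = n := by
    have h1 := Cfsg.Agent.Lib.Helper48.NilHall.relIndex_mul_card hE₃E
    rw [hE₃c, hmn, mul_comm] at h1
    exact Nat.eq_of_mul_eq_mul_left hmpos h1
  have hHall3 : IsPiHallOf (tau3 L) E₃ E := by
    refine ⟨hE₃E, ?_, ?_⟩
    · intro q hq hqd
      rw [hE₃c] at hqd
      have hqE : q ∣ Nat.card E := by rw [hmn]; exact dvd_mul_of_dvd_left hqd _
      obtain ⟨-, hcl⟩ := Cfsg.Agent.Lib.Helper24.S1421.prime_class hG hL hE hq hqE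
      rcases hcl with h | h
      · rcases h with h | h
        · exfalso
          exact hT.2.2 q hq h (hqd.trans hmdvd)
        · exact h
      · rw [h2] at h; exact absurd h (Set.notMem_empty _)
    · intro q hq hq3 hqd
      rw [hrel] at hqd
      have := hTprimes q hq hqd
      exact this.2.2.2.1 hq3.2.2.1
  obtain ⟨hcyc, hE₃der, hE₃norm⟩ := (Cfsg.Agent.S1415.result hG L hL E hE).2.2 E₃ hHall3
  have hsupE : E₃ ⊔ T = E := by
    apply Subgroup.eq_of_le_of_card_ge (sup_le hE₃E hTE)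
    have d1 : Nat.card E₃ ∣ Nat.card (E₃ ⊔ T : Subgroup G) := Subgroup.card_dvd_of_le le_sup_left
    have d2 : Nat.card T ∣ Nat.card (E₃ ⊔ T : Subgroup G) := Subgroup.card_dvd_of_le le_sup_right
    rw [hE₃c] at d1
    have := Nat.Coprime.mul_dvd_of_dvd_of_dvd hcopmn d1 d2
    rw [hmn]
    exact Nat.le_of_dvd Nat.card_pos this
  exact ⟨E₃, hHall3, hXE₃, hcyc, hE₃der, hE₃norm, by rw [hE₃c]; exact hcopmn, hsupE⟩

/-- Tool C. -/
theorem tau3_cent_false (hG : IsMinSimpleOddOrder G) {L T : Subgroup G} (hL : IsCoatom L)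
    (h2 : tau2 L = ∅) (hT : IsPiHallOf (tau1 L) T L) {y : G} (hyL : y ∈ L) {s : ℕ}
    (hs : s ∈ tau3 L) (hy : orderOf y = s) (hyT : y ∈ centralizer (T : Set G)) : False := by
  classical
  have hsp : s.Prime := hs.1
  haveI : Fact s.Prime := ⟨hsp⟩
  have hσ : IsPiHallOf (sigma L) (sigmaCore L) L := (Cfsg.Agent.S1350.result hG L hL).1
  have hLtop : L ≠ ⊤ := hL.1
  have hsτ1 : s ∉ tau1 L := fun h => h.2.2.2.1 hs.2.2.1
  let X : Subgroup G := zpowers y
  have hXc : Nat.card X = s := by rw [Nat.card_zpowers, hy]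
  have hXL : X ≤ L := by rw [zpowers_le]; exact hyL
  -- X and T commute
  have hcomm : ∀ a ∈ X, ∀ b ∈ T, a * b = b * a := by
    intro a ha b hb
    obtain ⟨k, rfl⟩ := mem_zpowers_iff.mp ha
    have h1 : b * y = y * b := (mem_centralizer_iff.mp hyT) b hb
    have : Commute y b := h1.symm
    exact (this.zpow_left k)
  -- U = X ⊔ T has order dividing s * |T|
  let U : Subgroup G := X ⊔ T
  have hUL : U ≤ L := sup_le hXL hT.1
  have hUdvd : Nat.card U ∣ Nat.card X * Nat.card T := by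
    have hcm : ∀ (a : X) (b : T), Commute (X.subtype a) (T.subtype b) :=
      fun a b => hcomm a a.2 b b.2
    let φ : X × T →* G := MonoidHom.noncommCoprod X.subtype T.subtype hcm
    have hr : φ.range = U := by
      show (MonoidHom.noncommCoprod X.subtype T.subtype hcm).range = X ⊔ T
      rw [MonoidHom.noncommCoprod_range, Subgroup.range_subtype, Subgroup.range_subtype]
    have := Subgroup.card_range_dvd φ
    rw [hr, Nat.card_prod] at this
    exact this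
  have hTprimes : ∀ q : ℕ, q.Prime → q ∣ Nat.card T → q ∈ tau1 L := hT.2.1
  have hUcop : (Nat.card U).Coprime (Nat.card (sigmaCore L)) := by
    apply Nat.coprime_of_dvd
    intro q hq hqU hqσ
    have hqσ' : q ∈ sigma L := hσ.2.1 q hq hqσ
    have : q ∣ Nat.card X * Nat.card T := hqU.trans hUdvd
    rcases (Nat.Prime.dvd_mul hq).mp this with h | h
    · rw [hXc] at h
      have : q = s := (Nat.prime_dvd_prime_iff_eq hq hsp).mp h
      subst this
      exact hs.2.1 hqσ'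
    · exact (hTprimes q hq h).2.1 hqσ'
  obtain ⟨E, hE, hUE⟩ :=
    Cfsg.Agent.Lib.Helper63.BG13.exists_compl_ge hG hLtop hσ hUL hUcop
  have hTE : T ≤ E := le_trans le_sup_right hUE
  have hXE : X ≤ E := le_trans le_sup_left hUE
  have hXn : (Nat.card X).Coprime (Nat.card T) := by
    rw [hXc]
    rw [Nat.Prime.coprime_iff_not_dvd hsp]
    intro h
    exact hsτ1 (hTprimes s hsp h)
  obtain ⟨E₃, hHall3, hXE₃, hcyc, hE₃der, hE₃norm, hcop3, hsupE⟩ :=
    exists_hall_tau3 hG hL h2 hT hE hTE hXE hXn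
  have hEL : E ≤ L := hE.1
  -- E = E₃ T
  have hTn : T ≤ normalizer (E₃ : Set G) := le_trans hTE hE₃norm
  have hEprod : ∀ e ∈ E, ∃ a ∈ E₃, ∃ t ∈ T, e = a * t := by
    intro e he
    rw [← hsupE] at he
    exact mem_sup_of_le_normalizer hTn he
  -- abelian
  have hTcyc : IsCyclic T := (Cfsg.Agent.S1415.result hG L hL E hE).2.1 T
    ⟨hTE, hTprimes, fun q hq hq1 hqd => hT.2.2 q hq hq1 (by
      rw [← Subgroup.relIndex_mul_relIndex T E L hTE hEL]; exact dvd_mul_of_dvd_left hqd _)⟩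
  have hTab : ∀ a ∈ T, ∀ b ∈ T, a * b = b * a := by
    intro a ha b hb
    haveI := hTcyc
    have := (IsCyclic.commGroup (α := T)).mul_comm ⟨a, ha⟩ ⟨b, hb⟩
    exact congrArg Subtype.val this
  have hE₃ab : ∀ a ∈ E₃, ∀ b ∈ E₃, a * b = b * a := by
    intro a ha b hb
    haveI := hcyc
    have := (IsCyclic.commGroup (α := E₃)).mul_comm ⟨a, ha⟩ ⟨b, hb⟩
    exact congrArg Subtype.val this
  have hder : ⁅E, E⁆ ≤ ⁅E₃, T⁆ := commutator_le_of_abelian_factors hE₃ab hTab hTn hEprod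
  haveI : IsMulCommutative E₃ := ⟨⟨fun a b => Subtype.ext (hE₃ab a a.2 b b.2)⟩⟩
  have hbot := Cfsg.Agent.Lib.Helper24.commutator_inf_centralizer_eq_bot_of_abelian E₃ T hTn
    hcop3.symm
  have hyE₃ : y ∈ E₃ := hXE₃ (mem_zpowers y)
  have hy1 : y ∈ ⁅E₃, T⁆ ⊓ centralizer (T : Set G) :=
    mem_inf.mpr ⟨hder (hE₃der hyE₃), hyT⟩
  rw [hbot, mem_bot] at hy1
  rw [hy1, orderOf_one] at hy
  exact hsp.one_lt.ne' hy.symm

end Cfsg.Agent.Lib.Helper48.BG139
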