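import Cfsg.Agent.Lib.Helper48.BG139T8a
import Cfsg.Agent.Lib.Helper47.BG139T7
import Cfsg.Agent.Lib.Helper47.BGLemmaF
import Cfsg.Agent.Lib.Helper22.BG139T4
import Cfsg.Agent.Lib.Helper63.BG13b
import Cfsg.Agent.Lib.Helper32.BG123
import Cfsg.Agent.Lib.Helper23.BadTau2
import Cfsg.Agent.Lib.Helper96.BG103
import Cfsg.Agent.S1404
import Cfsg.Agent.S1409

/-!
# B&G 13.9 (S1378), piece T8 of the plan: `T` acts semiregularly on `(M ∩ N) ∩ M'`

`Hyps G` bundles the earlier pieces (13.1(a), T2, T3, T5, T6) for every configuration.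
`Cfg.semireg` : for `x ∈ T#`, `(M ⊓ N) ⊓ ⁅M, M⁆ ⊓ C(x) = ⊥`.
-/

set_option autoImplicit false
set_option linter.style.haveILetI false
set_option linter.unusedSectionVars false

universe u

namespace Cfsg.Agent.Lib.Helper48.BG139

open Subgroup Cfsg Cfsg.Agent.Lib.Helper21.BG139 Cfsg.Agent.Lib.Helper47.BG139
  Cfsg.Agent.Lib.Helper33

variable {G : Type u} [Group G] [Finite G]

/-- The earlier pieces of the plan (13.1(a), T2, T3, T5, T6), for all configurations. -/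
structure Hyps (G : Type u) [Group G] [Finite G] : Prop where
  h31 : Stmt131a G
  t2 : ∀ M : Subgroup G, IsCoatom M → SemiT2 M
  t3le : ∀ (M N : Subgroup G) (p : ℕ) [Fact p.Prime] (P : Sylow p G), Cfg M N p P →
    (↑P : Subgroup G) ≤ sigmaCore M
  t3eq : ∀ (M N : Subgroup G) (p : ℕ) [Fact p.Prime] (P : Sylow p G), Cfg M N p P →
    M ⊓ N = normalizer ((P : Subgroup G) : Set G)
  t5 : ∀ (M N : Subgroup G) (p : ℕ) [Fact p.Prime] (P : Sylow p G), Cfg M N p P →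
    tau2 M = ∅
  t6 : ∀ (M N : Subgroup G) (p : ℕ) [Fact p.Prime] (P : Sylow p G), Cfg M N p P →
    ∀ T : Subgroup G, IsPiHallOf (tau1 M) T (M ⊓ N) → HallT6 M N P T

/-- the subgroup of order `s` of a cyclic subgroup `C` is normalized by `N(C)` -/
theorem normalizer_le_normalizer_zpowers {C : Subgroup G} (hC : IsCyclic ↥C) {s : ℕ}
    (hs : s.Prime) {y : G} (hy : y ∈ C) (hys : y ^ s = 1) (hy1 : y ≠ 1) :
    normalizer (C : Set G) ≤ normalizer ((zpowers y : Subgroup G) : Set G) := by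
  have key : ∀ e ∈ normalizer (C : Set G), ∀ h ∈ zpowers y, e * h * e⁻¹ ∈ zpowers y := by
    intro e he h hh
    obtain ⟨k, rfl⟩ := mem_zpowers_iff.mp hh
    have h1 : e * y * e⁻¹ ∈ C := (mem_normalizer_iff.mp he y).mp hy
    have h2 : (e * y * e⁻¹) ^ s = 1 := by rw [conj_pow, hys]; group
    have h3 : e * y * e⁻¹ ∈ zpowers y :=
      Cfsg.Agent.Lib.Helper47.BG12.mem_zpowers_of_isCyclic hC hs hy h1 hys hy1 h2
    have h4 : e * y ^ k * e⁻¹ = (e * y * e⁻¹) ^ k := (conj_zpow).symm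
    rw [h4]
    exact zpow_mem h3 k
  intro e he
  rw [mem_normalizer_iff]
  intro h
  constructor
  · exact key e he h
  · intro hh
    have h1 := key e⁻¹ (inv_mem he) _ hh
    have h2 : e⁻¹ * (e * h * e⁻¹) * e⁻¹⁻¹ = h := by group
    rwa [h2] at h1

/-- `|M : D|` divides `|A|` when `M = A D` with `A ⊴ M` -/
theorem relIndex_dvd_card_of_mul {A D M : Subgroup G} (hDM : D ≤ M) (hAM : A ≤ M)
    (hMA : M ≤ normalizer (A : Set G)) (h : ∀ m ∈ M, ∃ a ∈ A, ∃ d ∈ D, m = a * d) :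
    D.relIndex M ∣ Nat.card A := by
  haveI : (A.subgroupOf M).Normal := normal_subgroupOf_of_le_normalizer hMA
  have htop : D.subgroupOf M ⊔ A.subgroupOf M = ⊤ := by
    rw [eq_top_iff]
    intro m _
    obtain ⟨a, ha, d, hd, hm⟩ := h m.1 m.2
    have hm' : m = (⟨a, hAM ha⟩ : ↥M) * ⟨d, hDM hd⟩ := Subtype.ext hm
    rw [hm']
    exact mul_mem (mem_sup_right (mem_subgroupOf.mpr ha)) (mem_sup_left (mem_subgroupOf.mpr hd))
  have h1 : Nat.card ↥(D.subgroupOf M ⊔ A.subgroupOf M) ∣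
      Nat.card (D.subgroupOf M) * Nat.card (A.subgroupOf M) :=
    Cfsg.Agent.Lib.Helper55.card_sup_dvd_mul _ _
  rw [htop, Subgroup.card_top] at h1
  have hcD : Nat.card (D.subgroupOf M) = Nat.card D :=
    Nat.card_congr (subgroupOfEquivOfLe hDM).toEquiv
  have hcA : Nat.card (A.subgroupOf M) = Nat.card A :=
    Nat.card_congr (subgroupOfEquivOfLe hAM).toEquiv
  rw [hcD, hcA] at h1
  have h2 : D.relIndex M * Nat.card D = Nat.card M :=
    Cfsg.Agent.Lib.Helper48.NilHall.relIndex_mul_card hDM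
  rw [← h2, mul_comm (Nat.card D)] at h1
  exact Nat.dvd_of_mul_dvd_mul_right Nat.card_pos h1

/-- with `τ₂(L) = ∅`, a prime divisor of `|L|` outside `σ(L) ∪ τ₁(L)` lies in `τ₃(L)` -/
theorem mem_tau3_of (hG : IsMinSimpleOddOrder G) {L : Subgroup G} (hL : IsCoatom L)
    (h2 : tau2 L = ∅) {s : ℕ} (hs : s.Prime) (hσ : s ∉ sigma L) (h1 : s ∉ tau1 L)
    (hd : s ∣ Nat.card L) : s ∈ tau3 L := by
  have hα : s ∉ alpha L := fun h =>
    hσ (Cfsg.Agent.Lib.Helper23.alpha_subset_sigma hG (Cfsg.Agent.Lib.Helper63.BG13.uniqStmt hG) hL h)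
  have hr2 : PRankLE s 2 L := by
    by_contra h
    exact hα ⟨hs, h⟩
  have hr1 : PRankLE s 1 L := by
    by_contra h
    have h3 : s ∈ tau2 L := ⟨hs, hσ, hr2, h⟩
    rw [h2] at h3
    exact h3
  refine ⟨hs, hσ, ?_, hr1⟩
  by_contra h
  exact h1 ⟨hs, hσ, hd, h, hr1⟩

/-- an element of `L` of prime order `s ∈ σ(L)` lies in `L_σ` -/
theorem mem_sigmaCore_of_orderOf (hG : IsMinSimpleOddOrder G) {L : Subgroup G} (hL : IsCoatom L)
    {s : ℕ} (hs : s ∈ sigma L) {y : G} (hyL : y ∈ L) (hy : orderOf y = s) :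
    y ∈ sigmaCore L := by
  haveI : Fact s.Prime := ⟨hs.1⟩
  have hp : IsPGroup s (zpowers y) :=
    IsPGroup.of_card (n := 1) (by rw [Nat.card_zpowers, hy, pow_one])
  exact Cfsg.Agent.Lib.Helper68.BG1215.le_sigmaCore_of_isPGroup
    (Cfsg.Agent.S1350.result hG L hL).1 hs (zpowers_le.mpr hyL) hp (mem_zpowers y)

variable {M N : Subgroup G} {p : ℕ} [Fact p.Prime] {P : Sylow p G}

/-- for `s ∈ σ(M) ∩ σ(N)`, an element of order `s` of `M ∩ N` lies in a Sylow `s`-subgroup of `G`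
contained in `M ∩ N` -/
theorem exists_sylow_le_inf (hG : IsMinSimpleOddOrder G) (c : Cfg M N p P) {s : ℕ}
    [Fact s.Prime] (hsM : s ∈ sigma M) (hsN : s ∈ sigma N) {y : G} (hyD : y ∈ M ⊓ N)
    (hy : orderOf y = s) :
    ∃ S : Sylow s G, (S : Subgroup G) ≤ M ⊓ N ∧ y ∈ (S : Subgroup G) := by
  have hsp : s.Prime := Fact.out
  have hDM : M ⊓ N ≤ M := inf_le_left
  have hsα : s ∉ alpha M := by
    intro h
    obtain ⟨g, hg⟩ := Cfsg.Agent.Lib.Helper63.BG13.conj_of_sigma_alpha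
      (Cfsg.Agent.Lib.Helper63.BG13.uniqStmt hG) c.hM c.hN hsN h
    exact c.symm.hnc g hg
  have hsA : ¬ s ∣ Nat.card (alphaCore M) := by
    intro h
    apply hsα
    have hcard : Nat.card ↥(alphaCore M) = Nat.card ↥(piCore (alpha M) ↥M) := by
      rw [alphaCore, Subgroup.card_map_of_injective M.subtype_injective]
    rw [hcard] at h
    exact Cfsg.Agent.Lib.Helper62.isPi_piCore (alpha M) s hsp h
  have hrel : (M ⊓ N).relIndex M ∣ Nat.card (alphaCore M) :=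
    relIndex_dvd_card_of_mul hDM (Subgroup.map_subtype_le _)
      (Cfsg.Agent.Lib.Helper96.BG103.le_normalizer_alphaCore M)
      (Cfsg.Agent.Lib.Helper22.BG139.mul_eq hG c)
  have hsMi : ¬ s ∣ M.index := by
    have h2 := (Cfsg.Agent.S1350.result hG M c.hM).2.1.2 s hsp hsM
    intro h
    exact h2 (h.trans (Subgroup.index_dvd_of_le (Subgroup.map_subtype_le _)))
  have hsDi : ¬ s ∣ (M ⊓ N).index := by
    rw [← Subgroup.relIndex_mul_index hDM]
    intro h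
    rcases (Nat.Prime.dvd_mul hsp).mp h with h | h
    · exact hsA (h.trans hrel)
    · exact hsMi h
  -- a Sylow subgroup of `M ⊓ N` through `y`
  let yD : ↥(M ⊓ N) := ⟨y, hyD⟩
  have hyDo : orderOf yD = s := by
    rw [← hy]
    exact Subgroup.orderOf_mk y hyD
  have hzp : IsPGroup s (zpowers yD) :=
    IsPGroup.of_card (n := 1) (by rw [Nat.card_zpowers, hyDo, pow_one])
  obtain ⟨Q, hQ⟩ := hzp.exists_le_sylow
  have hS₀p : IsPGroup s ((Q : Subgroup ↥(M ⊓ N)).map (M ⊓ N).subtype) := Q.isPGroup'.map _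
  have hS₀i : ¬ s ∣ ((Q : Subgroup ↥(M ⊓ N)).map (M ⊓ N).subtype).index := by
    rw [Subgroup.index_map_subtype]
    intro h
    rcases (Nat.Prime.dvd_mul hsp).mp h with h | h
    · exact Q.not_dvd_index h
    · exact hsDi h
  refine ⟨hS₀p.toSylow hS₀i, ?_, ?_⟩
  · rw [IsPGroup.toSylow_coe]
    exact Subgroup.map_subtype_le _
  · show y ∈ ((hS₀p.toSylow hS₀i : Sylow s G) : Subgroup G)
    rw [IsPGroup.toSylow_coe]
    exact ⟨yD, hQ (mem_zpowers yD), rfl⟩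

/-- the `τ₃(M)`-case of T8 -/
theorem tau3_case_false (hG : IsMinSimpleOddOrder G) (hh : Hyps G) (c : Cfg M N p P)
    {T : Subgroup G} (hT : IsPiHallOf (tau1 M) T (M ⊓ N)) {x : G} (hx : x ∈ T) (hx1 : x ≠ 1)
    {s : ℕ} (hs3M : s ∈ tau3 M) (hs1N : s ∉ tau1 N) {y : G} (hyD : y ∈ M ⊓ N)
    (hy : orderOf y = s) (hyx : y ∈ centralizer ({x} : Set G)) : False := by
  classical
  have hsp : s.Prime := hs3M.1
  haveI : Fact s.Prime := ⟨hsp⟩
  have hsσM : s ∉ sigma M := hs3M.2.1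
  have hs1M : s ∉ tau1 M := fun h => h.2.2.2.1 hs3M.2.2.1
  obtain ⟨hTM, -, -, E, hE, hED, hTE⟩ := hh.t6 M N p P c T hT
  have hσ : IsPiHallOf (sigma M) (sigmaCore M) M := (Cfsg.Agent.S1350.result hG M c.hM).1
  have hDM : M ⊓ N ≤ M := inf_le_left
  have hDN : M ⊓ N ≤ N := inf_le_right
  have hDtop : M ⊓ N ≠ ⊤ := fun h => c.hM.1 (top_le_iff.mp (h ▸ hDM))
  haveI : Group.IsSolvable ↥(M ⊓ N) := Cfsg.Agent.Lib.Helper23.isSolvable_of_ne_top hG hDtop
  have hy1 : y ≠ 1 := by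
    rintro rfl
    rw [orderOf_one] at hy
    exact hsp.one_lt.ne hy
  have hys : y ^ s = 1 := hy ▸ pow_orderOf_eq_one y
  have hXc : Nat.card (zpowers y) = s := by rw [Nat.card_zpowers, hy]
  -- Step 1: conjugate `y` into `E` inside `M ⊓ N`
  have hcE : E.relIndex M = Nat.card (sigmaCore M) :=
    Cfsg.Agent.Lib.Helper23.Bad.relIndex_compl hE
  have hcE' : (sigmaCore M).relIndex M = Nat.card E :=
    Cfsg.Agent.Lib.Helper23.Bad.relIndex_right_compl hE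
  obtain ⟨d, hdD, hdE⟩ := Cfsg.Agent.Lib.Helper68.BG1215.hall_pi_conj_le (K := M ⊓ N)
    (sigma M)ᶜ (H := E) (Y := zpowers y) hED
    (fun q hq hqd hqσ => hσ.2.2 q hq hqσ (hcE' ▸ hqd))
    (fun q hq hqσ hqd => hqσ (hσ.2.1 q hq (hcE ▸
      (hqd.trans (Dvd.intro _ (relIndex_mul_relIndex E (M ⊓ N) M hED hDM))))))
    (zpowers_le.mpr hyD)
    (fun q hq hqd hqσ => by
      rw [hXc] at hqd
      have := (Nat.prime_dvd_prime_iff_eq hq hsp).mp hqd
      subst this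
      exact hsσM hqσ)
  set y' : G := d * y * d⁻¹ with hy'
  have hy'E : y' ∈ E := hdE (mem_cj'.mpr ⟨y, mem_zpowers y, rfl⟩)
  have hy'o : orderOf y' = s := by
    have h1 : orderOf (MulAut.conj d y) = orderOf y := MulEquiv.orderOf_eq _ _
    rw [MulAut.conj_apply] at h1
    rw [hy', h1, hy]
  have hy'1 : y' ≠ 1 := by
    intro h
    rw [h, orderOf_one] at hy'o
    exact hsp.one_lt.ne hy'o
  have hy's : y' ^ s = 1 := hy'o ▸ pow_orderOf_eq_one y'
  have hX'c : Nat.card (zpowers y') = s := by rw [Nat.card_zpowers, hy'o]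
  -- Step 2: the Hall `τ₃`-subgroup through `y'`
  have hX'n : (Nat.card (zpowers y')).Coprime (Nat.card T) := by
    rw [hX'c, Nat.Prime.coprime_iff_not_dvd hsp]
    exact fun h => hs1M (hTM.2.1 s hsp h)
  obtain ⟨E₃, -, hXE₃, hcyc, -, hE₃norm, -, -⟩ := exists_hall_tau3 hG c.hM (hh.t5 M N p P c)
    hTM hE hTE (zpowers_le.mpr hy'E) hX'n
  have hy'E₃ : y' ∈ E₃ := hXE₃ (mem_zpowers y')
  -- Step 3: `E` normalizes `⟨y'⟩`
  have hEn : E ≤ normalizer ((zpowers y' : Subgroup G) : Set G) :=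
    hE₃norm.trans (normalizer_le_normalizer_zpowers hcyc hsp hy'E₃ hy's hy'1)
  -- Step 4: `M_σ ∩ N` centralizes `⟨y'⟩`
  have hX'p : IsPGroup s (zpowers y') := IsPGroup.of_card (n := 1) (by rw [hX'c, pow_one])
  have hy'D : y' ∈ M ⊓ N := (M ⊓ N).mul_mem ((M ⊓ N).mul_mem hdD hyD) ((M ⊓ N).inv_mem hdD)
  have hYc : sigmaCore M ⊓ N ≤ centralizer ((zpowers y' : Subgroup G) : Set G) :=
    hh.h31 M N c.hM c.hN c.hnc s hsp hsσM hs1N (zpowers y') hX'p (zpowers_le.mpr hy'D)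
  -- Step 5: `M ⊓ N` normalizes `⟨y'⟩`
  have hDn : M ⊓ N ≤ normalizer ((zpowers y' : Subgroup G) : Set G) := by
    intro g hg
    obtain ⟨a, ha, b, hb, rfl⟩ := hE.2.2.2 g (hDM hg)
    have hbN : b ∈ N := by
      have h1 : b = a⁻¹ * (a * b) := by group
      rw [h1]
      exact N.mul_mem (N.inv_mem (hDN (hED ha))) (hDN hg)
    exact mul_mem (hEn ha) (centralizer_le_normalizer _ (hYc (mem_inf.mpr ⟨hb, hbN⟩)))
  -- Step 6: `⟨y⟩ = ⟨y'⟩`
  have hyy' : y ∈ zpowers y' := by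
    have h1 : d⁻¹ ∈ normalizer ((zpowers y' : Subgroup G) : Set G) := hDn ((M ⊓ N).inv_mem hdD)
    have h2 := (mem_normalizer_iff.mp h1 y').mp (mem_zpowers y')
    have h3 : d⁻¹ * y' * d⁻¹⁻¹ = y := by rw [hy']; group
    rwa [h3] at h2
  have hXX' : zpowers y = zpowers y' := by
    apply Subgroup.eq_of_le_of_card_ge (zpowers_le.mpr hyy')
    rw [hXc, hX'c]
  have hDnX : M ⊓ N ≤ normalizer ((zpowers y : Subgroup G) : Set G) := by
    rw [hXX']
    exact hDn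
  -- Step 7: a maximal subgroup `H` over `N(⟨y⟩)`
  have hXbot : zpowers y ≠ ⊥ := by
    rw [Ne, zpowers_eq_bot]
    exact hy1
  have hXtop : zpowers y ≠ ⊤ := fun h => c.hM.1 (top_le_iff.mp (h ▸ (zpowers_le.mpr (hDM hyD))))
  have hNtop := Cfsg.Agent.Lib.Helper63.BG10.normalizer_ne_top hG hXbot hXtop
  obtain ⟨H, hH, hNH⟩ := Cfsg.Agent.Lib.Helper64.BG9.exists_coatom_ge hNtop
  have hDH : M ⊓ N ≤ H := hDnX.trans hNH
  have hPD : (↑P : Subgroup G) ≤ M ⊓ N := le_inf c.hPM c.hPN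
  have hPH : (↑P : Subgroup G) ≤ H := hPD.trans hDH
  have hpG : p ∣ Nat.card G := c.hpM.2.1.trans (Subgroup.card_subgroup_dvd_card M)
  -- Step 8: `H` is not conjugate to `M`
  have hnc' : ∀ g : G, H ≠ M.map (MulAut.conj g).toMonoidHom := by
    intro g hg
    have hPp : IsPGroup p (↑P : Subgroup G) := P.isPGroup'
    have hP1 : (↑P : Subgroup G) ≠ ⊥ := Sylow.ne_bot_of_dvd_card P hpG
    have hle : (↑P : Subgroup G).map (MulAut.conj g⁻¹).toMonoidHom ≤ M := by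
      rintro z ⟨w, hw, rfl⟩
      have hw' : w ∈ M.map (MulAut.conj g).toMonoidHom := hg ▸ hPH hw
      obtain ⟨m, hm, rfl⟩ := hw'
      simp only [MulEquiv.coe_toMonoidHom, MulAut.conj_apply]
      have h1 : g⁻¹ * (g * m * g⁻¹) * g⁻¹⁻¹ = m := by group
      rw [h1]
      exact hm
    obtain ⟨m, hm, c', hc', hgm⟩ :=
      (Cfsg.Agent.S1404.result hG M c.hM p c.hpM (↑P) hPp hP1 c.hPM).1 g⁻¹ hle
    have hc'M : c' ∈ M :=
      Cfsg.Agent.Lib.Helper22.BG139.normalizer_le_left c (centralizer_le_normalizer _ hc')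
    have hgM : g ∈ M := by
      have h1 : g⁻¹ ∈ M := hgm ▸ M.mul_mem hm hc'M
      simpa using M.inv_mem h1
    have hHM : H = M := by
      rw [hg]
      ext z
      simp only [mem_map, MulEquiv.coe_toMonoidHom, MulAut.conj_apply]
      constructor
      · rintro ⟨w, hw, rfl⟩
        exact M.mul_mem (M.mul_mem hgM hw) (M.inv_mem hgM)
      · intro hz
        exact ⟨g⁻¹ * z * g, M.mul_mem (M.mul_mem (M.inv_mem hgM) hz) hgM, by group⟩
    have hNM : normalizer ((zpowers y : Subgroup G) : Set G) ≤ M := hHM ▸ hNH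
    exact (Cfsg.Agent.S1409.result hG M c.hM s hsσM (zpowers y) hXc hNM).1.2 hs3M.2.2.2
  -- Step 9: the new configuration
  have hnP : normalizer ((P : Subgroup G) : Set G) ≤ H := by
    rw [← hh.t3eq M N p P c]
    exact hDH
  have hpH : p ∈ sigma H := by
    rw [Cfsg.Agent.Lib.Helper32.BG12.mem_sigma_iff']
    refine ⟨?_, ↑P, hPH, P.isPGroup', ?_, hnP⟩
    · exact (Sylow.dvd_card_of_dvd_card P hpG).trans (Subgroup.card_dvd_of_le hPH)
    · intro h
      exact P.not_dvd_index (h.trans (Subgroup.relIndex_dvd_index_of_le hPH))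
  have c2 : Cfg M H p P := ⟨c.hM, hH, hnc', c.hpM, hpH, c.hPM, hPH⟩
  -- Steps 10-14
  have hMH : M ⊓ H = M ⊓ N := (hh.t3eq M H p P c2).trans (hh.t3eq M N p P c).symm
  have h2H : tau2 H = ∅ := hh.t5 H M p P c2.symm
  have hXH : zpowers y ≤ H := le_normalizer.trans hNH
  have hsH : s ∈ sigma H := by
    by_contra hn
    have h1 := (Cfsg.Agent.S1409.result hG H hH s hn (zpowers y) hXc hNH).1
    have h3 : s ∈ tau2 H := ⟨hsp, hn, h1.1, h1.2⟩
    rw [h2H] at h3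
    exact h3
  have hτ : tau1 M = tau1 H := Cfg.tau1_eq' hG c2 hh.h31 hh.t2 hh.t3le hh.t6
  have hT'' : IsPiHallOf (tau1 H) T (H ⊓ M) := by
    rw [← hτ, inf_comm, hMH]
    exact hT
  have h6H := hh.t6 H M p P c2.symm T hT''
  have semiH := Cfg.semiprime c2.symm (hh.t2 H hH) h6H x hx hx1
  have hyH : y ∈ H := hXH (mem_zpowers y)
  have hyσ : y ∈ sigmaCore H := mem_sigmaCore_of_orderOf hG hH hsH hyH hy
  have hyT : y ∈ centralizer (T : Set G) := by
    have h1 : y ∈ sigmaCore H ⊓ centralizer ({x} : Set G) := mem_inf.mpr ⟨hyσ, hyx⟩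
    rw [semiH] at h1
    exact (mem_inf.mp h1).2
  exact tau3_cent_false hG c.hM (hh.t5 M N p P c) hTM (hDM hyD) hs3M hy hyT

/-- **T8**: every non-identity element of `T` acts fixed-point-freely on `(M ∩ N) ∩ M'`. -/
theorem Cfg.semireg (hG : IsMinSimpleOddOrder G) (hh : Hyps G) (c : Cfg M N p P)
    {T : Subgroup G} (hT : IsPiHallOf (tau1 M) T (M ⊓ N)) :
    ∀ x ∈ T, x ≠ 1 → (M ⊓ N) ⊓ ⁅M, M⁆ ⊓ centralizer ({x} : Set G) = ⊥ := by
  intro x hx hx1
  by_contra hne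
  have hcard : 1 < Nat.card ↥((M ⊓ N) ⊓ ⁅M, M⁆ ⊓ centralizer ({x} : Set G)) :=
    (Subgroup.one_lt_card_iff_ne_bot _).mpr hne
  obtain ⟨s, hsp, hsd⟩ := Nat.exists_prime_and_dvd (Nat.ne_of_gt hcard)
  haveI : Fact s.Prime := ⟨hsp⟩
  obtain ⟨w, hw⟩ := exists_prime_orderOf_dvd_card'
    (G := ↥((M ⊓ N) ⊓ ⁅M, M⁆ ⊓ centralizer ({x} : Set G))) s hsd
  have hy : orderOf (w : G) = s := by rw [Subgroup.orderOf_coe]; exact hw
  have hyW := w.2
  rw [mem_inf, mem_inf] at hyW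
  obtain ⟨⟨hyD, hyM'⟩, hyx⟩ := hyW
  have hDM : M ⊓ N ≤ M := inf_le_left
  have hDN : M ⊓ N ≤ N := inf_le_right
  have hy1 : (w : G) ≠ 1 := by
    intro h
    rw [h, orderOf_one] at hy
    exact hsp.one_lt.ne hy
  have hsM' : s ∣ Nat.card ↥⁅M, M⁆ := by
    rw [← hy]
    exact Subgroup.orderOf_dvd_natCard _ hyM'
  have hs1M : s ∉ tau1 M := fun h => h.2.2.2.1 hsM'
  have hτ : tau1 M = tau1 N := Cfg.tau1_eq' hG c hh.h31 hh.t2 hh.t3le hh.t6
  have hs1N : s ∉ tau1 N := hτ ▸ hs1M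
  have hsdM : s ∣ Nat.card M := by
    rw [← hy]
    exact Subgroup.orderOf_dvd_natCard _ (hDM hyD)
  have hsdN : s ∣ Nat.card N := by
    rw [← hy]
    exact Subgroup.orderOf_dvd_natCard _ (hDN hyD)
  by_cases hsM : s ∈ sigma M
  · by_cases hsN : s ∈ sigma N
    · -- `s ∈ σ(M) ∩ σ(N)`
      obtain ⟨S, hSD, hyS⟩ := exists_sylow_le_inf hG c hsM hsN hyD hy
      have c2 : Cfg M N s S :=
        ⟨c.hM, c.hN, c.hnc, hsM, hsN, hSD.trans inf_le_left, hSD.trans inf_le_right⟩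
      have hfp := Cfg.fpf c2 (hh.t2 M c.hM) (hh.t6 M N s S c2 T hT) (hh.t3le M N s S c2) x hx hx1
      have h1 : (w : G) ∈ (↑S : Subgroup G) ⊓ centralizer ({x} : Set G) := mem_inf.mpr ⟨hyS, hyx⟩
      rw [hfp, mem_bot] at h1
      exact hy1 h1
    · -- `s ∈ σ(M)`, `s ∈ τ₃(N)`
      have hT' : IsPiHallOf (tau1 N) T (N ⊓ M) := by
        rw [← hτ, inf_comm]
        exact hT
      have h6' := hh.t6 N M p P c.symm T hT'
      have h6 := hh.t6 M N p P c T hT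
      have semiM := Cfg.semiprime c (hh.t2 M c.hM) h6 x hx hx1
      have hyσ := mem_sigmaCore_of_orderOf hG c.hM hsM (hDM hyD) hy
      have hyT : (w : G) ∈ centralizer (T : Set G) := by
        have h1 : (w : G) ∈ sigmaCore M ⊓ centralizer ({x} : Set G) := mem_inf.mpr ⟨hyσ, hyx⟩
        rw [semiM] at h1
        exact (mem_inf.mp h1).2
      have hs3N : s ∈ tau3 N := mem_tau3_of hG c.hN (hh.t5 N M p P c.symm) hsp hsN hs1N hsdN
      exact tau3_cent_false hG c.hN (hh.t5 N M p P c.symm) h6'.1 (hDN hyD) hs3N hy hyT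
  · have hs3M : s ∈ tau3 M := mem_tau3_of hG c.hM (hh.t5 M N p P c) hsp hsM hs1M hsdM
    exact tau3_case_false hG hh c hT hx hx1 hs3M hs1N hyD hy hyx

end Cfsg.Agent.Lib.Helper48.BG139
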