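import Cfsg.Agent.Lib.Helper48.BG139T8b
import Cfsg.Agent.Lib.Helper48.TIStep
import Cfsg.Agent.Lib.Helper47.BG1217
import Cfsg.Agent.Lib.Helper24.Coprime
import Cfsg.Agent.S1405

/-!
# B&G 13.9 (S1378), pieces T9 and T10 of the plan

* `Cfg.mem_tau1_of_cent` : strong form of T8, `C_{M ∩ N}(x)` is a `τ₁(M)`-group for `x ∈ T#`.
* `Cfg.cent_le`, `Cfg.cent_eq` : `C_M(x) = T × C_{M_α}(T)` for `x ∈ T#`.
* `Cfg.K_ne_bot`, `Cfg.pin`, `Cfg.ti`.
* `not_cfg` : the configuration does not exist (given the bundle `Hyps G`).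
-/

set_option autoImplicit false
set_option linter.style.haveILetI false
set_option linter.unusedSectionVars false

universe u

namespace Cfsg.Agent.Lib.Helper48.BG139

open Subgroup Cfsg Cfsg.Agent.Lib.Helper21.BG139 Cfsg.Agent.Lib.Helper47.BG139
  Cfsg.Agent.Lib.Helper33 Cfsg.Agent.Lib.Helper48.TICount

variable {G : Type u} [Group G] [Finite G]

theorem cent_zpowers (y : G) :
    centralizer ((zpowers y : Subgroup G) : Set G) = centralizer ({y} : Set G) := by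
  ext g
  simp only [mem_centralizer_iff, Set.mem_singleton_iff, SetLike.mem_coe, forall_eq]
  constructor
  · intro h
    exact h y (mem_zpowers y)
  · intro h z hz
    obtain ⟨k, rfl⟩ := mem_zpowers_iff.mp hz
    exact ((Commute.zpow_left (show Commute y g from h) k).eq)

variable {M N : Subgroup G} {p : ℕ} [Fact p.Prime] {P : Sylow p G}

/-- strong form of T8: for `x ∈ T#`, every element of prime order of `C_{M ∩ N}(x)` is a
`τ₁(M)`-element -/
theorem Cfg.mem_tau1_of_cent (hG : IsMinSimpleOddOrder G) (hh : Hyps G) (c : Cfg M N p P)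
    {T : Subgroup G} (hT : IsPiHallOf (tau1 M) T (M ⊓ N)) {x : G} (hx : x ∈ T) (hx1 : x ≠ 1)
    {s : ℕ} {y : G} (hsp : s.Prime) (hyD : y ∈ M ⊓ N) (hy : orderOf y = s)
    (hyx : y ∈ centralizer ({x} : Set G)) : s ∈ tau1 M := by
  by_contra hs1M
  haveI : Fact s.Prime := ⟨hsp⟩
  have hDM : M ⊓ N ≤ M := inf_le_left
  have hDN : M ⊓ N ≤ N := inf_le_right
  have hy1 : y ≠ 1 := by
    intro h
    rw [h, orderOf_one] at hy
    exact hsp.one_lt.ne hy
  have hτ : tau1 M = tau1 N := Cfg.tau1_eq' hG c hh.h31 hh.t2 hh.t3le hh.t6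
  have hs1N : s ∉ tau1 N := hτ ▸ hs1M
  have hsdM : s ∣ Nat.card M := by
    rw [← hy]
    exact Subgroup.orderOf_dvd_natCard _ (hDM hyD)
  have hsdN : s ∣ Nat.card N := by
    rw [← hy]
    exact Subgroup.orderOf_dvd_natCard _ (hDN hyD)
  by_cases hsM : s ∈ sigma M
  · by_cases hsN : s ∈ sigma N
    · obtain ⟨S, hSD, hyS⟩ := exists_sylow_le_inf hG c hsM hsN hyD hy
      have c2 : Cfg M N s S :=
        ⟨c.hM, c.hN, c.hnc, hsM, hsN, hSD.trans inf_le_left, hSD.trans inf_le_right⟩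
      have hfp := Cfg.fpf c2 (hh.t2 M c.hM) (hh.t6 M N s S c2 T hT) (hh.t3le M N s S c2) x hx hx1
      have h1 : y ∈ (↑S : Subgroup G) ⊓ centralizer ({x} : Set G) := mem_inf.mpr ⟨hyS, hyx⟩
      rw [hfp, mem_bot] at h1
      exact hy1 h1
    · have hT' : IsPiHallOf (tau1 N) T (N ⊓ M) := by
        rw [← hτ, inf_comm]
        exact hT
      have h6' := hh.t6 N M p P c.symm T hT'
      have h6 := hh.t6 M N p P c T hT
      have semiM := Cfg.semiprime c (hh.t2 M c.hM) h6 x hx hx1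
      have hyσ := mem_sigmaCore_of_orderOf hG c.hM hsM (hDM hyD) hy
      have hyT : y ∈ centralizer (T : Set G) := by
        have h1 : y ∈ sigmaCore M ⊓ centralizer ({x} : Set G) := mem_inf.mpr ⟨hyσ, hyx⟩
        rw [semiM] at h1
        exact (mem_inf.mp h1).2
      have hs3N : s ∈ tau3 N := mem_tau3_of hG c.hN (hh.t5 N M p P c.symm) hsp hsN hs1N hsdN
      exact tau3_cent_false hG c.hN (hh.t5 N M p P c.symm) h6'.1 (hDN hyD) hs3N hy hyT
  · have hs3M : s ∈ tau3 M := mem_tau3_of hG c.hM (hh.t5 M N p P c) hsp hsM hs1M hsdM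
    exact tau3_case_false hG hh c hT hx hx1 hs3M hs1N hyD hy hyx

/-- `C_{M ∩ N}(x) = T` for `x ∈ T#` (one inclusion) -/
theorem Cfg.cent_inf_le (hG : IsMinSimpleOddOrder G) (hh : Hyps G) (c : Cfg M N p P)
    {T : Subgroup G} (hT : IsPiHallOf (tau1 M) T (M ⊓ N)) {x : G} (hx : x ∈ T) (hx1 : x ≠ 1) :
    (M ⊓ N) ⊓ centralizer ({x} : Set G) ≤ T := by
  have hCD : (M ⊓ N) ⊓ centralizer ({x} : Set G) ≤ M ⊓ N := inf_le_left
  obtain ⟨-, hTcyc, -, -⟩ := hh.t6 M N p P c T hT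
  have hTC : T ≤ (M ⊓ N) ⊓ centralizer ({x} : Set G) := by
    refine le_inf hT.1 ?_
    intro t ht
    rw [mem_centralizer_iff]
    intro z hz
    rw [Set.mem_singleton_iff] at hz
    subst hz
    haveI := hTcyc
    have h1 := (IsCyclic.commGroup (α := T)).mul_comm ⟨z, hx⟩ ⟨t, ht⟩
    exact congrArg Subtype.val h1
  rw [← Subgroup.relIndex_eq_one]
  by_contra hne
  obtain ⟨q, hq, hqd⟩ := Nat.exists_prime_and_dvd hne
  haveI : Fact q.Prime := ⟨hq⟩
  have hqC : q ∣ Nat.card ↥((M ⊓ N) ⊓ centralizer ({x} : Set G)) :=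
    hqd.trans (Subgroup.relIndex_dvd_card T _)
  obtain ⟨w, hw⟩ := exists_prime_orderOf_dvd_card'
    (G := ↥((M ⊓ N) ⊓ centralizer ({x} : Set G))) q hqC
  have hwo : orderOf (w : G) = q := by rw [Subgroup.orderOf_coe]; exact hw
  have hw2 := w.2
  rw [mem_inf] at hw2
  have hq1 : q ∈ tau1 M := Cfg.mem_tau1_of_cent hG hh c hT hx hx1 hq hw2.1 hwo hw2.2
  apply hT.2.2 q hq hq1
  rw [← Subgroup.relIndex_mul_relIndex T _ (M ⊓ N) hTC hCD]
  exact Dvd.dvd.mul_right hqd _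

/-- T9: `C_M(x) ≤ T C_{M_α}(T)` for `x ∈ T#` -/
theorem Cfg.cent_le (hG : IsMinSimpleOddOrder G) (hh : Hyps G) (c : Cfg M N p P)
    {T : Subgroup G} (hT : IsPiHallOf (tau1 M) T (M ⊓ N)) {x : G} (hx : x ∈ T) (hx1 : x ≠ 1) :
    M ⊓ centralizer ({x} : Set G) ≤ T ⊔ (alphaCore M ⊓ centralizer (T : Set G)) := by
  intro g hg
  rw [mem_inf] at hg
  obtain ⟨hgM, hgx⟩ := hg
  obtain ⟨a, ha, d, hd, rfl⟩ := Cfsg.Agent.Lib.Helper22.BG139.mul_eq hG c g hgM
  obtain ⟨hTM, -, -, -⟩ := hh.t6 M N p P c T hT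
  have h5 := Cfsg.Agent.S1405.result hG M c.hM
  have hAM : alphaCore M ≤ M := h5.1.1
  have hxD : x ∈ M ⊓ N := hT.1 hx
  have hcop : (Nat.card (zpowers x)).Coprime (Nat.card (alphaCore M)) := by
    apply Nat.coprime_of_dvd
    intro q hq hq1 hq2
    have hqα : q ∈ alpha M := h5.1.2.1 q hq hq2
    have hqσ : q ∈ sigma M := Cfsg.Agent.Lib.Helper23.alpha_subset_sigma hG
      (Cfsg.Agent.Lib.Helper63.BG13.uniqStmt hG) c.hM hqα
    have hqT : q ∣ Nat.card T := hq1.trans (Subgroup.card_dvd_of_le (zpowers_le.mpr hx))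
    exact (hTM.2.1 q hq hqT).2.1 hqσ
  have hAtop : alphaCore M ≠ ⊤ := fun h => c.hM.1 (top_le_iff.mp (h ▸ hAM))
  have hsolv : Group.IsSolvable ↥(alphaCore M) :=
    Cfsg.Agent.Lib.Helper23.isSolvable_of_ne_top hG hAtop
  have hxA : zpowers x ≤ normalizer ((alphaCore M : Subgroup G) : Set G) :=
    zpowers_le.mpr (Cfsg.Agent.Lib.Helper96.BG103.le_normalizer_alphaCore M (hTM.1 hx))
  have hxDn : zpowers x ≤ normalizer ((M ⊓ N : Subgroup G) : Set G) :=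
    zpowers_le.mpr (le_normalizer hxD)
  have hk : a * d ∈ centralizer ((zpowers x : Subgroup G) : Set G) := by
    rw [cent_zpowers]
    exact hgx
  obtain ⟨a', ha', d', hd', heq⟩ := Cfsg.Agent.Lib.Helper24.centralizer_mul_factor (zpowers x)
    (alphaCore M) hcop (Or.inr hsolv) (alphaCore M) (M ⊓ N) le_rfl hxA hxDn a d ha hd hk
  rw [heq]
  rw [cent_zpowers] at ha' hd'
  have semiM := Cfg.semiprime c (hh.t2 M c.hM) (hh.t6 M N p P c T hT) x hx hx1
  have ha'K : a' ∈ alphaCore M ⊓ centralizer (T : Set G) := by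
    have h1 : a' ∈ sigmaCore M ⊓ centralizer ({x} : Set G) :=
      mem_inf.mpr ⟨h5.2.2.1 (mem_inf.mp ha').1, (mem_inf.mp ha').2⟩
    rw [semiM] at h1
    exact mem_inf.mpr ⟨(mem_inf.mp ha').1, (mem_inf.mp h1).2⟩
  have hd'T : d' ∈ T := Cfg.cent_inf_le hG hh c hT hx hx1 hd'
  exact mul_mem (mem_sup_right ha'K) (mem_sup_left hd'T)

/-- T9 with equality -/
theorem Cfg.cent_eq (hG : IsMinSimpleOddOrder G) (hh : Hyps G) (c : Cfg M N p P)
    {T : Subgroup G} (hT : IsPiHallOf (tau1 M) T (M ⊓ N)) :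
    ∀ x ∈ T, x ≠ 1 →
      M ⊓ centralizer ({x} : Set G) = T ⊔ (alphaCore M ⊓ centralizer (T : Set G)) := by
  intro x hx hx1
  apply le_antisymm (Cfg.cent_le hG hh c hT hx hx1)
  obtain ⟨hTM, hTcyc, -, -⟩ := hh.t6 M N p P c T hT
  have h5 := Cfsg.Agent.S1405.result hG M c.hM
  refine sup_le (le_inf hTM.1 ?_) (le_inf (inf_le_left.trans h5.1.1) ?_)
  · intro t ht
    rw [mem_centralizer_iff]
    intro z hz
    rw [Set.mem_singleton_iff] at hz
    subst hz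
    haveI := hTcyc
    have h1 := (IsCyclic.commGroup (α := T)).mul_comm ⟨z, hx⟩ ⟨t, ht⟩
    exact congrArg Subtype.val h1
  · intro k hk
    rw [mem_centralizer_iff]
    intro z hz
    rw [Set.mem_singleton_iff] at hz
    subst hz
    exact (mem_centralizer_iff.mp (mem_inf.mp hk).2) z hx

/-- `T ≠ 1` -/
theorem Cfg.T_ne_bot (hh : Hyps G) (c : Cfg M N p P)
    {T : Subgroup G} (hT : IsPiHallOf (tau1 M) T (M ⊓ N)) : T ≠ ⊥ := by
  obtain ⟨-, -, hPT, -⟩ := hh.t6 M N p P c T hT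
  intro h
  have hpG : p ∣ Nat.card G := c.hpM.2.1.trans (Subgroup.card_subgroup_dvd_card M)
  apply Sylow.ne_bot_of_dvd_card P hpG
  rw [eq_bot_iff, ← hPT]
  refine le_inf le_rfl ?_
  intro y _
  rw [mem_centralizer_iff]
  intro z hz
  rw [h] at hz
  have hz1 : z = 1 := by simpa using hz
  rw [hz1, one_mul, mul_one]

/-- T9: `C_{M_α}(T) ≠ 1` -/
theorem Cfg.K_ne_bot (hG : IsMinSimpleOddOrder G) (hh : Hyps G) (c : Cfg M N p P)
    {T : Subgroup G} (hT : IsPiHallOf (tau1 M) T (M ⊓ N)) :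
    alphaCore M ⊓ centralizer (T : Set G) ≠ ⊥ := by
  have h6 := hh.t6 M N p P c T hT
  have hTM := h6.1
  have h5 := Cfsg.Agent.S1405.result hG M c.hM
  have hT1 : T ≠ ⊥ := Cfg.T_ne_bot hh c hT
  have hTc1 : Nat.card T ≠ 1 := fun h => hT1 (Subgroup.card_eq_one.mp h)
  obtain ⟨t, ht, htd⟩ := Nat.exists_prime_and_dvd hTc1
  haveI : Fact t.Prime := ⟨ht⟩
  obtain ⟨x₀, hx₀⟩ := exists_prime_orderOf_dvd_card' (G := ↥T) t htd
  have hxo : orderOf (x₀ : G) = t := by rw [Subgroup.orderOf_coe]; exact hx₀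
  have hx : (x₀ : G) ∈ T := x₀.2
  have hx1 : (x₀ : G) ≠ 1 := by
    intro h
    rw [h, orderOf_one] at hxo
    exact ht.one_lt.ne hxo
  have ht1 : t ∈ tau1 M := hTM.2.1 t ht htd
  have hfp := Cfg.fpf c (hh.t2 M c.hM) h6 (hh.t3le M N p P c) (x₀ : G) hx hx1
  have semiM := Cfg.semiprime c (hh.t2 M c.hM) h6 (x₀ : G) hx hx1
  have hreg : (↑P : Subgroup G) ⊓ centralizer ((zpowers (x₀ : G) : Subgroup G) : Set G) = ⊥ := by
    rw [cent_zpowers]
    exact hfp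
  have hTQ : zpowers (x₀ : G) ≤ normalizer ((P : Subgroup G) : Set G) := by
    rw [zpowers_le, ← hh.t3eq M N p P c]
    exact hT.1 hx
  have hnu : ∃ L' : Subgroup G, IsCoatom L' ∧ L' ≠ M ∧
      M ⊓ centralizer ((P : Subgroup G) : Set G) ≤ L' :=
    ⟨N, c.hN, (Cfsg.Agent.Lib.Helper22.BG139.ne_of_cfg c).symm,
      inf_le_right.trans ((centralizer_le_normalizer _).trans
        (Cfsg.Agent.Lib.Helper22.BG139.normalizer_le_right c))⟩
  have htα : t ∉ alpha M := fun h => ht1.2.1 (Cfsg.Agent.Lib.Helper23.alpha_subset_sigma hG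
    (Cfsg.Agent.Lib.Helper63.BG13.uniqStmt hG) c.hM h)
  have hne := Cfsg.Agent.Lib.Helper47.BG12.bg_12_17_a_ne (t := t) (q := p) hG c.hM
    (zpowers_le.mpr (hTM.1 hx)) (by rw [Nat.card_zpowers, hxo]) c.hPM P.isPGroup'
    (Cfsg.Agent.Lib.Helper22.BG139.not_alpha hG c) htα hTQ hreg hnu
    (Cfsg.Agent.Lib.Helper22.BG139.alphaCore_ne_bot hG c)
  intro hbot
  apply hne
  rw [eq_bot_iff, ← hbot]
  intro z hz
  rw [cent_zpowers] at hz
  have h1 : z ∈ sigmaCore M ⊓ centralizer ({(x₀ : G)} : Set G) :=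
    mem_inf.mpr ⟨h5.2.2.1 (mem_inf.mp hz).1, (mem_inf.mp hz).2⟩
  rw [semiM] at h1
  exact mem_inf.mpr ⟨(mem_inf.mp hz).1, (mem_inf.mp h1).2⟩

/-- T9: non-identity elements of `M_α` are conjugated into `M` only by elements of `M` -/
theorem Cfg.pin (hG : IsMinSimpleOddOrder G) (c : Cfg M N p P) :
    ∀ k ∈ alphaCore M, k ≠ 1 → ∀ g : G, g * k * g⁻¹ ∈ M → g ∈ M := by
  intro k hk hk1 g hg
  have h5 := Cfsg.Agent.S1405.result hG M c.hM
  refine Cfsg.Agent.Lib.Helper48.TIStep.mem_of_conj_beta hG c.hM (h5.1.1 hk) hk1 ?_ hg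
  intro s hs hsd
  rw [← Cfsg.Agent.Lib.Helper22.BG139.alpha_eq_beta hG c]
  exact h5.1.2.1 s hs (hsd.trans (Subgroup.orderOf_dvd_natCard _ hk))

theorem Cfg.comm_TK {T : Subgroup G} :
    ∀ t ∈ T, ∀ k ∈ alphaCore M ⊓ centralizer (T : Set G), t * k = k * t := by
  intro t ht k hk
  exact (mem_centralizer_iff.mp (mem_inf.mp hk).2) t ht

theorem Cfg.coprime_TK (hG : IsMinSimpleOddOrder G) (hh : Hyps G) (c : Cfg M N p P)
    {T : Subgroup G} (hT : IsPiHallOf (tau1 M) T (M ⊓ N)) :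
    (Nat.card T).Coprime (Nat.card ↥(alphaCore M ⊓ centralizer (T : Set G))) := by
  obtain ⟨hTM, -, -, -⟩ := hh.t6 M N p P c T hT
  have h5 := Cfsg.Agent.S1405.result hG M c.hM
  apply Nat.coprime_of_dvd
  intro q hq hq1 hq2
  have hqα : q ∈ alpha M := h5.1.2.1 q hq (hq2.trans (Subgroup.card_dvd_of_le inf_le_left))
  exact (hTM.2.1 q hq hq1).2.1 (Cfsg.Agent.Lib.Helper23.alpha_subset_sigma hG
    (Cfsg.Agent.Lib.Helper63.BG13.uniqStmt hG) c.hM hqα)

/-- T10: `T# K#` is a TI-set with normalizer `T K`, `K = C_{M_α}(T)` -/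
theorem Cfg.ti (hG : IsMinSimpleOddOrder G) (hh : Hyps G) (c : Cfg M N p P)
    {T : Subgroup G} (hT : IsPiHallOf (tau1 M) T (M ⊓ N)) :
    ∀ z ∈ prodSharp T (alphaCore M ⊓ centralizer (T : Set G)), ∀ g : G,
      g * z * g⁻¹ ∈ prodSharp T (alphaCore M ⊓ centralizer (T : Set G)) →
      g ∈ T ⊔ (alphaCore M ⊓ centralizer (T : Set G)) := by
  obtain ⟨hTM, -, -, -⟩ := hh.t6 M N p P c T hT
  have h5 := Cfsg.Agent.S1405.result hG M c.hM
  apply Cfsg.Agent.Lib.Helper48.TIStep.ti_step hG c.hM hTM.1 (inf_le_left.trans h5.1.1)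
    Cfg.comm_TK (Cfg.coprime_TK hG hh c hT)
  · intro s hs hsd
    rw [← Cfsg.Agent.Lib.Helper22.BG139.alpha_eq_beta hG c]
    exact h5.1.2.1 s hs (hsd.trans (Subgroup.card_dvd_of_le inf_le_left))
  · by_contra hne
    obtain ⟨q, hq, hqd⟩ := Nat.exists_prime_and_dvd
      ((Subgroup.one_lt_card_iff_ne_bot _).mpr hne).ne'
    have hq1 : q ∈ tau1 M := hTM.2.1 q hq (hqd.trans (Subgroup.card_dvd_of_le inf_le_left))
    exact hq1.2.2.2.1 (hqd.trans (Subgroup.card_dvd_of_le inf_le_right))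
  · intro t ht ht1
    exact Cfg.cent_le hG hh c hT ht ht1

/-- **B&G 13.9, the configuration does not exist** (given the earlier pieces). -/
theorem not_cfg (hG : IsMinSimpleOddOrder G) (hh : Hyps G) (c : Cfg M N p P) : False := by
  have hMN : M ⊓ N ≠ ⊤ := fun h => c.hM.1 (top_le_iff.mp (h ▸ inf_le_left))
  obtain ⟨T, hT⟩ := exists_isPiHallOf hG (tau1 M) hMN
  have hτ : tau1 M = tau1 N := Cfg.tau1_eq' hG c hh.h31 hh.t2 hh.t3le hh.t6
  have hT' : IsPiHallOf (tau1 N) T (N ⊓ M) := by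
    rw [← hτ, inf_comm]
    exact hT
  have h5 := Cfsg.Agent.S1405.result hG M c.hM
  have h5' := Cfsg.Agent.S1405.result hG N c.hN
  have hcop := Cfg.coprime_TK hG hh c hT
  have hT1 := Cfg.T_ne_bot hh c hT
  refine false_of_two_prod_of_odd hG.1 T (alphaCore M ⊓ centralizer (T : Set G)) T
    (alphaCore N ⊓ centralizer (T : Set G)) Cfg.comm_TK hcop hT1
    (Cfg.K_ne_bot hG hh c hT) Cfg.comm_TK (Cfg.coprime_TK hG hh c.symm hT') hT1
    (Cfg.K_ne_bot hG hh c.symm hT') (Cfg.ti hG hh c hT) (Cfg.ti hG hh c.symm hT') ?_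
  rintro z ⟨t, ht, -, k, hk, hk1, rfl⟩ z' ⟨t', ht', -, k', hk', -, rfl⟩ g heq
  have hpow : ∀ a ∈ T, a ^ Nat.card T = 1 := fun a ha =>
    orderOf_dvd_iff_pow_eq_one.mp (Subgroup.orderOf_dvd_natCard T ha)
  have h1 : (t * k) ^ Nat.card T = k ^ Nat.card T := by
    have hc : Commute t k := Cfg.comm_TK t ht k hk
    rw [hc.mul_pow, hpow t ht, one_mul]
  have h2 : (t' * k') ^ Nat.card T = k' ^ Nat.card T := by
    have hc : Commute t' k' := Cfg.comm_TK t' ht' k' hk'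
    rw [hc.mul_pow, hpow t' ht', one_mul]
  have h3 : g * k ^ Nat.card T * g⁻¹ = k' ^ Nat.card T := by
    rw [← h1, ← conj_pow, heq, h2]
  have hw1 : k ^ Nat.card T ≠ 1 := by
    intro h
    have hd1 : orderOf k ∣ Nat.card T := orderOf_dvd_of_pow_eq_one h
    have hd2 : orderOf k ∣ Nat.card ↥(alphaCore M ⊓ centralizer (T : Set G)) :=
      Subgroup.orderOf_dvd_natCard _ hk
    have h4 : orderOf k = 1 := Nat.Coprime.eq_one_of_dvd (hcop.coprime_dvd_left hd1) hd2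
    exact hk1 (orderOf_eq_one_iff.mp h4)
  have hwo : orderOf (k ^ Nat.card T) ≠ 1 := fun h => hw1 (orderOf_eq_one_iff.mp h)
  obtain ⟨s, hs, hsd⟩ := Nat.exists_prime_and_dvd hwo
  have hwA : k ^ Nat.card T ∈ alphaCore M := (alphaCore M).pow_mem (mem_inf.mp hk).1 _
  have hwA' : k' ^ Nat.card T ∈ alphaCore N := (alphaCore N).pow_mem (mem_inf.mp hk').1 _
  have hsαM : s ∈ alpha M :=
    h5.1.2.1 s hs (hsd.trans (Subgroup.orderOf_dvd_natCard _ hwA))
  have hoeq : orderOf (k' ^ Nat.card T) = orderOf (k ^ Nat.card T) := by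
    rw [← h3]
    have h4 : orderOf (MulAut.conj g (k ^ Nat.card T)) = orderOf (k ^ Nat.card T) :=
      MulEquiv.orderOf_eq _ _
    rwa [MulAut.conj_apply] at h4
  have hsαN : s ∈ alpha N :=
    h5'.1.2.1 s hs ((hoeq ▸ hsd).trans (Subgroup.orderOf_dvd_natCard _ hwA'))
  have hsσM : s ∈ sigma M := Cfsg.Agent.Lib.Helper23.alpha_subset_sigma hG
    (Cfsg.Agent.Lib.Helper63.BG13.uniqStmt hG) c.hM hsαM
  obtain ⟨g', hg'⟩ := Cfsg.Agent.Lib.Helper63.BG13.conj_of_sigma_alpha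
    (Cfsg.Agent.Lib.Helper63.BG13.uniqStmt hG) c.hN c.hM hsσM hsαN
  exact c.hnc g' hg'

end Cfsg.Agent.Lib.Helper48.BG139
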