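import Mathlib
import Cfsg.Prelude.Def_Local
import Cfsg.Agent.Lib.Helper48.PCore
import Cfsg.Agent.Lib.Helper48.Misc
import Cfsg.Agent.Lib.Helper22.Fitting
import Cfsg.Agent.Lib.Helper30.PPrimeCore
import Cfsg.Agent.Lib.Helper50.Burnside
import Cfsg.Agent.Lib.Helper32.PPrimeP

set_option autoImplicit false
set_option linter.unusedSectionVars false
set_option linter.style.haveILetI false
set_option linter.deprecated false
set_option linter.unusedVariables false

/-!
# A normal `p`-subgroup `H` of `X` is Sylow in the preimage of `O_p(X / C_X(H))`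
iff `C_T(H) ≤ H` for a Sylow `T` and `O_{p',p}(X) = H C_X(H)`.
-/

namespace Cfsg.Agent.Lib.Helper48.CR

open Subgroup

variable {X : Type*} [Group X] {p : ℕ} [Fact p.Prime]

/-- a normal subgroup containing `M` whose image mod `M` is a `p`-group lies in the preimage of
`O_p(X / M)`. -/
theorem le_comap_pCore (M : Subgroup X) [M.Normal] (V : Subgroup X) [hV : V.Normal]
    (h : IsPGroup p (V.map (QuotientGroup.mk' M))) :
    V ≤ (Cfsg.pCore p (X ⧸ M)).comap (QuotientGroup.mk' M) := by
  rw [← Subgroup.map_le_iff_le_comap]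
  exact le_pCore (hV.map _ (QuotientGroup.mk'_surjective M)) h

/-- elements of the preimage of `O_p(X / M)` have a `p`-power in `M`. -/
theorem exists_pow_mem (M : Subgroup X) [M.Normal] {n : X}
    (hn : n ∈ (Cfsg.pCore p (X ⧸ M)).comap (QuotientGroup.mk' M)) : ∃ k : ℕ, n ^ p ^ k ∈ M := by
  rw [Subgroup.mem_comap] at hn
  obtain ⟨k, hk⟩ := (isPGroup_pCore p (X ⧸ M)) ⟨_, hn⟩
  refine ⟨k, ?_⟩
  have h1 := congrArg Subtype.val hk
  simp only [SubgroupClass.coe_pow, OneMemClass.coe_one] at h1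
  rw [← map_pow] at h1
  exact (QuotientGroup.eq_one_iff _).mp h1

/-- a subgroup all of whose elements have a `p`-power in `M` has `p`-group image mod `M`. -/
theorem isPGroup_map_of_pow_mem (M : Subgroup X) [M.Normal] (V : Subgroup X)
    (h : ∀ v ∈ V, ∃ k : ℕ, v ^ p ^ k ∈ M) : IsPGroup p (V.map (QuotientGroup.mk' M)) := by
  rintro ⟨y, hy⟩
  obtain ⟨v, hv, rfl⟩ := Subgroup.mem_map.mp hy
  obtain ⟨k, hk⟩ := h v hv
  refine ⟨k, ?_⟩
  apply Subtype.ext
  simp only [SubgroupClass.coe_pow, OneMemClass.coe_one]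
  rw [← map_pow]
  exact (QuotientGroup.eq_one_iff _).mpr hk

/-- a power of `p` not divisible by `p` is one. -/
theorem eq_one_of_dvd_pow_of_not_dvd {n k : ℕ} (h1 : n ∣ p ^ k) (h2 : ¬ p ∣ n) : n = 1 := by
  have hp : p.Prime := Fact.out
  obtain ⟨j, _, rfl⟩ := (Nat.dvd_prime_pow hp).mp h1
  rcases Nat.eq_zero_or_pos j with rfl | hj
  · simp
  · exact absurd (dvd_pow_self p hj.ne') h2

variable [Finite X]

section Main

variable (H : Subgroup X) [hHn : H.Normal] (hH : IsPGroup p H) (T : Sylow p X)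
  [hCn : (centralizer (H : Set X)).Normal]

include hH

/-- `H C_X(H)` lies in the preimage of `O_p(X / C_X(H))`. -/
theorem sup_le_comap :
    H ⊔ centralizer (H : Set X) ≤
      (Cfsg.pCore p (X ⧸ centralizer (H : Set X))).comap
        (QuotientGroup.mk' (centralizer (H : Set X))) := by
  haveI : (H ⊔ centralizer (H : Set X)).Normal := Subgroup.sup_normal _ _
  apply le_comap_pCore
  apply isPGroup_map_of_pow_mem
  intro v hv
  obtain ⟨h, hh, c, hc, rfl⟩ := (Subgroup.mem_sup_of_normal_left).mp hv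
  obtain ⟨k, hk⟩ := hH ⟨h, hh⟩
  have hk' : h ^ p ^ k = 1 := by
    have := congrArg Subtype.val hk
    simpa using this
  refine ⟨k, ?_⟩
  -- h and c commute
  have hcomm : Commute h c := by
    have := (Subgroup.mem_centralizer_iff.mp hc) h hh
    exact this
  rw [hcomm.mul_pow, hk', one_mul]
  exact Subgroup.pow_mem _ hc _

/-- `O_{p'}(X)` centralizes the normal `p`-subgroup `H`. -/
theorem pPrimeCore_le_centralizer : Cfsg.pPrimeCore p X ≤ centralizer (H : Set X) := by
  haveI := Cfsg.Agent.Lib.Helper22.pPrimeCore_normal' p X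
  intro o ho
  rw [Subgroup.mem_centralizer_iff]
  intro h hh
  -- the commutator lies in both
  have h1 : h * o * h⁻¹ * o⁻¹ ∈ Cfsg.pPrimeCore p X :=
    Subgroup.mul_mem _ (Subgroup.Normal.conj_mem inferInstance o ho h) (Subgroup.inv_mem _ ho)
  have h2 : h * o * h⁻¹ * o⁻¹ ∈ H := by
    have : h * o * h⁻¹ * o⁻¹ = h * (o * h⁻¹ * o⁻¹) := by group
    rw [this]
    exact Subgroup.mul_mem _ hh (hHn.conj_mem _ (Subgroup.inv_mem _ hh) o)
  have h3 : h * o * h⁻¹ * o⁻¹ = 1 := by
    have hcop : (Nat.card (Cfsg.pPrimeCore p X)).Coprime (Nat.card H) := by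
      obtain ⟨k, hk⟩ := IsPGroup.iff_card.mp hH
      rw [hk]
      exact Nat.Coprime.pow_right _ (pPrimeCore_card_coprime p)
    have hdisj := Subgroup.inf_eq_bot_of_coprime hcop
    have : h * o * h⁻¹ * o⁻¹ ∈ Cfsg.pPrimeCore p X ⊓ H := ⟨h1, h2⟩
    rw [hdisj, Subgroup.mem_bot] at this
    exact this
  have : h * o = o * h := by
    have h4 : h * o * h⁻¹ * o⁻¹ * (o * h) = 1 * (o * h) := by rw [h3]
    rw [one_mul] at h4
    rw [← h4]
    group
  exact this

/-- `H ≤ O_{p',p}(X)`. -/
theorem le_pPrimePCore : H ≤ Cfsg.pPrimePCore p X := by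
  haveI := Cfsg.Agent.Lib.Helper22.pPrimeCore_normal' p X
  unfold Cfsg.pPrimePCore
  apply le_comap_pCore
  exact hH.map _

/-- `O_{p',p}(X)` lies in the preimage of `O_p(X / C_X(H))`. -/
theorem pPrimePCore_le_comap :
    Cfsg.pPrimePCore p X ≤
      (Cfsg.pCore p (X ⧸ centralizer (H : Set X))).comap
        (QuotientGroup.mk' (centralizer (H : Set X))) := by
  haveI := Cfsg.Agent.Lib.Helper22.pPrimeCore_normal' p X
  haveI : (Cfsg.pPrimePCore p X).Normal := by
    unfold Cfsg.pPrimePCore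
    haveI := Cfsg.Agent.Lib.Helper22.pCore_normal' p (X ⧸ Cfsg.pPrimeCore p X)
    exact Subgroup.Normal.comap inferInstance _
  apply le_comap_pCore
  apply isPGroup_map_of_pow_mem
  intro v hv
  obtain ⟨k, hk⟩ := exists_pow_mem (Cfsg.pPrimeCore p X) hv
  exact ⟨k, pPrimeCore_le_centralizer H hH hk⟩

omit hHn in
/-- Burnside step: if `H ∩ C_X(H)` has index prime to `p` in `C_X(H)` then
`C_X(H) ≤ O_{p'}(X) H`. -/
theorem centralizer_le_sup
    (hidx : ¬ p ∣ (H ⊓ centralizer (H : Set X)).relIndex (centralizer (H : Set X))) :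
    centralizer (H : Set X) ≤ Cfsg.pPrimeCore p X ⊔ H := by
  set C := centralizer (H : Set X) with hC
  -- the Sylow subgroup of C
  have hZp : IsPGroup p ((H ⊓ C).subgroupOf C) := by
    apply IsPGroup.comap_of_injective _ C.subtype C.subtype_injective
    exact hH.to_le inf_le_left
  have hZi : ¬ p ∣ ((H ⊓ C).subgroupOf C).index := hidx
  let P : Sylow p C := hZp.toSylow hZi
  have hPc : (P : Subgroup C) = (H ⊓ C).subgroupOf C := rfl
  have hP : normalizer ((P : Subgroup C) : Set C) ≤ centralizer ((P : Subgroup C) : Set C) := by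
    intro c _
    rw [Subgroup.mem_centralizer_iff]
    intro z hz
    rw [SetLike.mem_coe, hPc, Subgroup.mem_subgroupOf] at hz
    apply Subtype.ext
    have := (Subgroup.mem_centralizer_iff.mp c.2) _ hz.1
    simpa using this
  have hcomp := Cfsg.Agent.Lib.Helper50.pPrimeCore_isComplement' P hP
  intro c hc
  obtain ⟨⟨k, z⟩, hkz⟩ := hcomp.existsUnique ⟨c, hc⟩ |>.exists
  have h1 : (k : C) * (z : C) = ⟨c, hc⟩ := hkz
  have h2 : ((k : C) : X) * ((z : C) : X) = c := by
    have := congrArg Subtype.val h1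
    simpa using this
  rw [← h2]
  apply Subgroup.mul_mem_sup
  · apply Cfsg.Agent.Lib.Helper30.pPrimeCore_normal_le p C
    exact Subgroup.mem_map.mpr ⟨k, k.2, rfl⟩
  · have h3 : (z : C) ∈ (H ⊓ C).subgroupOf C := z.2
    rw [Subgroup.mem_subgroupOf] at h3
    exact h3.1

/-- the main equivalence, inside `X`. -/
theorem main :
    (H ≤ (Cfsg.pCore p (X ⧸ centralizer (H : Set X))).comap
          (QuotientGroup.mk' (centralizer (H : Set X))) ∧
      ¬ p ∣ H.relIndex ((Cfsg.pCore p (X ⧸ centralizer (H : Set X))).comap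
          (QuotientGroup.mk' (centralizer (H : Set X))))) ↔
    ((T : Subgroup X) ⊓ centralizer (H : Set X) ≤ H ∧
      Cfsg.pPrimePCore p X = H ⊔ centralizer (H : Set X)) := by
  have hp : p.Prime := Fact.out
  set C := centralizer (H : Set X) with hC
  set N := (Cfsg.pCore p (X ⧸ C)).comap (QuotientGroup.mk' C) with hN
  have hHCN : H ⊔ C ≤ N := sup_le_comap H hH
  have hHN : H ≤ N := le_sup_left.trans hHCN
  have hCN : C ≤ N := le_sup_right.trans hHCN
  have hYN : Cfsg.pPrimePCore p X ≤ N := pPrimePCore_le_comap H hH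
  have hHY : H ≤ Cfsg.pPrimePCore p X := le_pPrimePCore H hH
  have hOY : Cfsg.pPrimeCore p X ≤ Cfsg.pPrimePCore p X := by
    haveI := Cfsg.Agent.Lib.Helper22.pPrimeCore_normal' p X
    intro o ho
    unfold Cfsg.pPrimePCore
    rw [Subgroup.mem_comap]
    have : QuotientGroup.mk' (Cfsg.pPrimeCore p X) o = 1 := (QuotientGroup.eq_one_iff _).mpr ho
    rw [this]
    exact Subgroup.one_mem _
  have hHT : H ≤ (T : Subgroup X) := hH.le_sylow_of_normal T
  -- relIndex identities
  have hrel1 : (H ⊓ C).relIndex C = H.relIndex (H ⊔ C) := by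
    rw [Subgroup.inf_relIndex_right, Subgroup.relIndex_sup_left]
  constructor
  · rintro ⟨-, hSyl⟩
    -- (a)
    have ha : (T : Subgroup X) ⊓ C ≤ H := by
      set K := H ⊔ ((T : Subgroup X) ⊓ C) with hK
      have hKT : K ≤ (T : Subgroup X) := sup_le hHT inf_le_left
      have hKN : K ≤ N := sup_le hHN (inf_le_right.trans hCN)
      have hKp : IsPGroup p K := T.isPGroup'.to_le hKT
      have h1 : H.relIndex K ∣ H.relIndex N := by
        have := Subgroup.relIndex_mul_relIndex H K N le_sup_left hKN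
        exact Dvd.intro _ this
      obtain ⟨k, hk⟩ := IsPGroup.iff_card.mp hKp
      have h2 : H.relIndex K ∣ p ^ k := by
        have := Subgroup.relIndex_dvd_card H K
        rwa [hk] at this
      have h3 : H.relIndex K = 1 :=
        eq_one_of_dvd_pow_of_not_dvd h2 (fun h => hSyl (dvd_trans h h1))
      rw [Subgroup.relIndex_eq_one] at h3
      exact le_sup_right.trans h3
    refine ⟨ha, ?_⟩
    -- N ≤ H ⊔ C
    have hNHC : N ≤ H ⊔ C := by
      have h1 : (H ⊔ C).relIndex N ∣ H.relIndex N := Subgroup.relIndex_dvd_of_le_left N le_sup_left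
      have h2 : (H ⊔ C).relIndex N ∣ C.relIndex N := Subgroup.relIndex_dvd_of_le_left N le_sup_right
      -- C.relIndex N is a power of p
      have h3 : ∃ k : ℕ, C.relIndex N = p ^ k := by
        have hmap : N.map (QuotientGroup.mk' C) = Cfsg.pCore p (X ⧸ C) := by
          rw [hN, Subgroup.map_comap_eq_self_of_surjective (QuotientGroup.mk'_surjective C)]
        have h4 : C.relIndex N = Nat.card (N.map (QuotientGroup.mk' C)) := by
          have h5 := Subgroup.relIndex_map_map (QuotientGroup.mk' C) (⊥ : Subgroup X) N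
          simp only [QuotientGroup.ker_mk', bot_sup_eq, Subgroup.map_bot,
            Subgroup.relIndex_bot_left] at h5
          rw [h5]
          congr 1
          exact (sup_eq_left.mpr hCN).symm
        rw [h4, hmap]
        exact IsPGroup.iff_card.mp (isPGroup_pCore p (X ⧸ C))
      obtain ⟨k, hk⟩ := h3
      rw [hk] at h2
      have h6 : (H ⊔ C).relIndex N = 1 :=
        eq_one_of_dvd_pow_of_not_dvd h2 (fun h => hSyl (dvd_trans h h1))
      exact Subgroup.relIndex_eq_one.mp h6
    apply le_antisymm (hYN.trans hNHC)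
    apply sup_le hHY
    -- C ≤ Y
    have hidx : ¬ p ∣ (H ⊓ C).relIndex C := by
      rw [hrel1]
      intro h
      apply hSyl
      have := Subgroup.relIndex_mul_relIndex H (H ⊔ C) N le_sup_left hHCN
      exact dvd_trans h (Dvd.intro _ this)
    exact (centralizer_le_sup H hH hidx).trans (sup_le hOY hHY)
  · rintro ⟨ha, hb⟩
    refine ⟨hHN, ?_⟩
    -- Sylow of C inside H
    have h1 : ¬ p ∣ ((T : Subgroup X) ⊓ C).relIndex C :=
      Cfsg.Agent.Lib.Helper32.not_dvd_relIndex_inf_normal T C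
    have hidx : ¬ p ∣ (H ⊓ C).relIndex C := by
      intro h
      apply h1
      have : (T : Subgroup X) ⊓ C ≤ H ⊓ C := le_inf ha inf_le_right
      exact dvd_trans h (Subgroup.relIndex_dvd_of_le_left C this)
    have hCle : C ≤ Cfsg.pPrimeCore p X ⊔ H := centralizer_le_sup H hH hidx
    -- N ≤ Y
    have hNY : N ≤ Cfsg.pPrimePCore p X := by
      haveI := Cfsg.Agent.Lib.Helper22.pPrimeCore_normal' p X
      haveI : N.Normal := by
        rw [hN]
        haveI := Cfsg.Agent.Lib.Helper22.pCore_normal' p (X ⧸ C)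
        exact Subgroup.Normal.comap inferInstance _
      unfold Cfsg.pPrimePCore
      apply le_comap_pCore
      apply isPGroup_map_of_pow_mem
      intro n hn
      obtain ⟨k, hk⟩ := exists_pow_mem C hn
      have h2 := hCle hk
      obtain ⟨o, ho, h, hh, hoh⟩ := (Subgroup.mem_sup_of_normal_left).mp h2
      obtain ⟨j, hj⟩ := hH ⟨h, hh⟩
      have hj' : h ^ p ^ j = 1 := by
        have := congrArg Subtype.val hj
        simpa using this
      refine ⟨k + j, ?_⟩
      rw [pow_add, pow_mul, ← hoh]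
      -- (o h)^(p^j) ∈ O
      have h3 : QuotientGroup.mk' (Cfsg.pPrimeCore p X) ((o * h) ^ p ^ j) = 1 := by
        have ho1 : QuotientGroup.mk' (Cfsg.pPrimeCore p X) o = 1 :=
          (QuotientGroup.eq_one_iff o).mpr ho
        rw [map_pow, map_mul, ho1, one_mul, ← map_pow, hj', map_one]
      exact (QuotientGroup.eq_one_iff _).mp h3
    have hNeq : N = H ⊔ C := le_antisymm (hb ▸ hNY) hHCN
    rw [hNeq, ← hrel1]
    exact hidx

end Main

/-- the main equivalence with the centralizer given as a variable. -/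
theorem main' {X : Type*} [Group X] {p : ℕ} [Fact p.Prime] [Finite X]
    (H : Subgroup X) [hHn : H.Normal] (hH : IsPGroup p H) (T : Sylow p X)
    (C : Subgroup X) [hCn : C.Normal] (hC : C = centralizer (H : Set X)) :
    (H ≤ (Cfsg.pCore p (X ⧸ C)).comap (QuotientGroup.mk' C) ∧
      ¬ p ∣ H.relIndex ((Cfsg.pCore p (X ⧸ C)).comap (QuotientGroup.mk' C))) ↔
    ((T : Subgroup X) ⊓ C ≤ H ∧ Cfsg.pPrimePCore p X = H ⊔ C) := by
  subst hC
  exact main H hH T

end Cfsg.Agent.Lib.Helper48.CR
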