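import Mathlib
import Cfsg.Agent.Lib.Helper48.CoprimeGen

set_option autoImplicit false

/-!
Generation by fixed points for a pair of commuting automorphisms of prime order `p` acting on an
invariant `p'`-subgroup (a version of `coprime_gen` for automorphisms).
-/

namespace Cfsg.Agent.Lib.Helper48.CGA

open Subgroup Cfsg.Agent.Lib.Helper48

variable {W : Type*} [Group W]

/-- fixed points of an automorphism -/
def fixSub (c : MulAut W) : Subgroup W where
  carrier := {x | c x = x}
  one_mem' := map_one c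
  mul_mem' := by
    intro a b ha hb
    show c (a * b) = a * b
    rw [map_mul, ha, hb]
  inv_mem' := by
    intro a ha
    show c a⁻¹ = a⁻¹
    rw [map_inv, ha]

theorem mem_fixSub {c : MulAut W} {x : W} : x ∈ fixSub c ↔ c x = x := Iff.rfl

theorem pow_apply_mem (X : Subgroup W) (g : MulAut W) (hg : ∀ x ∈ X, g x ∈ X) (j : ℕ) :
    ∀ x ∈ X, (g ^ j) x ∈ X := by
  induction j with
  | zero => intro x hx; exact hx
  | succ j ih =>
    intro x hx
    rw [pow_succ', MulAut.mul_apply]
    exact hg _ (ih x hx)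

theorem inv_apply_mem (X : Subgroup W) (g : MulAut W) {k : ℕ} (h0 : 0 < k) (hk : g ^ k = 1)
    (hg : ∀ x ∈ X, g x ∈ X) : ∀ x ∈ X, g⁻¹ x ∈ X := by
  have h1 : g⁻¹ = g ^ (k - 1) := by
    apply inv_eq_of_mul_eq_one_left
    rw [← pow_succ, Nat.sub_add_cancel h0, hk]
  rw [h1]
  exact pow_apply_mem X g hg _

theorem coprime_gen_aut [Finite W] {p : ℕ} [hp : Fact p.Prime] (X : Subgroup W) (a b : MulAut W)
    (ha : a ^ p = 1) (hb : b ^ p = 1) (hab : a * b = b * a) (hXa : ∀ x ∈ X, a x ∈ X)
    (hXb : ∀ x ∈ X, b x ∈ X) (hX : ¬ p ∣ Nat.card X) :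
    X ≤ ⨆ c ∈ genSet a b, X ⊓ fixSub c := by
  let H := W ⋊[MonoidHom.id (MulAut W)] MulAut W
  let i : W →* H := SemidirectProduct.inl
  let r : MulAut W →* H := SemidirectProduct.inr
  have hi : Function.Injective i := SemidirectProduct.inl_injective
  have : Finite H := Finite.of_equiv _ (SemidirectProduct.equivProd (φ := MonoidHom.id (MulAut W))).symm
  set K : Subgroup H := X.map i with hK
  set N : Subgroup H := normalizer (K : Set H) with hN
  have hconj : ∀ (g : MulAut W) (x : W), r g * i x * (r g)⁻¹ = i (g x) := by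
    intro g x
    rw [← map_inv]
    exact (SemidirectProduct.inl_aut (φ := MonoidHom.id (MulAut W)) g x).symm
  have hrN : ∀ g : MulAut W, g ^ p = 1 → (∀ x ∈ X, g x ∈ X) → r g ∈ N := by
    intro g hg hgX
    rw [hN, mem_normalizer_iff]
    intro h
    constructor
    · rintro ⟨x, hx, rfl⟩
      rw [hconj]
      exact ⟨g x, hgX x hx, rfl⟩
    · rintro ⟨y, hy, hyeq⟩
      have h1 : i (g⁻¹ y) = h := by
        rw [← hconj g⁻¹ y, hyeq, map_inv, inv_inv]
        simp only [mul_assoc, inv_mul_cancel_left, inv_mul_cancel, mul_one]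
      rw [← h1]
      exact ⟨g⁻¹ y, inv_apply_mem X g hp.out.pos hg hgX y hy, rfl⟩
  have haN := hrN a ha hXa
  have hbN := hrN b hb hXb
  have hKN : K ≤ N := le_normalizer
  have hcardK : Nat.card (K.subgroupOf N) = Nat.card X := by
    rw [Nat.card_congr (Subgroup.subgroupOfEquivOfLe hKN).toEquiv, hK]
    exact Nat.card_congr (X.equivMapOfInjective i hi).symm.toEquiv
  have h1 : K.subgroupOf N ≤ genSub (K.subgroupOf N) (⟨r a, haN⟩ : N) ⟨r b, hbN⟩ := by
    apply coprime_gen (p := p)
    · apply Subtype.ext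
      rw [Subgroup.coe_pow]
      show (r a) ^ p = 1
      rw [← map_pow, ha, map_one]
    · apply Subtype.ext
      rw [Subgroup.coe_pow]
      show (r b) ^ p = 1
      rw [← map_pow, hb, map_one]
    · apply Subtype.ext
      show r a * r b = r b * r a
      rw [← map_mul, ← map_mul, hab]
    · rw [hcardK]; exact hX
  have h2 : K ≤ genSub K (r a) (r b) := genSub_transfer_subgroup N K (r a) (r b) haN hbN hKN h1
  have h3 : genSub K (r a) (r b) ≤ (⨆ c ∈ genSet a b, X ⊓ fixSub c).map i := by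
    unfold genSub
    apply iSup₂_le
    intro c' hc'
    obtain ⟨c, hc, rfl⟩ := exists_of_mem_genSet_map r hc'
    refine le_trans ?_ (Subgroup.map_mono
      (le_iSup₂ (f := fun c (_ : c ∈ genSet a b) => X ⊓ fixSub c) c hc))
    intro h hh
    obtain ⟨hh1, hh2⟩ := Subgroup.mem_inf.mp hh
    obtain ⟨x, hx, rfl⟩ := hh1
    rw [Subgroup.mem_centralizer_singleton_iff] at hh2
    refine ⟨x, Subgroup.mem_inf.mpr ⟨hx, ?_⟩, rfl⟩
    rw [mem_fixSub]
    apply hi
    rw [← hconj c x]
    rw [mul_inv_eq_iff_eq_mul]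
    first
      | exact hh2
      | exact hh2.symm
  intro x hx
  have h4 : i x ∈ (⨆ c ∈ genSet a b, X ⊓ fixSub c).map i := h3 (h2 ⟨x, hx, rfl⟩)
  exact (Subgroup.mem_map_iff_mem hi).mp h4

end Cfsg.Agent.Lib.Helper48.CGA
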