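import Mathlib

set_option autoImplicit false

namespace Cfsg.Agent.Lib.Helper48.DQ

open DihedralGroup

variable {n : ℕ} [hrp : Fact n.Prime]

theorem two_ne_zero' (hr2 : n ≠ 2) : (2 : ZMod n) ≠ 0 := by
  intro h
  have h2 : ((2 : ℕ) : ZMod n) = 0 := by exact_mod_cast h
  rw [ZMod.natCast_eq_zero_iff] at h2
  have := (Nat.prime_dvd_prime_iff_eq hrp.out Nat.prime_two).mp h2
  exact hr2 this

/-- an element of square one is trivial or a reflection. -/
theorem eq_sr_of_sq (hr2 : n ≠ 2) {e : DihedralGroup n} (h2 : e * e = 1) (h1 : e ≠ 1) :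
    ∃ i, e = sr i := by
  cases e with
  | r k =>
    exfalso
    apply h1
    rw [r_mul_r, one_def] at h2
    have h3 : k + k = 0 := r.inj h2
    have h4 : (2 : ZMod n) * k = 0 := by rw [two_mul]; exact h3
    rcases mul_eq_zero.mp h4 with h | h
    · exact absurd h (two_ne_zero' hr2)
    · rw [h]; rfl
  | sr i => exact ⟨i, rfl⟩

theorem r_ne_one {k : ZMod n} (hk : k ≠ 0) : (r k : DihedralGroup n) ≠ 1 := by
  intro h
  rw [one_def] at h
  exact hk (r.inj h)

theorem r_pow_eq_one_iff {k : ZMod n} (hk : k ≠ 0) (m : ℕ) :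
    (r k : DihedralGroup n) ^ m = 1 ↔ n ∣ m := by
  rw [r_pow, one_def]
  constructor
  · intro h
    have h1 : k * (m : ZMod n) = 0 := r.inj h
    rcases mul_eq_zero.mp h1 with h | h
    · exact absurd h hk
    · exact (ZMod.natCast_eq_zero_iff m n).mp h
  · intro h
    have : (m : ZMod n) = 0 := (ZMod.natCast_eq_zero_iff m n).mpr h
    rw [this, mul_zero]

theorem sr_conj_r (i k : ZMod n) : (sr i : DihedralGroup n) * r k * sr i = r (-k) := by
  simp

theorem exists_conj_sr (hr2 : n ≠ 2) (i j : ZMod n) :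
    ∃ k : ZMod n, (r k : DihedralGroup n) * sr i * (r k)⁻¹ = sr j := by
  refine ⟨(i - j) * (2 : ZMod n)⁻¹, ?_⟩
  simp only [r_mul_sr, inv_r, sr_mul_r]
  congr 1
  have h2 := two_ne_zero' (n := n) hr2
  field_simp
  ring

/-- every rotation is a power of a nontrivial rotation. -/
theorem exists_pow_eq_r {k₀ : ZMod n} (hk : k₀ ≠ 0) (k : ZMod n) :
    ∃ m : ℕ, (r k₀ : DihedralGroup n) ^ m = r k := by
  refine ⟨(k * k₀⁻¹).val, ?_⟩
  rw [r_pow]
  congr 1
  rw [ZMod.natCast_zmod_val]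
  field_simp

omit hrp in
/-- an element of odd order is a rotation. -/
theorem eq_r_of_pow_odd {e : DihedralGroup n} {m : ℕ} (hm : Odd m) (h : e ^ m = 1) :
    ∃ k, e = r k := by
  cases e with
  | r k => exact ⟨k, rfl⟩
  | sr i =>
    exfalso
    obtain ⟨t, rfl⟩ := hm
    rw [pow_succ, pow_mul, sq, sr_mul_self, one_pow, one_mul] at h
    rw [one_def] at h
    cases h

/-- the rotation subgroup. -/
def rotSub (n : ℕ) : Subgroup (DihedralGroup n) where
  carrier := {e | ∃ k, e = r k}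
  mul_mem' := by
    rintro _ _ ⟨k, rfl⟩ ⟨l, rfl⟩
    exact ⟨k + l, rfl⟩
  one_mem' := ⟨0, rfl⟩
  inv_mem' := by
    rintro _ ⟨k, rfl⟩
    exact ⟨-k, rfl⟩

instance rotSub_normal (n : ℕ) : (rotSub n).Normal := by
  constructor
  rintro _ ⟨k, rfl⟩ g
  cases g with
  | r j => exact ⟨k, by simp⟩
  | sr j => exact ⟨-k, by simp⟩

theorem mem_rotSub {n : ℕ} {e : DihedralGroup n} : e ∈ rotSub n ↔ ∃ k, e = r k :=
  Iff.rfl

end Cfsg.Agent.Lib.Helper48.DQ
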