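import Mathlib
import Cfsg.Agent.Lib.Helper48.DihedralFacts
import Cfsg.Agent.Lib.Helper50.Basic

set_option autoImplicit false
open scoped Pointwise

namespace Cfsg.Agent.Lib.Helper48.DQ

open DihedralGroup

variable {G : Type*} [Group G] [Finite G] {n : ℕ} [hrp : Fact n.Prime]

/-- the data: a normal `2`-subgroup `Q` which is the kernel of a surjection onto `D_n`,
`n` an odd prime, and a Sylow `n`-subgroup `R` with `C_Q(R) = 1`. -/
structure Data (Q : Subgroup G) (φ : G →* DihedralGroup n) (R : Sylow n G) : Prop where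
  normal : Q.Normal
  two : IsPGroup 2 Q
  surj : Function.Surjective φ
  ker : φ.ker = Q
  odd : n ≠ 2
  cent : Q ⊓ Subgroup.centralizer ((R : Subgroup G) : Set G) = ⊥

namespace Data

variable {Q : Subgroup G} {φ : G →* DihedralGroup n} {R : Sylow n G}

theorem mem_Q_iff (h : Data Q φ R) {g : G} : g ∈ Q ↔ φ g = 1 := by
  rw [← h.ker, MonoidHom.mem_ker]

theorem card_G (h : Data Q φ R) : Nat.card G = Nat.card Q * (2 * n) := by
  have h1 := Subgroup.card_eq_card_quotient_mul_card_subgroup φ.ker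
  have h2 : Nat.card (G ⧸ φ.ker) = 2 * n := by
    rw [Nat.card_congr (QuotientGroup.quotientKerEquivOfSurjective φ h.surj).toEquiv,
      DihedralGroup.nat_card]
  rw [h1, h2, h.ker, mul_comm]

theorem coprime_card_Q (h : Data Q φ R) : (Nat.card Q).Coprime n := by
  obtain ⟨k, hk⟩ := h.two.exists_card_eq
  rw [hk]
  apply Nat.Coprime.pow_left
  exact (Nat.coprime_primes Nat.prime_two hrp.out).mpr (Ne.symm h.odd)

theorem card_R (h : Data Q φ R) : Nat.card (R : Subgroup G) = n := by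
  obtain ⟨k, hk⟩ := R.isPGroup'.exists_card_eq
  have hdvd : Nat.card (R : Subgroup G) ∣ Nat.card G := Subgroup.card_subgroup_dvd_card _
  have hn : n ∣ Nat.card G := by rw [h.card_G]; exact Dvd.dvd.mul_left (Dvd.intro_left 2 rfl) _
  have hR : n ∣ Nat.card (R : Subgroup G) := by
    have := R.dvd_card_of_dvd_card hn
    exact this
  rw [hk] at hdvd hR ⊢
  rw [h.card_G] at hdvd
  have hk1 : k ≠ 0 := by
    rintro rfl
    rw [pow_zero] at hR
    exact hrp.out.one_lt.ne' (Nat.eq_one_of_dvd_one hR)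
  have hcop : (n ^ k).Coprime (Nat.card Q * 2) := by
    apply Nat.Coprime.pow_left
    apply Nat.Coprime.mul_right h.coprime_card_Q.symm
    exact (Nat.coprime_primes hrp.out Nat.prime_two).mpr h.odd
  have h3 : n ^ k ∣ n := by
    have : n ^ k ∣ (Nat.card Q * 2) * n := by rwa [mul_assoc]
    exact hcop.dvd_of_dvd_mul_left this
  have hk2 : k ≤ 1 := by
    by_contra hgt
    push Not at hgt
    have : n ^ 2 ∣ n := (pow_dvd_pow n hgt).trans h3
    have h4 := Nat.le_of_dvd hrp.out.pos this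
    have := hrp.out.one_lt
    nlinarith
  have : k = 1 := by omega
  rw [this, pow_one]

theorem R_inf_Q (h : Data Q φ R) : (R : Subgroup G) ⊓ Q = ⊥ := by
  apply disjoint_iff.mp
  apply Subgroup.disjoint_of_coprime_natCard
  rw [h.card_R]
  exact h.coprime_card_Q.symm

/-- elements of `R` map to rotations. -/
theorem map_R (h : Data Q φ R) {y : G} (hy : y ∈ (R : Subgroup G)) : ∃ k, φ y = r k := by
  have h1 : y ^ n = 1 := by
    have := pow_card_eq_one' (G := (R : Subgroup G)) (x := ⟨y, hy⟩)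
    rw [h.card_R] at this
    simpa using congrArg Subtype.val this
  have h2 : (φ y) ^ n = 1 := by rw [← map_pow, h1, map_one]
  exact eq_r_of_pow_odd (hrp.out.odd_of_ne_two h.odd) h2

theorem N_inf_Q (h : Data Q φ R) :
    Subgroup.normalizer ((R : Subgroup G) : Set G) ⊓ Q = ⊥ := by
  rw [eq_bot_iff]
  intro x hx
  have hxc : x ∈ Q ⊓ Subgroup.centralizer ((R : Subgroup G) : Set G) := by
    refine Subgroup.mem_inf.mpr ⟨hx.2, ?_⟩
    rw [Subgroup.mem_centralizer_iff]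
    intro y hy
    have h1 : x * y * x⁻¹ * y⁻¹ ∈ (R : Subgroup G) ⊓ Q := by
      refine Subgroup.mem_inf.mpr ⟨?_, ?_⟩
      · exact (R : Subgroup G).mul_mem ((Subgroup.mem_normalizer_iff.mp hx.1 y).mp hy)
          ((R : Subgroup G).inv_mem hy)
      · have := h.normal.conj_mem x⁻¹ (Q.inv_mem hx.2) y
        have h2 : x * y * x⁻¹ * y⁻¹ = x * (y * x⁻¹ * y⁻¹) := by group
        rw [h2]
        exact Q.mul_mem hx.2 this
    rw [h.R_inf_Q, Subgroup.mem_bot] at h1
    have : x * y = y * x := by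
      have h3 : x * y * x⁻¹ * y⁻¹ * (y * x) = x * y := by group
      rw [← h3, h1, one_mul]
    exact this.symm
  rw [h.cent] at hxc
  exact hxc

theorem inj_on_N (h : Data Q φ R) {x y : G}
    (hx : x ∈ Subgroup.normalizer ((R : Subgroup G) : Set G))
    (hy : y ∈ Subgroup.normalizer ((R : Subgroup G) : Set G)) (hxy : φ x = φ y) : x = y := by
  have h1 : x * y⁻¹ ∈ Subgroup.normalizer ((R : Subgroup G) : Set G) ⊓ Q := by
    refine Subgroup.mem_inf.mpr ⟨Subgroup.mul_mem _ hx (Subgroup.inv_mem _ hy), ?_⟩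
    rw [h.mem_Q_iff, map_mul, map_inv, hxy, mul_inv_cancel]
  rw [h.N_inf_Q, Subgroup.mem_bot] at h1
  exact mul_inv_eq_one.mp h1

/-- a nontrivial element of `R`. -/
theorem exists_gen (h : Data Q φ R) :
    ∃ x ∈ (R : Subgroup G), ∃ k₀ : ZMod n, k₀ ≠ 0 ∧ φ x = r k₀ := by
  have hne : (R : Subgroup G) ≠ ⊥ := by
    intro hb
    have := h.card_R
    rw [hb, Subgroup.card_bot] at this
    exact hrp.out.one_lt.ne this
  obtain ⟨⟨x, hx⟩, hx1'⟩ := (Subgroup.ne_bot_iff_exists_ne_one).mp hne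
  have hx1 : x ≠ 1 := fun h1 => hx1' (Subtype.ext h1)
  obtain ⟨k₀, hk₀⟩ := h.map_R hx
  refine ⟨x, hx, k₀, ?_, hk₀⟩
  rintro rfl
  have : x ∈ (R : Subgroup G) ⊓ Q := Subgroup.mem_inf.mpr ⟨hx, by rw [h.mem_Q_iff, hk₀]; rfl⟩
  rw [h.R_inf_Q, Subgroup.mem_bot] at this
  exact hx1 this

/-- every rotation is the image of an element of `R`. -/
theorem exists_R_map (h : Data Q φ R) (k : ZMod n) : ∃ y ∈ (R : Subgroup G), φ y = r k := by
  obtain ⟨x, hx, k₀, hk₀, hxk⟩ := h.exists_gen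
  obtain ⟨m, hm⟩ := exists_pow_eq_r hk₀ k
  exact ⟨x ^ m, (R : Subgroup G).pow_mem hx m, by rw [map_pow, hxk, hm]⟩

/-- Frattini: `φ` maps the normalizer of `R` onto `D_n`. -/
theorem surj_on_N (h : Data Q φ R) (e : DihedralGroup n) :
    ∃ x ∈ Subgroup.normalizer ((R : Subgroup G) : Set G), φ x = e := by
  have hRA : (R : Subgroup G) ≤ (rotSub n).comap φ := by
    intro y hy
    rw [Subgroup.mem_comap, mem_rotSub]
    exact h.map_R hy
  have hfr := Sylow.normalizer_sup_eq_top (R.subtype hRA)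
  have hmap : ((R.subtype hRA : Sylow n ((rotSub n).comap φ)) :
      Subgroup ((rotSub n).comap φ)).map ((rotSub n).comap φ).subtype = (R : Subgroup G) := by
    rw [Sylow.coe_subtype, Subgroup.subgroupOf_map_subtype, inf_eq_left]
    exact hRA
  rw [hmap] at hfr
  obtain ⟨g, rfl⟩ := h.surj e
  have hg : g ∈ Subgroup.normalizer ((R : Subgroup G) : Set G) ⊔ (rotSub n).comap φ := by
    rw [hfr]; exact Subgroup.mem_top g
  obtain ⟨x, hx, a, ha, rfl⟩ := Subgroup.mem_sup_of_normal_right.mp hg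
  rw [Subgroup.mem_comap, mem_rotSub] at ha
  obtain ⟨k, hk⟩ := ha
  obtain ⟨y, hy, hyk⟩ := h.exists_R_map k
  refine ⟨x * y, Subgroup.mul_mem _ hx (Subgroup.le_normalizer hy), ?_⟩
  rw [map_mul, map_mul, hyk, hk]

/-- part 1: the normalizer of `R` is dihedral. -/
noncomputable def normalizerEquiv (h : Data Q φ R) :
    ↥(Subgroup.normalizer ((R : Subgroup G) : Set G)) ≃* DihedralGroup n :=
  MulEquiv.ofBijective (φ.comp (Subgroup.normalizer ((R : Subgroup G) : Set G)).subtype)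
    ⟨fun x y hxy => Subtype.ext (h.inj_on_N x.2 y.2 hxy),
     fun e => by
      obtain ⟨x, hx, hxe⟩ := h.surj_on_N e
      exact ⟨⟨x, hx⟩, hxe⟩⟩

/-- an involution outside `Q` maps to a reflection. -/
theorem map_involution (h : Data Q φ R) {b : G} (hb : orderOf b = 2) (hbQ : b ∉ Q) :
    ∃ i, φ b = sr i := by
  apply eq_sr_of_sq h.odd
  · rw [← map_mul, ← sq, ← hb, pow_orderOf_eq_one, map_one]
  · intro h1
    exact hbQ (h.mem_Q_iff.mpr h1)

theorem not_mem_Q_of_mem_N (h : Data Q φ R) {a : G}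
    (ha : a ∈ Subgroup.normalizer ((R : Subgroup G) : Set G)) (ha2 : orderOf a = 2) : a ∉ Q := by
  intro haQ
  have : a ∈ Subgroup.normalizer ((R : Subgroup G) : Set G) ⊓ Q := Subgroup.mem_inf.mpr ⟨ha, haQ⟩
  rw [h.N_inf_Q, Subgroup.mem_bot] at this
  rw [this, orderOf_one] at ha2
  omega

/-- KEY: two involutions outside `Q` with distinct images are simultaneously conjugate
into the normalizer of `R` by an element of `Q`. -/
theorem key (h : Data Q φ R) {b₁ b₂ : G} (hb₁ : orderOf b₁ = 2) (hb₂ : orderOf b₂ = 2)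
    (h₁ : b₁ ∉ Q) (h₂ : b₂ ∉ Q) (hne : φ b₁ ≠ φ b₂) :
    ∃ w ∈ Q, w⁻¹ * b₁ * w ∈ Subgroup.normalizer ((R : Subgroup G) : Set G) ∧
      w⁻¹ * b₂ * w ∈ Subgroup.normalizer ((R : Subgroup G) : Set G) := by
  obtain ⟨i₁, hi₁⟩ := h.map_involution hb₁ h₁
  obtain ⟨i₂, hi₂⟩ := h.map_involution hb₂ h₂
  have hi : i₂ - i₁ ≠ 0 := by
    intro h0
    apply hne
    rw [hi₁, hi₂, sub_eq_zero.mp h0]
  have hb₁' : b₁⁻¹ = b₁ := by
    have : b₁ * b₁ = 1 := by rw [← sq, ← hb₁, pow_orderOf_eq_one]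
    exact inv_eq_of_mul_eq_one_left this
  have hb₂' : b₂⁻¹ = b₂ := by
    have : b₂ * b₂ = 1 := by rw [← sq, ← hb₂, pow_orderOf_eq_one]
    exact inv_eq_of_mul_eq_one_left this
  have hz : φ (b₁ * b₂) = r (i₂ - i₁) := by rw [map_mul, hi₁, hi₂]; rfl
  -- the element d
  have hd1 : φ ((b₁ * b₂) ^ Nat.card Q) ≠ 1 := by
    rw [map_pow, hz]
    intro h0
    have := (r_pow_eq_one_iff hi (Nat.card Q)).mp h0
    have hc := h.coprime_card_Q
    have : n ∣ 1 := by
      have := Nat.dvd_gcd this (dvd_refl n)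
      rwa [hc] at this
    exact hrp.out.one_lt.ne' (Nat.eq_one_of_dvd_one this)
  have hdn : ((b₁ * b₂) ^ Nat.card Q) ^ n = 1 := by
    have h1 : (b₁ * b₂) ^ n ∈ Q := by
      rw [h.mem_Q_iff, map_pow, hz]
      exact (r_pow_eq_one_iff hi n).mpr (dvd_refl n)
    have h2 := pow_card_eq_one' (G := Q) (x := ⟨(b₁ * b₂) ^ n, h1⟩)
    have h3 : ((b₁ * b₂) ^ n) ^ Nat.card Q = 1 := by
      have := congrArg Subtype.val h2
      rwa [Subgroup.coe_pow, Subgroup.coe_one] at this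
    rw [← pow_mul, mul_comm, pow_mul]
    exact h3
  have hd_ne : (b₁ * b₂) ^ Nat.card Q ≠ 1 := by
    intro h0
    apply hd1
    rw [h0, map_one]
  have hord : orderOf ((b₁ * b₂) ^ Nat.card Q) = n := orderOf_eq_prime hdn hd_ne
  -- both involutions invert d
  have hinv₁ : b₁ * (b₁ * b₂) * b₁⁻¹ = (b₁ * b₂)⁻¹ := by
    rw [mul_inv_rev, hb₁', hb₂']
    have : b₁ * b₁ = 1 := by rw [← sq, ← hb₁, pow_orderOf_eq_one]
    calc b₁ * (b₁ * b₂) * b₁ = (b₁ * b₁) * b₂ * b₁ := by group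
      _ = b₂ * b₁ := by rw [this, one_mul]
  have hinv₂ : b₂ * (b₁ * b₂) * b₂⁻¹ = (b₁ * b₂)⁻¹ := by
    rw [mul_inv_rev, hb₁', hb₂']
    have : b₂ * b₂ = 1 := by rw [← sq, ← hb₂, pow_orderOf_eq_one]
    calc b₂ * (b₁ * b₂) * b₂ = b₂ * b₁ * (b₂ * b₂) := by group
      _ = b₂ * b₁ := by rw [this, mul_one]
  have hnorm : ∀ b : G, b * (b₁ * b₂) * b⁻¹ = (b₁ * b₂)⁻¹ →
      b ∈ Subgroup.normalizer ((Subgroup.zpowers ((b₁ * b₂) ^ Nat.card Q) : Subgroup G) : Set G) := by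
    intro b hb
    apply Cfsg.Agent.Lib.Helper50.mem_normalizer_of_conj_mem
    intro y hy
    obtain ⟨j, rfl⟩ := Subgroup.mem_zpowers_iff.mp hy
    have : b * ((b₁ * b₂) ^ Nat.card Q) ^ j * b⁻¹ = (((b₁ * b₂) ^ Nat.card Q) ^ j)⁻¹ := by
      rw [← conj_zpow, ← conj_pow, hb, inv_pow, inv_zpow]
    rw [this]
    exact Subgroup.inv_mem _ (Subgroup.zpow_mem_zpowers _ j)
  -- zpowers d is a Sylow subgroup
  have hpg : IsPGroup n (Subgroup.zpowers ((b₁ * b₂) ^ Nat.card Q)) := by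
    apply IsPGroup.of_card (n := 1)
    rw [Nat.card_zpowers, hord, pow_one]
  obtain ⟨R', hR'⟩ := hpg.exists_le_sylow
  have hcard : Nat.card (R' : Subgroup G) = n := by
    obtain ⟨g, hg⟩ := MulAction.exists_smul_eq G R R'
    rw [← hg, Sylow.coe_subgroup_smul]
    have : Nat.card (MulAut.conj g • (R : Subgroup G) : Subgroup G) = Nat.card (R : Subgroup G) :=
      Subgroup.card_map_of_injective (MulAut.conj g).injective
    rw [this, h.card_R]
  have heq : Subgroup.zpowers ((b₁ * b₂) ^ Nat.card Q) = (R' : Subgroup G) := by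
    apply Subgroup.eq_of_le_of_card_ge hR'
    rw [hcard, Nat.card_zpowers, hord]
  obtain ⟨g₀, hg₀⟩ := MulAction.exists_smul_eq G R R'
  obtain ⟨x, hx, hxg⟩ := h.surj_on_N (φ g₀)
  have hwQ : g₀ * x⁻¹ ∈ Q := by
    rw [h.mem_Q_iff, map_mul, map_inv, hxg, mul_inv_cancel]
  have hwR : (g₀ * x⁻¹) • R = R' := by
    rw [mul_smul, Sylow.smul_eq_iff_mem_normalizer.mpr (Subgroup.inv_mem _ hx), hg₀]
  have hfin : ∀ b : G, b * (b₁ * b₂) * b⁻¹ = (b₁ * b₂)⁻¹ →
      (g₀ * x⁻¹)⁻¹ * b * (g₀ * x⁻¹) ∈ Subgroup.normalizer ((R : Subgroup G) : Set G) := by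
    intro b hb
    have h1 := hnorm b hb
    rw [heq] at h1
    have h2 : b • R' = R' := Sylow.smul_eq_iff_mem_normalizer.mpr h1
    apply Sylow.smul_eq_iff_mem_normalizer.mp
    rw [mul_smul, mul_smul, hwR, h2, ← hwR, ← mul_smul, inv_mul_cancel, one_smul]
  exact ⟨g₀ * x⁻¹, hwQ, hfin b₁ hinv₁, hfin b₂ hinv₂⟩

omit [Finite G] in
theorem orderOf_conj'' (x a : G) : orderOf (x * a * x⁻¹) = orderOf a := by
  have h : SemiconjBy x a (x * a * x⁻¹) := by
    unfold SemiconjBy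
    group
  exact (h.orderOf_eq x).symm

/-- a second involution in the normalizer, with a different image. -/
theorem exists_other (h : Data Q φ R) {a : G}
    (ha : a ∈ Subgroup.normalizer ((R : Subgroup G) : Set G)) (ha2 : orderOf a = 2) :
    ∃ x ∈ (R : Subgroup G), x * a * x⁻¹ ∈ Subgroup.normalizer ((R : Subgroup G) : Set G) ∧
      orderOf (x * a * x⁻¹) = 2 ∧ φ (x * a * x⁻¹) ≠ φ a ∧ a * x * a⁻¹ = x⁻¹ ∧
      ∀ y ∈ (R : Subgroup G), ∃ m : ℕ, y = x ^ m := by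
  have haQ := h.not_mem_Q_of_mem_N ha ha2
  obtain ⟨i, hi⟩ := h.map_involution ha2 haQ
  obtain ⟨x, hx, k₀, hk₀, hxk⟩ := h.exists_gen
  have hxN := Subgroup.le_normalizer (H := (R : Subgroup G)) hx
  refine ⟨x, hx, Subgroup.mul_mem _ (Subgroup.mul_mem _ hxN ha) (Subgroup.inv_mem _ hxN),
    by rw [orderOf_conj'', ha2], ?_, ?_, ?_⟩
  · rw [map_mul, map_mul, map_inv, hxk, hi]
    simp only [r_mul_sr, inv_r, sr_mul_r]
    intro h0
    have h1 : i - k₀ + -k₀ = i := sr.inj h0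
    have h2 : (2 : ZMod n) * k₀ = 0 := by linear_combination -h1
    rcases mul_eq_zero.mp h2 with h3 | h3
    · exact two_ne_zero' h.odd h3
    · exact hk₀ h3
  · apply h.inj_on_N _ (Subgroup.inv_mem _ hxN)
    · rw [map_mul, map_mul, map_inv, map_inv, hxk, hi]
      simp
    · have := (Subgroup.mem_normalizer_iff.mp ha x).mp hx
      exact Subgroup.le_normalizer this
  · intro y hy
    obtain ⟨k, hk⟩ := h.map_R hy
    obtain ⟨m, hm⟩ := exists_pow_eq_r hk₀ k
    refine ⟨m, ?_⟩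
    apply h.inj_on_N (Subgroup.le_normalizer hy)
      (Subgroup.le_normalizer ((R : Subgroup G).pow_mem hx m))
    rw [hk, map_pow, hxk, hm]

/-- part 2: involutions outside `Q` are conjugate to `a`. -/
theorem conj_involution (h : Data Q φ R) {a b : G}
    (ha : a ∈ Subgroup.normalizer ((R : Subgroup G) : Set G)) (ha2 : orderOf a = 2)
    (hb2 : orderOf b = 2) (hbQ : b ∉ Q) : ∃ g : G, g * a * g⁻¹ = b := by
  have haQ := h.not_mem_Q_of_mem_N ha ha2
  obtain ⟨i, hi⟩ := h.map_involution ha2 haQ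
  obtain ⟨j, hj⟩ := h.map_involution hb2 hbQ
  obtain ⟨b₂, hb₂N, hb₂2, hb₂ne⟩ : ∃ b₂ ∈ Subgroup.normalizer ((R : Subgroup G) : Set G),
      orderOf b₂ = 2 ∧ φ b ≠ φ b₂ := by
    by_cases hij : φ b = φ a
    · obtain ⟨x, -, hxN, hx2, hxne, -, -⟩ := h.exists_other ha ha2
      exact ⟨x * a * x⁻¹, hxN, hx2, fun h0 => hxne (h0.symm.trans hij)⟩
    · exact ⟨a, ha, ha2, hij⟩
  have hb₂Q := h.not_mem_Q_of_mem_N hb₂N hb₂2
  obtain ⟨w, hwQ, hw1, -⟩ := h.key hb2 hb₂2 hbQ hb₂Q hb₂ne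
  obtain ⟨k, hk⟩ := exists_conj_sr h.odd i j
  obtain ⟨x, hxN, hxk⟩ := h.surj_on_N (r k)
  have heq : x * a * x⁻¹ = w⁻¹ * b * w := by
    apply h.inj_on_N (Subgroup.mul_mem _ (Subgroup.mul_mem _ hxN ha) (Subgroup.inv_mem _ hxN)) hw1
    rw [map_mul, map_mul, map_inv, hxk, hi, hk, map_mul, map_mul, map_inv, hj,
      h.mem_Q_iff.mp hwQ, inv_one, one_mul, mul_one]
  refine ⟨w * x, ?_⟩
  calc w * x * a * (w * x)⁻¹ = w * (x * a * x⁻¹) * w⁻¹ := by group
    _ = w * (w⁻¹ * b * w) * w⁻¹ := by rw [heq]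
    _ = b := by group

theorem pow_n_eq_one (h : Data Q φ R) {y : G} (hy : y ∈ (R : Subgroup G)) : y ^ n = 1 := by
  have := pow_card_eq_one' (G := (R : Subgroup G)) (x := ⟨y, hy⟩)
  rw [h.card_R] at this
  have h2 := congrArg Subtype.val this
  rwa [Subgroup.coe_pow, Subgroup.coe_one] at h2

/-- part 3: `|C_Q(a)|² = |Q|`. -/
theorem card_centralizer_sq (h : Data Q φ R) {a : G}
    (ha : a ∈ Subgroup.normalizer ((R : Subgroup G) : Set G)) (ha2 : orderOf a = 2) :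
    Nat.card ↥(Q ⊓ Subgroup.centralizer ({a} : Set G)) ^ 2 = Nat.card Q := by
  obtain ⟨x, hx, hxN, hx2, hxne, hinv, hgen⟩ := h.exists_other ha ha2
  have haQ := h.not_mem_Q_of_mem_N ha ha2
  have haa : a * a = 1 := by rw [← sq, ← ha2, pow_orderOf_eq_one]
  have hainv : a⁻¹ = a := inv_eq_of_mul_eq_one_left haa
  -- (i) trivial intersection
  have hint : ∀ q ∈ Q, q * a = a * q → q * (x * a * x⁻¹) = (x * a * x⁻¹) * q → q = 1 := by
    intro q hq h1 h2
    have hprod : a * (x * a * x⁻¹) = (x * x)⁻¹ := by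
      calc a * (x * a * x⁻¹) = (a * x * a⁻¹) * (a * a) * x⁻¹ := by group
        _ = x⁻¹ * x⁻¹ := by rw [hinv, haa, mul_one]
        _ = (x * x)⁻¹ := by group
    have hc1 : q * (x * x)⁻¹ = (x * x)⁻¹ * q := by
      rw [← hprod]
      calc q * (a * (x * a * x⁻¹)) = (q * a) * (x * a * x⁻¹) := by group
        _ = a * (q * (x * a * x⁻¹)) := by rw [h1]; group
        _ = a * (x * a * x⁻¹) * q := by rw [h2]; group
    have hc2 : Commute q (x * x) := by
      have : Commute q (x * x)⁻¹ := hc1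
      exact Commute.inv_right_iff.mp this
    have hxn := h.pow_n_eq_one hx
    obtain ⟨t, ht⟩ := hrp.out.odd_of_ne_two h.odd
    have hxx : x = (x * x) ^ (t + 1) := by
      have : (x * x) ^ (t + 1) = x ^ (n + 1) := by
        rw [← sq, ← pow_mul, ht]
        congr 1
      rw [this, pow_succ, hxn, one_mul]
    have hc3 : Commute q x := by
      rw [hxx]
      exact hc2.pow_right _
    have hqc : q ∈ Q ⊓ Subgroup.centralizer ((R : Subgroup G) : Set G) := by
      refine Subgroup.mem_inf.mpr ⟨hq, ?_⟩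
      rw [Subgroup.mem_centralizer_iff]
      intro y hy
      obtain ⟨m, rfl⟩ := hgen y hy
      exact ((hc3.pow_right m).eq).symm
    rw [h.cent, Subgroup.mem_bot] at hqc
    exact hqc
  -- (ii) decomposition
  have hdec : ∀ q ∈ Q, ∃ w ∈ Q, w * (x * a * x⁻¹) = (x * a * x⁻¹) * w ∧
      ∃ v ∈ Q, v * a = a * v ∧ q = w * v := by
    intro q hq
    have hb2 : orderOf (q * a * q⁻¹) = 2 := by rw [orderOf_conj'', ha2]
    have hφq : φ q = 1 := h.mem_Q_iff.mp hq
    have hφb : φ (q * a * q⁻¹) = φ a := by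
      rw [map_mul, map_mul, map_inv, hφq, inv_one, one_mul, mul_one]
    have hbQ : q * a * q⁻¹ ∉ Q := by
      intro hb
      apply haQ
      rw [h.mem_Q_iff] at hb ⊢
      rw [← hφb]; exact hb
    have hxQ := h.not_mem_Q_of_mem_N hxN hx2
    obtain ⟨w, hwQ, hw1, hw2⟩ := h.key hb2 hx2 hbQ hxQ (by rw [hφb]; exact hxne.symm)
    have hφw : φ w = 1 := h.mem_Q_iff.mp hwQ
    have e1 : w⁻¹ * (q * a * q⁻¹) * w = a := by
      apply h.inj_on_N hw1 ha
      rw [map_mul, map_mul, map_inv, hφw, inv_one, one_mul, mul_one, hφb]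
    have e2 : w⁻¹ * (x * a * x⁻¹) * w = x * a * x⁻¹ := by
      apply h.inj_on_N hw2 hxN
      rw [map_mul, map_mul, map_inv, hφw, inv_one, one_mul, mul_one]
    refine ⟨w, hwQ, ?_, w⁻¹ * q, Q.mul_mem (Q.inv_mem hwQ) hq, ?_, by group⟩
    · calc w * (x * a * x⁻¹) = w * (w⁻¹ * (x * a * x⁻¹) * w) := by rw [e2]
        _ = (x * a * x⁻¹) * w := by group
    · calc w⁻¹ * q * a = (w⁻¹ * (q * a * q⁻¹) * w) * (w⁻¹ * q) := by group
        _ = a * (w⁻¹ * q) := by rw [e1]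
  -- (iii) the two centralizers have the same order
  have hcard : Nat.card ↥(Q ⊓ Subgroup.centralizer ({x * a * x⁻¹} : Set G)) =
      Nat.card ↥(Q ⊓ Subgroup.centralizer ({a} : Set G)) := by
    symm
    apply Nat.card_congr
    refine Equiv.subtypeEquiv (MulAut.conj x).toEquiv ?_
    intro v
    simp only [MulEquiv.toEquiv_eq_coe, MulEquiv.coe_toEquiv, MulAut.conj_apply]
    constructor
    · intro hv
      obtain ⟨hv1, hv2⟩ := Subgroup.mem_inf.mp hv
      rw [Subgroup.mem_centralizer_singleton_iff] at hv2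
      refine Subgroup.mem_inf.mpr ⟨h.normal.conj_mem v hv1 x, ?_⟩
      rw [Subgroup.mem_centralizer_singleton_iff]
      calc x * v * x⁻¹ * (x * a * x⁻¹) = x * (v * a) * x⁻¹ := by group
        _ = x * (a * v) * x⁻¹ := by rw [hv2]
        _ = x * a * x⁻¹ * (x * v * x⁻¹) := by group
    · intro hv
      obtain ⟨hv1, hv2⟩ := Subgroup.mem_inf.mp hv
      rw [Subgroup.mem_centralizer_singleton_iff] at hv2
      refine Subgroup.mem_inf.mpr ⟨?_, ?_⟩
      · have := h.normal.conj_mem _ hv1 x⁻¹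
        simpa [mul_assoc] using this
      · rw [Subgroup.mem_centralizer_singleton_iff]
        have h3 : v * a = x⁻¹ * (x * v * x⁻¹ * (x * a * x⁻¹)) * x := by group
        rw [h3, hv2]
        group
  -- (iv) the product map is a bijection
  have hbij : Function.Bijective
      (fun p : ↥(Q ⊓ Subgroup.centralizer ({x * a * x⁻¹} : Set G)) ×
        ↥(Q ⊓ Subgroup.centralizer ({a} : Set G)) =>
        (⟨(p.1 : G) * (p.2 : G), Q.mul_mem (Subgroup.mem_inf.mp p.1.2).1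
          (Subgroup.mem_inf.mp p.2.2).1⟩ : Q)) := by
    constructor
    · rintro ⟨⟨w, hw⟩, ⟨v, hv⟩⟩ ⟨⟨w', hw'⟩, ⟨v', hv'⟩⟩ hEq
      have hEq' : w * v = w' * v' := congrArg Subtype.val hEq
      obtain ⟨hw1, hw2⟩ := Subgroup.mem_inf.mp hw
      obtain ⟨hv1, hv2⟩ := Subgroup.mem_inf.mp hv
      obtain ⟨hw'1, hw'2⟩ := Subgroup.mem_inf.mp hw'
      obtain ⟨hv'1, hv'2⟩ := Subgroup.mem_inf.mp hv'
      have ht1 : w'⁻¹ * w = v' * v⁻¹ := by
        calc w'⁻¹ * w = w'⁻¹ * (w * v) * v⁻¹ := by group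
          _ = w'⁻¹ * (w' * v') * v⁻¹ := by rw [hEq']
          _ = v' * v⁻¹ := by group
      have htc' : w'⁻¹ * w ∈ Subgroup.centralizer ({x * a * x⁻¹} : Set G) :=
        Subgroup.mul_mem _ (Subgroup.inv_mem _ hw'2) hw2
      have htc : w'⁻¹ * w ∈ Subgroup.centralizer ({a} : Set G) := by
        rw [ht1]; exact Subgroup.mul_mem _ hv'2 (Subgroup.inv_mem _ hv2)
      have ht := hint (w'⁻¹ * w) (Q.mul_mem (Q.inv_mem hw'1) hw1)
        (Subgroup.mem_centralizer_singleton_iff.mp htc)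
        (Subgroup.mem_centralizer_singleton_iff.mp htc')
      have hww : w = w' := by
        have : w = w' * (w'⁻¹ * w) := by group
        rw [this, ht, mul_one]
      have hvv : v = v' := by
        have h5 : v' * v⁻¹ = 1 := by rw [← ht1, ht]
        have : v = (v' * v⁻¹)⁻¹ * v' := by group
        rw [this, h5, inv_one, one_mul]
      subst hww; subst hvv; rfl
    · rintro ⟨q, hq⟩
      obtain ⟨w, hwQ, hwc, v, hvQ, hvc, rfl⟩ := hdec q hq
      exact ⟨⟨⟨w, Subgroup.mem_inf.mpr ⟨hwQ, Subgroup.mem_centralizer_singleton_iff.mpr hwc⟩⟩,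
        ⟨v, Subgroup.mem_inf.mpr ⟨hvQ, Subgroup.mem_centralizer_singleton_iff.mpr hvc⟩⟩⟩, rfl⟩
  have := Nat.card_congr (Equiv.ofBijective _ hbij)
  rw [Nat.card_prod, hcard] at this
  rw [sq]; exact this

end Data

end Cfsg.Agent.Lib.Helper48.DQ
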