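import Mathlib

/-!
Automorphisms of elementary abelian `2`-groups (type level): hyperplanes, transvections,
extension of an automorphism of an index-two subgroup.
-/

set_option autoImplicit false

namespace Cfsg.Agent.Lib.Helper48.EA2

variable {V : Type*} [Group V]

/-- commutative of exponent two -/
structure Hyp (V : Type*) [Group V] : Prop where
  comm : ∀ a b : V, a * b = b * a
  sq : ∀ a : V, a * a = 1

theorem Hyp.inv (h : Hyp V) (a : V) : a⁻¹ = a := inv_eq_of_mul_eq_one_right (h.sq a)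

/-- `H` has index at most two: the product of two elements outside lies inside. -/
def IsHyper (H : Subgroup V) : Prop := ∀ u v : V, u ∉ H → v ∉ H → u * v ∈ H

/-- the subgroup `H ∪ uH` -/
def adjoin (h : Hyp V) (H : Subgroup V) (u : V) : Subgroup V where
  carrier := {v | v ∈ H ∨ u * v ∈ H}
  one_mem' := Or.inl H.one_mem
  mul_mem' := by
    rintro a b (ha | ha) (hb | hb)
    · exact Or.inl (H.mul_mem ha hb)
    · right
      have : u * (a * b) = a * (u * b) := by
        rw [← mul_assoc, h.comm u a, mul_assoc]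
      rw [this]; exact H.mul_mem ha hb
    · right
      have : u * (a * b) = (u * a) * b := by rw [mul_assoc]
      rw [this]; exact H.mul_mem ha hb
    · left
      have : a * b = (u * a) * (u * b) := by
        calc a * b = (u * u) * (a * b) := by rw [h.sq, one_mul]
          _ = u * (u * a) * b := by simp only [mul_assoc]
          _ = u * (a * u) * b := by rw [h.comm u a]
          _ = (u * a) * (u * b) := by simp only [mul_assoc]
      rw [this]; exact H.mul_mem ha hb
  inv_mem' := by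
    rintro a (ha | ha)
    · exact Or.inl (H.inv_mem ha)
    · right
      rw [h.inv]; exact ha

theorem le_adjoin (h : Hyp V) (H : Subgroup V) (u : V) : H ≤ adjoin h H u := fun _ hv => Or.inl hv

theorem mem_adjoin_self (h : Hyp V) (H : Subgroup V) (u : V) : u ∈ adjoin h H u :=
  Or.inr (by rw [h.sq]; exact H.one_mem)

/-- a hyperplane containing `D` and avoiding `x` -/
theorem exists_hyper [Finite V] (h : Hyp V) (D : Subgroup V) (x : V) (hx : x ∉ D) :
    ∃ H : Subgroup V, D ≤ H ∧ x ∉ H ∧ IsHyper H := by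
  classical
  let S : Set (Subgroup V) := {H | D ≤ H ∧ x ∉ H}
  have hSf : S.Finite := Set.toFinite S
  have hSne : S.Nonempty := ⟨D, le_refl D, hx⟩
  obtain ⟨H, hHmax⟩ := hSf.exists_maximal hSne
  have hHS : H ∈ S := hHmax.prop
  refine ⟨H, hHS.1, hHS.2, ?_⟩
  have key : ∀ u : V, u ∉ H → u * x ∈ H := by
    intro u hu
    have hle : H ≤ adjoin h H u := le_adjoin h H u
    have hnot : adjoin h H u ∉ S := by
      intro hmem
      have := hHmax.le_of_ge hmem hle
      exact hu (this (mem_adjoin_self h H u))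
    have hxin : x ∈ adjoin h H u := by
      by_contra hcon
      exact hnot ⟨hHS.1.trans hle, hcon⟩
    rcases hxin with h1 | h1
    · exact absurd h1 hHS.2
    · exact h1
  intro u v hu hv
  have h1 := key u hu
  have h2 := key v hv
  have : u * v = (u * x) * (v * x) := by
    calc u * v = u * v * (x * x) := by rw [h.sq, mul_one]
      _ = u * (v * x) * x := by simp only [mul_assoc]
      _ = u * (x * v) * x := by rw [h.comm v x]
      _ = (u * x) * (v * x) := by simp only [mul_assoc]
  rw [this]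
  exact H.mul_mem h1 h2

theorem IsHyper.mul_not_mem {H : Subgroup V} {u v : V} (hu : u ∈ H) (hv : v ∉ H) :
    u * v ∉ H := by
  intro huv
  apply hv
  have : v = u⁻¹ * (u * v) := by group
  rw [this]
  exact H.mul_mem (H.inv_mem hu) huv

theorem IsHyper.mul_not_mem' {H : Subgroup V} {u v : V} (hu : u ∉ H) (hv : v ∈ H) :
    u * v ∉ H := by
  intro huv
  apply hu
  have : u = (u * v) * v⁻¹ := by group
  rw [this]
  exact H.mul_mem huv (H.inv_mem hv)

open Classical in
/-- the transvection `v ↦ v` on `H`, `v ↦ v w` off `H` -/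
noncomputable def transvFun (H : Subgroup V) (w : V) (v : V) : V := if v ∈ H then v else v * w

theorem transvFun_mem {H : Subgroup V} {w v : V} (hv : v ∈ H) : transvFun H w v = v := by
  unfold transvFun; rw [if_pos hv]

theorem transvFun_not_mem {H : Subgroup V} {w v : V} (hv : v ∉ H) : transvFun H w v = v * w := by
  unfold transvFun; rw [if_neg hv]

theorem transvFun_mul (h : Hyp V) {H : Subgroup V} (hH : IsHyper H) {w : V} (hw : w ∈ H)
    (a b : V) : transvFun H w (a * b) = transvFun H w a * transvFun H w b := by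
  by_cases ha : a ∈ H <;> by_cases hb : b ∈ H
  · rw [transvFun_mem ha, transvFun_mem hb, transvFun_mem (H.mul_mem ha hb)]
  · rw [transvFun_mem ha, transvFun_not_mem hb, transvFun_not_mem (IsHyper.mul_not_mem ha hb),
      mul_assoc]
  · rw [transvFun_not_mem ha, transvFun_mem hb, transvFun_not_mem (IsHyper.mul_not_mem' ha hb),
      mul_assoc, mul_assoc, h.comm b w]
  · rw [transvFun_not_mem ha, transvFun_not_mem hb, transvFun_mem (hH a b ha hb)]
    calc a * b = a * b * (w * w) := by rw [h.sq, mul_one]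
      _ = a * (b * w) * w := by simp only [mul_assoc]
      _ = a * (w * b) * w := by rw [h.comm b w]
      _ = a * w * (b * w) := by simp only [mul_assoc]

theorem transvFun_invol (h : Hyp V) {H : Subgroup V} {w : V} (hw : w ∈ H) (v : V) :
    transvFun H w (transvFun H w v) = v := by
  by_cases hv : v ∈ H
  · rw [transvFun_mem hv, transvFun_mem hv]
  · rw [transvFun_not_mem hv, transvFun_not_mem (IsHyper.mul_not_mem' hv hw), mul_assoc, h.sq,
      mul_one]

/-- the transvection as an automorphism -/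
noncomputable def transv (h : Hyp V) (H : Subgroup V) (hH : IsHyper H) (w : V) (hw : w ∈ H) :
    V ≃* V where
  toFun := transvFun H w
  invFun := transvFun H w
  left_inv := transvFun_invol h hw
  right_inv := transvFun_invol h hw
  map_mul' := transvFun_mul h hH hw

theorem transv_apply (h : Hyp V) (H : Subgroup V) (hH : IsHyper H) (w : V) (hw : w ∈ H) (v : V) :
    transv h H hH w hw v = transvFun H w v := rfl

/-! ### extension of an automorphism of a hyperplane -/

open Classical in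
/-- extend `φ : H → H` to `V = H ∪ zH` by fixing `z` -/
noncomputable def extFun {H : Subgroup V} (hH : IsHyper H) (z : V) (hz : z ∉ H) (φ : ↥H →* ↥H)
    (v : V) : V :=
  if hv : v ∈ H then (φ ⟨v, hv⟩ : V) else z * (φ ⟨z * v, hH z v hz hv⟩ : V)

theorem extFun_mem {H : Subgroup V} (hH : IsHyper H) (z : V) (hz : z ∉ H) (φ : ↥H →* ↥H)
    {v : V} (hv : v ∈ H) : extFun hH z hz φ v = (φ ⟨v, hv⟩ : V) := by
  unfold extFun; rw [dif_pos hv]

theorem extFun_not_mem {H : Subgroup V} (hH : IsHyper H) (z : V) (hz : z ∉ H) (φ : ↥H →* ↥H)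
    {v : V} (hv : v ∉ H) : extFun hH z hz φ v = z * (φ ⟨z * v, hH z v hz hv⟩ : V) := by
  unfold extFun; rw [dif_neg hv]

theorem extFun_z (h : Hyp V) {H : Subgroup V} (hH : IsHyper H) (z : V) (hz : z ∉ H)
    (φ : ↥H →* ↥H) : extFun hH z hz φ z = z := by
  rw [extFun_not_mem hH z hz φ hz]
  have : (⟨z * z, hH z z hz hz⟩ : ↥H) = 1 := Subtype.ext (h.sq z)
  rw [this, map_one, Subgroup.coe_one, mul_one]

theorem extFun_mul (h : Hyp V) {H : Subgroup V} (hH : IsHyper H) (z : V) (hz : z ∉ H)
    (φ : ↥H →* ↥H) (a b : V) :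
    extFun hH z hz φ (a * b) = extFun hH z hz φ a * extFun hH z hz φ b := by
  by_cases ha : a ∈ H <;> by_cases hb : b ∈ H
  · rw [extFun_mem hH z hz φ ha, extFun_mem hH z hz φ hb, extFun_mem hH z hz φ (H.mul_mem ha hb)]
    have : (⟨a * b, H.mul_mem ha hb⟩ : ↥H) = ⟨a, ha⟩ * ⟨b, hb⟩ := rfl
    rw [this, map_mul, Subgroup.coe_mul]
  · have hab : a * b ∉ H := IsHyper.mul_not_mem ha hb
    rw [extFun_mem hH z hz φ ha, extFun_not_mem hH z hz φ hb, extFun_not_mem hH z hz φ hab]
    have : (⟨z * (a * b), hH z (a * b) hz hab⟩ : ↥H) = ⟨a, ha⟩ * ⟨z * b, hH z b hz hb⟩ := by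
      apply Subtype.ext
      show z * (a * b) = a * (z * b)
      rw [← mul_assoc, h.comm z a, mul_assoc]
    rw [this, map_mul, Subgroup.coe_mul, ← mul_assoc, ← mul_assoc, h.comm z]
  · have hab : a * b ∉ H := IsHyper.mul_not_mem' ha hb
    rw [extFun_not_mem hH z hz φ ha, extFun_mem hH z hz φ hb, extFun_not_mem hH z hz φ hab]
    have : (⟨z * (a * b), hH z (a * b) hz hab⟩ : ↥H) = ⟨z * a, hH z a hz ha⟩ * ⟨b, hb⟩ := by
      apply Subtype.ext
      show z * (a * b) = z * a * b
      rw [mul_assoc]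
    rw [this, map_mul, Subgroup.coe_mul, mul_assoc]
  · have hab : a * b ∈ H := hH a b ha hb
    rw [extFun_not_mem hH z hz φ ha, extFun_not_mem hH z hz φ hb, extFun_mem hH z hz φ hab]
    have : (⟨a * b, hab⟩ : ↥H) = ⟨z * a, hH z a hz ha⟩ * ⟨z * b, hH z b hz hb⟩ := by
      apply Subtype.ext
      show a * b = z * a * (z * b)
      calc a * b = (z * z) * (a * b) := by rw [h.sq, one_mul]
        _ = z * (z * a) * b := by simp only [mul_assoc]
        _ = z * (a * z) * b := by rw [h.comm z a]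
        _ = z * a * (z * b) := by simp only [mul_assoc]
    rw [this, map_mul, Subgroup.coe_mul]
    set x : V := (φ ⟨z * a, hH z a hz ha⟩ : V)
    set y : V := (φ ⟨z * b, hH z b hz hb⟩ : V)
    calc x * y = (z * z) * (x * y) := by rw [h.sq, one_mul]
      _ = z * (z * x) * y := by simp only [mul_assoc]
      _ = z * (x * z) * y := by rw [h.comm z x]
      _ = z * x * (z * y) := by simp only [mul_assoc]

theorem extFun_inv (h : Hyp V) {H : Subgroup V} (hH : IsHyper H) (z : V) (hz : z ∉ H)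
    (φ ψ : ↥H →* ↥H) (hψφ : ∀ x, ψ (φ x) = x) (v : V) :
    extFun hH z hz ψ (extFun hH z hz φ v) = v := by
  by_cases hv : v ∈ H
  · rw [extFun_mem hH z hz φ hv, extFun_mem hH z hz ψ (φ ⟨v, hv⟩).2]
    have : (⟨(φ ⟨v, hv⟩ : V), (φ ⟨v, hv⟩).2⟩ : ↥H) = φ ⟨v, hv⟩ := rfl
    rw [this, hψφ]
  · rw [extFun_not_mem hH z hz φ hv]
    have hnot : z * (φ ⟨z * v, hH z v hz hv⟩ : V) ∉ H :=
      IsHyper.mul_not_mem' hz (φ ⟨z * v, hH z v hz hv⟩).2
    rw [extFun_not_mem hH z hz ψ hnot]
    have : (⟨z * (z * (φ ⟨z * v, hH z v hz hv⟩ : V)),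
        hH z (z * (φ ⟨z * v, hH z v hz hv⟩ : V)) hz hnot⟩ : ↥H) = φ ⟨z * v, hH z v hz hv⟩ := by
      apply Subtype.ext
      show z * (z * (φ ⟨z * v, hH z v hz hv⟩ : V)) = (φ ⟨z * v, hH z v hz hv⟩ : V)
      rw [← mul_assoc, h.sq, one_mul]
    rw [this, hψφ]
    show z * (z * v) = v
    rw [← mul_assoc, h.sq, one_mul]

/-- the extension as an automorphism -/
noncomputable def ext (h : Hyp V) {H : Subgroup V} (hH : IsHyper H) (z : V) (hz : z ∉ H)
    (φ : ↥H ≃* ↥H) : V ≃* V where
  toFun := extFun hH z hz φ.toMonoidHom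
  invFun := extFun hH z hz φ.symm.toMonoidHom
  left_inv := extFun_inv h hH z hz φ.toMonoidHom φ.symm.toMonoidHom (fun x => φ.symm_apply_apply x)
  right_inv := extFun_inv h hH z hz φ.symm.toMonoidHom φ.toMonoidHom (fun x => φ.apply_symm_apply x)
  map_mul' := extFun_mul h hH z hz φ.toMonoidHom

theorem ext_z (h : Hyp V) {H : Subgroup V} (hH : IsHyper H) (z : V) (hz : z ∉ H)
    (φ : ↥H ≃* ↥H) : ext h hH z hz φ z = z := extFun_z h hH z hz φ.toMonoidHom

theorem ext_mem (h : Hyp V) {H : Subgroup V} (hH : IsHyper H) (z : V) (hz : z ∉ H)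
    (φ : ↥H ≃* ↥H) {v : V} (hv : v ∈ H) : ext h hH z hz φ v = (φ ⟨v, hv⟩ : V) :=
  extFun_mem hH z hz φ.toMonoidHom hv

/-! ### automorphism group as a general linear group -/

section GLsec
set_option linter.style.haveILetI false

open Matrix

theorem mulAut_equiv_GL_comm {Q : Type*} [CommGroup Q] [Finite Q]
    (hexp : ∀ q : Q, q ^ 2 = 1) (n : ℕ) (hcard : Nat.card Q = 2 ^ n) :
    Nonempty (MulAut Q ≃* GL (Fin n) (ZMod 2)) := by
  have hpx : ∀ x : Additive Q, 2 • x = 0 := fun x => by
    show Additive.ofMul (x.toMul ^ 2) = 0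
    rw [hexp]; rfl
  obtain ⟨inst1⟩ : Nonempty (Module (ZMod 2) (Additive Q)) := ⟨AddCommGroup.zmodModule hpx⟩
  haveI : Finite (Additive Q) := ‹Finite Q›
  haveI inst2 : Module.Finite (ZMod 2) (Additive Q) := Module.Finite.of_finite
  have hfr : Module.finrank (ZMod 2) (Additive Q) = n := by
    have := @Module.natCard_eq_pow_finrank (ZMod 2) (Additive Q) _ _ inst1 inst2
    rw [Nat.card_zmod, show Nat.card (Additive Q) = 2 ^ n from hcard] at this
    exact (Nat.pow_right_injective (le_refl 2) this).symm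
  let b := Module.finBasisOfFinrankEq (ZMod 2) (Additive Q) hfr
  let ψ₀ : MulAut Q →* Module.End (ZMod 2) (Additive Q) :=
    { toFun := fun f => (MulEquiv.toAdditive f).toAddMonoidHom.toZModLinearMap 2
      map_one' := by
        apply LinearMap.ext
        intro x
        rfl
      map_mul' := by
        intro f g
        apply LinearMap.ext
        intro x
        rfl }
  let ψ₁ : MulAut Q →* (Module.End (ZMod 2) (Additive Q))ˣ := ψ₀.toHomUnits
  let ψ₂ : (Module.End (ZMod 2) (Additive Q))ˣ ≃* GL (Fin n) (ZMod 2) :=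
    Units.mapEquiv (LinearMap.toMatrixAlgEquiv b).toMulEquiv
  have h1 : Function.Injective ψ₁ := by
    intro f g hfg
    have h0 : ψ₀ f = ψ₀ g := congrArg Units.val hfg
    ext x
    have := LinearMap.congr_fun h0 (Additive.ofMul x)
    exact this
  have h2 : Function.Surjective ψ₁ := by
    intro u
    have hl : ∀ x : Additive Q, (u⁻¹ : (Module.End (ZMod 2) (Additive Q))ˣ).val (u.val x) = x := by
      intro x
      have : ((u⁻¹ : (Module.End (ZMod 2) (Additive Q))ˣ).val * u.val) x = x := by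
        rw [Units.inv_mul]; rfl
      exact this
    have hr : ∀ x : Additive Q, u.val ((u⁻¹ : (Module.End (ZMod 2) (Additive Q))ˣ).val x) = x := by
      intro x
      have : (u.val * (u⁻¹ : (Module.End (ZMod 2) (Additive Q))ˣ).val) x = x := by
        rw [Units.mul_inv]; rfl
      exact this
    let f : MulAut Q :=
      { toFun := fun q => (u.val (Additive.ofMul q)).toMul
        invFun := fun q => ((u⁻¹ : (Module.End (ZMod 2) (Additive Q))ˣ).val (Additive.ofMul q)).toMul
        left_inv := fun q => by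
          show ((u⁻¹ : (Module.End (ZMod 2) (Additive Q))ˣ).val (u.val (Additive.ofMul q))).toMul = q
          rw [hl]; rfl
        right_inv := fun q => by
          show (u.val ((u⁻¹ : (Module.End (ZMod 2) (Additive Q))ˣ).val (Additive.ofMul q))).toMul = q
          rw [hr]; rfl
        map_mul' := fun q r => by
          show (u.val (Additive.ofMul q + Additive.ofMul r)).toMul = _
          rw [map_add]; rfl }
    refine ⟨f, ?_⟩
    apply Units.ext
    apply LinearMap.ext
    intro x
    rfl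
  exact ⟨(MulEquiv.ofBijective ψ₁ ⟨h1, h2⟩).trans ψ₂⟩


theorem mulAut_equiv_GL [Finite V] (h : Hyp V) (n : ℕ) (hcard : Nat.card V = 2 ^ n) :
    Nonempty (MulAut V ≃* GL (Fin n) (ZMod 2)) := by
  letI : CommGroup V := { (inferInstance : Group V) with mul_comm := h.comm }
  exact mulAut_equiv_GL_comm (fun q => by rw [pow_two]; exact h.sq q) n hcard

end GLsec

/-! ### the stabilizer of a vector: transvection group and Levi complement -/

/-- automorphisms acting trivially modulo `⟨z⟩` -/
def TA (h : Hyp V) (z : V) (hz : z ≠ 1) : Subgroup (MulAut V) where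
  carrier := {φ | ∀ v : V, φ v = v ∨ φ v = v * z}
  one_mem' := fun v => Or.inl rfl
  mul_mem' := by
    intro φ ψ hφ hψ v
    have hφz : φ z = z := by
      rcases hφ z with e | e
      · exact e
      · exfalso
        rw [h.sq] at e
        have : φ z = φ 1 := by rw [e, map_one]
        exact hz (φ.injective this)
    show φ (ψ v) = v ∨ φ (ψ v) = v * z
    rcases hψ v with e | e
    · rw [e]; exact hφ v
    · rw [e, map_mul, hφz]
      rcases hφ v with e' | e'
      · right; rw [e']
      · left; rw [e', mul_assoc, h.sq, mul_one]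
  inv_mem' := by
    intro φ hφ v
    have hφz : φ z = z := by
      rcases hφ z with e | e
      · exact e
      · exfalso
        rw [h.sq] at e
        have : φ z = φ 1 := by rw [e, map_one]
        exact hz (φ.injective this)
    show φ⁻¹ v = v ∨ φ⁻¹ v = v * z
    rcases hφ v with e | e
    · left
      calc φ⁻¹ v = φ⁻¹ (φ v) := by rw [e]
        _ = v := φ.symm_apply_apply v
    · right
      have e2 : φ (v * z) = v := by rw [map_mul, hφz, e, mul_assoc, h.sq, mul_one]
      calc φ⁻¹ v = φ⁻¹ (φ (v * z)) := by rw [e2]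
        _ = v * z := φ.symm_apply_apply _

theorem mem_TA (h : Hyp V) (z : V) (hz : z ≠ 1) (φ : MulAut V) :
    φ ∈ TA h z hz ↔ ∀ v : V, φ v = v ∨ φ v = v * z := Iff.rfl

theorem TA_fix (h : Hyp V) (z : V) (hz : z ≠ 1) {φ : MulAut V} (hφ : φ ∈ TA h z hz) : φ z = z := by
  rcases hφ z with e | e
  · exact e
  · exfalso
    rw [h.sq] at e
    have : φ z = φ 1 := by rw [e, map_one]
    exact hz (φ.injective this)

theorem TA_sq (h : Hyp V) (z : V) (hz : z ≠ 1) {φ : MulAut V} (hφ : φ ∈ TA h z hz) : φ * φ = 1 := by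
  ext v
  show φ (φ v) = v
  rcases hφ v with e | e
  · rw [e, e]
  · rw [e, map_mul, TA_fix h z hz hφ, e, mul_assoc, h.sq, mul_one]

/-- conjugation by an automorphism fixing `z` preserves `TA` -/
theorem TA_conj (h : Hyp V) (z : V) (hz : z ≠ 1) {φ σ : MulAut V} (hφ : φ ∈ TA h z hz)
    (hσ : σ z = z) : σ * φ * σ⁻¹ ∈ TA h z hz := by
  intro v
  show σ (φ (σ⁻¹ v)) = v ∨ σ (φ (σ⁻¹ v)) = v * z
  have hv : σ (σ⁻¹ v) = v := σ.apply_symm_apply v
  rcases hφ (σ⁻¹ v) with e | e
  · left; rw [e, hv]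
  · right; rw [e, map_mul, hv, hσ]

/-- automorphisms fixing `z` and stabilizing the hyperplane `H` -/
def KA (z : V) (H : Subgroup V) : Subgroup (MulAut V) where
  carrier := {φ | φ z = z ∧ ∀ v : V, v ∈ H ↔ φ v ∈ H}
  one_mem' := ⟨rfl, fun _ => Iff.rfl⟩
  mul_mem' := by
    rintro φ ψ ⟨h1, h2⟩ ⟨h3, h4⟩
    refine ⟨?_, fun v => ?_⟩
    · show φ (ψ z) = z
      rw [h3, h1]
    · show v ∈ H ↔ φ (ψ v) ∈ H
      rw [h4 v, h2 (ψ v)]
  inv_mem' := by
    rintro φ ⟨h1, h2⟩
    refine ⟨?_, fun v => ?_⟩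
    · show φ⁻¹ z = z
      calc φ⁻¹ z = φ⁻¹ (φ z) := by rw [h1]
        _ = z := φ.symm_apply_apply z
    · show v ∈ H ↔ φ⁻¹ v ∈ H
      rw [h2 (φ⁻¹ v)]
      have : φ (φ⁻¹ v) = v := φ.apply_symm_apply v
      rw [this]

theorem mem_KA (z : V) (H : Subgroup V) (φ : MulAut V) :
    φ ∈ KA z H ↔ φ z = z ∧ ∀ v : V, v ∈ H ↔ φ v ∈ H := Iff.rfl

/-- an automorphism fixing `z` and the hyperplane `H ∌ z` pointwise is trivial -/
theorem eq_one_of_fix {H : Subgroup V} (hH : IsHyper H) (z : V) (hzH : z ∉ H)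
    (h : Hyp V) {φ : MulAut V} (hφz : φ z = z) (hφH : ∀ v ∈ H, φ v = v) : φ = 1 := by
  ext v
  show φ v = v
  by_cases hv : v ∈ H
  · exact hφH v hv
  · have h1 : z * v ∈ H := hH z v hzH hv
    have h2 : v = z * (z * v) := by rw [← mul_assoc, h.sq, one_mul]
    calc φ v = φ (z * (z * v)) := by rw [← h2]
      _ = z * (z * v) := by rw [map_mul, hφz, hφH _ h1]
      _ = v := h2.symm

theorem TA_inf_KA (h : Hyp V) (z : V) (hz : z ≠ 1) {H : Subgroup V} (hH : IsHyper H)
    (hzH : z ∉ H) : TA h z hz ⊓ KA z H = ⊥ := by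
  rw [eq_bot_iff]
  rintro φ ⟨h1, h2⟩
  rw [Subgroup.mem_bot]
  apply eq_one_of_fix hH z hzH h h2.1
  intro v hv
  rcases h1 v with e | e
  · exact e
  · exfalso
    have h3 : φ v ∈ H := (h2.2 v).mp hv
    rw [e] at h3
    exact IsHyper.mul_not_mem hv hzH h3

/-! ### projection onto a hyperplane -/

open Classical in
/-- projection of `V = H ∪ zH` onto `H` -/
noncomputable def projFun {H : Subgroup V} (hH : IsHyper H) (z : V) (hz : z ∉ H) (v : V) : ↥H :=
  if hv : v ∈ H then ⟨v, hv⟩ else ⟨z * v, hH z v hz hv⟩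

theorem projFun_mem {H : Subgroup V} (hH : IsHyper H) (z : V) (hz : z ∉ H) {v : V} (hv : v ∈ H) :
    projFun hH z hz v = ⟨v, hv⟩ := by
  unfold projFun; rw [dif_pos hv]

theorem projFun_not_mem {H : Subgroup V} (hH : IsHyper H) (z : V) (hz : z ∉ H) {v : V}
    (hv : v ∉ H) : projFun hH z hz v = ⟨z * v, hH z v hz hv⟩ := by
  unfold projFun; rw [dif_neg hv]

theorem projFun_val {H : Subgroup V} (hH : IsHyper H) (z : V) (hz : z ∉ H) (v : V) :
    ((projFun hH z hz v : ↥H) : V) = v ∨ ((projFun hH z hz v : ↥H) : V) = z * v := by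
  by_cases hv : v ∈ H
  · left; rw [projFun_mem hH z hz hv]
  · right; rw [projFun_not_mem hH z hz hv]

theorem projFun_mul (h : Hyp V) {H : Subgroup V} (hH : IsHyper H) (z : V) (hz : z ∉ H) (a b : V) :
    projFun hH z hz (a * b) = projFun hH z hz a * projFun hH z hz b := by
  apply Subtype.ext
  rw [Subgroup.coe_mul]
  by_cases ha : a ∈ H <;> by_cases hb : b ∈ H
  · rw [projFun_mem hH z hz ha, projFun_mem hH z hz hb, projFun_mem hH z hz (H.mul_mem ha hb)]
  · rw [projFun_mem hH z hz ha, projFun_not_mem hH z hz hb,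
      projFun_not_mem hH z hz (IsHyper.mul_not_mem ha hb)]
    show z * (a * b) = a * (z * b)
    rw [← mul_assoc, h.comm z a, mul_assoc]
  · rw [projFun_not_mem hH z hz ha, projFun_mem hH z hz hb,
      projFun_not_mem hH z hz (IsHyper.mul_not_mem' ha hb)]
    show z * (a * b) = z * a * b
    rw [mul_assoc]
  · rw [projFun_not_mem hH z hz ha, projFun_not_mem hH z hz hb, projFun_mem hH z hz (hH a b ha hb)]
    show a * b = z * a * (z * b)
    calc a * b = (z * z) * (a * b) := by rw [h.sq, one_mul]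
      _ = z * (z * a) * b := by simp only [mul_assoc]
      _ = z * (a * z) * b := by rw [h.comm z a]
      _ = z * a * (z * b) := by simp only [mul_assoc]

/-- the projection as a homomorphism -/
noncomputable def proj (h : Hyp V) {H : Subgroup V} (hH : IsHyper H) (z : V) (hz : z ∉ H) :
    V →* ↥H where
  toFun := projFun hH z hz
  map_one' := by rw [projFun_mem hH z hz H.one_mem]; rfl
  map_mul' := projFun_mul h hH z hz

theorem proj_apply (h : Hyp V) {H : Subgroup V} (hH : IsHyper H) (z : V) (hz : z ∉ H) (v : V) :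
    proj h hH z hz v = projFun hH z hz v := rfl

/-- every automorphism fixing `z` is a transvection-type automorphism times one in `KA` -/
theorem exists_KA_mul [Finite V] (h : Hyp V) (z : V) (hz : z ≠ 1) {H : Subgroup V}
    (hH : IsHyper H) (hzH : z ∉ H) (φ : MulAut V) (hφ : φ z = z) :
    ∃ κ ∈ KA z H, φ * κ⁻¹ ∈ TA h z hz := by
  -- the induced map on `H`
  let p : ↥H →* ↥H := (proj h hH z hzH).comp (φ.toMonoidHom.comp H.subtype)
  have hp : ∀ x : ↥H, ((p x : ↥H) : V) = φ x ∨ ((p x : ↥H) : V) = z * φ x := fun x =>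
    projFun_val hH z hzH (φ x)
  have hinj : Function.Injective p := by
    rw [injective_iff_map_eq_one]
    intro x hx
    have h1 : ((p x : ↥H) : V) = 1 := by rw [hx]; rfl
    apply Subtype.ext
    show (x : V) = 1
    rcases hp x with e | e
    · rw [e] at h1
      have : φ (x : V) = φ 1 := by rw [h1, map_one]
      exact φ.injective this
    · exfalso
      rw [e] at h1
      have h2 : φ (x : V) = z := by
        calc φ (x : V) = (z * z) * φ (x : V) := by rw [h.sq, one_mul]
          _ = z * (z * φ (x : V)) := by rw [mul_assoc]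
          _ = z := by rw [h1, mul_one]
      have h3 : (x : V) = z := φ.injective (h2.trans hφ.symm)
      exact hzH (h3 ▸ x.2)
  have hbij : Function.Bijective p := Finite.injective_iff_bijective.mp hinj
  let φ1 : ↥H ≃* ↥H := MulEquiv.ofBijective p hbij
  have hφ1 : ∀ x : ↥H, φ1 x = p x := fun x => rfl
  refine ⟨ext h hH z hzH φ1, ⟨ext_z h hH z hzH φ1, ?_⟩, ?_⟩
  · intro v
    constructor
    · intro hv
      rw [ext_mem h hH z hzH φ1 hv]
      exact (φ1 ⟨v, hv⟩).2
    · intro hv
      by_contra hcon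
      have h1 : z * v ∈ H := hH z v hzH hcon
      have h2 : v = z * (z * v) := by rw [← mul_assoc, h.sq, one_mul]
      have h3 : ext h hH z hzH φ1 v = z * ext h hH z hzH φ1 (z * v) := by
        conv_lhs => rw [h2]
        rw [map_mul, ext_z]
      rw [h3, ext_mem h hH z hzH φ1 h1] at hv
      exact IsHyper.mul_not_mem' hzH (φ1 ⟨z * v, h1⟩).2 hv
  · -- `φ w` and `κ w` agree modulo `z`
    have key : ∀ w : V, φ w = ext h hH z hzH φ1 w ∨ φ w = ext h hH z hzH φ1 w * z := by
      have keyH : ∀ w ∈ H, φ w = ext h hH z hzH φ1 w ∨ φ w = ext h hH z hzH φ1 w * z := by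
        intro w hw
        rw [ext_mem h hH z hzH φ1 hw, hφ1]
        rcases hp ⟨w, hw⟩ with e | e
        · left; rw [e]
        · right
          rw [e, h.comm z, mul_assoc, h.sq, mul_one]
      intro w
      by_cases hw : w ∈ H
      · exact keyH w hw
      · have h1 : z * w ∈ H := hH z w hzH hw
        have h2 : w = z * (z * w) := by rw [← mul_assoc, h.sq, one_mul]
        have e1 : φ w = z * φ (z * w) := by
          conv_lhs => rw [h2]
          rw [map_mul, hφ]
        have e2 : ext h hH z hzH φ1 w = z * ext h hH z hzH φ1 (z * w) := by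
          conv_lhs => rw [h2]
          rw [map_mul, ext_z]
        rcases keyH (z * w) h1 with e | e
        · left; rw [e1, e2, e]
        · right; rw [e1, e2, e, mul_assoc]
    intro v
    show φ ((ext h hH z hzH φ1)⁻¹ v) = v ∨ φ ((ext h hH z hzH φ1)⁻¹ v) = v * z
    have hv : ext h hH z hzH φ1 ((ext h hH z hzH φ1)⁻¹ v) = v :=
      (ext h hH z hzH φ1).apply_symm_apply v
    rcases key ((ext h hH z hzH φ1)⁻¹ v) with e | e
    · left; rw [e, hv]
    · right; rw [e, hv]


/-! ### more on `TA` and `KA` -/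

theorem TA_comm (h : Hyp V) (z : V) (hz : z ≠ 1) {φ ψ : MulAut V} (hφ : φ ∈ TA h z hz)
    (hψ : ψ ∈ TA h z hz) : φ * ψ = ψ * φ := by
  ext v
  show φ (ψ v) = ψ (φ v)
  have hφz := TA_fix h z hz hφ
  have hψz := TA_fix h z hz hψ
  rcases hφ v with e1 | e1 <;> rcases hψ v with e2 | e2
  · rw [e1, e2, e1]
  · rw [e1, e2, map_mul, e1, hφz]
  · rw [e1, e2, map_mul, e1, e2, hψz]
  · rw [e1, e2, map_mul, map_mul, e1, e2, hφz, hψz]

theorem ext_mem_KA (h : Hyp V) {H : Subgroup V} (hH : IsHyper H) (z : V) (hzH : z ∉ H)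
    (φ1 : ↥H ≃* ↥H) : ext h hH z hzH φ1 ∈ KA z H := by
  refine ⟨ext_z h hH z hzH φ1, ?_⟩
  intro v
  constructor
  · intro hv
    rw [ext_mem h hH z hzH φ1 hv]
    exact (φ1 ⟨v, hv⟩).2
  · intro hv
    by_contra hcon
    have h1 : z * v ∈ H := hH z v hzH hcon
    have h2 : v = z * (z * v) := by rw [← mul_assoc, h.sq, one_mul]
    have h3 : ext h hH z hzH φ1 v = z * ext h hH z hzH φ1 (z * v) := by
      conv_lhs => rw [h2]
      rw [map_mul, ext_z]
    rw [h3, ext_mem h hH z hzH φ1 h1] at hv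
    exact IsHyper.mul_not_mem' hzH (φ1 ⟨z * v, h1⟩).2 hv

/-- two automorphisms agreeing at `z` and on `H` are equal -/
theorem eq_of_agree {H : Subgroup V} (hH : IsHyper H) (z : V) (hzH : z ∉ H)
    (h : Hyp V) {φ ψ : MulAut V} (hz : φ z = ψ z) (hφH : ∀ v ∈ H, φ v = ψ v) : φ = ψ := by
  ext v
  by_cases hv : v ∈ H
  · exact hφH v hv
  · have h1 : z * v ∈ H := hH z v hzH hv
    have h2 : v = z * (z * v) := by rw [← mul_assoc, h.sq, one_mul]
    calc φ v = φ (z * (z * v)) := by rw [← h2]
      _ = ψ (z * (z * v)) := by rw [map_mul, map_mul ψ, hz, hφH _ h1]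
      _ = ψ v := by rw [← h2]

/-- restriction of an element of `KA` to the hyperplane -/
def resKA (z : V) (H : Subgroup V) (φ : KA z H) : MulAut ↥H where
  toFun := fun x => ⟨(φ : MulAut V) x, (φ.2.2 x).mp x.2⟩
  invFun := fun x => ⟨(φ : MulAut V)⁻¹ (x : V), by
    rw [φ.2.2]
    have : (φ : MulAut V) ((φ : MulAut V)⁻¹ (x : V)) = x := (φ : MulAut V).apply_symm_apply x
    rw [this]; exact x.2⟩
  left_inv := fun x => Subtype.ext ((φ : MulAut V).symm_apply_apply x)
  right_inv := fun x => Subtype.ext ((φ : MulAut V).apply_symm_apply x)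
  map_mul' := fun x y => Subtype.ext (map_mul (φ : MulAut V) (x : V) (y : V))

theorem resKA_apply (z : V) (H : Subgroup V) (φ : KA z H) (x : ↥H) :
    ((resKA z H φ x : ↥H) : V) = (φ : MulAut V) x := rfl

/-- `KA z H` is the full automorphism group of the hyperplane -/
noncomputable def equivKA (h : Hyp V) {H : Subgroup V} (hH : IsHyper H) (z : V) (hzH : z ∉ H) :
    KA z H ≃* MulAut ↥H where
  toFun := resKA z H
  invFun := fun ψ => ⟨ext h hH z hzH ψ, ext_mem_KA h hH z hzH ψ⟩
  left_inv := by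
    intro φ
    apply Subtype.ext
    show ext h hH z hzH (resKA z H φ) = (φ : MulAut V)
    apply eq_of_agree hH z hzH h
    · rw [ext_z]; exact φ.2.1.symm
    · intro v hv
      rw [ext_mem h hH z hzH _ hv]
      rfl
  right_inv := by
    intro ψ
    ext x
    show (ext h hH z hzH ψ) (x : V) = (ψ x : V)
    rw [ext_mem h hH z hzH ψ x.2]
  map_mul' := by
    intro φ ψ
    ext x
    rfl

/-- a `2`-group of automorphisms fixes a nontrivial element of every nontrivial invariant
subgroup -/
theorem exists_fixed_ne_one [Finite V] (h : Hyp V) (B : Subgroup (MulAut V)) (hB : IsPGroup 2 B)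
    (E : Subgroup V) (hE1 : E ≠ ⊥) (hBE : ∀ β ∈ B, ∀ e ∈ E, β e ∈ E) :
    ∃ e ∈ E, e ≠ 1 ∧ ∀ β ∈ B, β e = e := by
  haveI : Fact (Nat.Prime 2) := ⟨Nat.prime_two⟩
  letI : MulAction B E :=
    { smul := fun β e => ⟨(β : MulAut V) e, hBE β β.2 e e.2⟩
      one_smul := fun e => Subtype.ext rfl
      mul_smul := fun a b e => Subtype.ext rfl }
  have hEp : IsPGroup 2 E := by
    intro x
    refine ⟨1, ?_⟩
    rw [pow_one, pow_two]
    exact Subtype.ext (h.sq x)
  obtain ⟨k, hk⟩ := IsPGroup.iff_card.mp hEp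
  have hk1 : k ≠ 0 := by
    intro h0
    rw [h0, pow_zero] at hk
    exact hE1 (Subgroup.card_eq_one.1 hk)
  have hdvd : 2 ∣ Nat.card E := by
    rw [hk]; exact dvd_pow_self 2 hk1
  have h1 : (1 : E) ∈ MulAction.fixedPoints B E := by
    intro β
    exact Subtype.ext (map_one (β : MulAut V))
  obtain ⟨b, hb, hne⟩ := hB.exists_fixed_point_of_prime_dvd_card_of_fixed_point E hdvd h1
  refine ⟨b, b.2, ?_, ?_⟩
  · intro hb1
    apply hne
    exact Subtype.ext hb1.symm
  · intro β hβ
    have := hb ⟨β, hβ⟩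
    exact congrArg Subtype.val this

/-- `KA` is transitive on the nontrivial elements of the hyperplane -/
theorem exists_KA_map [Finite V] (h : Hyp V) (z : V) {H : Subgroup V} (hzH : z ∉ H)
    {u u' : V} (hu : u ∈ H) (hu1 : u ≠ 1) (hu' : u' ∈ H) (hu'1 : u' ≠ 1) :
    ∃ κ ∈ KA z H, κ u = u' := by
  by_cases huu : u = u'
  · exact ⟨1, (KA z H).one_mem, huu⟩
  set w : V := u * u' with hw
  have hwH : w ∈ H := H.mul_mem hu hu'
  have hz1 : z ≠ 1 := fun e => hzH (e ▸ H.one_mem)
  have huD : u ∉ adjoin h (adjoin h ⊥ z) w := by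
    rintro ((h1 | h1) | (h1 | h1))
    · exact hu1 (Subgroup.mem_bot.mp h1)
    · have h2 : z * u = 1 := Subgroup.mem_bot.mp h1
      have h3 : z = u := by
        calc z = z * (u * u) := by rw [h.sq, mul_one]
          _ = (z * u) * u := (mul_assoc _ _ _).symm
          _ = u := by rw [h2, one_mul]
      exact hzH (h3 ▸ hu)
    · have h2 : w * u = 1 := Subgroup.mem_bot.mp h1
      apply hu'1
      calc u' = u' * (u * u) := by rw [h.sq, mul_one]
        _ = (u * u') * u := by rw [← mul_assoc, h.comm u' u]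
        _ = 1 := h2
    · have h2 : z * (w * u) = 1 := Subgroup.mem_bot.mp h1
      have h3 : z = w * u := by
        calc z = z * ((w * u) * (w * u)) := by rw [h.sq, mul_one]
          _ = (z * (w * u)) * (w * u) := (mul_assoc _ _ _).symm
          _ = w * u := by rw [h2, one_mul]
      exact hzH (h3 ▸ H.mul_mem hwH hu)
  obtain ⟨H', hDH', huH', hH'⟩ := exists_hyper h _ u huD
  have hwH' : w ∈ H' := hDH' (mem_adjoin_self h _ w)
  have hzH' : z ∈ H' := hDH' (le_adjoin h _ w (mem_adjoin_self h _ z))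
  refine ⟨transv h H' hH' w hwH', ⟨?_, ?_⟩, ?_⟩
  · rw [transv_apply, transvFun_mem hzH']
  · intro v
    rw [transv_apply]
    by_cases hv : v ∈ H'
    · rw [transvFun_mem hv]
    · rw [transvFun_not_mem hv]
      constructor
      · intro hvH; exact H.mul_mem hvH hwH
      · intro hvw
        have : v = (v * w) * w := by rw [mul_assoc, h.sq, mul_one]
        rw [this]; exact H.mul_mem hvw hwH
  · rw [transv_apply, transvFun_not_mem huH', hw, ← mul_assoc, h.sq, one_mul]

/-- a `2`-subgroup of `KA` normalized by `KA` is trivial -/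
theorem eq_bot_of_normal_two [Finite V] (h : Hyp V) (z : V) {H : Subgroup V} (hH : IsHyper H)
    (hzH : z ∉ H) (P : Subgroup (MulAut V)) (hPK : P ≤ KA z H) (hP : IsPGroup 2 P)
    (hnorm : ∀ κ ∈ KA z H, ∀ φ ∈ P, κ⁻¹ * φ * κ ∈ P) : P = ⊥ := by
  rw [eq_bot_iff]
  intro φ hφ
  rw [Subgroup.mem_bot]
  apply eq_one_of_fix hH z hzH h (hPK hφ).1
  by_cases hHb : H = ⊥
  · intro v hv
    rw [hHb, Subgroup.mem_bot] at hv
    rw [hv, map_one]
  obtain ⟨u0, hu0H, hu01, hfix⟩ := exists_fixed_ne_one h P hP H hHb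
    (fun β hβ e he => ((hPK hβ).2 e).mp he)
  intro v hv
  by_cases hv1 : v = 1
  · rw [hv1, map_one]
  obtain ⟨κ, hκ, hκu⟩ := exists_KA_map h z hzH hu0H hu01 hv hv1
  have h1 := hfix _ (hnorm κ hκ φ hφ)
  have h2 : κ⁻¹ (φ (κ u0)) = u0 := h1
  rw [hκu] at h2
  have h3 : κ (κ⁻¹ (φ v)) = φ v := κ.apply_symm_apply _
  rw [h2, hκu] at h3
  exact h3.symm

/-- a vector other than `1, z` is moved by some element of `TA` -/
theorem exists_TA_move [Finite V] (h : Hyp V) (z : V) (hz : z ≠ 1) {v : V} (hv1 : v ≠ 1)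
    (hvz : v ≠ z) : ∃ τ ∈ TA h z hz, τ v = v * z := by
  have hvD : v ∉ adjoin h ⊥ z := by
    rintro (h1 | h1)
    · exact hv1 (Subgroup.mem_bot.mp h1)
    · have h2 : z * v = 1 := Subgroup.mem_bot.mp h1
      apply hvz
      calc v = (z * z) * v := by rw [h.sq, one_mul]
        _ = z * (z * v) := by rw [mul_assoc]
        _ = z := by rw [h2, mul_one]
  obtain ⟨H', hDH', hvH', hH'⟩ := exists_hyper h _ v hvD
  have hzH' : z ∈ H' := hDH' (mem_adjoin_self h _ z)
  refine ⟨transv h H' hH' z hzH', ?_, ?_⟩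
  · intro x
    rw [transv_apply]
    by_cases hx : x ∈ H'
    · left; rw [transvFun_mem hx]
    · right; rw [transvFun_not_mem hx]
  · rw [transv_apply, transvFun_not_mem hvH']

/-- a hyperplane avoiding `z` has index two -/
theorem IsHyper.index_eq_two {H : Subgroup V} (hH : IsHyper H) {z : V} (hzH : z ∉ H) :
    H.index = 2 := by
  rw [Subgroup.index_eq_two_iff]
  refine ⟨z, fun b => ?_⟩
  by_cases hb : b ∈ H
  · right
    exact ⟨hb, IsHyper.mul_not_mem hb hzH⟩
  · left
    exact ⟨hH b z hb hzH, hb⟩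

theorem IsHyper.card_eq [Finite V] {H : Subgroup V} (hH : IsHyper H) {z : V} (hzH : z ∉ H)
    (n : ℕ) (hcard : Nat.card V = 2 ^ (n + 1)) : Nat.card H = 2 ^ n := by
  have h1 := H.card_mul_index
  rw [hH.index_eq_two hzH, hcard, pow_succ] at h1
  omega

theorem Hyp.subgroup (h : Hyp V) (H : Subgroup V) : Hyp ↥H where
  comm := fun a b => Subtype.ext (h.comm a b)
  sq := fun a => Subtype.ext (h.sq a)

end Cfsg.Agent.Lib.Helper48.EA2
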