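import Cfsg.Agent.Lib.Helper6.FH.ADefs

/-! # FH-A1 (helper48, for helper6's Feit–Higman project): an irreducible matrix representation of the dihedral
Hecke algebra has dimension at most 2 -/

set_option autoImplicit false

namespace Cfsg.Agent.Lib.Helper6.FH

open Matrix

theorem dim_le_two {n m : ℕ} {u v : ℂ} {a b : Matrix (Fin m) (Fin m) ℂ} (h : HeckeRep n u v a b)
    (hu : u ≠ 0) (hv : v ≠ 0) : m ≤ 2 := by
  rcases Nat.eq_zero_or_pos m with hm | hm
  · omega
  · have : Nonempty (Fin m) := ⟨⟨0, hm⟩⟩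
    have : Nontrivial (Fin m → ℂ) := inferInstance
    obtain ⟨z, hz⟩ := Module.End.exists_eigenvalue (Matrix.toLin' (a * b))
    obtain ⟨x, hx⟩ := hz.exists_hasEigenvector
    have hx0 : x ≠ 0 := hx.2
    have hxz : a *ᵥ (b *ᵥ x) = z • x := by
      have := hx.apply_eq_smul
      rwa [Matrix.toLin'_apply, ← Matrix.mulVec_mulVec] at this
    -- `a` is injective on vectors
    have ha_inj : ∀ y : Fin m → ℂ, a *ᵥ y = 0 → y = 0 := by
      intro y hy
      have h1 : (a * a) *ᵥ y = 0 := by rw [← Matrix.mulVec_mulVec, hy, Matrix.mulVec_zero]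
      rw [h.quadA, Matrix.add_mulVec, Matrix.smul_mulVec, Matrix.smul_mulVec, Matrix.one_mulVec, hy,
        smul_zero, add_zero] at h1
      exact (smul_eq_zero.mp h1).resolve_left hu
    have hbb : b *ᵥ (b *ᵥ x) = v • x + (v - 1) • (b *ᵥ x) := by
      rw [Matrix.mulVec_mulVec, h.quadB, Matrix.add_mulVec, Matrix.smul_mulVec, Matrix.smul_mulVec,
        Matrix.one_mulVec]
    have hz0 : z ≠ 0 := by
      rintro rfl
      rw [zero_smul] at hxz
      have hbx : b *ᵥ x = 0 := ha_inj _ hxz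
      rw [hbx, Matrix.mulVec_zero, smul_zero, add_zero] at hbb
      exact hx0 ((smul_eq_zero.mp hbb.symm).resolve_left hv)
    have hax : a *ᵥ x = (z⁻¹ * u) • (b *ᵥ x) + (u - 1) • x := by
      have h1 : a *ᵥ (a *ᵥ (b *ᵥ x)) = u • (b *ᵥ x) + (u - 1) • (z • x) := by
        rw [Matrix.mulVec_mulVec, h.quadA, Matrix.add_mulVec, Matrix.smul_mulVec, Matrix.smul_mulVec,
          Matrix.one_mulVec, hxz]
      rw [hxz, Matrix.mulVec_smul] at h1
      have h2 : a *ᵥ x = z⁻¹ • (z • (a *ᵥ x)) := by rw [smul_smul, inv_mul_cancel₀ hz0, one_smul]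
      rw [h2, h1, smul_add, smul_smul, smul_smul]
      congr 1
      rw [show z⁻¹ * (u - 1) = (u - 1) * z⁻¹ by ring, ← smul_smul, smul_smul z⁻¹, inv_mul_cancel₀ hz0, one_smul]
    set U : Submodule ℂ (Fin m → ℂ) := Submodule.span ℂ {x, b *ᵥ x} with hU
    have hxU : x ∈ U := Submodule.subset_span (by simp)
    have hbxU : b *ᵥ x ∈ U := Submodule.subset_span (by simp)
    have hUa : ∀ y ∈ U, a *ᵥ y ∈ U := by
      intro y hy
      rw [hU, Submodule.mem_span_pair] at hy
      obtain ⟨s, t, rfl⟩ := hy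
      rw [Matrix.mulVec_add, Matrix.mulVec_smul, Matrix.mulVec_smul, hax, hxz]
      exact U.add_mem (U.smul_mem _ (U.add_mem (U.smul_mem _ hbxU) (U.smul_mem _ hxU)))
        (U.smul_mem _ (U.smul_mem _ hxU))
    have hUb : ∀ y ∈ U, b *ᵥ y ∈ U := by
      intro y hy
      rw [hU, Submodule.mem_span_pair] at hy
      obtain ⟨s, t, rfl⟩ := hy
      rw [Matrix.mulVec_add, Matrix.mulVec_smul, Matrix.mulVec_smul, hbb]
      exact U.add_mem (U.smul_mem _ hbxU)
        (U.smul_mem _ (U.add_mem (U.smul_mem _ hxU) (U.smul_mem _ hbxU)))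
    rcases h.simple U hUa hUb with h0 | h1
    · exfalso
      rw [h0, Submodule.mem_bot] at hxU
      exact hx0 hxU
    · have hfin : Module.finrank ℂ U = m := by
        rw [h1, finrank_top, Module.finrank_fin_fun]
      have hle : Module.finrank ℂ U ≤ 2 := by
        classical
        have := finrank_span_finset_le_card (R := ℂ) ({x, b *ᵥ x} : Finset (Fin m → ℂ))
        have hc : ({x, b *ᵥ x} : Finset (Fin m → ℂ)).card ≤ 2 := Finset.card_le_two
        have hcoe : ((({x, b *ᵥ x} : Finset (Fin m → ℂ)) : Set (Fin m → ℂ))) = {x, b *ᵥ x} := by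
          simp
        rw [hcoe] at this
        exact this.trans hc
      omega

end Cfsg.Agent.Lib.Helper6.FH
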