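import Cfsg.Agent.Lib.Helper6.FH.ADefs

/-! # FH-A5S duplicate (helper48): Schur lemma for an irreducible pair of matrices; the exact-name version is in Helper2.FH_A5S -/

set_option autoImplicit false

namespace Cfsg.Agent.Lib.Helper6.FH

open Matrix

theorem a5s_scalar_of_commute_alt {n m : ℕ} {u v : ℂ} {a b : Matrix (Fin m) (Fin m) ℂ} (h : HeckeRep n u v a b)
    {c : Matrix (Fin m) (Fin m) ℂ} (hca : c * a = a * c) (hcb : c * b = b * c) :
    ∃ z : ℂ, c = z • (1 : Matrix (Fin m) (Fin m) ℂ) := by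
  rcases Nat.eq_zero_or_pos m with hm | hm
  · subst hm
    exact ⟨0, Subsingleton.elim _ _⟩
  · have : Nonempty (Fin m) := ⟨⟨0, hm⟩⟩
    have : Nontrivial (Fin m → ℂ) := inferInstance
    obtain ⟨z, hz⟩ := Module.End.exists_eigenvalue (Matrix.toLin' c)
    refine ⟨z, ?_⟩
    obtain ⟨x, hx⟩ := hz.exists_hasEigenvector
    have key : ∀ d : Matrix (Fin m) (Fin m) ℂ, c * d = d * c →
        ∀ y ∈ Module.End.eigenspace (Matrix.toLin' c) z, d *ᵥ y ∈ Module.End.eigenspace (Matrix.toLin' c) z := by
      intro d hd y hy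
      rw [Module.End.mem_eigenspace_iff, Matrix.toLin'_apply] at hy ⊢
      rw [Matrix.mulVec_mulVec, hd, ← Matrix.mulVec_mulVec, hy, Matrix.mulVec_smul]
    rcases h.simple _ (key a hca) (key b hcb) with h0 | h1
    · exfalso
      have hxm : x ∈ Module.End.eigenspace (Matrix.toLin' c) z := hx.1
      rw [h0, Submodule.mem_bot] at hxm
      exact hx.2 hxm
    · apply (Matrix.toLin' (R := ℂ)).injective
      apply LinearMap.ext
      intro y
      have hy : y ∈ Module.End.eigenspace (Matrix.toLin' c) z := by rw [h1]; exact Submodule.mem_top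
      rw [Module.End.mem_eigenspace_iff] at hy
      rw [hy, Matrix.toLin'_apply, Matrix.smul_mulVec, Matrix.one_mulVec]

end Cfsg.Agent.Lib.Helper6.FH
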