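import Cfsg.Agent.Lib.Helper37.GtDefs

/-! # Gt hive (S2734, helper37): `def P1` now lives in `Cfsg.Agent.Lib.Helper37.GtDefs` (canonical); this file only re-imports it
(kept so that `Gt_STABNEG` / `Gt_STABZ` keep their import line). -/
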