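import Cfsg.Agent.Lib.Helper48.PMinimal
import Cfsg.Agent.Lib.Helper22.FStar
import Cfsg.Agent.Lib.Helper91.Components
import Cfsg.Agent.Lib.Helper9.SubnormalSylow
import Cfsg.Agent.Lib.Helper64.InvSylow
import Cfsg.Agent.Lib.Helper91.Baer0
import Cfsg.Agent.Lib.Helper2.PResidual
import Cfsg.Agent.Lib.Helper85.Sylow

set_option autoImplicit false
open Cfsg
open scoped Pointwise
open scoped commutatorElement

namespace Cfsg.Agent.Lib.Helper48.PMin

variable {P : Type*} [Group P] [Finite P] {p : ℕ} [Fact p.Prime]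

/-- with `O_p(P) = 1`, a normal subgroup inside `M` is nilpotent. -/
theorem isNilpotent_of_normal_le (hP : Cfsg.IsPMinimal p P) (hOp : Cfsg.pCore p P = ⊥)
    (S : Sylow p P) (M : Subgroup P)
    (hM : IsCoatom M) (hSM : (S : Subgroup P) ≤ M) (N : Subgroup P) [hN : N.Normal]
    (hNM : N ≤ M) : Group.IsNilpotent N := by
  have h1 : (S : Subgroup P) ⊓ N = ⊥ := by
    have := normal_inf_le_pCore hP S M hM hSM N hNM
    rw [hOp] at this
    exact le_bot_iff.mp this
  have hpN : ¬ p ∣ Nat.card N := by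
    have := Cfsg.Agent.Lib.Helper32.not_dvd_relIndex_inf_normal S N
    rwa [h1, Subgroup.relIndex_bot_left] at this
  apply (Group.isNilpotent_of_finite_tfae (G := N)).out 3 0 |>.mp
  intro r hr R
  haveI := hr
  obtain ⟨R0, hR0⟩ := Cfsg.Agent.Lib.Helper64.exists_invariant_sylow (q := r) N hpN S.isPGroup'
  have hSR : (S : Subgroup P) ≤ Subgroup.normalizer (((R0 : Subgroup N).map N.subtype : Subgroup P) : Set P) := by
    intro s hs
    exact Cfsg.Agent.Lib.Helper50.mem_normalizer_of_conj_mem (fun b hb => hR0 s hs b hb)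
  have hfr := Sylow.normalizer_sup_eq_top R0
  have hnorm : Subgroup.normalizer (((R0 : Subgroup N).map N.subtype : Subgroup P) : Set P) = ⊤ := by
    by_contra hne
    have hle := le_of_ne_top hP S M hM hSM hSR hne
    apply hM.1
    rw [eq_top_iff, ← hfr]
    exact sup_le hle hNM
  have hR0n : (R0 : Subgroup N).Normal := by
    have h2 : ((R0 : Subgroup N).map N.subtype).Normal := Subgroup.normalizer_eq_top_iff.mp hnorm
    constructor
    intro n hn g
    have := h2.conj_mem (n : P) (Subgroup.mem_map_of_mem N.subtype hn) (g : P)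
    obtain ⟨y, hy, hyx⟩ := Subgroup.mem_map.mp this
    have : y = g * n * g⁻¹ := Subtype.ext (by simpa using hyx)
    exact this ▸ hy
  haveI := Sylow.unique_of_normal R0 hR0n
  have : R = R0 := Subsingleton.elim _ _
  exact this ▸ hR0n

/-- a perfect subgroup lies in `O^p`. -/
theorem perfect_le_pResidual {H : Subgroup P} (hH : ⁅H, H⁆ = H) : H ≤ Cfsg.pResidual p P := by
  haveI := Cfsg.Agent.Lib.Helper47.pResidual_normal p P
  have hpg : IsPGroup p (P ⧸ Cfsg.pResidual p P) :=
    Cfsg.Agent.Lib.Helper47.quotient_pResidual_isPGroup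
  haveI : Group.IsNilpotent (P ⧸ Cfsg.pResidual p P) := hpg.isNilpotent
  have hsolv : Group.IsSolvable (P ⧸ Cfsg.pResidual p P) := inferInstance
  obtain ⟨n, hn⟩ := hsolv
  have h1 : ∀ n, H ≤ derivedSeries P n := by
    intro n
    induction n with
    | zero => simp
    | succ n ih =>
      rw [derivedSeries_succ]
      calc H = ⁅H, H⁆ := hH.symm
        _ ≤ _ := Subgroup.commutator_mono ih ih
  have h2 := map_derivedSeries_le_derivedSeries (QuotientGroup.mk' (Cfsg.pResidual p P)) n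
  rw [hn] at h2
  intro x hx
  have : QuotientGroup.mk' (Cfsg.pResidual p P) x ∈ (⊥ : Subgroup (P ⧸ Cfsg.pResidual p P)) :=
    h2 (Subgroup.mem_map_of_mem _ (h1 n hx))
  rwa [Subgroup.mem_bot, QuotientGroup.mk'_apply, QuotientGroup.eq_one_iff] at this

/-- a component does not lie in a normal subgroup contained in `M`. -/
theorem component_not_le (hP : Cfsg.IsPMinimal p P) (hOp : Cfsg.pCore p P = ⊥)
    (S : Sylow p P) (M : Subgroup P)
    (hM : IsCoatom M) (hSM : (S : Subgroup P) ≤ M) (N : Subgroup P) [hN : N.Normal]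
    (hNM : N ≤ M) {K : Subgroup P} (hK : Cfsg.IsComponent K) : ¬ K ≤ N := by
  intro hKN
  have hnil := isNilpotent_of_normal_le hP hOp S M hM hSM N hNM
  have hKnil : Group.IsNilpotent K :=
    Cfsg.Agent.Lib.Helper22.isNilpotent_of_injective' (Subgroup.inclusion hKN)
      (Subgroup.inclusion_injective hKN) hnil
  exact Cfsg.Agent.Lib.Helper91.not_isSolvable_of_isQuasisimple hK.2 inferInstance

/-- the layer normalizes every component. -/
theorem layer_le_normalizer_component {K : Subgroup P} (hK : Cfsg.IsComponent K) :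
    Cfsg.layer P ≤ Subgroup.normalizer (K : Set P) := by
  unfold Cfsg.layer
  apply sSup_le
  intro K' hK'
  by_cases h : K' = K
  · rw [h]; exact Subgroup.le_normalizer
  · have hc := Cfsg.Agent.Lib.Helper91.component_commute_of_ne hK' hK h
    intro x hx
    apply Cfsg.Agent.Lib.Helper50.mem_normalizer_of_conj_mem
    intro y hy
    rw [hc x hx y hy]
    simpa using hy

theorem isComponent_conj_smul {K : Subgroup P} (hK : Cfsg.IsComponent K) (s : P) :
    Cfsg.IsComponent (MulAut.conj s • K) :=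
  Cfsg.Agent.Lib.Helper22.isComponent_map_equiv (MulAut.conj s) hK

/-- structure of a `p`-minimal group with `O_p = 1` having a component. -/
theorem structure_thm (hP : Cfsg.IsPMinimal p P) (hOp : Cfsg.pCore p P = ⊥)
    (S : Sylow p P) (M : Subgroup P)
    (hM : IsCoatom M) (hSM : (S : Subgroup P) ≤ M) {K : Subgroup P} (hK : Cfsg.IsComponent K) :
    Cfsg.pResidual p P = Cfsg.layer P ∧ Cfsg.layer P = conjJoin (S : Subgroup P) K ∧
      Cfsg.fittingSubgroup P ≤ Cfsg.pResidual p P := by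
  haveI hEn : (Cfsg.layer P).Normal := Cfsg.Agent.Lib.Helper22.layer_normal P
  have hcore_le : M.normalCore ≤ M := Subgroup.normalCore_le M
  have hKE : K ≤ Cfsg.layer P := Cfsg.Agent.Lib.Helper22.component_le_layer hK
  have hQE : Cfsg.pResidual p P ≤ Cfsg.layer P := by
    rcases residual_le_or_le_core hP S M hM hSM (Cfsg.layer P) hEn with h | h
    · exact h
    · exact absurd hKE (component_not_le hP hOp S M hM hSM (Cfsg.layer P) (h.trans hcore_le) hK)
  have hEQ : Cfsg.layer P ≤ Cfsg.pResidual p P := by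
    unfold Cfsg.layer
    apply sSup_le
    intro K' hK'
    exact perfect_le_pResidual (Cfsg.Agent.Lib.Helper22.component_perfect hK')
  have hLE : conjJoin (S : Subgroup P) K ≤ Cfsg.layer P := by
    apply conjJoin_le
    intro x hx l hl
    exact Cfsg.Agent.Lib.Helper22.component_le_layer (isComponent_conj_smul hK x)
      (mem_conj_smul_iff.mpr ⟨l, hl, rfl⟩)
  have hLn : (conjJoin (S : Subgroup P) K).Normal := by
    have h1 : Cfsg.layer P ≤ Subgroup.normalizer (conjJoin (S : Subgroup P) K : Set P) := by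
      intro g hg
      apply mem_normalizer_conjJoin
      intro x hx l hl
      have hgn := layer_le_normalizer_component (isComponent_conj_smul hK x) hg
      have hmem : x * l * x⁻¹ ∈ MulAut.conj x • K := mem_conj_smul_iff.mpr ⟨l, hl, rfl⟩
      have := (Subgroup.mem_normalizer_iff.mp hgn _).mp hmem
      obtain ⟨l', hl', h'⟩ := mem_conj_smul_iff.mp this
      rw [h']
      exact conj_mem_conjJoin hx hl'
    have h2 : (S : Subgroup P) ≤ Subgroup.normalizer (conjJoin (S : Subgroup P) K : Set P) := by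
      intro s hs
      apply mem_normalizer_conjJoin
      intro x hx l hl
      have := conj_mem_conjJoin (K := (S : Subgroup P)) (S.1.mul_mem hs hx) hl
      simpa [mul_assoc] using this
    rw [← Subgroup.normalizer_eq_top_iff, eq_top_iff,
      ← Cfsg.Agent.Lib.Helper47.pResidual_sup_sylow S]
    exact sup_le (hQE.trans h1) h2
  have hQL : Cfsg.pResidual p P ≤ conjJoin (S : Subgroup P) K := by
    rcases residual_le_or_le_core hP S M hM hSM _ hLn with h | h
    · exact h
    · exact absurd (le_conjJoin (S : Subgroup P) K)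
        (component_not_le hP hOp S M hM hSM _ (h.trans hcore_le) hK)
  have hFQ : Cfsg.fittingSubgroup P ≤ Cfsg.pResidual p P := by
    rw [Cfsg.Agent.Lib.Helper22.fittingSubgroup_eq_iSup_pCore]
    apply iSup_le
    intro r
    by_cases hrp : (r : ℕ) = p
    · rw [hrp, hOp]; exact bot_le
    · intro x hx
      apply Cfsg.Agent.Lib.Helper2.mem_pResidual_of_coprime
      haveI : Fact (r : ℕ).Prime := ⟨r.2⟩
      have hrg := isPGroup_pCore (r : ℕ) P
      obtain ⟨k, hk⟩ := hrg ⟨x, hx⟩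
      have hk' : x ^ ((r : ℕ) ^ k) = 1 := by
        have := congrArg Subtype.val hk
        simpa using this
      have hdvd : orderOf x ∣ (r : ℕ) ^ k := orderOf_dvd_of_pow_eq_one hk'
      exact Nat.Coprime.coprime_dvd_left hdvd
        (Nat.Coprime.pow_left k ((Nat.coprime_primes r.2 Fact.out).mpr hrp))
  exact ⟨le_antisymm hQE hEQ, le_antisymm (hEQ.trans hQL) hLE, hFQ⟩

omit [Finite P] in
theorem mem_normalizer_centralizer' {V : Subgroup P} {g : P}
    (hg : g ∈ Subgroup.normalizer (V : Set P)) :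
    g ∈ Subgroup.normalizer (Subgroup.centralizer (V : Set P) : Set P) := by
  have key : ∀ g ∈ Subgroup.normalizer (V : Set P), ∀ c ∈ Subgroup.centralizer (V : Set P),
      g * c * g⁻¹ ∈ Subgroup.centralizer (V : Set P) := by
    intro g hg c hc
    rw [Subgroup.mem_centralizer_iff]
    intro v hv
    have hv' : g⁻¹ * v * g ∈ V := by
      have := (Subgroup.mem_normalizer_iff.mp (inv_mem hg) v).mp hv
      simpa using this
    have := Subgroup.mem_centralizer_iff.mp hc _ hv'
    calc v * (g * c * g⁻¹) = g * ((g⁻¹ * v * g) * c) * g⁻¹ := by group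
      _ = g * (c * (g⁻¹ * v * g)) * g⁻¹ := by rw [this]
      _ = g * c * g⁻¹ * v := by group
  rw [Subgroup.mem_normalizer_iff]
  intro c
  constructor
  · exact key g hg c
  · intro h
    have := key g⁻¹ (inv_mem hg) _ h
    simpa [mul_assoc] using this

/-- the lifting argument: a subgroup containing `N_S(K)` but not `K` meets `K` inside `M`. -/
theorem lifting (hP : Cfsg.IsPMinimal p P) (hOp : Cfsg.pCore p P = ⊥)
    (S : Sylow p P) (M : Subgroup P)
    (hM : IsCoatom M) (hSM : (S : Subgroup P) ≤ M) {K : Subgroup P} (hK : Cfsg.IsComponent K)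
    (H : Subgroup P) (hSH : (S : Subgroup P) ⊓ Subgroup.normalizer (K : Set P) ≤ H)
    (hKH : ¬ K ≤ H) : H ⊓ K ≤ M := by
  obtain ⟨hQE, -, -⟩ := structure_thm hP hOp S M hM hSM hK
  have hSn : (S : Subgroup P) ≤ Subgroup.normalizer (conjJoin (S : Subgroup P) (H ⊓ K) : Set P) := by
    intro s hs
    apply mem_normalizer_conjJoin
    intro x hx l hl
    have := conj_mem_conjJoin (K := (S : Subgroup P)) (S.1.mul_mem hs hx) hl
    simpa [mul_assoc] using this
  by_contra hnot
  have htop : conjJoin (S : Subgroup P) (H ⊓ K) ⊔ (S : Subgroup P) = ⊤ := by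
    by_contra hne
    exact hnot ((le_conjJoin (S : Subgroup P) (H ⊓ K)).trans
      (le_sup_left.trans (le_of_ne_top hP S M hM hSM le_sup_right hne)))
  have hn : (conjJoin (S : Subgroup P) (H ⊓ K)).Normal := by
    rw [← Subgroup.normalizer_eq_top_iff, eq_top_iff, ← htop]
    exact sup_le Subgroup.le_normalizer hSn
  have hQ : Cfsg.pResidual p P ≤ conjJoin (S : Subgroup P) (H ⊓ K) :=
    Cfsg.Agent.Lib.Helper47.pResidual_le_of_sup_eq_top (S : Subgroup P) _ S.isPGroup'
      (by rw [sup_comm]; exact htop)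
  have hKle : K ≤ conjJoin (S : Subgroup P) (H ⊓ K) := by
    refine (Cfsg.Agent.Lib.Helper22.component_le_layer hK).trans ?_
    rw [← hQE]; exact hQ
  have hle2 : conjJoin (S : Subgroup P) (H ⊓ K) ≤ (H ⊓ K) ⊔ Subgroup.centralizer (K : Set P) := by
    apply conjJoin_le
    intro s hs l hl
    by_cases hsn : s ∈ Subgroup.normalizer (K : Set P)
    · apply le_sup_left (a := H ⊓ K)
      refine ⟨?_, ?_⟩
      · exact H.mul_mem (H.mul_mem (hSH ⟨hs, hsn⟩) hl.1) (H.inv_mem (hSH ⟨hs, hsn⟩))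
      · exact (Subgroup.mem_normalizer_iff.mp hsn l).mp hl.2
    · apply le_sup_right (b := Subgroup.centralizer (K : Set P))
      have hne : MulAut.conj s • K ≠ K := by
        intro heq
        apply hsn
        apply Cfsg.Agent.Lib.Helper50.mem_normalizer_of_conj_mem
        intro x hx
        have : s * x * s⁻¹ ∈ MulAut.conj s • K := mem_conj_smul_iff.mpr ⟨x, hx, rfl⟩
        rwa [heq] at this
      have hc := Cfsg.Agent.Lib.Helper91.component_commute_of_ne (isComponent_conj_smul hK s) hK hne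
      rw [Subgroup.mem_centralizer_iff]
      intro k hk
      exact (hc _ (mem_conj_smul_iff.mpr ⟨l, hl.2, rfl⟩) k hk).symm
  have hHKn : H ⊓ K ≤ Subgroup.normalizer (Subgroup.centralizer (K : Set P) : Set P) := by
    intro x hx
    exact mem_normalizer_centralizer' (Subgroup.le_normalizer hx.2)
  have hdecomp : ∀ k ∈ K, ∃ h ∈ H ⊓ K, ∃ z ∈ K ⊓ Subgroup.centralizer (K : Set P), k = h * z := by
    intro k hk
    obtain ⟨a, ha, c, hc, hac⟩ :=
      Cfsg.Agent.Lib.Helper85.mem_sup_of_le_normalizer hHKn (hle2 (hKle hk))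
    refine ⟨a, ha, c, ⟨?_, hc⟩, hac⟩
    have : c = a⁻¹ * k := by rw [hac]; group
    rw [this]
    exact K.mul_mem (K.inv_mem ha.2) hk
  have hcomm := Cfsg.Agent.Lib.Helper91.commutator_le_of_sup_center_eq_top (X := K)
    ((H ⊓ K).subgroupOf K) (by
      intro x
      obtain ⟨h, hh, z, hz, hx⟩ := hdecomp x x.2
      refine ⟨⟨h, hh.2⟩, by rw [Subgroup.mem_subgroupOf]; exact hh, ⟨z, hz.1⟩, ?_, Subtype.ext hx⟩
      rw [Subgroup.mem_center_iff]
      intro y
      apply Subtype.ext
      exact Subgroup.mem_centralizer_iff.mp hz.2 y y.2)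
  have hperf : commutator K = ⊤ := hK.2.1.commutator_eq_top
  rw [hperf] at hcomm
  apply hKH
  intro k hk
  have := hcomm (Subgroup.mem_top (⟨k, hk⟩ : K))
  rw [Subgroup.mem_subgroupOf] at this
  exact this.1

theorem component_not_le_M (hP : Cfsg.IsPMinimal p P) (hOp : Cfsg.pCore p P = ⊥)
    (S : Sylow p P) (M : Subgroup P)
    (hM : IsCoatom M) (hSM : (S : Subgroup P) ≤ M) {K : Subgroup P} (hK : Cfsg.IsComponent K) :
    ¬ K ≤ M := by
  intro hKM
  obtain ⟨hQE, hEL, -⟩ := structure_thm hP hOp S M hM hSM hK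
  have h1 : conjJoin (S : Subgroup P) K ≤ M :=
    conjJoin_le (fun x hx l hl => M.mul_mem (M.mul_mem (hSM hx) (hKM hl)) (M.inv_mem (hSM hx)))
  apply hM.1
  rw [eq_top_iff, ← Cfsg.Agent.Lib.Helper47.pResidual_sup_sylow S, hQE, hEL]
  exact sup_le h1 hSM

/-- proper subgroups of `K N_S(K)` containing `N_S(K)` lie in `M`. -/
theorem proper_le (hP : Cfsg.IsPMinimal p P) (hOp : Cfsg.pCore p P = ⊥)
    (S : Sylow p P) (M : Subgroup P)
    (hM : IsCoatom M) (hSM : (S : Subgroup P) ≤ M) {K : Subgroup P} (hK : Cfsg.IsComponent K)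
    (H : Subgroup P)
    (hHle : H ≤ K ⊔ ((S : Subgroup P) ⊓ Subgroup.normalizer (K : Set P)))
    (hSH : (S : Subgroup P) ⊓ Subgroup.normalizer (K : Set P) ≤ H)
    (hne : H ≠ K ⊔ ((S : Subgroup P) ⊓ Subgroup.normalizer (K : Set P))) : H ≤ M := by
  have hKH : ¬ K ≤ H := fun h => hne (le_antisymm hHle (sup_le h hSH))
  have h1 := lifting hP hOp S M hM hSM hK H hSH hKH
  intro h hh
  obtain ⟨a, ha, c, hc, rfl⟩ := Cfsg.Agent.Lib.Helper85.mem_sup_of_le_normalizer
    (inf_le_right : (S : Subgroup P) ⊓ Subgroup.normalizer (K : Set P) ≤ Subgroup.normalizer (K : Set P))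
    (by rw [sup_comm]; exact hHle hh)
  have hcH : c ∈ H := by
    have : c = a⁻¹ * (a * c) := by group
    rw [this]
    exact H.mul_mem (H.inv_mem (hSH ha)) hh
  exact M.mul_mem (hSM ha.1) (h1 ⟨hcH, hc⟩)

omit [Finite P] in
/-- commutators in `⟨x⟩ N` lie in `N` when `x` normalizes `N`. -/
theorem commutator_mem_of_zpowers_sup {N : Subgroup P} {x : P}
    (hx : x ∈ Subgroup.normalizer (N : Set P)) {a b : P}
    (ha : a ∈ Subgroup.zpowers x ⊔ N) (hb : b ∈ Subgroup.zpowers x ⊔ N) : ⁅a, b⁆ ∈ N := by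
  have hz : Subgroup.zpowers x ≤ Subgroup.normalizer (N : Set P) :=
    (Subgroup.zpowers_le).mpr hx
  obtain ⟨u, hu, n, hn, rfl⟩ := Cfsg.Agent.Lib.Helper85.mem_sup_of_le_normalizer hz ha
  obtain ⟨v, hv, m, hm, rfl⟩ := Cfsg.Agent.Lib.Helper85.mem_sup_of_le_normalizer hz hb
  have hc : u * v = v * u := by
    obtain ⟨i, rfl⟩ := Subgroup.mem_zpowers_iff.mp hu
    obtain ⟨j, rfl⟩ := Subgroup.mem_zpowers_iff.mp hv
    exact (Commute.zpow_zpow (Commute.refl x) i j).eq
  have e : ⁅u * n, v * m⁆ = (u * n * u⁻¹) * ((u * v) * (m * n⁻¹) * (u * v)⁻¹) *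
      (u * v * u⁻¹ * m⁻¹ * v⁻¹) := by
    rw [commutatorElement_def]; group
  have e2 : u * v * u⁻¹ = v := by rw [hc]; group
  rw [e, e2]
  have h1 : u * n * u⁻¹ ∈ N := (Subgroup.mem_normalizer_iff.mp (hz hu) n).mp hn
  have h2 : (u * v) * (m * n⁻¹) * (u * v)⁻¹ ∈ N :=
    (Subgroup.mem_normalizer_iff.mp ((Subgroup.normalizer (N : Set P)).mul_mem (hz hu) (hz hv)) _).mp
      (N.mul_mem hm (N.inv_mem hn))
  have h3 : v * m⁻¹ * v⁻¹ ∈ N := (Subgroup.mem_normalizer_iff.mp (hz hv) _).mp (N.inv_mem hm)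
  exact N.mul_mem (N.mul_mem h1 h2) h3

/-- `N_S(K)` is not normal in `K N_S(K)`. -/
theorem not_le_normalizer (hP : Cfsg.IsPMinimal p P) (hOp : Cfsg.pCore p P = ⊥)
    (S : Sylow p P) (M : Subgroup P)
    (hM : IsCoatom M) (hSM : (S : Subgroup P) ≤ M) {K : Subgroup P} (hK : Cfsg.IsComponent K) :
    ¬ K ≤ Subgroup.normalizer (((S : Subgroup P) ⊓ Subgroup.normalizer (K : Set P) : Subgroup P) : Set P) := by
  intro hn
  obtain ⟨x, hxK, hxM⟩ := SetLike.not_le_iff_exists.mp (component_not_le_M hP hOp S M hM hSM hK)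
  have hH : Subgroup.zpowers x ⊔ ((S : Subgroup P) ⊓ Subgroup.normalizer (K : Set P)) =
      K ⊔ ((S : Subgroup P) ⊓ Subgroup.normalizer (K : Set P)) := by
    by_contra hne
    have := proper_le hP hOp S M hM hSM hK _
      (sup_le ((Subgroup.zpowers_le).mpr (le_sup_left (a := K) hxK)) le_sup_right) le_sup_right hne
    exact hxM (this (le_sup_left (a := Subgroup.zpowers x) (Subgroup.mem_zpowers x)))
  have hcomm : ⁅K, K⁆ ≤ (S : Subgroup P) ⊓ Subgroup.normalizer (K : Set P) := by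
    rw [Subgroup.commutator_le]
    intro a ha b hb
    have haH : a ∈ Subgroup.zpowers x ⊔ ((S : Subgroup P) ⊓ Subgroup.normalizer (K : Set P)) := by
      rw [hH]; exact le_sup_left (a := K) ha
    have hbH : b ∈ Subgroup.zpowers x ⊔ ((S : Subgroup P) ⊓ Subgroup.normalizer (K : Set P)) := by
      rw [hH]; exact le_sup_left (a := K) hb
    exact commutator_mem_of_zpowers_sup (hn hxK) haH hbH
  rw [Cfsg.Agent.Lib.Helper22.component_perfect hK] at hcomm
  have hKp : IsPGroup p K := S.isPGroup'.to_le (hcomm.trans inf_le_left)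
  haveI : Group.IsNilpotent K := hKp.isNilpotent
  exact Cfsg.Agent.Lib.Helper91.not_isSolvable_of_isQuasisimple hK.2 inferInstance

/-- it suffices to check the defining property of `p`-minimality for one Sylow subgroup. -/
theorem isPMinimal_of_one {H : Type*} [Group H] [Finite H] (S0 : Sylow p H)
    (hn : ¬ (S0 : Subgroup H).Normal)
    (hu : ∃! M0 : Subgroup H, IsCoatom M0 ∧ (S0 : Subgroup H) ≤ M0) : Cfsg.IsPMinimal p H := by
  intro S1
  obtain ⟨g, hg⟩ := MulAction.exists_smul_eq H S0 S1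
  refine ⟨?_, ?_⟩
  · intro h1
    haveI := Sylow.unique_of_normal S1 h1
    have : S0 = S1 := Subsingleton.elim _ _
    exact hn (this ▸ h1)
  · obtain ⟨M0, ⟨hM0, hS0M0⟩, huniq⟩ := hu
    let e : Subgroup H ≃o Subgroup H := MulEquiv.mapSubgroup (MulAut.conj g : H ≃* H)
    have hS1 : (S1 : Subgroup H) = e (S0 : Subgroup H) := by
      rw [← hg, Sylow.coe_subgroup_smul]
      rfl
    refine ⟨e M0, ⟨(e.isCoatom_iff M0).mpr hM0, ?_⟩, ?_⟩
    · rw [hS1]; exact e.monotone hS0M0
    · rintro M' ⟨hM', hS1M'⟩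
      have h1 : IsCoatom (e.symm M') := (e.symm.isCoatom_iff M').mpr hM'
      have h2 : (S0 : Subgroup H) ≤ e.symm M' := by
        rw [hS1] at hS1M'
        have := e.symm.monotone hS1M'
        simpa using this
      have := huniq (e.symm M') ⟨h1, h2⟩
      rw [← this]
      simp

/-- part 4: `K N_S(K)` is `p`-minimal. -/
theorem isPMinimal_component (hP : Cfsg.IsPMinimal p P) (hOp : Cfsg.pCore p P = ⊥)
    (S : Sylow p P) {K : Subgroup P} (hK : Cfsg.IsComponent K) :
    Cfsg.IsPMinimal p ↥(K ⊔ ((S : Subgroup P) ⊓ Subgroup.normalizer (K : Set P))) := by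
  obtain ⟨M, ⟨hM, hSM⟩, -⟩ := (hP S).2
  obtain ⟨SK, hSK⟩ : ∃ SK : Subgroup P, SK = (S : Subgroup P) ⊓ Subgroup.normalizer (K : Set P) :=
    ⟨_, rfl⟩
  rw [← hSK]
  have hSKle : SK ≤ K ⊔ SK := le_sup_right
  have hSKn : SK ≤ Subgroup.normalizer (K : Set P) := hSK ▸ inf_le_right
  -- the Sylow subgroup
  have hpg : IsPGroup p (SK.subgroupOf (K ⊔ SK)) := by
    have : IsPGroup p SK := S.isPGroup'.to_le (hSK ▸ inf_le_left)
    exact this.comap_subtype
  have hidx : ¬ p ∣ (SK.subgroupOf (K ⊔ SK)).index := by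
    have h1 := Cfsg.Agent.Lib.Helper32.relIndex_sup_eq_inf_relIndex (P := SK) (R := K) hSKn
    have h2 : (SK ⊓ K).relIndex K = (S : Subgroup P).relIndex K := by
      have : SK ⊓ K = (S : Subgroup P) ⊓ K := by
        rw [hSK, inf_assoc, inf_eq_right.mpr (Subgroup.le_normalizer (H := K))]
      rw [this, Subgroup.inf_relIndex_right]
    have h3 : (SK.subgroupOf (K ⊔ SK)).index = (S : Subgroup P).relIndex K := by
      rw [← h2, ← h1, sup_comm]; rfl
    rw [h3]
    exact Cfsg.Agent.Lib.Helper9.not_dvd_relIndex_of_isSubnormal p S hK.1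
  obtain ⟨S0, hS0⟩ : ∃ S0 : Sylow p ↥(K ⊔ SK), (S0 : Subgroup ↥(K ⊔ SK)) = SK.subgroupOf (K ⊔ SK) :=
    ⟨hpg.toSylow hidx, IsPGroup.toSylow_coe _ _⟩
  -- proper subgroups
  have hsub : ∀ H' : Subgroup ↥(K ⊔ SK), SK.subgroupOf (K ⊔ SK) ≤ H' → H' ≠ ⊤ →
      H' ≤ M.subgroupOf (K ⊔ SK) := by
    intro H' hS' hne
    have h1 : H'.map (K ⊔ SK).subtype ≤ K ⊔ SK := Subgroup.map_subtype_le _
    have h2 : SK ≤ H'.map (K ⊔ SK).subtype := by
      intro s hs
      exact Subgroup.mem_map.mpr ⟨⟨s, hSKle hs⟩, hS' (by rw [Subgroup.mem_subgroupOf]; exact hs), rfl⟩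
    have h3 : H'.map (K ⊔ SK).subtype ≠ K ⊔ SK := by
      intro heq
      apply hne
      rw [eq_top_iff]
      intro y _
      have : (y : P) ∈ H'.map (K ⊔ SK).subtype := by rw [heq]; exact y.2
      obtain ⟨z, hz, hzy⟩ := Subgroup.mem_map.mp this
      have : z = y := Subtype.ext hzy
      exact this ▸ hz
    have h4 := proper_le hP hOp S M hM hSM hK (H'.map (K ⊔ SK).subtype)
      (hSK ▸ h1) (hSK ▸ h2) (hSK ▸ h3)
    intro y hy
    rw [Subgroup.mem_subgroupOf]
    exact h4 (Subgroup.mem_map_of_mem _ hy)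
  have hM0ne : M.subgroupOf (K ⊔ SK) ≠ ⊤ := by
    intro h
    rw [Subgroup.subgroupOf_eq_top] at h
    exact component_not_le_M hP hOp S M hM hSM hK (le_sup_left.trans h)
  have hS0M0 : SK.subgroupOf (K ⊔ SK) ≤ M.subgroupOf (K ⊔ SK) := by
    intro y hy
    rw [Subgroup.mem_subgroupOf] at hy ⊢
    have hSKS : SK ≤ (S : Subgroup P) := by rw [hSK]; exact inf_le_left
    exact hSM (hSKS hy)
  apply isPMinimal_of_one S0
  · rw [hS0, Subgroup.normal_subgroupOf_iff_le_normalizer hSKle]
    intro hle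
    exact not_le_normalizer hP hOp S M hM hSM hK (hSK ▸ (le_sup_left.trans hle))
  · refine ⟨M.subgroupOf (K ⊔ SK), ⟨⟨hM0ne, ?_⟩, hS0 ▸ hS0M0⟩, ?_⟩
    · intro H' hlt
      by_contra hne
      exact absurd (hsub H' (hS0M0.trans hlt.le) hne) (not_le_of_gt hlt)
    · rintro M'' ⟨hM'', hS0M''⟩
      rw [hS0] at hS0M''
      have hle := hsub M'' hS0M'' hM''.1
      by_contra hne
      exact hM0ne (hM''.2 _ (lt_of_le_of_ne hle hne))

end Cfsg.Agent.Lib.Helper48.PMin
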