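import Mathlib
import Cfsg.Prelude.Def_Local
import Cfsg.Prelude.Def_LocalEven
import Cfsg.Agent.Lib.Helper48.PMinimalComp
import Cfsg.Agent.Lib.Helper47.PIrr
import Cfsg.Agent.Lib.Helper47.Sylow
import Cfsg.Agent.Lib.Helper87.HypAct
import Cfsg.Agent.Lib.Helper48.PCore
import Cfsg.Agent.Lib.Helper46.Subnormal

set_option autoImplicit false
set_option linter.unusedSectionVars false
set_option linter.style.haveILetI false
set_option linter.deprecated false
set_option linter.unusedVariables false

/-!
# Isolated `p`-minimal subgroups: generation and the basic dichotomy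
-/

namespace Cfsg.Agent.Lib.Helper48.Iso

open Subgroup

variable {G : Type*} [Group G] [Finite G] {p : ℕ} [Fact p.Prime]

/-- a finite group containing the Sylow subgroup `S` is generated by `N_H(S)` and the
`p`-minimal subgroups of `H` containing `S`. -/
theorem gen (S : Sylow p G) (T : Subgroup G) :
    ∀ n : ℕ, ∀ H : Subgroup G, Nat.card H = n → (S : Subgroup G) ≤ H →
      H ⊓ normalizer ((S : Subgroup G) : Set G) ≤ T →
      (∀ P' : Subgroup G, (S : Subgroup G) ≤ P' → P' ≤ H → Cfsg.IsPMinimal p ↥P' → P' ≤ T) →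
      H ≤ T := by
  intro n
  induction n using Nat.strong_induction_on with
  | _ n ih =>
  intro H hn hSH hN hP
  set S' : Sylow p ↥H := S.subtype hSH with hS'
  have hS'c : (S' : Subgroup ↥H) = (S : Subgroup G).subgroupOf H := Sylow.coe_subtype _ hSH
  by_cases hnorm : (S' : Subgroup ↥H).Normal
  · have h1 : H ≤ normalizer ((S : Subgroup G) : Set G) := by
      rw [hS'c] at hnorm
      exact (normal_subgroupOf_iff_le_normalizer hSH).mp hnorm
    exact (le_inf le_rfl h1).trans hN
  · by_cases huniq : ∃! M : Subgroup ↥H, IsCoatom M ∧ (S' : Subgroup ↥H) ≤ M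
    · exact hP H hSH le_rfl (PMin.isPMinimal_of_one S' hnorm huniq)
    · -- two distinct coatoms
      have hne : (S' : Subgroup ↥H) ≠ ⊤ := by
        intro h
        apply hnorm
        rw [h]
        infer_instance
      obtain ⟨M₁, hM₁, hSM₁⟩ := (eq_top_or_exists_le_coatom (S' : Subgroup ↥H)).resolve_left hne
      have : ∃ M₂ : Subgroup ↥H, IsCoatom M₂ ∧ (S' : Subgroup ↥H) ≤ M₂ ∧ M₂ ≠ M₁ := by
        by_contra hcon
        push Not at hcon
        exact huniq ⟨M₁, ⟨hM₁, hSM₁⟩, fun M hM => hcon M hM.1 hM.2⟩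
      obtain ⟨M₂, hM₂, hSM₂, hne12⟩ := this
      have hsub : ∀ M : Subgroup ↥H, IsCoatom M → (S' : Subgroup ↥H) ≤ M →
          M.map H.subtype ≤ T := by
        intro M hM hSM
        have hlt : M.map H.subtype < H := by
          have h1 : M.map H.subtype ≤ H := by
            rintro _ ⟨m, _, rfl⟩
            exact m.2
          refine lt_of_le_of_ne h1 ?_
          intro h2
          apply hM.1
          rw [eq_top_iff]
          intro x _
          have : (x : G) ∈ M.map H.subtype := by rw [h2]; exact x.2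
          obtain ⟨m, hm, hmx⟩ := this
          have : m = x := Subtype.ext hmx
          exact this ▸ hm
        have hcard : Nat.card (M.map H.subtype : Subgroup G) < n := by
          rw [← hn]
          by_contra hge
          push Not at hge
          exact hlt.ne (Subgroup.eq_of_le_of_card_ge hlt.le hge)
        have hSle : (S : Subgroup G) ≤ M.map H.subtype := by
          intro s hs
          have : (⟨s, hSH hs⟩ : ↥H) ∈ (S' : Subgroup ↥H) := by
            rw [hS'c, mem_subgroupOf]
            exact hs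
          exact ⟨⟨s, hSH hs⟩, hSM this, rfl⟩
        exact ih _ hcard _ rfl hSle ((inf_le_inf_right _ hlt.le).trans hN)
          (fun P' h1 h2 h3 => hP P' h1 (h2.trans hlt.le) h3)
      have htop : M₁ ⊔ M₂ = ⊤ := by
        by_contra h
        have h1 : M₁ ⊔ M₂ = M₁ := by
          by_contra h2
          exact h (hM₁.2 _ (lt_of_le_of_ne le_sup_left (Ne.symm h2)))
        have h2 : M₂ ≤ M₁ := by rw [← h1]; exact le_sup_right
        rcases eq_or_lt_of_le h2 with h3 | h3
        · exact hne12 h3
        · exact hM₁.1 (hM₂.2 _ h3)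
      have : H = (M₁ ⊔ M₂).map H.subtype := by
        rw [htop, ← MonoidHom.range_eq_map, Subgroup.range_subtype]
      rw [this, Subgroup.map_sup]
      exact sup_le (hsub M₁ hM₁ hSM₁) (hsub M₂ hM₂ hSM₂)

section Dich

variable (S : Sylow p G) (P L : Subgroup G)
  (hL : L = normalizer ((S : Subgroup G) : Set G) ⊔
    ⨆ P' : {P' : Subgroup G // (S : Subgroup G) ≤ P' ∧ Cfsg.IsPMinimal p ↥P' ∧ P' ≠ P},
      (P' : Subgroup G))

include hL

theorem normalizer_le : normalizer ((S : Subgroup G) : Set G) ≤ L := by
  rw [hL]; exact le_sup_left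

theorem sylow_le : (S : Subgroup G) ≤ L := le_normalizer.trans (normalizer_le S P L hL)

theorem pmin_le {P' : Subgroup G} (h1 : (S : Subgroup G) ≤ P') (h2 : Cfsg.IsPMinimal p ↥P')
    (h3 : P' ≠ P) : P' ≤ L := by
  rw [hL]
  refine le_trans ?_ le_sup_right
  exact le_iSup (fun P' : {P' : Subgroup G // (S : Subgroup G) ≤ P' ∧ Cfsg.IsPMinimal p ↥P' ∧
    P' ≠ P} => (P' : Subgroup G)) ⟨P', h1, h2, h3⟩

/-- a subgroup containing `S` contains `P` or lies in `L`. -/
theorem dich (H : Subgroup G) (hSH : (S : Subgroup G) ≤ H) : P ≤ H ∨ H ≤ L := by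
  by_cases hPH : P ≤ H
  · exact Or.inl hPH
  · right
    refine gen S L _ H rfl hSH (inf_le_right.trans (normalizer_le S P L hL)) ?_
    intro P' h1 h2 h3
    apply pmin_le S P L hL h1 h3
    rintro rfl
    exact hPH h2

/-- an `S`-invariant subgroup contains `O^p(P)` or lies in `L`. -/
theorem dich' (X : Subgroup G) (hSX : (S : Subgroup G) ≤ normalizer (X : Set G)) :
    (Cfsg.pResidual p ↥P).map P.subtype ≤ X ∨ X ≤ L := by
  rcases dich S P L hL ((S : Subgroup G) ⊔ X) le_sup_left with h | h
  · left
    set K := (S : Subgroup G) ⊔ X with hK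
    haveI : (X.subgroupOf K).Normal := normal_subgroupOf_sup_of_le_normalizer hSX
    have hT : IsPGroup p ((S : Subgroup G).subgroupOf K) :=
      S.isPGroup'.comap_of_injective K.subtype K.subtype_injective
    have htop : (S : Subgroup G).subgroupOf K ⊔ X.subgroupOf K = ⊤ := by
      rw [← Subgroup.subgroupOf_sup le_sup_left le_sup_right]
      exact Subgroup.subgroupOf_self _
    have hres := Cfsg.Agent.Lib.Helper47.pResidual_le_of_sup_eq_top _ _ hT htop
    rw [Subgroup.map_le_iff_le_comap]
    unfold Cfsg.pResidual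
    rw [Subgroup.closure_le]
    intro g hg
    have hg' : Nat.Coprime (orderOf g) p := hg
    rw [SetLike.mem_coe, Subgroup.mem_comap]
    have hgK : (g : G) ∈ K := h g.2
    have h1 : (g : G) ∈ (Cfsg.pResidual p ↥K).map K.subtype :=
      Cfsg.Agent.Lib.Helper87.mem_map_pResidual hgK (by rw [Subgroup.orderOf_coe]; exact hg')
    obtain ⟨k, hk, hkg⟩ := h1
    have := hres hk
    rw [Subgroup.mem_subgroupOf] at this
    have hkg' : (k : G) = (g : G) := hkg
    show (g : G) ∈ X
    rw [← hkg']
    exact this
  · right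
    exact le_sup_right.trans h

end Dich

end Cfsg.Agent.Lib.Helper48.Iso
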