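import Mathlib
import Cfsg.Prelude.Def_Local
import Cfsg.Prelude.Def_LocalEven
import Cfsg.Agent.Lib.Helper48.PCore
import Cfsg.Agent.Lib.Helper46.Subnormal
import Cfsg.Agent.Lib.Helper24.Coprime
import Cfsg.Agent.Lib.Helper24.AbelianQuot
import Cfsg.Agent.Lib.Helper24.Omega1
import Cfsg.Agent.Lib.Helper48.MaschkeAmb
import Cfsg.Agent.Lib.Helper58.Mazurov

set_option autoImplicit false
set_option linter.unusedSectionVars false
set_option linter.style.haveILetI false
set_option linter.deprecated false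
set_option linter.unusedVariables false

/-!
# Isolated `p`-minimal subgroups: the abstract configuration modulo `O_p(Y)`
-/

namespace Cfsg.Agent.Lib.Helper48.Iso

open Subgroup
open scoped commutatorElement

universe u

variable {G : Type u} [Group G]

/-- commutators are contained in a subgroup normalized by the other. -/
theorem commutator_le_of_le_normalizer' {K A : Subgroup G} (h : A ≤ normalizer (K : Set G)) :
    ⁅K, A⁆ ≤ K := by
  rw [Subgroup.commutator_le]
  intro k hk a ha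
  have h1 : a * k⁻¹ * a⁻¹ ∈ K :=
    (Subgroup.mem_normalizer_iff.mp (h ha) k⁻¹).mp (K.inv_mem hk)
  have : ⁅k, a⁆ = k * (a * k⁻¹ * a⁻¹) := by
    rw [commutatorElement_def]; group
  rw [this]
  exact K.mul_mem hk h1

/-- the abstract configuration. -/
structure Ctx (p : ℕ) (S L R O Y : Subgroup G) : Prop where
  hS : IsPGroup p S
  hSL : S ≤ L
  hRS : R ≤ S
  hLR : L ≤ normalizer (R : Set G)
  hSO : S ≤ normalizer (O : Set G)
  hgen : L ⊔ O = ⊤
  hY : Y = normalClosure (O : Set G)
  hdich : ∀ X : Subgroup G, S ≤ normalizer (X : Set G) → O ≤ X ∨ X ≤ L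
  hOp : Cfsg.pCore p G ⊓ Y = ⊥
  hYR : ¬ R ≤ centralizer (Y : Set G)

namespace Ctx

variable [Finite G] {p : ℕ} [Fact p.Prime] {S L R O Y : Subgroup G}

theorem hYn (h : Ctx p S L R O Y) : Y.Normal := by
  rw [h.hY]; infer_instance

theorem hOY (h : Ctx p S L R O Y) : O ≤ Y := by
  rw [h.hY]; exact Subgroup.le_normalClosure

theorem hR (h : Ctx p S L R O Y) : IsPGroup p R := h.hS.to_le h.hRS

/-- a normal subgroup containing `O` contains `Y`. -/
theorem Y_le (h : Ctx p S L R O Y) {N : Subgroup G} (hN : N.Normal) (hON : O ≤ N) : Y ≤ N := by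
  rw [h.hY]
  exact Subgroup.normalClosure_le_normal hON

/-- a subnormal `p`-subgroup inside `Y` is trivial. -/
theorem eq_bot_of_subnormal (h : Ctx p S L R O Y) {K H : Subgroup G} (hK : K.IsSubnormal)
    (hHK : H ≤ K) (hn : (H.subgroupOf K).Normal) (hp : IsPGroup p H) (hHY : H ≤ Y) : H = ⊥ := by
  have h1 := Cfsg.Agent.Lib.Helper46.subnormal_pGroup_aux K hK H hHK hn hp
  rw [eq_bot_iff, ← h.hOp]
  exact le_inf h1 hHY

/-- a subgroup of `L` containing `R` which is normal in `G` does not exist. -/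
theorem not_le_L (h : Ctx p S L R O Y) {D : Subgroup G} (hD : D.Normal) (hRD : R ≤ D)
    (hDL : D ≤ L) : False := by
  haveI := h.hYn
  have hn : (R.subgroupOf D).Normal := normal_subgroupOf_of_le_normalizer (hDL.trans h.hLR)
  have h1 : R ≤ Cfsg.pCore p G :=
    Cfsg.Agent.Lib.Helper46.subnormal_pGroup_aux D hD.isSubnormal R hRD hn h.hR
  apply h.hYR
  rw [← Subgroup.commutator_eq_bot_iff_le_centralizer, eq_bot_iff, ← h.hOp]
  apply le_inf
  · exact (Subgroup.commutator_mono h1 le_rfl).trans (Subgroup.commutator_le_left _ _)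
  · exact Subgroup.commutator_le_right _ _

/-- proper normal subgroups of `G` inside `Y` lie in `L` and are centralized by `R` and `Y`. -/
theorem proper_normal (h : Ctx p S L R O Y) {N : Subgroup G} (hN : N.Normal) (hNY : N ≤ Y)
    (hne : N ≠ Y) : N ≤ L ∧ R ≤ centralizer (N : Set G) ∧ Y ≤ centralizer (N : Set G) := by
  haveI := hN
  have hON : ¬ O ≤ N := fun hON => hne (le_antisymm hNY (h.Y_le hN hON))
  have hNL : N ≤ L := by
    refine (h.hdich N ?_).resolve_left hON
    rw [Subgroup.normalizer_eq_top_iff.mpr hN]; exact le_top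
  have hRN : R ≤ centralizer (N : Set G) := by
    rw [← Subgroup.commutator_eq_bot_iff_le_centralizer]
    have h1 : ⁅R, N⁆ ≤ N ⊓ R :=
      le_inf (Subgroup.commutator_le_right _ _) (commutator_le_of_le_normalizer' (hNL.trans h.hLR))
    have h2 : N ⊓ R = ⊥ := by
      apply h.eq_bot_of_subnormal hN.isSubnormal inf_le_left ?_ (h.hR.to_le inf_le_right)
        (inf_le_left.trans hNY)
      rw [Subgroup.inf_subgroupOf_left]
      exact normal_subgroupOf_of_le_normalizer (hNL.trans h.hLR)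
    rw [eq_bot_iff, ← h2]
    exact h1
  refine ⟨hNL, hRN, ?_⟩
  have hDn : (centralizer (N : Set G)).Normal := inferInstance
  have hS' : S ≤ normalizer ((centralizer (N : Set G) : Subgroup G) : Set G) := by
    rw [Subgroup.normalizer_eq_top_iff.mpr hDn]; exact le_top
  rcases h.hdich _ hS' with h1 | h1
  · exact h.Y_le hDn h1
  · exact (h.not_le_L hDn hRN h1).elim

/-- `Y ≠ ⊥`. -/
theorem Y_ne_bot (h : Ctx p S L R O Y) : Y ≠ ⊥ := by
  intro hY
  apply h.hYR
  rw [hY]
  intro r _
  rw [Subgroup.mem_centralizer_iff]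
  intro y hy
  rw [SetLike.mem_coe, Subgroup.mem_bot] at hy
  rw [hy]; simp

/-- if `Y` is solvable then `[Y, Y]` is centralized by `Y` and `R`. -/
theorem solvable_class_two (h : Ctx p S L R O Y) (hsol : Group.IsSolvable ↥Y) :
    Y ≤ centralizer ((⁅Y, Y⁆ : Subgroup G) : Set G) ∧
      R ≤ centralizer ((⁅Y, Y⁆ : Subgroup G) : Set G) := by
  haveI := h.hYn
  haveI : Nontrivial ↥Y := by
    rw [Subgroup.nontrivial_iff_ne_bot]
    exact h.Y_ne_bot
  have h1 : commutator ↥Y < ⊤ := IsSolvable.commutator_lt_top_of_nontrivial ↥Y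
  have h2 : (⁅Y, Y⁆ : Subgroup G) = (commutator ↥Y).map Y.subtype :=
    (Subgroup.map_subtype_commutator Y).symm
  have hle : (⁅Y, Y⁆ : Subgroup G) ≤ Y := Subgroup.commutator_le_left _ _
  have hne : (⁅Y, Y⁆ : Subgroup G) ≠ Y := by
    intro heq
    apply h1.ne
    rw [eq_top_iff]
    intro y _
    have : (y : G) ∈ (commutator ↥Y).map Y.subtype := by
      rw [← h2, heq]; exact y.2
    obtain ⟨z, hz, hzy⟩ := this
    have : z = y := Subtype.ext hzy
    exact this ▸ hz
  have := h.proper_normal (inferInstance : (⁅Y, Y⁆ : Subgroup G).Normal) hle hne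
  exact ⟨this.2.2, this.2.1⟩

end Ctx

/-- a subgroup normalizing `A` and `B` normalizes `[A, B]`. -/
theorem le_normalizer_commutator'' {A B X : Subgroup G} (hA : X ≤ normalizer (A : Set G))
    (hB : X ≤ normalizer (B : Set G)) : X ≤ normalizer ((⁅A, B⁆ : Subgroup G) : Set G) := by
  apply Cfsg.Agent.Lib.Helper46.le_normalizer_of_conj_mem
  intro x hx c hc
  have hmapA : A.map (MulAut.conj x).toMonoidHom = A := by
    ext y
    constructor
    · rintro ⟨a, ha, rfl⟩
      exact (Subgroup.mem_normalizer_iff.mp (hA hx) a).mp ha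
    · intro hy
      refine ⟨x⁻¹ * y * x, ?_, by simp [mul_assoc]⟩
      apply (Subgroup.mem_normalizer_iff.mp (hA hx) _).mpr
      have : x * (x⁻¹ * y * x) * x⁻¹ = y := by group
      rw [this]; exact hy
  have hmapB : B.map (MulAut.conj x).toMonoidHom = B := by
    ext y
    constructor
    · rintro ⟨a, ha, rfl⟩
      exact (Subgroup.mem_normalizer_iff.mp (hB hx) a).mp ha
    · intro hy
      refine ⟨x⁻¹ * y * x, ?_, by simp [mul_assoc]⟩
      apply (Subgroup.mem_normalizer_iff.mp (hB hx) _).mpr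
      have : x * (x⁻¹ * y * x) * x⁻¹ = y := by group
      rw [this]; exact hy
  have h1 : (⁅A, B⁆ : Subgroup G).map (MulAut.conj x).toMonoidHom = ⁅A, B⁆ := by
    rw [Subgroup.map_commutator, hmapA, hmapB]
  rw [← h1]
  exact ⟨c, hc, by simp⟩

namespace Ctx

variable [Finite G] {p : ℕ} [Fact p.Prime] {S L R O Y : Subgroup G}

/-- in the nilpotent case `Y` is a `p'`-group. -/
theorem not_dvd_card (h : Ctx p S L R O Y) (hnil : Group.IsNilpotent ↥Y) : ¬ p ∣ Nat.card Y := by
  intro hdvd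
  haveI := h.hYn
  obtain ⟨T⟩ : Nonempty (Sylow p ↥Y) := inferInstance
  have hTn : (T : Subgroup ↥Y).Normal := inferInstance
  have hne : (T : Subgroup ↥Y) ≠ ⊥ := T.ne_bot_of_dvd_card hdvd
  have h1 : (T : Subgroup ↥Y).map Y.subtype = ⊥ := by
    apply h.eq_bot_of_subnormal h.hYn.isSubnormal (K := Y)
    · rintro _ ⟨y, _, rfl⟩; exact y.2
    · have : ((T : Subgroup ↥Y).map Y.subtype).subgroupOf Y = (T : Subgroup ↥Y) :=
        Subgroup.comap_map_eq_self_of_injective Y.subtype_injective _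
      rw [this]; exact hTn
    · exact T.isPGroup'.map _
    · rintro _ ⟨y, _, rfl⟩; exact y.2
  apply hne
  rw [eq_bot_iff]
  intro y hy
  have : (y : G) ∈ (T : Subgroup ↥Y).map Y.subtype := ⟨y, hy, rfl⟩
  rw [h1, Subgroup.mem_bot] at this
  rw [Subgroup.mem_bot]
  exact Subtype.ext this

theorem coprime_card (h : Ctx p S L R O Y) (hnil : Group.IsNilpotent ↥Y) :
    (Nat.card R).Coprime (Nat.card Y) := by
  have hp : p.Prime := Fact.out
  obtain ⟨k, hk⟩ := IsPGroup.iff_card.mp h.hR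
  rw [hk]
  exact Nat.Coprime.pow_left _ ((Nat.Prime.coprime_iff_not_dvd hp).mpr (h.not_dvd_card hnil))

theorem isSolvable_R (h : Ctx p S L R O Y) : Group.IsSolvable ↥R := by
  haveI := h.hR.isNilpotent
  infer_instance

/-- an `S`-invariant subgroup of `Y ∩ L` is centralized by `R` (nilpotent case). -/
theorem le_centralizer_of_le (h : Ctx p S L R O Y) (hnil : Group.IsNilpotent ↥Y) {X : Subgroup G}
    (hSX : S ≤ normalizer (X : Set G)) (hXY : X ≤ Y) (hXL : X ≤ L) :
    X ≤ centralizer (R : Set G) := by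
  rw [← Subgroup.commutator_eq_bot_iff_le_centralizer]
  have h1 : ⁅X, R⁆ ≤ X := commutator_le_of_le_normalizer' (h.hRS.trans hSX)
  have h2 : ⁅X, R⁆ ≤ R := by
    rw [Subgroup.commutator_comm]
    exact commutator_le_of_le_normalizer' (hXL.trans h.hLR)
  have h3 : X ⊓ R = ⊥ := by
    apply Subgroup.inf_eq_bot_of_coprime
    exact Nat.Coprime.coprime_dvd_left (Subgroup.card_dvd_of_le hXY) (h.coprime_card hnil).symm
  rw [eq_bot_iff, ← h3]
  exact le_inf h1 h2

/-- `[Y, R] = Y` in the nilpotent case. -/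
theorem commutator_eq (h : Ctx p S L R O Y) (hnil : Group.IsNilpotent ↥Y) : ⁅Y, R⁆ = Y := by
  haveI := h.hYn
  have hRY : R ≤ normalizer (Y : Set G) := by
    rw [Subgroup.normalizer_eq_top_iff.mpr h.hYn]; exact le_top
  have hle : ⁅Y, R⁆ ≤ Y := Subgroup.commutator_le_left _ _
  have hLV : L ≤ normalizer ((⁅Y, R⁆ : Subgroup G) : Set G) := by
    apply le_normalizer_commutator'' _ h.hLR
    rw [Subgroup.normalizer_eq_top_iff.mpr h.hYn]; exact le_top
  rcases h.hdich _ (h.hSL.trans hLV) with h1 | h1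
  · -- normal in G
    have hYV : Y ≤ normalizer ((⁅Y, R⁆ : Subgroup G) : Set G) :=
      Cfsg.Agent.Lib.Helper24.le_normalizer_commutator_left Y R
    have hn : normalizer ((⁅Y, R⁆ : Subgroup G) : Set G) = ⊤ := by
      rw [eq_top_iff, ← h.hgen]
      exact sup_le hLV (h.hOY.trans hYV)
    have hVn : (⁅Y, R⁆ : Subgroup G).Normal := Subgroup.normalizer_eq_top_iff.mp hn
    exact le_antisymm hle (h.Y_le hVn h1)
  · exfalso
    have h2 := h.le_centralizer_of_le hnil (h.hSL.trans hLV) hle h1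
    rw [← Subgroup.commutator_eq_bot_iff_le_centralizer,
      Cfsg.Agent.Lib.Helper24.commutator_commutator_eq R Y hRY (h.coprime_card hnil)
        (Or.inl h.isSolvable_R)] at h2
    apply h.hYR
    rw [Subgroup.commutator_eq_bot_iff_le_centralizer] at h2
    exact Subgroup.le_centralizer_iff.mp h2

end Ctx

/-- a subgroup normalizing `A` and `B` normalizes `A ⊔ B`. -/
theorem le_normalizer_sup'' {A B X : Subgroup G} (hA : X ≤ normalizer (A : Set G))
    (hB : X ≤ normalizer (B : Set G)) : X ≤ normalizer ((A ⊔ B : Subgroup G) : Set G) := by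
  apply Cfsg.Agent.Lib.Helper46.le_normalizer_of_conj_mem
  intro x hx c hc
  have hmapA : A.map (MulAut.conj x).toMonoidHom ≤ A := by
    rintro _ ⟨a, ha, rfl⟩
    exact (Subgroup.mem_normalizer_iff.mp (hA hx) a).mp ha
  have hmapB : B.map (MulAut.conj x).toMonoidHom ≤ B := by
    rintro _ ⟨a, ha, rfl⟩
    exact (Subgroup.mem_normalizer_iff.mp (hB hx) a).mp ha
  have h1 : (A ⊔ B : Subgroup G).map (MulAut.conj x).toMonoidHom ≤ A ⊔ B := by
    rw [Subgroup.map_sup]
    exact sup_le_sup hmapA hmapB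
  exact h1 ⟨c, hc, by simp⟩

namespace Ctx

variable [Finite G] {p : ℕ} [Fact p.Prime] {S L R O Y : Subgroup G}

/-- in the nilpotent case `Y` is a `t`-group for a prime `t ≠ p`. -/
theorem exists_prime (h : Ctx p S L R O Y) (hnil : Group.IsNilpotent ↥Y) :
    ∃ t : ℕ, t.Prime ∧ t ≠ p ∧ IsPGroup t ↥Y := by
  haveI := h.hYn
  by_contra hcon
  push Not at hcon
  have key : ∀ t : ℕ, t.Prime → ∀ T : Sylow t ↥Y,
      (T : Subgroup ↥Y) ≤ (centralizer (R : Set G)).subgroupOf Y := by
    intro t ht T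
    haveI : Fact t.Prime := ⟨ht⟩
    have hTn : (T : Subgroup ↥Y).Normal := inferInstance
    haveI hTc : (T : Subgroup ↥Y).Characteristic := Sylow.characteristic_of_normal T hTn
    have hN : ((T : Subgroup ↥Y).map Y.subtype).Normal := inferInstance
    have hle : (T : Subgroup ↥Y).map Y.subtype ≤ Y := by
      rintro _ ⟨y, _, rfl⟩; exact y.2
    by_cases heq : (T : Subgroup ↥Y).map Y.subtype = Y
    · exfalso
      have hTtop : (T : Subgroup ↥Y) = ⊤ := by
        rw [eq_top_iff]
        intro y _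
        have : (y : G) ∈ (T : Subgroup ↥Y).map Y.subtype := by rw [heq]; exact y.2
        obtain ⟨z, hz, hzy⟩ := this
        exact (Subtype.ext hzy : z = y) ▸ hz
      have hT : IsPGroup t ↥Y := by
        intro y
        have hy : y ∈ (T : Subgroup ↥Y) := by rw [hTtop]; trivial
        obtain ⟨k, hk⟩ := T.isPGroup' ⟨y, hy⟩
        refine ⟨k, ?_⟩
        have := congrArg Subtype.val hk
        simpa using this
      apply hcon t ht ?_ hT
      rintro rfl
      obtain ⟨k, hk⟩ := IsPGroup.iff_card.mp hT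
      have hnd := h.not_dvd_card hnil
      rcases Nat.eq_zero_or_pos k with rfl | hk0
      · rw [pow_zero] at hk
        exact h.Y_ne_bot (Subgroup.card_eq_one.mp hk)
      · exact hnd (hk ▸ dvd_pow_self _ hk0.ne')
    · have hc := (h.proper_normal hN hle heq).2.1
      intro y hy
      rw [Subgroup.mem_subgroupOf, Subgroup.mem_centralizer_iff]
      intro r hr
      have hy' : (y : G) ∈ (T : Subgroup ↥Y).map Y.subtype := ⟨y, hy, rfl⟩
      exact ((Subgroup.mem_centralizer_iff.mp (hc hr)) _ hy').symm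
  have htop : (centralizer (R : Set G)).subgroupOf Y = ⊤ := by
    apply Cfsg.Agent.Lib.Helper58.Mazurov.eq_top_of_sylow_le
    intro t ht
    haveI : Fact t.Prime := ⟨ht⟩
    obtain ⟨T⟩ : Nonempty (Sylow t ↥Y) := inferInstance
    exact ⟨T, key t ht T⟩
  apply h.hYR
  rw [Subgroup.le_centralizer_iff]
  intro y hy
  have : (⟨y, hy⟩ : ↥Y) ∈ (centralizer (R : Set G)).subgroupOf Y := by rw [htop]; trivial
  exact Subgroup.mem_subgroupOf.mp this

/-- in the nilpotent case `O = Y`. -/
theorem O_eq_Y (h : Ctx p S L R O Y) (hnil : Group.IsNilpotent ↥Y) : O = Y := by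
  haveI := h.hYn
  have hp : p.Prime := Fact.out
  obtain ⟨t, ht, htp, hYt⟩ := h.exists_prime hnil
  haveI : Fact t.Prime := ⟨ht⟩
  set Φ := (frattini ↥Y).map Y.subtype with hΦ
  have hΦn : Φ.Normal := inferInstance
  have hΦY : Φ ≤ Y := by
    rintro _ ⟨y, _, rfl⟩; exact y.2
  haveI : Nontrivial ↥Y := by
    rw [Subgroup.nontrivial_iff_ne_bot]
    exact h.Y_ne_bot
  have hΦne : Φ ≠ Y := by
    intro heq
    have h1 : frattini ↥Y < ⊤ := Cfsg.Agent.Lib.Helper24.frattini_lt_top
    apply h1.ne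
    rw [eq_top_iff]
    intro y _
    have : (y : G) ∈ Φ := by rw [heq]; exact y.2
    obtain ⟨z, hz, hzy⟩ := this
    exact (Subtype.ext hzy : z = y) ▸ hz
  have hcommΦ : ⁅Y, Y⁆ ≤ Φ := by
    rw [← Subgroup.map_subtype_commutator]
    exact Subgroup.map_mono (Cfsg.Agent.Lib.Helper24.commutator_le_frattini_of_isPGroup hYt)
  have hpowΦ : ∀ x ∈ Y, x ^ t ∈ Φ := by
    intro x hx
    refine ⟨⟨x, hx⟩ ^ t, Cfsg.Agent.Lib.Helper24.pow_mem_frattini_of_isPGroup hYt ⟨x, hx⟩, ?_⟩
    simp
  have hRY : R ≤ normalizer (Y : Set G) := by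
    rw [Subgroup.normalizer_eq_top_iff.mpr h.hYn]; exact le_top
  have hSY : S ≤ normalizer (Y : Set G) := by
    rw [Subgroup.normalizer_eq_top_iff.mpr h.hYn]; exact le_top
  have hSΦ : S ≤ normalizer (Φ : Set G) := by
    rw [Subgroup.normalizer_eq_top_iff.mpr hΦn]; exact le_top
  have hcent : Y ⊓ centralizer (R : Set G) ≤ Φ := by
    have := Cfsg.Agent.Lib.Helper24.comm_inf_cent_le_of_abelian_quotient_normal Y R Φ hRY
      (h.coprime_card hnil) hcommΦ
    rw [h.commutator_eq hnil, sup_of_le_left hΦY] at this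
    exact this
  have hdich2 : ∀ X : Subgroup G, S ≤ normalizer (X : Set G) → X ≤ Y → O ≤ X ∨ X ≤ Φ := by
    intro X hSX hXY
    rcases h.hdich X hSX with h1 | h1
    · exact Or.inl h1
    · exact Or.inr ((le_inf hXY (h.le_centralizer_of_le hnil hSX hXY h1)).trans hcent)
  have hOΦ : ¬ O ≤ Φ := fun hle => hΦne (le_antisymm hΦY (h.Y_le hΦn hle))
  have hcopSt : (Nat.card S).Coprime t := by
    obtain ⟨k, hk⟩ := IsPGroup.iff_card.mp h.hS
    rw [hk]
    exact Nat.Coprime.pow_left _ ((Nat.coprime_primes hp ht).mpr (Ne.symm htp))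
  have hSU : S ≤ normalizer ((O ⊔ Φ : Subgroup G) : Set G) := le_normalizer_sup'' h.hSO hSΦ
  obtain ⟨X, hΦX, hXY, hSX, hinf, hsup⟩ :=
    Cfsg.Agent.Lib.Helper48.exists_invariant_complement_section t S Y Φ (O ⊔ Φ) le_sup_right
      (sup_le h.hOY hΦY) hSY hSU hcommΦ hpowΦ hcopSt
  rcases hdich2 X hSX hXY with h1 | h1
  · exfalso
    apply hOΦ
    rw [← hinf]
    exact le_inf le_sup_left h1
  · have hXΦ : X = Φ := le_antisymm h1 hΦX
    rw [hXΦ, sup_assoc, sup_idem] at hsup
    have h2 : O.subgroupOf Y ⊔ frattini ↥Y = ⊤ := by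
      rw [eq_top_iff]
      intro y _
      have hy : (y : G) ∈ O ⊔ Φ := by rw [hsup]; exact y.2
      have h3 : O ⊔ Φ = (O.subgroupOf Y ⊔ frattini ↥Y).map Y.subtype := by
        rw [Subgroup.map_sup, Subgroup.map_subgroupOf_eq_of_le h.hOY]
      rw [h3] at hy
      obtain ⟨z, hz, hzy⟩ := hy
      exact (Subtype.ext hzy : z = y) ▸ hz
    have h4 : O.subgroupOf Y = ⊤ := frattini_nongenerating h2
    apply le_antisymm h.hOY
    intro y hy
    have : (⟨y, hy⟩ : ↥Y) ∈ O.subgroupOf Y := by rw [h4]; trivial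
    exact Subgroup.mem_subgroupOf.mp this

end Ctx

end Cfsg.Agent.Lib.Helper48.Iso
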