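import Mathlib
import Cfsg.Agent.Lib.Helper48.IsolatedCtx
import Cfsg.Agent.Lib.Helper22.FStar
import Cfsg.Agent.Lib.Helper22.Fitting
import Cfsg.Agent.Lib.Helper33.Conj
import Cfsg.Agent.Lib.Helper24.SylowInv
import Cfsg.Agent.Lib.Helper24.FactorSylow
import Cfsg.Agent.Lib.Helper50.CD
import Cfsg.Agent.Lib.Helper91.Components
import Cfsg.Agent.Lib.Helper48.Misc

set_option autoImplicit false
set_option linter.unusedSectionVars false
set_option linter.style.haveILetI false
set_option linter.deprecated false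
set_option linter.unusedVariables false

/-!
# Isolated `p`-minimal subgroups: the case `E(Y) = Y` in the abstract configuration
-/

namespace Cfsg.Agent.Lib.Helper48.Iso

open Subgroup
open Cfsg.Agent.Lib.Helper33
open scoped commutatorElement Pointwise

universe u

variable {G : Type u} [Group G]

/-- the join of the `S`-conjugates of `K`. -/
def orb (S K : Subgroup G) : Subgroup G := ⨆ s : S, cj (s : G) K

theorem cj_le_orb {S K : Subgroup G} {s : G} (hs : s ∈ S) : cj s K ≤ orb S K :=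
  le_iSup (fun s : S => cj (s : G) K) ⟨s, hs⟩

theorem le_orb (S K : Subgroup G) : K ≤ orb S K := by
  have := cj_le_orb (K := K) S.one_mem
  rwa [cj_one] at this

theorem orb_le {S K T : Subgroup G} (h : ∀ s ∈ S, cj s K ≤ T) : orb S K ≤ T :=
  iSup_le (fun s => h s s.2)

theorem cj_orb_le {S K : Subgroup G} {s : G} (hs : s ∈ S) : cj s (orb S K) ≤ orb S K := by
  rw [orb, cj_def, Subgroup.map_iSup]
  apply iSup_le
  intro s'
  rw [← cj_def, ← cj_mul]
  exact cj_le_orb (S.mul_mem hs s'.2)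

theorem le_normalizer_orb (S K : Subgroup G) : S ≤ normalizer ((orb S K : Subgroup G) : Set G) := by
  intro s hs
  rw [← cj_eq_self_iff]
  apply le_antisymm (cj_orb_le hs)
  have := cj_orb_le (K := K) (S.inv_mem hs)
  rw [cj_le_iff, inv_inv] at this
  exact this

/-- the components of `G` inside `Y`. -/
def compsIn (Y : Subgroup G) : Set (Subgroup G) := {K | Cfsg.IsComponent K ∧ K ≤ Y}

theorem cj_mem_compsIn {Y : Subgroup G} [hY : Y.Normal] {K : Subgroup G} (hK : K ∈ compsIn Y)
    (g : G) : cj g K ∈ compsIn Y := by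
  refine ⟨Cfsg.Agent.Lib.Helper22.isComponent_map_equiv (MulAut.conj g) hK.1, ?_⟩
  rintro _ ⟨k, hk, rfl⟩
  exact hY.conj_mem k (hK.2 hk) g

theorem compsIn_commute {Y : Subgroup G} {K₁ K₂ : Subgroup G} (h₁ : K₁ ∈ compsIn Y)
    (h₂ : K₂ ∈ compsIn Y) (hne : K₁ ≠ K₂) : K₁ ≤ centralizer (K₂ : Set G) := by
  rw [← Subgroup.commutator_eq_bot_iff_le_centralizer]
  exact Cfsg.Agent.Lib.Helper22.components_commute h₁.1 h₂.1 hne

theorem compsIn_not_le_centralizer {Y : Subgroup G} {K : Subgroup G} (hK : K ∈ compsIn Y) :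
    ¬ K ≤ centralizer (K : Set G) := by
  intro h
  rw [← Subgroup.commutator_eq_bot_iff_le_centralizer,
    Cfsg.Agent.Lib.Helper22.component_perfect hK.1] at h
  exact Cfsg.Agent.Lib.Helper22.component_ne_bot hK.1 h

section

variable {Y : Subgroup G} (hE : Y = sSup (compsIn Y))

include hE

theorem Y_le_of_forall {T : Subgroup G} (h : ∀ K ∈ compsIn Y, K ≤ T) : Y ≤ T := by
  intro y hy
  have hy' : y ∈ sSup (compsIn Y) := by rw [← hE]; exact hy
  exact (sSup_le h) hy'

theorem Y_le_normalizer_comp {K : Subgroup G} (hK : K ∈ compsIn Y) :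
    Y ≤ normalizer (K : Set G) := by
  apply Y_le_of_forall hE
  intro K' hK'
  by_cases h : K' = K
  · rw [h]; exact Subgroup.le_normalizer
  · exact (compsIn_commute hK' hK h).trans (Subgroup.centralizer_le_normalizer _)

theorem Y_le_normalizer_orb [hY : Y.Normal] (S : Subgroup G) {K : Subgroup G}
    (hK : K ∈ compsIn Y) : Y ≤ normalizer ((orb S K : Subgroup G) : Set G) := by
  intro y hy
  rw [← cj_eq_self_iff]
  have h1 : ∀ s : S, cj y (cj (s : G) K) = cj (s : G) K := fun s =>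
    cj_eq_self_iff.mpr (Y_le_normalizer_comp hE (cj_mem_compsIn hK s) hy)
  rw [orb, cj_def, Subgroup.map_iSup]
  congr 1
  funext s
  rw [← cj_def]
  exact h1 s

theorem orb_le_Y [hY : Y.Normal] (S : Subgroup G) {K : Subgroup G} (hK : K ∈ compsIn Y) :
    orb S K ≤ Y :=
  orb_le (fun s _ => (cj_mem_compsIn hK s).2)

theorem orb_isSubnormal [hY : Y.Normal] (S : Subgroup G) {K : Subgroup G}
    (hK : K ∈ compsIn Y) : (orb S K).IsSubnormal :=
  Subgroup.IsSubnormal.step _ Y (orb_le_Y hE S hK) hY.isSubnormal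
    (normal_subgroupOf_of_le_normalizer (Y_le_normalizer_orb hE S hK))

end

namespace Ctx

variable [Finite G] {p : ℕ} [Fact p.Prime] {S L R O Y : Subgroup G}

/-- an orbit join inside `L` is centralized by `R`. -/
theorem cent_orb (c : Ctx p S L R O Y) (hE : Y = sSup (compsIn Y)) {K : Subgroup G}
    (hK : K ∈ compsIn Y) (hL : orb S K ≤ L) : R ≤ centralizer ((orb S K : Subgroup G) : Set G) := by
  haveI := c.hYn
  rw [← Subgroup.commutator_eq_bot_iff_le_centralizer]
  have h1 : ⁅R, orb S K⁆ ≤ orb S K := by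
    rw [Subgroup.commutator_comm]
    exact commutator_le_of_le_normalizer' (c.hRS.trans (le_normalizer_orb S K))
  have h2 : ⁅R, orb S K⁆ ≤ R := commutator_le_of_le_normalizer' (hL.trans c.hLR)
  have h3 : orb S K ⊓ R = ⊥ := by
    apply c.eq_bot_of_subnormal (orb_isSubnormal hE S hK) inf_le_left ?_ (c.hR.to_le inf_le_right)
      (inf_le_left.trans (orb_le_Y hE S hK))
    rw [Subgroup.inf_subgroupOf_left]
    exact normal_subgroupOf_of_le_normalizer (hL.trans c.hLR)
  rw [eq_bot_iff, ← h3]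
  exact le_inf h1 h2

/-- `S` permutes the components of `Y` transitively. -/
theorem transitive (c : Ctx p S L R O Y) (hE : Y = sSup (compsIn Y)) :
    ∀ K₁ ∈ compsIn Y, ∀ K₂ ∈ compsIn Y, ∃ s ∈ S, K₂ = cj s K₁ := by
  haveI := c.hYn
  -- step 1
  have step1 : ∃ K₀ ∈ compsIn Y, O ≤ orb S K₀ := by
    by_contra hcon
    push Not at hcon
    apply c.hYR
    rw [Subgroup.le_centralizer_iff]
    apply Y_le_of_forall hE
    intro K hK
    have hL : orb S K ≤ L := (c.hdich _ (le_normalizer_orb S K)).resolve_left (hcon K hK)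
    exact (le_orb S K).trans (Subgroup.le_centralizer_iff.mp (c.cent_orb hE hK hL))
  obtain ⟨K₀, hK₀, hO₀⟩ := step1
  -- step 2
  have step2 : ∀ K₁ ∈ compsIn Y, (∀ s ∈ S, K₁ ≠ cj s K₀) → R ≤ centralizer (K₁ : Set G) := by
    intro K₁ hK₁ hno
    rcases c.hdich _ (le_normalizer_orb S K₁) with h1 | h1
    · exfalso
      -- Y centralizes the intersection
      have hYZ : Y ≤ centralizer ((orb S K₀ ⊓ orb S K₁ : Subgroup G) : Set G) := by
        apply Y_le_of_forall hE
        intro K hK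
        rw [Subgroup.le_centralizer_iff]
        by_cases hKo : ∃ s ∈ S, K = cj s K₀
        · obtain ⟨s, hs, rfl⟩ := hKo
          refine inf_le_right.trans (orb_le ?_)
          intro s' hs'
          apply compsIn_commute (cj_mem_compsIn hK₁ s') hK
          intro heq
          apply hno (s'⁻¹ * s) (S.mul_mem (S.inv_mem hs') hs)
          rw [cj_mul, ← heq, cj_inv_cj]
        · push Not at hKo
          refine inf_le_left.trans (orb_le ?_)
          intro s' hs'
          apply compsIn_commute (cj_mem_compsIn hK₀ s') hK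
          intro heq
          exact hKo s' hs' heq.symm
      have hZn : (Y ⊓ centralizer (Y : Set G)).Normal := Subgroup.normal_inf_normal _ _
      have hOZ : O ≤ Y ⊓ centralizer (Y : Set G) :=
        le_inf c.hOY ((le_inf hO₀ h1).trans (Subgroup.le_centralizer_iff.mp hYZ))
      have hYY : Y ≤ centralizer (Y : Set G) := (c.Y_le hZn hOZ).trans inf_le_right
      exact compsIn_not_le_centralizer hK₀ (hK₀.2.trans (hYY.trans
        (Subgroup.centralizer_le (by exact_mod_cast hK₀.2))))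
    · exact (c.cent_orb hE hK₁ h1).trans (Subgroup.centralizer_le (by exact_mod_cast le_orb S K₁))
  -- the components not centralized by R
  have hmove : ∀ K ∈ compsIn Y, ∀ l ∈ L, ¬ R ≤ centralizer (K : Set G) →
      ¬ R ≤ centralizer ((cj l K : Subgroup G) : Set G) := by
    intro K hK l hl hnc hc
    apply hnc
    have h1 : cj l⁻¹ R ≤ cj l⁻¹ (centralizer ((cj l K : Subgroup G) : Set G)) := cj_mono hc
    have h2 : cj l⁻¹ R = R := cj_eq_self_iff.mpr (c.hLR (L.inv_mem hl))
    have h3 : cj l⁻¹ (centralizer ((cj l K : Subgroup G) : Set G)) = centralizer (K : Set G) := by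
      rw [cj_def, Cfsg.Agent.Lib.Helper22.map_conj_centralizer, ← cj_def, cj_inv_cj]
    rw [h2, h3] at h1
    exact h1
  have hex : ∃ K₂ ∈ compsIn Y, ¬ R ≤ centralizer (K₂ : Set G) := by
    by_contra hcon
    push Not at hcon
    apply c.hYR
    rw [Subgroup.le_centralizer_iff]
    apply Y_le_of_forall hE
    intro K hK
    exact Subgroup.le_centralizer_iff.mp (hcon K hK)
  obtain ⟨K₂, hK₂, hK₂R⟩ := hex
  have hK₂o : ∃ s ∈ S, K₂ = cj s K₀ := by
    by_contra hcon
    push Not at hcon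
    exact hK₂R (step2 K₂ hK₂ hcon)
  obtain ⟨s₂, hs₂, hK₂eq⟩ := hK₂o
  -- every S-conjugate of K₀ is moved by R
  have horbC : ∀ s ∈ S, ¬ R ≤ centralizer ((cj s K₀ : Subgroup G) : Set G) := by
    intro s hs
    have : cj s K₀ = cj (s * s₂⁻¹) K₂ := by
      rw [hK₂eq, ← cj_mul, mul_assoc, inv_mul_cancel, mul_one]
    rw [this]
    exact hmove K₂ hK₂ _ (c.hSL (S.mul_mem hs (S.inv_mem hs₂))) hK₂R
  -- L normalizes the orbit join
  have hLX : L ≤ normalizer ((orb S K₀ : Subgroup G) : Set G) := by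
    have hle : ∀ l ∈ L, cj l (orb S K₀) ≤ orb S K₀ := by
      intro l hl
      rw [orb, cj_def, Subgroup.map_iSup]
      apply iSup_le
      intro s
      rw [← cj_def]
      have h1 := hmove _ (cj_mem_compsIn hK₀ s) l hl (horbC s s.2)
      have h2 : ∃ s' ∈ S, cj l (cj (s : G) K₀) = cj s' K₀ := by
        by_contra hcon
        push Not at hcon
        exact h1 (step2 _ (cj_mem_compsIn (cj_mem_compsIn hK₀ s) l) hcon)
      obtain ⟨s', hs', heq⟩ := h2
      rw [heq]
      exact cj_le_orb hs'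
    intro l hl
    rw [← cj_eq_self_iff]
    apply le_antisymm (hle l hl)
    have := hle l⁻¹ (L.inv_mem hl)
    rw [cj_le_iff, inv_inv] at this
    exact this
  have hXn : (orb S K₀).Normal := by
    rw [← Subgroup.normalizer_eq_top_iff, eq_top_iff, ← c.hgen]
    exact sup_le hLX (hO₀.trans Subgroup.le_normalizer)
  have hYX : Y ≤ orb S K₀ := c.Y_le hXn hO₀
  -- every component is in the orbit
  have hall : ∀ K₁ ∈ compsIn Y, ∃ s ∈ S, K₁ = cj s K₀ := by
    intro K₁ hK₁
    by_contra hcon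
    push Not at hcon
    apply compsIn_not_le_centralizer hK₁
    refine (hK₁.2.trans hYX).trans ?_
    apply orb_le
    intro s hs
    exact compsIn_commute (cj_mem_compsIn hK₀ s) hK₁ (fun h => hcon s hs h.symm)
  intro K₁ hK₁ K₂' hK₂'
  obtain ⟨s₁, hs₁, h1⟩ := hall K₁ hK₁
  obtain ⟨s₃, hs₃, h3⟩ := hall K₂' hK₂'
  refine ⟨s₃ * s₁⁻¹, S.mul_mem hs₃ (S.inv_mem hs₁), ?_⟩
  rw [h1, h3, ← cj_mul, mul_assoc, inv_mul_cancel, mul_one]

end Ctx

/-- `|H K|` divides `|H| |K|` when `H` normalizes `K`. -/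
theorem card_sup_dvd_mul_of_le_normalizer [Finite G] {H K : Subgroup G}
    (h : H ≤ normalizer (K : Set G)) : Nat.card (H ⊔ K : Subgroup G) ∣ Nat.card H * Nat.card K := by
  set A := H ⊔ K with hA
  haveI : (K.subgroupOf A).Normal := normal_subgroupOf_sup_of_le_normalizer h
  have h1 := card_sup_dvd_mul' (H.subgroupOf A) (K.subgroupOf A)
  rw [← Subgroup.subgroupOf_sup le_sup_left le_sup_right, Subgroup.subgroupOf_self,
    Subgroup.card_top] at h1
  have h2 : Nat.card (H.subgroupOf A) = Nat.card H :=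
    Nat.card_congr (Subgroup.subgroupOfEquivOfLe (le_sup_left : H ≤ A)).toEquiv
  have h3 : Nat.card (K.subgroupOf A) = Nat.card K :=
    Nat.card_congr (Subgroup.subgroupOfEquivOfLe (le_sup_right : K ≤ A)).toEquiv
  rw [h2, h3] at h1
  exact h1

namespace Ctx

variable [Finite G] {p : ℕ} [Fact p.Prime] {S L R O Y : Subgroup G}

theorem coprime_card' (c : Ctx p S L R O Y) (hnd : ¬ p ∣ Nat.card Y) :
    (Nat.card R).Coprime (Nat.card Y) := by
  have hp : p.Prime := Fact.out
  obtain ⟨k, hk⟩ := IsPGroup.iff_card.mp c.hR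
  rw [hk]
  exact Nat.Coprime.pow_left _ ((Nat.Prime.coprime_iff_not_dvd hp).mpr hnd)

theorem coprimeS_card' (c : Ctx p S L R O Y) (hnd : ¬ p ∣ Nat.card Y) :
    (Nat.card S).Coprime (Nat.card Y) := by
  have hp : p.Prime := Fact.out
  obtain ⟨k, hk⟩ := IsPGroup.iff_card.mp c.hS
  rw [hk]
  exact Nat.Coprime.pow_left _ ((Nat.Prime.coprime_iff_not_dvd hp).mpr hnd)

theorem isSolvable_S (c : Ctx p S L R O Y) : Group.IsSolvable ↥S := by
  haveI := c.hS.isNilpotent
  infer_instance

/-- an `S`-invariant subgroup of `Y ∩ L` is centralized by `R` when `Y` is a `p'`-group. -/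
theorem le_centralizer_of_le' (c : Ctx p S L R O Y) (hnd : ¬ p ∣ Nat.card Y) {X : Subgroup G}
    (hSX : S ≤ normalizer (X : Set G)) (hXY : X ≤ Y) (hXL : X ≤ L) :
    X ≤ centralizer (R : Set G) := by
  rw [← Subgroup.commutator_eq_bot_iff_le_centralizer]
  have h1 : ⁅X, R⁆ ≤ X := commutator_le_of_le_normalizer' (c.hRS.trans hSX)
  have h2 : ⁅X, R⁆ ≤ R := by
    rw [Subgroup.commutator_comm]
    exact commutator_le_of_le_normalizer' (hXL.trans c.hLR)
  have h3 : X ⊓ R = ⊥ := by
    apply Subgroup.inf_eq_bot_of_coprime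
    exact Nat.Coprime.coprime_dvd_left (Subgroup.card_dvd_of_le hXY) (c.coprime_card' hnd).symm
  rw [eq_bot_iff, ← h3]
  exact le_inf h1 h2

/-- in the case `E(Y) = Y` the prime `p` divides `|Y|`. -/
theorem dvd_card (c : Ctx p S L R O Y) (hE : Y = sSup (compsIn Y)) : p ∣ Nat.card Y := by
  by_contra hnd
  haveI := c.hYn
  have hp : p.Prime := Fact.out
  have hcopR := c.coprime_card' hnd
  have hcopS := c.coprimeS_card' hnd
  have hRY : R ≤ normalizer (Y : Set G) := by
    rw [Subgroup.normalizer_eq_top_iff.mpr c.hYn]; exact le_top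
  have hSY : S ≤ normalizer (Y : Set G) := by
    rw [Subgroup.normalizer_eq_top_iff.mpr c.hYn]; exact le_top
  -- S-invariant Sylow subgroups
  have hinv : ∀ t : ℕ, t.Prime → ∃ T : Subgroup G, T ≤ Y ∧ IsPGroup t T ∧ ¬ t ∣ T.relIndex Y ∧
      (O ≤ T ∨ T ≤ centralizer (R : Set G)) := by
    intro t ht
    haveI : Fact t.Prime := ⟨ht⟩
    obtain ⟨T, hT⟩ := Cfsg.Agent.Lib.Helper24.exists_invariant_sylow (p := t) S Y hSY hcopS
      (Or.inl c.isSolvable_S)
    obtain ⟨h1, h2, h3⟩ := Cfsg.Agent.Lib.Helper24.sylow_map_facts Y T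
    refine ⟨_, h1, h2, h3, ?_⟩
    rcases c.hdich _ hT with h4 | h4
    · exact Or.inl h4
    · exact Or.inr (c.le_centralizer_of_le' hnd hT h1 h4)
  -- a subgroup of Y containing a Sylow subgroup for every prime is Y
  have hfull : ∀ X : Subgroup G, (∀ t : ℕ, t.Prime → ∃ T : Subgroup G, T ≤ Y ∧ IsPGroup t T ∧
      ¬ t ∣ T.relIndex Y ∧ T ≤ X) → Y ≤ X := by
    intro X hX
    have htop : X.subgroupOf Y = ⊤ := by
      apply Cfsg.Agent.Lib.Helper58.Mazurov.eq_top_of_sylow_le
      intro t ht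
      haveI : Fact t.Prime := ⟨ht⟩
      obtain ⟨T, hTY, hTt, hTi, hTX⟩ := hX t ht
      obtain ⟨P, hP⟩ := Cfsg.Agent.Lib.Helper24.exists_sylow_map_eq Y T hTY hTt hTi
      refine ⟨P, ?_⟩
      intro y hy
      rw [Subgroup.mem_subgroupOf]
      apply hTX
      rw [← hP]
      exact ⟨y, hy, rfl⟩
    intro y hy
    have : (⟨y, hy⟩ : ↥Y) ∈ X.subgroupOf Y := by rw [htop]; trivial
    exact Subgroup.mem_subgroupOf.mp this
  -- the special prime
  have hex : ∃ t₀ : ℕ, t₀.Prime ∧ ∃ T : Subgroup G, T ≤ Y ∧ IsPGroup t₀ T ∧ O ≤ T := by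
    by_contra hcon
    push Not at hcon
    apply c.hYR
    rw [Subgroup.le_centralizer_iff]
    apply hfull
    intro t ht
    obtain ⟨T, h1, h2, h3, h4⟩ := hinv t ht
    exact ⟨T, h1, h2, h3, h4.resolve_left (hcon t ht T h1 h2)⟩
  obtain ⟨t₀, ht₀, T₀, hT₀Y, hT₀t, hOT₀⟩ := hex
  haveI : Fact t₀.Prime := ⟨ht₀⟩
  have hObot : O ≠ ⊥ := by
    intro hO
    apply c.Y_ne_bot
    rw [eq_bot_iff]
    apply c.Y_le (inferInstance : (⊥ : Subgroup G).Normal)
    rw [hO]
  have hother : ∀ t : ℕ, t.Prime → t ≠ t₀ → ∃ T : Subgroup G, T ≤ Y ∧ IsPGroup t T ∧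
      ¬ t ∣ T.relIndex Y ∧ T ≤ centralizer (R : Set G) := by
    intro t ht hne
    haveI : Fact t.Prime := ⟨ht⟩
    obtain ⟨T, h1, h2, h3, h4⟩ := hinv t ht
    refine ⟨T, h1, h2, h3, h4.resolve_left ?_⟩
    intro hOT
    apply hObot
    rw [eq_bot_iff]
    have h5 : T ⊓ T₀ = ⊥ := by
      apply Subgroup.inf_eq_bot_of_coprime
      obtain ⟨a, ha⟩ := IsPGroup.iff_card.mp h2
      obtain ⟨b, hb⟩ := IsPGroup.iff_card.mp hT₀t
      rw [ha, hb]
      exact Nat.Coprime.pow _ _ ((Nat.coprime_primes ht ht₀).mpr hne)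
    rw [← h5]
    exact le_inf hOT hOT₀
  -- an R-invariant Sylow t₀-subgroup
  obtain ⟨T, hT⟩ := Cfsg.Agent.Lib.Helper24.exists_invariant_sylow (p := t₀) R Y hRY hcopR
    (Or.inl c.isSolvable_R)
  set T' := (T : Subgroup ↥Y).map Y.subtype with hT'
  obtain ⟨hT'Y, hT't, hT'i⟩ := Cfsg.Agent.Lib.Helper24.sylow_map_facts Y T
  have hsylT : Cfsg.Agent.Lib.Helper24.IsSylIn t₀ T' Y := ⟨hT'Y, hT't, hT'i⟩
  set C := Y ⊓ centralizer (R : Set G) with hC
  have hsylD := Cfsg.Agent.Lib.Helper24.isSylIn_inf_centralizer R Y T' hRY hcopR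
    (Or.inl c.isSolvable_R) hsylT hT
  have hsup : T' ⊔ C = Y := by
    apply le_antisymm (sup_le hT'Y inf_le_left)
    apply hfull
    intro t ht
    by_cases hne : t = t₀
    · subst hne
      exact ⟨T', hT'Y, hT't, hT'i, le_sup_left⟩
    · obtain ⟨T₁, h1, h2, h3, h4⟩ := hother t ht hne
      exact ⟨T₁, h1, h2, h3, (le_inf h1 h4).trans le_sup_right⟩
  have hinf : T' ⊓ C = T' ⊓ centralizer (R : Set G) := by
    rw [hC, ← inf_assoc, inf_of_le_left hT'Y]
  -- the counting identity
  have hcount : Nat.card T' * Nat.card C =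
      Nat.card (T' ⊓ C : Subgroup G) * Nat.card (T' ⊔ C : Subgroup G) := by
    rw [hsup, hinf, hsylT.card_eq, hsylD.card_eq]
    have hCY : Nat.card C ∣ Nat.card Y := Subgroup.card_dvd_of_le inf_le_left
    have hYpos : Nat.card Y ≠ 0 := Nat.card_pos.ne'
    have hCpos : Nat.card C ≠ 0 := Nat.card_pos.ne'
    apply Nat.eq_of_factorization_eq
    · exact mul_ne_zero (pow_ne_zero _ ht₀.ne_zero) hCpos
    · exact mul_ne_zero (pow_ne_zero _ ht₀.ne_zero) hYpos
    intro q
    rw [Nat.factorization_mul (pow_ne_zero _ ht₀.ne_zero) hCpos,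
      Nat.factorization_mul (pow_ne_zero _ ht₀.ne_zero) hYpos,
      Nat.factorization_pow, Nat.factorization_pow]
    simp only [Finsupp.coe_add, Finsupp.coe_smul, Pi.add_apply, Pi.smul_apply, smul_eq_mul]
    by_cases hq : q = t₀
    · subst hq
      rw [Nat.Prime.factorization_self ht₀]
      ring
    · have h0 : (Nat.factorization t₀) q = 0 := by
        rw [Nat.Prime.factorization ht₀]
        simp [Ne.symm hq]
      rw [h0, mul_zero, mul_zero, zero_add, zero_add]
      by_cases hqp : q.Prime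
      · obtain ⟨T₁, h1, h2, h3, h4⟩ := hother q hqp hq
        haveI : Fact q.Prime := ⟨hqp⟩
        have hT₁ : Cfsg.Agent.Lib.Helper24.IsSylIn q T₁ Y := ⟨h1, h2, h3⟩
        have h5 : Nat.card T₁ ∣ Nat.card C := Subgroup.card_dvd_of_le (le_inf h1 h4)
        rw [hT₁.card_eq] at h5
        have h6 : (Nat.card Y).factorization q ≤ (Nat.card C).factorization q :=
          (Nat.Prime.pow_dvd_iff_le_factorization hqp hCpos).mp h5
        have h7 : (Nat.card C).factorization q ≤ (Nat.card Y).factorization q :=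
          (Nat.factorization_le_iff_dvd hCpos hYpos).mpr hCY q
        omega
      · rw [Nat.factorization_eq_zero_of_not_prime _ hqp, Nat.factorization_eq_zero_of_not_prime _ hqp]
  have hprod := Cfsg.Agent.Lib.Helper50.coe_sup_eq_mul_of_card_eq T' C hcount
  rw [hsup] at hprod
  -- the normal closure of R
  set N₀ := Subgroup.normalClosure (R : Set G) with hN₀
  have hN₀le : N₀ ≤ R ⊔ T' := by
    rw [hN₀, Subgroup.normalClosure, Subgroup.closure_le]
    intro x hx
    rw [Group.mem_conjugatesOfSet_iff] at hx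
    obtain ⟨r, hr, hrx⟩ := hx
    rw [isConj_iff] at hrx
    obtain ⟨g, rfl⟩ := hrx
    have hg : g ∈ Y ⊔ L := by
      have : (⊤ : Subgroup G) ≤ Y ⊔ L := by
        rw [← c.hgen, sup_comm]
        exact sup_le_sup_right c.hOY _
      exact this trivial
    obtain ⟨y, hy, l, hl, rfl⟩ := (Subgroup.mem_sup_of_normal_left).mp hg
    have hy' : y ∈ (T' : Set G) * (C : Set G) := by rw [← hprod]; exact hy
    obtain ⟨u, hu, c', hc', rfl⟩ := Set.mem_mul.mp hy'
    have hr' : l * r * l⁻¹ ∈ R := (Subgroup.mem_normalizer_iff.mp (c.hLR hl) r).mp hr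
    have hc'' : c' * (l * r * l⁻¹) * c'⁻¹ = l * r * l⁻¹ := by
      have := Subgroup.mem_centralizer_iff.mp hc'.2 _ hr'
      rw [← this]; group
    have : u * c' * l * r * (u * c' * l)⁻¹ = u * (c' * (l * r * l⁻¹) * c'⁻¹) * u⁻¹ := by group
    rw [SetLike.mem_coe, this, hc'']
    exact Subgroup.mul_mem _ (Subgroup.mul_mem _ (le_sup_right (a := R) hu)
      (le_sup_left (b := T') hr')) (Subgroup.inv_mem _ (le_sup_right (a := R) hu))
  have hN₀n : N₀.Normal := Subgroup.normalClosure_normal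
  have hRN₀ : R ≤ N₀ := Subgroup.le_normalClosure
  have hD₀n : (Y ⊓ N₀).Normal := Subgroup.normal_inf_normal _ _
  by_cases hD₀ : Y ⊓ N₀ = Y
  · -- Y is a t₀-group
    have hYle : Y ≤ R ⊔ T' := (inf_eq_left.mp hD₀).trans hN₀le
    have h1 : Nat.card Y ∣ Nat.card R * Nat.card T' :=
      (Subgroup.card_dvd_of_le hYle).trans (card_sup_dvd_mul_of_le_normalizer hT)
    have h2 : Nat.card Y ∣ Nat.card T' := hcopR.symm.dvd_of_dvd_mul_left h1
    obtain ⟨b, hb⟩ := IsPGroup.iff_card.mp hT't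
    rw [hb] at h2
    obtain ⟨k, -, hk⟩ := (Nat.dvd_prime_pow ht₀).mp h2
    have hYt : IsPGroup t₀ Y := IsPGroup.of_card hk
    -- a component is not solvable
    have hne : (compsIn Y).Nonempty := by
      by_contra hcon
      rw [Set.not_nonempty_iff_eq_empty] at hcon
      apply c.Y_ne_bot
      rw [hE, hcon, sSup_empty]
    obtain ⟨K₀, hK₀⟩ := hne
    have hK₀t : IsPGroup t₀ K₀ := hYt.to_le hK₀.2
    haveI := hK₀t.isNilpotent
    exact Cfsg.Agent.Lib.Helper91.not_isSolvable_of_isQuasisimple hK₀.1.2 inferInstance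
  · obtain ⟨-, h1, -⟩ := c.proper_normal hD₀n inf_le_left hD₀
    have h2 : ⁅Y, R⁆ ≤ Y ⊓ N₀ := by
      apply le_inf (Subgroup.commutator_le_left _ _)
      exact (Subgroup.commutator_mono le_rfl hRN₀).trans (Subgroup.commutator_le_right _ _)
    have h3 : ⁅⁅Y, R⁆, R⁆ = ⊥ := by
      rw [Subgroup.commutator_eq_bot_iff_le_centralizer]
      exact h2.trans (Subgroup.le_centralizer_iff.mp h1)
    rw [Cfsg.Agent.Lib.Helper24.commutator_commutator_eq R Y hRY hcopR (Or.inl c.isSolvable_R),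
      Subgroup.commutator_eq_bot_iff_le_centralizer] at h3
    exact c.hYR (Subgroup.le_centralizer_iff.mp h3)

end Ctx

/-- if the layer of `↥Y` is everything then `Y` is generated by components of `G`. -/
theorem eq_sSup_compsIn_of_layer {Y : Subgroup G} [hY : Y.Normal] (h : Cfsg.layer ↥Y = ⊤) :
    Y = sSup (compsIn Y) := by
  apply le_antisymm
  · intro y hy
    have h1 : (⟨y, hy⟩ : ↥Y) ∈ Cfsg.layer ↥Y := by rw [h]; trivial
    have h2 : (Cfsg.layer ↥Y).map Y.subtype ≤ sSup (compsIn Y) := by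
      rw [Subgroup.map_le_iff_le_comap]
      unfold Cfsg.layer
      apply sSup_le
      intro K hK
      rw [← Subgroup.map_le_iff_le_comap]
      apply le_sSup
      refine ⟨Cfsg.Agent.Lib.Helper22.isComponent_map_subtype hY.isSubnormal hK, ?_⟩
      rintro _ ⟨k, _, rfl⟩
      exact k.2
    exact h2 ⟨⟨y, hy⟩, h1, rfl⟩
  · apply sSup_le
    intro K hK
    exact hK.2

namespace Ctx

variable [Finite G] {p : ℕ} [Fact p.Prime] {S L R O Y : Subgroup G}

/-- either `Y` is nilpotent or `E(Y) = Y`. -/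
theorem cases (c : Ctx p S L R O Y) : Group.IsNilpotent ↥Y ∨ Cfsg.layer ↥Y = ⊤ := by
  haveI := c.hYn
  set E := (Cfsg.layer ↥Y).map Y.subtype with hE
  set F := (Cfsg.fittingSubgroup ↥Y).map Y.subtype with hF
  have hEn : E.Normal := inferInstance
  have hFn : F.Normal := inferInstance
  have hEY : E ≤ Y := by rintro _ ⟨y, _, rfl⟩; exact y.2
  have hFY : F ≤ Y := by rintro _ ⟨y, _, rfl⟩; exact y.2
  by_cases h1 : E = Y
  · right
    rw [eq_top_iff]
    intro y _
    have : (y : G) ∈ E := by rw [h1]; exact y.2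
    obtain ⟨z, hz, hzy⟩ := this
    exact (Subtype.ext hzy : z = y) ▸ hz
  by_cases h2 : F = Y
  · left
    have htop : Cfsg.fittingSubgroup ↥Y = ⊤ := by
      rw [eq_top_iff]
      intro y _
      have : (y : G) ∈ F := by rw [h2]; exact y.2
      obtain ⟨z, hz, hzy⟩ := this
      exact (Subtype.ext hzy : z = y) ▸ hz
    have hn : Group.IsNilpotent ↥(Cfsg.fittingSubgroup ↥Y) :=
      Cfsg.Agent.Lib.Helper22.fittingSubgroup_isNilpotent
    rw [htop] at hn
    exact (Group.isNilpotent_congr (Subgroup.topEquiv : ↥(⊤ : Subgroup ↥Y) ≃* ↥Y)).mp hn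
  · left
    obtain ⟨-, -, hcE⟩ := c.proper_normal hEn hEY h1
    obtain ⟨-, -, hcF⟩ := c.proper_normal hFn hFY h2
    have hle : Cfsg.generalizedFittingSubgroup ↥Y ≤ Subgroup.center ↥Y := by
      unfold Cfsg.generalizedFittingSubgroup
      apply sup_le
      · intro x hx
        rw [Subgroup.mem_center_iff]
        intro y
        have hxE : (x : G) ∈ E := ⟨x, hx, rfl⟩
        have := Subgroup.mem_centralizer_iff.mp (hcE y.2) _ hxE
        apply Subtype.ext
        simpa using this.symm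
      · intro x hx
        rw [Subgroup.mem_center_iff]
        intro y
        have hxF : (x : G) ∈ F := ⟨x, hx, rfl⟩
        have := Subgroup.mem_centralizer_iff.mp (hcF y.2) _ hxF
        apply Subtype.ext
        simpa using this.symm
    have hcent : Subgroup.centralizer (Cfsg.generalizedFittingSubgroup ↥Y : Set ↥Y) = ⊤ := by
      rw [Subgroup.centralizer_eq_top_iff_subset]
      exact hle
    have h3 := Cfsg.Agent.Lib.Helper22.centralizer_generalizedFitting_le ↥Y
    rw [hcent] at h3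
    have h4 : Subgroup.center ↥Y = ⊤ := eq_top_iff.mpr (h3.trans hle)
    haveI : IsMulCommutative ↥Y := Subgroup.center_eq_top_iff.mp h4
    exact Cfsg.Agent.Lib.Helper22.isNilpotent_of_isMulCommutative _

end Ctx

end Cfsg.Agent.Lib.Helper48.Iso
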