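import Mathlib
import Cfsg.Agent.Lib.Helper48.Isolated
import Cfsg.Agent.Lib.Helper48.IsolatedCtx
import Cfsg.Agent.Lib.Helper46.CharP
import Cfsg.Agent.Lib.Helper22.FStar
import Cfsg.Agent.Lib.Helper22.FStarP

set_option autoImplicit false
set_option linter.unusedSectionVars false
set_option linter.style.haveILetI false
set_option linter.deprecated false
set_option linter.unusedVariables false

/-!
# Isolated `p`-minimal subgroups: passage to `G / O_p(Y)`
-/

namespace Cfsg.Agent.Lib.Helper48.Iso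

open Subgroup
open scoped commutatorElement

universe u

variable {G : Type u} [Group G] [Finite G] {p : ℕ} [Fact p.Prime]

/-- a normal subgroup of `↥B` maps to a subgroup normalized by `B`. -/
theorem le_normalizer_map_subtype (B : Subgroup G) (N : Subgroup ↥B) [hN : N.Normal] :
    B ≤ normalizer ((N.map B.subtype : Subgroup G) : Set G) := by
  apply Cfsg.Agent.Lib.Helper46.le_normalizer_of_conj_mem
  rintro b hb _ ⟨n, hn, rfl⟩
  exact ⟨⟨b, hb⟩ * n * ⟨b, hb⟩⁻¹, hN.conj_mem n hn _, rfl⟩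

/-- a `p`-subgroup of `B` normalized by `B` lies in the image of `O_p(B)`. -/
theorem le_map_pCore {B K : Subgroup G} (hKB : K ≤ B) (hK : IsPGroup p K)
    (hn : B ≤ normalizer (K : Set G)) : K ≤ (Cfsg.pCore p ↥B).map B.subtype := by
  have h1 : K.subgroupOf B ≤ Cfsg.pCore p ↥B := by
    apply le_pCore (Subgroup.normal_subgroupOf_of_le_normalizer hn)
    exact hK.comap_of_injective B.subtype B.subtype_injective
  intro k hk
  exact ⟨⟨k, hKB hk⟩, h1 (Subgroup.mem_subgroupOf.mpr hk), rfl⟩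

/-- the hypotheses on an isolated `p`-minimal subgroup. -/
structure Hyp (S : Sylow p G) (P L Y : Subgroup G) : Prop where
  hSP : (S : Subgroup G) ≤ P
  hPmin : Cfsg.IsPMinimal p ↥P
  hL : L = normalizer ((S : Subgroup G) : Set G) ⊔
    ⨆ P' : {P' : Subgroup G // (S : Subgroup G) ≤ P' ∧ Cfsg.IsPMinimal p ↥P' ∧ P' ≠ P},
      (P' : Subgroup G)
  hiso : ¬ (Cfsg.pCore p ↥L).map L.subtype ≤ (Cfsg.pCore p ↥P).map P.subtype
  hY : Y = Subgroup.normalClosure (((Cfsg.pResidual p ↥P).map P.subtype : Subgroup G) : Set G)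

namespace Hyp

variable {S : Sylow p G} {P L Y : Subgroup G}

theorem hSL (h : Hyp S P L Y) : (S : Subgroup G) ≤ L := sylow_le S P L h.hL

theorem hYn (h : Hyp S P L Y) : Y.Normal := by
  rw [h.hY]; infer_instance

theorem hOY (h : Hyp S P L Y) : (Cfsg.pResidual p ↥P).map P.subtype ≤ Y := by
  rw [h.hY]; exact Subgroup.le_normalClosure

theorem hOP (h : Hyp S P L Y) : (Cfsg.pResidual p ↥P).map P.subtype ≤ P := by
  rintro _ ⟨y, _, rfl⟩; exact y.2

/-- `P = O^p(P) S`. -/
theorem res_sup (h : Hyp S P L Y) :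
    (Cfsg.pResidual p ↥P).map P.subtype ⊔ (S : Subgroup G) = P := by
  have hSP := h.hSP
  have h1 : Cfsg.pResidual p ↥P ⊔ (S : Subgroup G).subgroupOf P = ⊤ :=
    Cfsg.Agent.Lib.Helper47.pResidual_sup_sylow (S.subtype hSP)
  apply le_antisymm
  · apply sup_le _ hSP
    rintro _ ⟨y, _, rfl⟩; exact y.2
  · intro x hx
    have h2 : (⟨x, hx⟩ : ↥P) ∈ Cfsg.pResidual p ↥P ⊔ (S : Subgroup G).subgroupOf P := by
      rw [h1]; trivial
    have h3 : ((Cfsg.pResidual p ↥P ⊔ (S : Subgroup G).subgroupOf P).map P.subtype) =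
        (Cfsg.pResidual p ↥P).map P.subtype ⊔ (S : Subgroup G) := by
      rw [Subgroup.map_sup, Subgroup.map_subgroupOf_eq_of_le hSP]
    rw [← h3]
    exact ⟨⟨x, hx⟩, h2, rfl⟩

/-- `G = ⟨L, O^p(P)⟩`. -/
theorem gen_top (h : Hyp S P L Y) : L ⊔ (Cfsg.pResidual p ↥P).map P.subtype = ⊤ := by
  rw [eq_top_iff]
  have hL := h.hL
  have hN : (⊤ : Subgroup G) ⊓ normalizer ((S : Subgroup G) : Set G) ≤ L ⊔ P :=
    inf_le_right.trans ((normalizer_le S P L hL).trans le_sup_left)
  have hP : ∀ P' : Subgroup G, (S : Subgroup G) ≤ P' → P' ≤ (⊤ : Subgroup G) →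
      Cfsg.IsPMinimal p ↥P' → P' ≤ L ⊔ P := by
    intro P' h1 _ h3
    by_cases hPP : P' = P
    · rw [hPP]; exact le_sup_right
    · exact (pmin_le S P L hL h1 h3 hPP).trans le_sup_left
  have h1 : (⊤ : Subgroup G) ≤ L ⊔ P :=
    gen S (L ⊔ P) (Nat.card (⊤ : Subgroup G)) ⊤ rfl le_top hN hP
  have hPle : P ≤ L ⊔ (Cfsg.pResidual p ↥P).map P.subtype := by
    have h2 := h.res_sup
    intro x hx
    have hx' : x ∈ (Cfsg.pResidual p ↥P).map P.subtype ⊔ (S : Subgroup G) := by
      rw [h2]; exact hx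
    exact (sup_le le_sup_right (h.hSL.trans le_sup_left)) hx'
  exact h1.trans (sup_le le_sup_left hPle)

theorem hR_le_S (h : Hyp S P L Y) : (Cfsg.pCore p ↥L).map L.subtype ≤ (S : Subgroup G) := by
  have hSL := h.hSL
  have h1 : Cfsg.pCore p ↥L ≤ (S : Subgroup G).subgroupOf L := pCore_le_sylow (S.subtype hSL)
  rintro _ ⟨y, hy, rfl⟩
  exact Subgroup.mem_subgroupOf.mp (h1 hy)

theorem hLR (h : Hyp S P L Y) :
    L ≤ normalizer (((Cfsg.pCore p ↥L).map L.subtype : Subgroup G) : Set G) :=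
  le_normalizer_map_subtype L _

theorem hSO (h : Hyp S P L Y) :
    (S : Subgroup G) ≤ normalizer (((Cfsg.pResidual p ↥P).map P.subtype : Subgroup G) : Set G) := by
  haveI := Cfsg.Agent.Lib.Helper47.pResidual_normal p ↥P
  exact h.hSP.trans (le_normalizer_map_subtype P _)

/-- `O_p(G) ≤ O_p(P)`. -/
theorem pCore_le (h : Hyp S P L Y) : Cfsg.pCore p G ≤ (Cfsg.pCore p ↥P).map P.subtype := by
  apply le_map_pCore ((pCore_le_sylow S).trans h.hSP) (isPGroup_pCore p G)
  rw [Subgroup.normalizer_eq_top_iff.mpr inferInstance]; exact le_top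

/-- `R` does not centralize `O^p(P)` modulo `O_p(P)`. -/
theorem not_comm_le (h : Hyp S P L Y) :
    ¬ ⁅(Cfsg.pResidual p ↥P).map P.subtype, (Cfsg.pCore p ↥L).map L.subtype⁆ ≤
      (Cfsg.pCore p ↥P).map P.subtype := by
  intro hc
  apply h.hiso
  set O := (Cfsg.pResidual p ↥P).map P.subtype with hO
  set R := (Cfsg.pCore p ↥L).map L.subtype with hR
  set Op := (Cfsg.pCore p ↥P).map P.subtype with hOp
  have hOpS : Op ≤ (S : Subgroup G) := by
    have hSP := h.hSP
    have h1 : Cfsg.pCore p ↥P ≤ (S : Subgroup G).subgroupOf P := pCore_le_sylow (S.subtype hSP)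
    rintro _ ⟨y, hy, rfl⟩
    exact Subgroup.mem_subgroupOf.mp (h1 hy)
  have hPOp : P ≤ normalizer (Op : Set G) := le_normalizer_map_subtype P _
  have hle : R ⊔ Op ≤ (S : Subgroup G) := sup_le h.hR_le_S hOpS
  have hSn : (S : Subgroup G) ≤ normalizer ((R ⊔ Op : Subgroup G) : Set G) :=
    le_normalizer_sup'' (h.hSL.trans h.hLR) (h.hSP.trans hPOp)
  have hOn : O ≤ normalizer ((R ⊔ Op : Subgroup G) : Set G) := by
    apply Cfsg.Agent.Lib.Helper46.le_normalizer_of_conj_mem
    intro o ho x hx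
    -- x ∈ R ⊔ Op
    have hmap : (R ⊔ Op).map (MulAut.conj o).toMonoidHom ≤ R ⊔ Op := by
      rw [Subgroup.map_sup]
      apply sup_le
      · rintro _ ⟨r, hr, rfl⟩
        have h1 : ⁅o, r⁆ ∈ Op := hc (Subgroup.commutator_mem_commutator ho hr)
        have h2 : (MulAut.conj o).toMonoidHom r = ⁅o, r⁆ * r := by
          simp [commutatorElement_def]
        rw [h2]
        exact Subgroup.mul_mem _ (le_sup_right (a := R) h1) (le_sup_left (b := Op) hr)
      · rintro _ ⟨y, hy, rfl⟩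
        apply le_sup_right (a := R)
        exact (Subgroup.mem_normalizer_iff.mp (hPOp (h.hOP ho)) y).mp hy
    exact hmap ⟨x, hx, by simp⟩
  have hPn : P ≤ normalizer ((R ⊔ Op : Subgroup G) : Set G) := by
    have h2 := h.res_sup
    intro x hx
    have hx' : x ∈ O ⊔ (S : Subgroup G) := by
      rw [h2]; exact hx
    exact (sup_le hOn hSn) hx'
  have := le_map_pCore (hle.trans h.hSP) (S.isPGroup'.to_le hle) hPn
  exact le_sup_left.trans this

end Hyp

/-- `O_p(Y)` as a subgroup of `G`. -/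
abbrev QY (p : ℕ) (Y : Subgroup G) : Subgroup G := (Cfsg.pCore p ↥Y).map Y.subtype

theorem QY_normal (p : ℕ) (Y : Subgroup G) [hY : Y.Normal] : (QY p Y).Normal := by
  haveI := Cfsg.Agent.Lib.Helper46.pCore_characteristic p ↥Y
  unfold QY
  infer_instance

theorem QY_le (p : ℕ) (Y : Subgroup G) : QY p Y ≤ Y := by
  rintro _ ⟨y, _, rfl⟩; exact y.2

theorem isPGroup_QY (p : ℕ) [Fact p.Prime] (Y : Subgroup G) : IsPGroup p (QY p Y) :=
  (isPGroup_pCore p ↥Y).map _

theorem mem_QY_iff (p : ℕ) (Y : Subgroup G) (y : ↥Y) : (y : G) ∈ QY p Y ↔ y ∈ Cfsg.pCore p ↥Y := by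
  constructor
  · rintro ⟨z, hz, hzy⟩
    exact (Subtype.ext hzy : z = y) ▸ hz
  · intro hy
    exact ⟨y, hy, rfl⟩

theorem QY_le_pCore (p : ℕ) [Fact p.Prime] (Y : Subgroup G) [hY : Y.Normal] :
    QY p Y ≤ Cfsg.pCore p G :=
  le_pCore (QY_normal p Y) (isPGroup_QY p Y)

/-- a subgroup nilpotent of class at most two. -/
theorem isNilpotent_of_le_centralizer_commutator {H : Subgroup G}
    (h : H ≤ centralizer ((⁅H, H⁆ : Subgroup G) : Set G)) : Group.IsNilpotent ↥H := by
  rw [Subgroup.isNilpotent_iff_lowerCentralSeries]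
  refine ⟨2, ?_⟩
  show ⁅⁅H, H⁆, H⁆ = ⊥
  rw [Subgroup.commutator_eq_bot_iff_le_centralizer]
  exact Subgroup.le_centralizer_iff.mp h

namespace Hyp

variable {S : Sylow p G} {P L Y : Subgroup G}

/-- the configuration in `G / O_p(Y)`. -/
theorem ctx (h : Hyp S P L Y) [hQ : (QY p Y).Normal] :
    Ctx p ((S : Subgroup G).map (QuotientGroup.mk' (QY p Y)))
      (L.map (QuotientGroup.mk' (QY p Y)))
      (((Cfsg.pCore p ↥L).map L.subtype).map (QuotientGroup.mk' (QY p Y)))
      (((Cfsg.pResidual p ↥P).map P.subtype).map (QuotientGroup.mk' (QY p Y)))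
      (Y.map (QuotientGroup.mk' (QY p Y))) := by
  haveI := h.hYn
  set π := QuotientGroup.mk' (QY p Y) with hπ
  have hπs : Function.Surjective π := QuotientGroup.mk'_surjective _
  have hker : ∀ x : G, π x = 1 ↔ x ∈ QY p Y := fun x => QuotientGroup.eq_one_iff x
  set O := (Cfsg.pResidual p ↥P).map P.subtype with hO
  set R := (Cfsg.pCore p ↥L).map L.subtype with hR
  refine ⟨S.isPGroup'.map π, Subgroup.map_mono h.hSL, Subgroup.map_mono h.hR_le_S,
    (Subgroup.map_mono h.hLR).trans (Subgroup.le_normalizer_map π),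
    (Subgroup.map_mono h.hSO).trans (Subgroup.le_normalizer_map π), ?_, ?_, ?_, ?_, ?_⟩
  · rw [← Subgroup.map_sup, h.gen_top, Subgroup.map_top_of_surjective π hπs]
  · have h1 : Y.map π = (Subgroup.normalClosure (O : Set G)).map π :=
      congrArg (Subgroup.map π) h.hY
    rw [h1, Subgroup.map_normalClosure _ _ hπs, Subgroup.coe_map]
    rfl
  · intro X hX
    have hSX : (S : Subgroup G) ≤ normalizer ((X.comap π : Subgroup G) : Set G) := by
      intro s hs
      apply Subgroup.le_normalizer_comap π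
      rw [Subgroup.mem_comap]
      exact hX (Subgroup.mem_map_of_mem π hs)
    rcases dich' S P L h.hL (X.comap π) hSX with h1 | h1
    · left
      rw [Subgroup.map_le_iff_le_comap]
      exact h1
    · right
      have := Subgroup.map_mono (f := π) h1
      rwa [Subgroup.map_comap_eq_self_of_surjective hπs] at this
  · -- O_p(G/Q) ∩ Y/Q = 1
    rw [eq_bot_iff]
    rintro x ⟨hx1, hx2⟩
    obtain ⟨y, hy, rfl⟩ := hx2
    set N := (Cfsg.pCore p (G ⧸ QY p Y)).comap π ⊓ Y with hN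
    have hNn : N.Normal := by
      haveI : ((Cfsg.pCore p (G ⧸ QY p Y)).comap π).Normal := Subgroup.Normal.comap inferInstance π
      exact Subgroup.normal_inf_normal _ _
    have hNp : IsPGroup p N := by
      rintro ⟨n, hn⟩
      have hn1 : π n ∈ Cfsg.pCore p (G ⧸ QY p Y) := hn.1
      obtain ⟨k, hk⟩ := (isPGroup_pCore p (G ⧸ QY p Y)) ⟨π n, hn1⟩
      have hk' : π (n ^ p ^ k) = 1 := by
        have := congrArg Subtype.val hk
        simpa using this
      obtain ⟨j, hj⟩ := (isPGroup_QY p Y) ⟨n ^ p ^ k, (hker _).mp hk'⟩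
      have hj' : (n ^ p ^ k) ^ p ^ j = 1 := by
        have := congrArg Subtype.val hj
        simpa using this
      refine ⟨k + j, ?_⟩
      apply Subtype.ext
      simp only [SubgroupClass.coe_pow, OneMemClass.coe_one]
      rw [pow_add, pow_mul]
      exact hj'
    have hNQ : N ≤ QY p Y := by
      apply le_map_pCore inf_le_right hNp
      rw [Subgroup.normalizer_eq_top_iff.mpr hNn]; exact le_top
    have hyN : y ∈ N := ⟨hx1, hy⟩
    rw [Subgroup.mem_bot]
    exact (hker y).mpr (hNQ hyN)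
  · intro hc
    apply h.not_comm_le
    have h1 : ⁅Y, R⁆ ≤ QY p Y := by
      rw [Subgroup.commutator_le]
      intro y hy r hr
      have h2 := Subgroup.mem_centralizer_iff.mp (hc (Subgroup.mem_map_of_mem π hr)) (π y)
        (Subgroup.mem_map_of_mem π hy)
      apply (hker _).mp
      rw [map_commutatorElement, commutatorElement_eq_one_iff_mul_comm]
      exact h2
    exact (Subgroup.commutator_mono h.hOY le_rfl).trans
      (h1.trans ((QY_le_pCore p Y).trans h.pCore_le))

/-- if the image of `O^p(P)` in `G / O_p(Y)` is the image of `Y` then `Y = O^p(P)`. -/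
theorem eq_of_map_eq (h : Hyp S P L Y) [hQ : (QY p Y).Normal]
    (heq : ((Cfsg.pResidual p ↥P).map P.subtype).map (QuotientGroup.mk' (QY p Y)) =
      Y.map (QuotientGroup.mk' (QY p Y))) :
    (Cfsg.pResidual p ↥P).map P.subtype = Y := by
  haveI := h.hYn
  set π := QuotientGroup.mk' (QY p Y) with hπ
  have hker : ∀ x : G, π x = 1 ↔ x ∈ QY p Y := fun x => QuotientGroup.eq_one_iff x
  set O := (Cfsg.pResidual p ↥P).map P.subtype with hO
  have hQP : QY p Y ≤ P := ((QY_le_pCore p Y).trans (pCore_le_sylow S)).trans h.hSP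
  -- Y ≤ P
  have hYP : Y ≤ P := by
    intro y hy
    have h1 : π y ∈ O.map π := by rw [heq]; exact Subgroup.mem_map_of_mem π hy
    obtain ⟨o, ho, hoy⟩ := h1
    have h2 : π (o⁻¹ * y) = 1 := by rw [map_mul, map_inv, hoy, inv_mul_cancel]
    have h3 : o⁻¹ * y ∈ P := hQP ((hker _).mp h2)
    have : y = o * (o⁻¹ * y) := by group
    rw [this]
    exact P.mul_mem (h.hOP ho) h3
  -- O is the closure of the p'-elements of P
  have hOcl : O = Subgroup.closure {x : G | x ∈ P ∧ (orderOf x).Coprime p} := by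
    rw [hO]
    unfold Cfsg.pResidual
    rw [MonoidHom.map_closure]
    congr 1
    ext x
    constructor
    · rintro ⟨y, hy, rfl⟩
      refine ⟨y.2, ?_⟩
      have hy' : (orderOf y).Coprime p := hy
      simpa using hy'
    · rintro ⟨hx, hxo⟩
      refine ⟨⟨x, hx⟩, ?_, rfl⟩
      show (orderOf (⟨x, hx⟩ : ↥P)).Coprime p
      rw [Subgroup.orderOf_mk]; exact hxo
  -- O is normal
  have hOn : O.Normal := by
    constructor
    intro o ho g
    have hmap : O.map (MulAut.conj g).toMonoidHom ≤ O := by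
      conv_lhs => rw [hOcl]
      rw [MonoidHom.map_closure, Subgroup.closure_le]
      rintro _ ⟨x, ⟨hxP, hxo⟩, rfl⟩
      rw [hOcl]
      apply Subgroup.subset_closure
      refine ⟨?_, ?_⟩
      · apply hYP
        have hxO : x ∈ O := by rw [hOcl]; exact Subgroup.subset_closure ⟨hxP, hxo⟩
        have hxY : x ∈ Y := h.hOY hxO
        exact h.hYn.conj_mem x hxY g
      · have : orderOf ((MulAut.conj g).toMonoidHom x) = orderOf x :=
          orderOf_injective _ (MulAut.conj g).injective x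
        rw [this]; exact hxo
    exact hmap ⟨o, ho, by simp⟩
  apply le_antisymm h.hOY
  rw [h.hY]
  exact Subgroup.normalClosure_le_normal (le_refl _)

end Hyp

/-- `O_p(G / O_p(G)) = 1`. -/
theorem pCore_quotient_pCore (p : ℕ) [Fact p.Prime] (G : Type u) [Group G] [Finite G]
    [hn : (Cfsg.pCore p G).Normal] : Cfsg.pCore p (G ⧸ Cfsg.pCore p G) = ⊥ := by
  set π := QuotientGroup.mk' (Cfsg.pCore p G) with hπ
  have hπs : Function.Surjective π := QuotientGroup.mk'_surjective _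
  set N := (Cfsg.pCore p (G ⧸ Cfsg.pCore p G)).comap π with hN
  have hNn : N.Normal := Subgroup.Normal.comap inferInstance π
  have hNp : IsPGroup p N := by
    apply IsPGroup.comap_of_ker_isPGroup (isPGroup_pCore p _)
    rw [hπ, QuotientGroup.ker_mk']
    exact isPGroup_pCore p G
  have hle : N ≤ Cfsg.pCore p G := le_pCore hNn hNp
  have h1 : Cfsg.pCore p (G ⧸ Cfsg.pCore p G) = N.map π := by
    rw [hN, Subgroup.map_comap_eq_self_of_surjective hπs]
  rw [h1, eq_bot_iff]
  refine (Subgroup.map_mono hle).trans ?_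
  rw [hπ, QuotientGroup.map_mk'_self]

namespace Hyp

variable {S : Sylow p G} {P L Y : Subgroup G}

/-- `O^p(P)` lies in the preimage of `F*(G / O_p(G))`. -/
theorem le_fstar (h : Hyp S P L Y) [hn : (Cfsg.pCore p G).Normal] :
    (Cfsg.pResidual p ↥P).map P.subtype ≤
      (Cfsg.generalizedFittingSubgroup (G ⧸ Cfsg.pCore p G)).comap
        (QuotientGroup.mk' (Cfsg.pCore p G)) := by
  set π := QuotientGroup.mk' (Cfsg.pCore p G) with hπ
  have hπs : Function.Surjective π := QuotientGroup.mk'_surjective _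
  have hker : ∀ x : G, π x = 1 ↔ x ∈ Cfsg.pCore p G := fun x => QuotientGroup.eq_one_iff x
  set F := (Cfsg.generalizedFittingSubgroup (G ⧸ Cfsg.pCore p G)).comap π with hF
  set R := (Cfsg.pCore p ↥L).map L.subtype with hR
  have hFn : F.Normal :=
    Subgroup.Normal.comap (Cfsg.Agent.Lib.Helper22.generalizedFittingSubgroup_normal _) π
  have hSF : (S : Subgroup G) ≤ normalizer (F : Set G) := by
    rw [Subgroup.normalizer_eq_top_iff.mpr hFn]; exact le_top
  rcases dich' S P L h.hL F hSF with h1 | h1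
  · exact h1
  · exfalso
    apply h.hiso
    have hRp : IsPGroup p R := S.isPGroup'.to_le h.hR_le_S
    -- F ∩ R ≤ O_p(G)
    have hFR : F ⊓ R ≤ Cfsg.pCore p G := by
      apply Cfsg.Agent.Lib.Helper46.subnormal_pGroup_aux F hFn.isSubnormal (F ⊓ R) inf_le_left ?_
        (hRp.to_le inf_le_right)
      rw [Subgroup.inf_subgroupOf_left]
      exact normal_subgroupOf_of_le_normalizer (h1.trans h.hLR)
    have hcent : R.map π ≤
        centralizer (Cfsg.generalizedFittingSubgroup (G ⧸ Cfsg.pCore p G) : Set _) := by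
      rintro _ ⟨r, hr, rfl⟩
      rw [Subgroup.mem_centralizer_iff]
      intro x hx
      obtain ⟨f, rfl⟩ := hπs x
      have hfF : f ∈ F := hx
      have h2 : ⁅f, r⁆ ∈ F ⊓ R := by
        refine ⟨?_, ?_⟩
        · have : ⁅f, r⁆ = f * (r * f⁻¹ * r⁻¹) := by rw [commutatorElement_def]; group
          rw [this]
          exact F.mul_mem hfF (hFn.conj_mem _ (F.inv_mem hfF) r)
        · have h3 : f * r * f⁻¹ ∈ R :=
            (Subgroup.mem_normalizer_iff.mp (h.hLR (h1 hfF)) r).mp hr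
          rw [commutatorElement_def]
          exact R.mul_mem h3 (R.inv_mem hr)
      have h3 : π ⁅f, r⁆ = 1 := (hker _).mpr (hFR h2)
      rw [map_commutatorElement, commutatorElement_eq_one_iff_mul_comm] at h3
      exact h3
    have hbot := Cfsg.Agent.Lib.Helper22.eq_bot_of_isPGroup_of_le_centralizer_generalizedFitting
      (pCore_quotient_pCore p G) (hRp.map π) hcent
    have hRle : R ≤ Cfsg.pCore p G := by
      intro r hr
      apply (hker r).mp
      have : π r ∈ R.map π := Subgroup.mem_map_of_mem π hr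
      rw [hbot, Subgroup.mem_bot] at this
      exact this
    exact hRle.trans h.pCore_le

/-- the solvable case. -/
theorem solvable_case (h : Hyp S P L Y) (hsol : Group.IsSolvable ↥Y) :
    (Cfsg.pResidual p ↥P).map P.subtype = Y ∧
    ∃ t : ℕ, t.Prime ∧ t ≠ p ∧ IsPGroup t (↥Y ⧸ Cfsg.pCore p ↥Y) ∧
      commutator (↥Y ⧸ Cfsg.pCore p ↥Y) ≤ center (↥Y ⧸ Cfsg.pCore p ↥Y) := by
  haveI := h.hYn
  haveI hQ := QY_normal p Y
  set π := QuotientGroup.mk' (QY p Y) with hπ
  have hker : ∀ x : G, π x = 1 ↔ x ∈ QY p Y := fun x => QuotientGroup.eq_one_iff x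
  have c := h.ctx
  have hsol' : Group.IsSolvable ↥(Y.map π) :=
    solvable_of_surjective (π.subgroupMap_surjective Y)
  obtain ⟨hc1, -⟩ := c.solvable_class_two hsol'
  have hnil := isNilpotent_of_le_centralizer_commutator hc1
  have hOY := c.O_eq_Y hnil
  obtain ⟨t, ht, htp, hYt⟩ := c.exists_prime hnil
  refine ⟨h.eq_of_map_eq hOY, t, ht, htp, ?_, ?_⟩
  · intro x
    obtain ⟨y, rfl⟩ := QuotientGroup.mk_surjective x
    obtain ⟨k, hk⟩ := hYt ⟨π y, Subgroup.mem_map_of_mem π y.2⟩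
    refine ⟨k, ?_⟩
    have hk' : π ((y : G) ^ t ^ k) = 1 := by
      have := congrArg Subtype.val hk
      simpa using this
    have h2 : ((y ^ t ^ k : ↥Y) : G) ∈ QY p Y := by
      simpa using (hker _).mp hk'
    rw [← QuotientGroup.mk_pow, QuotientGroup.eq_one_iff]
    exact (mem_QY_iff p Y _).mp h2
  · rw [commutator_def, Subgroup.commutator_le]
    intro a _ b _
    rw [Subgroup.mem_center_iff]
    intro c'
    obtain ⟨y₁, rfl⟩ := QuotientGroup.mk_surjective a
    obtain ⟨y₂, rfl⟩ := QuotientGroup.mk_surjective b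
    obtain ⟨y₃, rfl⟩ := QuotientGroup.mk_surjective c'
    have h1 : ⁅π (y₁ : G), π (y₂ : G)⁆ ∈ ⁅Y.map π, Y.map π⁆ :=
      Subgroup.commutator_mem_commutator (Subgroup.mem_map_of_mem π y₁.2)
        (Subgroup.mem_map_of_mem π y₂.2)
    have h2 := Subgroup.mem_centralizer_iff.mp (hc1 (Subgroup.mem_map_of_mem π y₃.2)) _ h1
    -- pull back
    have h3 : π (((y₃ * ⁅y₁, y₂⁆)⁻¹ * (⁅y₁, y₂⁆ * y₃) : ↥Y) : G) = 1 := by
      simp only [Subgroup.coe_mul, Subgroup.coe_inv, map_mul, map_inv]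
      have e : π ((⁅y₁, y₂⁆ : ↥Y) : G) = ⁅π (y₁ : G), π (y₂ : G)⁆ := by
        rw [← map_commutatorElement]
        rfl
      rw [e, h2]
      group
    have h4 : (y₃ * ⁅y₁, y₂⁆)⁻¹ * (⁅y₁, y₂⁆ * y₃) ∈ Cfsg.pCore p ↥Y :=
      (mem_QY_iff p Y _).mp ((hker _).mp h3)
    have h5 : ((y₃ * ⁅y₁, y₂⁆ : ↥Y) : ↥Y ⧸ Cfsg.pCore p ↥Y) = ((⁅y₁, y₂⁆ * y₃ : ↥Y) : _) :=
      QuotientGroup.eq.mpr h4
    have h6 : (⁅(y₁ : ↥Y ⧸ Cfsg.pCore p ↥Y), (y₂ : ↥Y ⧸ Cfsg.pCore p ↥Y)⁆) =
        ((⁅y₁, y₂⁆ : ↥Y) : ↥Y ⧸ Cfsg.pCore p ↥Y) := by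
      simp [commutatorElement_def]
    rw [h6, ← QuotientGroup.mk_mul, ← QuotientGroup.mk_mul]
    exact h5

end Hyp

end Cfsg.Agent.Lib.Helper48.Iso
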