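import Mathlib
import Cfsg.Agent.Lib.Helper48.IsolatedMain
import Cfsg.Agent.Lib.Helper48.IsolatedComp

set_option autoImplicit false
set_option linter.unusedSectionVars false
set_option linter.style.haveILetI false
set_option linter.deprecated false
set_option linter.unusedVariables false

/-!
# Isolated `p`-minimal subgroups: the normal closure of `O^p(P)`
-/

namespace Cfsg.Agent.Lib.Helper48.Iso

open Subgroup
open Cfsg.Agent.Lib.Helper33
open scoped commutatorElement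

universe u

variable {G : Type u} [Group G] [Finite G] {p : ℕ} [Fact p.Prime]

namespace Hyp

variable {S : Sylow p G} {P L Y : Subgroup G}

/-- `G = Y L`. -/
theorem sup_eq_top (h : Hyp S P L Y) : Y ⊔ L = ⊤ := by
  exact eq_top_iff.mpr (h.gen_top.ge.trans (sup_le le_sup_right (h.hOY.trans le_sup_left)))

/-- `P` stays isolated in intermediate subgroups. -/
theorem not_le_of_le (h : Hyp S P L Y) {L₀ : Subgroup G}
    (hR : (Cfsg.pCore p ↥L).map L.subtype ≤ L₀) (hL₀ : L₀ ≤ L) :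
    ¬ (Cfsg.pCore p ↥L₀).map L₀.subtype ≤ (Cfsg.pCore p ↥P).map P.subtype := by
  intro hle
  apply h.hiso
  refine le_trans ?_ hle
  exact le_map_pCore hR (S.isPGroup'.to_le h.hR_le_S) (hL₀.trans h.hLR)

/-- the isomorphism between `Y / O_p(Y)` and the image of `Y` in `G / O_p(Y)`. -/
noncomputable def quotEquiv (p : ℕ) [Fact p.Prime] (Y : Subgroup G) [hQ : (QY p Y).Normal] :
    (↥Y ⧸ Cfsg.pCore p ↥Y) ≃* ↥(Y.map (QuotientGroup.mk' (QY p Y))) := by
  let f : ↥Y →* ↥(Y.map (QuotientGroup.mk' (QY p Y))) := (QuotientGroup.mk' (QY p Y)).subgroupMap Y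
  have hle : Cfsg.pCore p ↥Y ≤ f.ker := by
    intro y hy
    rw [MonoidHom.mem_ker]
    apply Subtype.ext
    exact (QuotientGroup.eq_one_iff _).mpr ((mem_QY_iff p Y y).mpr hy)
  refine MulEquiv.ofBijective (QuotientGroup.lift (Cfsg.pCore p ↥Y) f hle) ⟨?_, ?_⟩
  · rw [injective_iff_map_eq_one]
    intro x hx
    obtain ⟨y, rfl⟩ := QuotientGroup.mk_surjective x
    rw [QuotientGroup.lift_mk] at hx
    have h1 : QuotientGroup.mk' (QY p Y) (y : G) = 1 := congrArg Subtype.val hx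
    rw [QuotientGroup.eq_one_iff]
    exact (mem_QY_iff p Y y).mp ((QuotientGroup.eq_one_iff _).mp h1)
  · intro z
    obtain ⟨y, rfl⟩ := (QuotientGroup.mk' (QY p Y)).subgroupMap_surjective Y z
    exact ⟨QuotientGroup.mk y, QuotientGroup.lift_mk _ _ _⟩

theorem quotEquiv_mk (Y : Subgroup G) [hQ : (QY p Y).Normal] (y : ↥Y) :
    ((quotEquiv p Y (QuotientGroup.mk y) : ↥(Y.map (QuotientGroup.mk' (QY p Y)))) : G ⧸ QY p Y) =
      QuotientGroup.mk' (QY p Y) (y : G) := rfl

/-- the preimage in `G` of a subgroup of `Y / O_p(Y)` as a preimage from `G / O_p(Y)`. -/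
theorem pre_eq (Y : Subgroup G) [hQ : (QY p Y).Normal] (K : Subgroup (↥Y ⧸ Cfsg.pCore p ↥Y)) :
    (K.comap (QuotientGroup.mk' (Cfsg.pCore p ↥Y))).map Y.subtype =
      ((K.map (quotEquiv p Y).toMonoidHom).map
        (Y.map (QuotientGroup.mk' (QY p Y))).subtype).comap (QuotientGroup.mk' (QY p Y)) := by
  ext x
  constructor
  · rintro ⟨y, hy, rfl⟩
    rw [Subgroup.mem_comap]
    refine ⟨quotEquiv p Y (QuotientGroup.mk y), ⟨QuotientGroup.mk y, hy, rfl⟩, ?_⟩
    exact quotEquiv_mk Y y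
  · intro hx
    rw [Subgroup.mem_comap] at hx
    obtain ⟨_, ⟨k, hk, rfl⟩, hkx⟩ := hx
    obtain ⟨y, rfl⟩ := QuotientGroup.mk_surjective k
    have h1 : QuotientGroup.mk' (QY p Y) (y : G) = QuotientGroup.mk' (QY p Y) x := hkx
    have h2 : (y : G)⁻¹ * x ∈ QY p Y := by
      apply (QuotientGroup.eq_one_iff _).mp
      have : (QuotientGroup.mk' (QY p Y)) ((y : G)⁻¹ * x) = 1 := by
        rw [map_mul, map_inv, h1, inv_mul_cancel]
      exact this
    have hxY : x ∈ Y := by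
      have : x = (y : G) * ((y : G)⁻¹ * x) := by group
      rw [this]
      exact Y.mul_mem y.2 (QY_le p Y h2)
    refine ⟨⟨x, hxY⟩, ?_, rfl⟩
    rw [SetLike.mem_coe, Subgroup.mem_comap]
    have h3 : (QuotientGroup.mk' (Cfsg.pCore p ↥Y)) (⟨x, hxY⟩ : ↥Y) =
        (QuotientGroup.mk' (Cfsg.pCore p ↥Y)) y := by
      symm
      apply QuotientGroup.eq.mpr
      exact (mem_QY_iff p Y (y⁻¹ * ⟨x, hxY⟩)).mp h2
    rw [h3]
    exact hk

/-- either `Y = O^p(P)` or `Y / O_p(Y)` is a product of components permuted transitively by `S`. -/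
theorem structure_Y (h : Hyp S P L Y) :
    (Cfsg.pResidual p ↥P).map P.subtype = Y ∨
    (p ∣ Nat.card (↥Y ⧸ Cfsg.pCore p ↥Y) ∧ Cfsg.layer (↥Y ⧸ Cfsg.pCore p ↥Y) = ⊤ ∧
      ∀ K₁ K₂ : Subgroup (↥Y ⧸ Cfsg.pCore p ↥Y), Cfsg.IsComponent K₁ → Cfsg.IsComponent K₂ →
        ∃ s ∈ (S : Subgroup G),
          ((K₂.comap (QuotientGroup.mk' (Cfsg.pCore p ↥Y))).map Y.subtype) =
            (((K₁.comap (QuotientGroup.mk' (Cfsg.pCore p ↥Y))).map Y.subtype)).map
              (MulAut.conj s).toMonoidHom) := by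
  haveI := h.hYn
  haveI hQ := QY_normal p Y
  set π := QuotientGroup.mk' (QY p Y) with hπ
  have c := h.ctx
  haveI hYbn : (Y.map π).Normal := c.hYn
  rcases c.cases with hnil | hlay
  · left
    exact h.eq_of_map_eq (c.O_eq_Y hnil)
  · right
    have hE := eq_sSup_compsIn_of_layer hlay
    have hdvd := c.dvd_card hE
    have htr := c.transitive hE
    set e := quotEquiv p Y with he
    refine ⟨?_, ?_, ?_⟩
    · rw [Nat.card_congr e.toEquiv]
      exact hdvd
    · have h1 := Cfsg.Agent.Lib.Helper22.layer_map_equiv e.symm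
      rw [hlay] at h1
      rw [← h1]
      exact Subgroup.map_top_of_surjective _ e.symm.surjective
    · intro K₁ K₂ hK₁ hK₂
      have hc : ∀ K : Subgroup (↥Y ⧸ Cfsg.pCore p ↥Y), Cfsg.IsComponent K →
          (K.map e.toMonoidHom).map (Y.map π).subtype ∈ compsIn (Y.map π) := by
        intro K hK
        refine ⟨Cfsg.Agent.Lib.Helper22.isComponent_map_subtype hYbn.isSubnormal
          (Cfsg.Agent.Lib.Helper22.isComponent_map_equiv e hK), ?_⟩
        rintro _ ⟨k, _, rfl⟩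
        exact k.2
      obtain ⟨sb, hsb, heq⟩ := htr _ (hc K₁ hK₁) _ (hc K₂ hK₂)
      obtain ⟨s, hs, rfl⟩ := hsb
      refine ⟨s, hs, ?_⟩
      rw [pre_eq Y K₂, pre_eq Y K₁, ← he, heq, ← cj_def]
      ext x
      rw [Subgroup.mem_comap, mem_cj, mem_cj, Subgroup.mem_comap, map_mul, map_mul, map_inv]

end Hyp

end Cfsg.Agent.Lib.Helper48.Iso
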