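import Mathlib
import Cfsg.Agent.Lib.Helper59.MiDsDefs

/-!
# MI-DS-CNT (Mi hive S2140, sub-hive MI-DS of helper59): silent twin of `ds_count`
-/

set_option autoImplicit false

namespace Cfsg.Agent.Lib.Helper81.Mi

/-- double counting, total by columns: one full column, every other column has `f` entries. -/
theorem dscnt48_total {Ω D : Type*} [Fintype Ω] [Finite D] (P : Ω → D → Prop) (f : ℕ) (x0 : D)
    (h0 : ∀ ω, P ω x0) (hx : ∀ x, x ≠ x0 → Nat.card {ω : Ω // P ω x} = f) :
    ∑ ω : Ω, Nat.card {x : D // P ω x} = Nat.card Ω + (Nat.card D - 1) * f := by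
  classical
  cases nonempty_fintype D
  have hrow : ∀ ω, Nat.card {x : D // P ω x} = ∑ x : D, if P ω x then 1 else 0 := by
    intro ω
    rw [Nat.card_eq_fintype_card, Fintype.card_subtype, Finset.card_filter]
  have hcol : ∀ x, Nat.card {ω : Ω // P ω x} = ∑ ω : Ω, if P ω x then 1 else 0 := by
    intro x
    rw [Nat.card_eq_fintype_card, Fintype.card_subtype, Finset.card_filter]
  simp_rw [hrow]
  rw [Finset.sum_comm]
  simp_rw [← hcol]
  rw [← Finset.add_sum_erase Finset.univ _ (Finset.mem_univ x0)]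
  have e0 : Nat.card {ω : Ω // P ω x0} = Nat.card Ω := by
    rw [Nat.card_eq_fintype_card, Nat.card_eq_fintype_card, Fintype.card_subtype,
      Finset.filter_true_of_mem (fun ω _ => h0 ω), Finset.card_univ]
  have e1 : ∑ x ∈ Finset.univ.erase x0, Nat.card {ω : Ω // P ω x} = (Nat.card D - 1) * f := by
    rw [Finset.sum_congr rfl (fun x hx' => hx x (Finset.ne_of_mem_erase hx')), Finset.sum_const,
      Finset.card_erase_of_mem (Finset.mem_univ x0), Finset.card_univ, smul_eq_mul,
      Nat.card_eq_fintype_card]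
  rw [e0, e1]

/-- the arithmetic of `ds_count`. -/
theorem dscnt48_arith (c p' N d q m' f : ℕ) (hN : N = (m' + 1) * (p' + 1)) (h1 : d = f + N)
    (h2 : d = q * f + q) (E : (p' + 1) * q * (d + m' * f) = d * N + c * (p' * N))
    (hp' : 0 < p') : c = q := by
  have hNpos : 0 < N := by rw [hN]; positivity
  have key : c * (p' * N) = q * (p' * N) := by
    subst hN
    subst h1
    zify at *
    linear_combination (-1 : ℤ) * E - ((m' : ℤ) + 1) * ((p' : ℤ) + 1) * h2
  exact Nat.eq_of_mul_eq_mul_right (by positivity) key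

theorem dscnt48 {V Ω : Type*} [AddCommGroup V] [Finite V] [Finite Ω] (A : Ω → AddSubgroup V)
    (q p f : ℕ) (hp : p.Prime) (_hq : 0 < q) (hidx : ∀ ω, (A ω).index = q)
    (hcov : ∀ φ : V, φ ≠ 0 → Nat.card {ω : Ω // φ ∈ A ω} = f)
    (h1 : Nat.card Ω = f + Nat.card V) (h2 : Nat.card Ω = q * f + q)
    (M : AddSubgroup V) (hM : M.index = p) :
    Nat.card {ω : Ω // A ω ≤ M} = q := by
  classical
  cases nonempty_fintype Ω
  have htot : ∑ ω : Ω, Nat.card {t : M // (t : V) ∈ A ω} = Nat.card Ω + (Nat.card M - 1) * f :=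
    dscnt48_total (fun ω (t : M) => (t : V) ∈ A ω) f 0 (fun ω => (A ω).zero_mem)
      (fun t ht => hcov t (by simpa using ht))
  have hrel : ∀ ω, M.relIndex (A ω) = if A ω ≤ M then 1 else p := by
    intro ω
    split_ifs with hle
    · exact AddSubgroup.relIndex_eq_one.mpr hle
    · have hd : M.relIndex (A ω) ∣ p := hM ▸ AddSubgroup.relIndex_dvd_index_of_normal M (A ω)
      rcases (Nat.dvd_prime hp).mp hd with h | h
      · exact absurd (AddSubgroup.relIndex_eq_one.mp h) hle
      · exact h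
  have hrow : ∀ ω, Nat.card {t : M // (t : V) ∈ A ω} * ((if A ω ≤ M then 1 else p) * q)
      = Nat.card V := by
    intro ω
    have e : Nat.card {t : M // (t : V) ∈ A ω} = Nat.card ↥(M ⊓ A ω) :=
      Nat.card_congr ((Equiv.subtypeSubtypeEquivSubtypeInter (· ∈ M) (· ∈ A ω)).trans
        (Equiv.subtypeEquivRight (fun t => AddSubgroup.mem_inf.symm)))
    rw [e, ← hrel ω, ← hidx ω, ← AddSubgroup.inf_relIndex_right M (A ω),
      AddSubgroup.relIndex_mul_index inf_le_right, AddSubgroup.card_mul_index]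
  obtain ⟨p', rfl⟩ : ∃ p', p = p' + 1 := ⟨p - 1, by have := hp.pos; omega⟩
  have hp' : 0 < p' := by have := hp.two_le; omega
  have hmpos : 0 < Nat.card M := Nat.card_pos
  obtain ⟨m', hm'⟩ : ∃ m', Nat.card M = m' + 1 := ⟨Nat.card M - 1, by omega⟩
  have hN : Nat.card V = (m' + 1) * (p' + 1) := by
    rw [← hm', ← hM, AddSubgroup.card_mul_index]
  have hc : Nat.card {ω : Ω // A ω ≤ M} = (Finset.univ.filter (fun ω => A ω ≤ M)).card := by
    rw [Nat.card_eq_fintype_card, Fintype.card_subtype]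
  -- each row, multiplied by p q
  have hrow' : ∀ ω, (p' + 1) * q * Nat.card {t : M // (t : V) ∈ A ω}
      = Nat.card V + if A ω ≤ M then p' * Nat.card V else 0 := by
    intro ω
    have h := hrow ω
    split_ifs at h ⊢ with hle
    · rw [← h]; ring
    · rw [← h]; ring
  have E : (p' + 1) * q * (Nat.card Ω + m' * f)
      = Nat.card Ω * Nat.card V + Nat.card {ω : Ω // A ω ≤ M} * (p' * Nat.card V) := by
    have : Nat.card M - 1 = m' := by omega
    rw [← this, ← htot, Finset.mul_sum, Finset.sum_congr rfl (fun ω _ => hrow' ω),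
      Finset.sum_add_distrib, Finset.sum_const, Finset.card_univ, smul_eq_mul,
      Finset.sum_ite, Finset.sum_const, Finset.sum_const_zero, add_zero, smul_eq_mul, ← hc,
      Nat.card_eq_fintype_card (α := Ω)]
  exact dscnt48_arith _ p' _ _ q m' f hN h1 h2 E hp'

end Cfsg.Agent.Lib.Helper81.Mi
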