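import Mathlib
import Cfsg.Agent.Lib.Helper59.MiDsDefs
import Cfsg.Agent.Lib.Helper48.MiDsCNT48

/-!
# MI-DS-CNT (Mi hive S2140, sub-hive MI-DS of helper59): `ds_count`, exact skeleton statement
-/

set_option autoImplicit false

namespace Cfsg.Agent.Lib.Helper81.Mi

open Matrix

section abstract

/-- MI-DS-CNT: exactly `q` of the `A ω` lie in the index-`p` subgroup `M`. -/
theorem ds_count {V Ω : Type*} [AddCommGroup V] [Finite V] [Finite Ω] (A : Ω → AddSubgroup V)
    (q p f : ℕ) (hp : p.Prime) (hq : 0 < q) (hidx : ∀ ω, (A ω).index = q)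
    (hcov : ∀ φ : V, φ ≠ 0 → Nat.card {ω : Ω // φ ∈ A ω} = f)
    (h1 : Nat.card Ω = f + Nat.card V) (h2 : Nat.card Ω = q * f + q)
    (M : AddSubgroup V) (hM : M.index = p) :
    Nat.card {ω : Ω // A ω ≤ M} = q :=
  dscnt48 A q p f hp hq hidx hcov h1 h2 M hM

end abstract

end Cfsg.Agent.Lib.Helper81.Mi
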