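import Mathlib
import Cfsg.Agent.Lib.Helper59.MiDsDefs

/-!
# MI-DS-DUAL (Mi hive S2140, sub-hive MI-DS of helper59): twin of `ds_dual` (weak trace duality)
-/

set_option autoImplicit false

namespace Cfsg.Agent.Lib.Helper81.Mi

section abstract

variable {F V : Type*} [Field F] [AddCommGroup V] [Module F V] [Finite V]
  {p : ℕ} [Fact p.Prime]

omit [Finite V] in
/-- separation: `lam ∘ x = lam ∘ y` forces `x = y`. -/
theorem dsdual48_inj (lam : F →+ ZMod p) (hlam : ∀ a : F, a ≠ 0 → ∃ b : F, lam (a * b) ≠ 0)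
    (x y : Module.Dual F V) (h : ∀ φ : V, lam (x φ) = lam (y φ)) : x = y := by
  by_contra hne
  have hsub : x - y ≠ 0 := sub_ne_zero.mpr hne
  obtain ⟨φ₀, hφ₀⟩ : ∃ φ₀ : V, (x - y) φ₀ ≠ 0 := by
    by_contra hall
    push Not at hall
    exact hsub (LinearMap.ext hall)
  obtain ⟨b, hb⟩ := hlam _ hφ₀
  apply hb
  have h1 := h (b • φ₀)
  rw [LinearMap.map_smul, LinearMap.map_smul, smul_eq_mul, smul_eq_mul] at h1
  have : (x - y) φ₀ * b = b * x φ₀ - b * y φ₀ := by
    rw [LinearMap.sub_apply]; ring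
  rw [this, map_sub, h1, sub_self]

theorem dsdual48 (lam : F →+ ZMod p) (hlam : ∀ a : F, a ≠ 0 → ∃ b : F, lam (a * b) ≠ 0)
    (A : AddSubgroup V) :
    Nat.card {x : Module.Dual F V // A ≤ dsM lam x} ≤ A.index := by
  classical
  have hp : NeZero p := ⟨(Fact.out : p.Prime).ne_zero⟩
  cases nonempty_fintype (V ⧸ A)
  -- the map into the characters of `V ⧸ A`
  let Φ : {x : Module.Dual F V // A ≤ dsM lam x} → AddChar (V ⧸ A) ℂ := fun x =>
    (ZMod.stdAddChar (N := p)).compAddMonoidHom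
      (QuotientAddGroup.lift A (lam.comp (x.1 : V →ₗ[F] F).toAddMonoidHom) x.2)
  have hΦ : Function.Injective Φ := by
    intro x y hxy
    apply Subtype.ext
    apply dsdual48_inj lam hlam
    intro φ
    have h1 := DFunLike.congr_fun hxy (QuotientAddGroup.mk φ)
    simp only [Φ, AddChar.compAddMonoidHom_apply] at h1
    exact ZMod.injective_stdAddChar h1
  calc Nat.card {x : Module.Dual F V // A ≤ dsM lam x}
      ≤ Nat.card (AddChar (V ⧸ A) ℂ) := Nat.card_le_card_of_injective Φ hΦ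
    _ = Nat.card (V ⧸ A) := by
        rw [Nat.card_eq_fintype_card, Nat.card_eq_fintype_card, AddChar.card_eq]
    _ = A.index := rfl

end abstract

end Cfsg.Agent.Lib.Helper81.Mi
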