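import Mathlib
import Cfsg.Agent.Lib.Helper59.MiDsDefs
import Cfsg.Agent.Lib.Helper48.MiDsDUAL48

/-!
# MI-DS-DUAL (Mi hive S2140, sub-hive MI-DS of helper59): the exact skeleton statement of `ds_dual` under the name `dsdual48_exact` (canonical `ds_dual` = Helper59.MiDsDUAL)
-/

set_option autoImplicit false

namespace Cfsg.Agent.Lib.Helper81.Mi

open Matrix

section abstract

variable {F V : Type*} [Field F] [Finite F] [AddCommGroup V] [Module F V] [Finite V]
  {p : ℕ} [Fact p.Prime] [CharP F p]

set_option linter.unusedSectionVars false in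
/-- MI-DS-DUAL: weak trace duality. -/
theorem dsdual48_exact (lam : F →+ ZMod p) (hlam : ∀ a : F, a ≠ 0 → ∃ b : F, lam (a * b) ≠ 0)
    (A : AddSubgroup V) :
    Nat.card {x : Module.Dual F V // A ≤ dsM lam x} ≤ A.index :=
  dsdual48 lam hlam A

end abstract

end Cfsg.Agent.Lib.Helper81.Mi
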