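import Mathlib
import Cfsg.Agent.Lib.Helper59.MiDsDefs

/-!
# MI-DS-PAIR (Mi hive S2140, sub-hive MI-DS of helper59): the double counting core

`dspair_count`: abstract double counting.  `dspair_core`: `ds_pair` with the three leaves CNT / IDX / DUAL
as hypotheses.
-/

set_option autoImplicit false

namespace Cfsg.Agent.Lib.Helper81.Mi

/-- abstract double counting: a relation `P` between `Ω` and `D`; one column `x0` is full, every other
column has `q` entries, every row has at most `q` entries, and `d + (N - 1) q = d q`: every row has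
exactly `q` entries. -/
theorem dspair_count {Ω D : Type*} [Finite Ω] [Finite D] (P : Ω → D → Prop) (q : ℕ) (x0 : D)
    (h0 : ∀ ω, P ω x0) (hx : ∀ x, x ≠ x0 → Nat.card {ω : Ω // P ω x} = q)
    (hle : ∀ ω, Nat.card {x : D // P ω x} ≤ q)
    (harith : Nat.card Ω + (Nat.card D - 1) * q = Nat.card Ω * q) :
    ∀ ω, Nat.card {x : D // P ω x} = q := by
  classical
  cases nonempty_fintype Ω
  cases nonempty_fintype D
  have hrow : ∀ ω, Nat.card {x : D // P ω x} = ∑ x : D, if P ω x then 1 else 0 := by
    intro ω
    rw [Nat.card_eq_fintype_card, Fintype.card_subtype, Finset.card_filter]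
  have hcol : ∀ x, Nat.card {ω : Ω // P ω x} = ∑ ω : Ω, if P ω x then 1 else 0 := by
    intro x
    rw [Nat.card_eq_fintype_card, Fintype.card_subtype, Finset.card_filter]
  -- the total, by columns
  have htot : ∑ ω : Ω, Nat.card {x : D // P ω x} = Nat.card Ω * q := by
    simp_rw [hrow]
    rw [Finset.sum_comm]
    simp_rw [← hcol]
    rw [← Finset.add_sum_erase Finset.univ _ (Finset.mem_univ x0)]
    have e0 : Nat.card {ω : Ω // P ω x0} = Nat.card Ω := by
      rw [Nat.card_eq_fintype_card, Nat.card_eq_fintype_card, Fintype.card_subtype,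
        Finset.filter_true_of_mem (fun ω _ => h0 ω), Finset.card_univ]
    have e1 : ∑ x ∈ Finset.univ.erase x0, Nat.card {ω : Ω // P ω x} = (Nat.card D - 1) * q := by
      rw [Finset.sum_congr rfl (fun x hx' => hx x (Finset.ne_of_mem_erase hx')), Finset.sum_const,
        Finset.card_erase_of_mem (Finset.mem_univ x0), Finset.card_univ, smul_eq_mul,
        Nat.card_eq_fintype_card]
    rw [e0, e1, harith]
  intro ω
  by_contra hne
  have hlt : Nat.card {x : D // P ω x} < q := lt_of_le_of_ne (hle ω) hne
  have : ∑ ω : Ω, Nat.card {x : D // P ω x} < ∑ _ω : Ω, q :=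
    Finset.sum_lt_sum (fun i _ => hle i) ⟨ω, Finset.mem_univ ω, hlt⟩
  rw [htot, Finset.sum_const, Finset.card_univ, smul_eq_mul, Nat.card_eq_fintype_card] at this
  exact lt_irrefl _ this

/-- the arithmetic: `d = f + N`, `d = q f + q`, `q > 0` give `d + (N - 1) q = d q`. -/
theorem dspair_arith (d N q f : ℕ) (hq : 0 < q) (h1 : d = f + N) (h2 : d = q * f + q) :
    d + (N - 1) * q = d * q := by
  obtain ⟨q', rfl⟩ : ∃ q', q = q' + 1 := ⟨q - 1, by omega⟩
  have hN : N = q' * f + q' + 1 := by
    have : f + N = (q' + 1) * f + (q' + 1) := by rw [← h1, h2]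
    linarith
  subst hN
  subst h2
  have : q' * f + q' + 1 - 1 = q' * f + q' := by omega
  rw [this]
  ring

section abstract

variable {F V : Type*} [Field F] [Finite F] [AddCommGroup V] [Module F V] [Finite V]
  {p : ℕ} [Fact p.Prime] [CharP F p]

omit [Finite F] in
theorem dspair_card_dual : Nat.card (Module.Dual F V) = Nat.card V := by
  have : Module.Finite F V := Module.Finite.of_finite
  exact (Nat.card_congr (Module.finBasis F V).toDualEquiv.toEquiv).symm

omit [Finite F] in
theorem dspair_finite_dual : Finite (Module.Dual F V) := by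
  have : Module.Finite F V := Module.Finite.of_finite
  exact Finite.of_equiv V (Module.finBasis F V).toDualEquiv.toEquiv

omit [Finite F] [Finite V] [CharP F p] in
theorem dspair_dsM_zero (lam : F →+ ZMod p) : dsM lam (0 : Module.Dual F V) = ⊤ := by
  ext φ
  simp [mem_dsM]

omit [CharP F p] in
/-- `ds_pair` with the leaves CNT / IDX / DUAL as hypotheses. -/
theorem dspair_core {Ω : Type*} [Finite Ω] (lam : F →+ ZMod p) (A : Ω → AddSubgroup V)
    (hcnt : ∀ x : Module.Dual F V, x ≠ 0 →
      Nat.card {ω : Ω // A ω ≤ dsM lam x} = Nat.card F)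
    (hdual : ∀ ω, Nat.card {x : Module.Dual F V // A ω ≤ dsM lam x} ≤ Nat.card F)
    (f : ℕ)
    (h1 : Nat.card Ω = f + Nat.card V) (h2 : Nat.card Ω = Nat.card F * f + Nat.card F) :
    ∀ ω, Nat.card {x : Module.Dual F V // A ω ≤ dsM lam x} = Nat.card F := by
  have hfin : Finite (Module.Dual F V) := dspair_finite_dual
  refine dspair_count (fun ω x => A ω ≤ dsM lam x) (Nat.card F) 0 ?_ hcnt hdual ?_
  · intro ω
    rw [dspair_dsM_zero]
    exact le_top
  · rw [dspair_card_dual]
    exact dspair_arith _ _ _ f Nat.card_pos h1 h2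

end abstract

end Cfsg.Agent.Lib.Helper81.Mi
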