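import Mathlib
import Cfsg.Agent.Lib.Helper59.MiDsDefs
import Cfsg.Agent.Lib.Helper24.MiDsIDX
import Cfsg.Agent.Lib.Helper48.MiDsCNT
import Cfsg.Agent.Lib.Helper48.MiDsDUAL48
import Cfsg.Agent.Lib.Helper48.MiDsPAIRcore

/-!
# MI-DS-PAIR (Mi hive S2140, sub-hive MI-DS of helper59): `ds_pair`, exact skeleton statement
-/

set_option autoImplicit false

namespace Cfsg.Agent.Lib.Helper81.Mi

open Matrix

section abstract

variable {F V : Type*} [Field F] [Finite F] [AddCommGroup V] [Module F V] [Finite V]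
  {p : ℕ} [Fact p.Prime] [CharP F p]

/-- MI-DS-PAIR: every `X_ω = {x | A ω ≤ M_x}` has exactly `q` elements. -/
theorem ds_pair {Ω : Type*} [Finite Ω] (lam : F →+ ZMod p)
    (hlam : ∀ a : F, a ≠ 0 → ∃ b : F, lam (a * b) ≠ 0) (A : Ω → AddSubgroup V) (f : ℕ)
    (hidx : ∀ ω, (A ω).index = Nat.card F)
    (hcov : ∀ φ : V, φ ≠ 0 → Nat.card {ω : Ω // φ ∈ A ω} = f)
    (h1 : Nat.card Ω = f + Nat.card V) (h2 : Nat.card Ω = Nat.card F * f + Nat.card F) :
    ∀ ω, Nat.card {x : Module.Dual F V // A ω ≤ dsM lam x} = Nat.card F :=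
  dspair_core lam A
    (fun x hx => ds_count A _ p f Fact.out Nat.card_pos hidx hcov h1 h2 _
      (ds_index_M lam hlam x hx))
    (fun ω => (dsdual48 lam hlam (A ω)).trans (hidx ω).le) f h1 h2

end abstract

end Cfsg.Agent.Lib.Helper81.Mi
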