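import Mathlib

set_option autoImplicit false
set_option linter.unusedSectionVars false

/-!
# Mi hive (S2140), EXIST part

* `mi_exists_index` : `PSL_n(F)` has a subgroup of index `(q^n - 1)/(q - 1)` (the stabiliser of a point of the
  projective space), `n ≥ 1`.
* `mi_psl_reduction` : a lower bound for the index of the proper subgroups of `SL_n(F)` is a lower bound for the
  index of the proper subgroups of `PSL_n(F)`.
-/

namespace Cfsg.Agent.Lib.Helper48.Mi

open Matrix MulAction
open scoped LinearAlgebra.Projectivization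

variable {F : Type*} [Field F] [Fintype F]

/-- number of points of the projective space of `F^n` -/
theorem mi_card_proj {q : ℕ} (hF : Fintype.card F = q) (n : ℕ) :
    Nat.card (ℙ F (Fin n → F)) = (q ^ n - 1) / (q - 1) := by
  have hq : 2 ≤ q := by
    rw [← hF]
    exact Fintype.one_lt_card
  rw [Projectivization.card_of_finrank F (Fin n → F) (n := n) (by simp), Nat.card_eq_fintype_card, hF,
    Nat.geomSum_eq hq n]

/-- the stabiliser in `SL_n(F)` of a projective point has index `(q^n - 1)/(q - 1)` -/
theorem mi_index_stabilizer {q : ℕ} (hF : Fintype.card F = q) (n : ℕ) (x : ℙ F (Fin n → F)) :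
    (stabilizer (Matrix.SpecialLinearGroup (Fin n) F) x).index = (q ^ n - 1) / (q - 1) := by
  have : IsPretransitive (Matrix.SpecialLinearGroup (Fin n) F) (ℙ F (Fin n → F)) :=
    isPretransitive_of_is_two_pretransitive
  rw [index_stabilizer_of_transitive, mi_card_proj hF n]

/-- the centre of `SL_n(F)` fixes every projective point -/
theorem mi_center_le_stabilizer (n : ℕ) (x : ℙ F (Fin n → F)) :
    Subgroup.center (Matrix.SpecialLinearGroup (Fin n) F) ≤
      stabilizer (Matrix.SpecialLinearGroup (Fin n) F) x := by
  intro g hg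
  rw [← Projectivization.SL_mulAction_ker, MonoidHom.mem_ker] at hg
  rw [mem_stabilizer_iff]
  have := congrArg (fun σ : Equiv.Perm (ℙ F (Fin n → F)) => σ x) hg
  simpa using this

/-- second conjunct of S2140 -/
theorem mi_exists_index {q : ℕ} (hF : Fintype.card F = q) (n : ℕ) (hn : 1 ≤ n) :
    ∃ H : Subgroup (Matrix.ProjectiveSpecialLinearGroup (Fin n) F), H.index = (q ^ n - 1) / (q - 1) := by
  have he : (Pi.single (⟨0, hn⟩ : Fin n) (1 : F) : Fin n → F) ≠ 0 := by
    intro h
    have := congrFun h ⟨0, hn⟩
    simp at this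
  let x : ℙ F (Fin n → F) := Projectivization.mk F _ he
  refine ⟨(stabilizer (Matrix.SpecialLinearGroup (Fin n) F) x).map
    (QuotientGroup.mk' (Subgroup.center (Matrix.SpecialLinearGroup (Fin n) F))), ?_⟩
  rw [Subgroup.index_map_eq _ (QuotientGroup.mk'_surjective _), mi_index_stabilizer hF n x]
  rw [QuotientGroup.ker_mk']
  exact mi_center_le_stabilizer n x

/-- reduction of the first conjunct of S2140 from `PSL_n` to `SL_n` -/
theorem mi_psl_reduction (n B : ℕ)
    (h : ∀ K : Subgroup (Matrix.SpecialLinearGroup (Fin n) F), K ≠ ⊤ → B ≤ K.index) :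
    ∀ H : Subgroup (Matrix.ProjectiveSpecialLinearGroup (Fin n) F), H ≠ ⊤ → B ≤ H.index := by
  intro H hH
  have hsurj : Function.Surjective
      (QuotientGroup.mk' (Subgroup.center (Matrix.SpecialLinearGroup (Fin n) F))) :=
    QuotientGroup.mk'_surjective _
  have hidx := Subgroup.index_comap_of_surjective H hsurj
  rw [← hidx]
  apply h
  intro htop
  apply hH
  rw [eq_top_iff]
  intro y _
  obtain ⟨g, rfl⟩ := hsurj y
  have : g ∈ H.comap (QuotientGroup.mk' (Subgroup.center (Matrix.SpecialLinearGroup (Fin n) F))) := by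
    rw [htop]
    exact Subgroup.mem_top g
  exact this

end Cfsg.Agent.Lib.Helper48.Mi
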