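import Mathlib
import Cfsg.Agent.Lib.Helper81.Mi.Defs
import Cfsg.Agent.Lib.Helper48.MiEXIST

set_option autoImplicit false

/-!
# MI-EX : the point stabiliser in `PSL_n(F)` has index `(q^n-1)/(q-1)` (exact skeleton statement)
-/

namespace Cfsg.Agent.Lib.Helper81.Mi

open Matrix

variable {F : Type*} [Field F] {n : ℕ}

/-- MI-EX: the point stabiliser in `PSL_n(F)` has index `(q^n-1)/(q-1)`. -/
theorem exists_index [Finite F] (hn : 2 ≤ n) :
    ∃ H : Subgroup (Matrix.ProjectiveSpecialLinearGroup (Fin n) F), H.index = Npts (Nat.card F) n := by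
  have : Fintype F := Fintype.ofFinite F
  have hF : Fintype.card F = Nat.card F := (Nat.card_eq_fintype_card).symm
  exact Cfsg.Agent.Lib.Helper48.Mi.mi_exists_index hF n (by omega)

end Cfsg.Agent.Lib.Helper81.Mi
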