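import Mathlib

set_option autoImplicit false

/-!
# MI-FORM (Mi hive S2140, Step 5): an invariant non-zero symmetric matrix forces k = 2, card F = 2
-/

namespace Cfsg.Agent.Lib.Helper48.Mi

open Matrix

variable {F : Type*} [Field F]

/-- entries of `hᵀ α h` for the elementary transvection `h = 1 + E_ab` -/
theorem form_tv_entry {k : ℕ} (α : Matrix (Fin k) (Fin k) F) (a b x y : Fin k) :
    ((transvection a b (1 : F))ᵀ * α * transvection a b (1 : F)) x y =
      α x y + (if x = b then α a y else 0) + (if y = b then α x a else 0) +
        (if x = b ∧ y = b then α a a else 0) := by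
  unfold transvection
  rw [transpose_add, transpose_one, transpose_single, add_mul, one_mul, mul_add, mul_one, add_mul,
    Matrix.add_apply, Matrix.add_apply, Matrix.add_apply, Matrix.mul_assoc]
  have e1 : (single b a (1 : F) * α) x y = if x = b then α a y else 0 := by
    split_ifs with h
    · subst h
      rw [single_mul_apply_same, one_mul]
    · rw [single_mul_apply_of_ne (1 : F) b a x y h α]
  have e2 : (α * single a b (1 : F)) x y = if y = b then α x a else 0 := by
    split_ifs with h
    · subst h
      rw [mul_single_apply_same, mul_one]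
    · rw [mul_single_apply_of_ne (1 : F) a b x y h α]
  have e3 : (single b a (1 : F) * (α * single a b (1 : F))) x y =
      if x = b ∧ y = b then α a a else 0 := by
    by_cases hx : x = b
    · subst hx
      rw [single_mul_apply_same, one_mul]
      by_cases hy : y = x
      · subst hy
        rw [mul_single_apply_same, mul_one, if_pos ⟨rfl, rfl⟩]
      · rw [mul_single_apply_of_ne (1 : F) a x a y hy α, if_neg (fun h => hy h.2)]
    · rw [single_mul_apply_of_ne (1 : F) b a x y hx, if_neg (fun h => hx h.1)]
  rw [e1, e2, e3]
  ring


theorem form_diag_entry {k : ℕ} (α : Matrix (Fin k) (Fin k) F) (d : Fin k → F) (x y : Fin k) :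
    ((diagonal d)ᵀ * α * diagonal d) x y = d x * α x y * d y := by
  rw [diagonal_transpose, mul_diagonal, diagonal_mul]

theorem form_det_update {k : ℕ} (l : Fin k) (s : F) :
    (diagonal (Function.update (1 : Fin k → F) l s)).det = s := by
  rw [det_diagonal, Finset.prod_update_of_mem (Finset.mem_univ l)]
  simp

theorem form_two_of_eq (h : (2 : F) = 0) : ringChar F = 2 := by
  have hd : ringChar F ∣ 2 := ringChar.dvd (by exact_mod_cast h)
  rcases (Nat.dvd_prime Nat.prime_two).1 hd with h1 | h1
  · exact absurd h1 (CharP.ringChar_ne_one)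
  · exact h1

/-- MI-FORM core: an invariant non-zero symmetric form forces `k = 2`, `|F| = 2`. -/
theorem mi_form [Finite F] {k : ℕ} (hk : 1 ≤ k) (α : Matrix (Fin k) (Fin k) F) (hα : α ≠ 0)
    (hsym : αᵀ = α)
    (hinv : ∀ h : Matrix (Fin k) (Fin k) F, IsUnit h.det → hᵀ * α * h = (h.det)⁻¹ • α)
    (h2 : ringChar F = 2 → ∀ b : Fin k → F, b ⬝ᵥ α *ᵥ b = 0) : k = 2 ∧ Nat.card F = 2 := by
  have T : ∀ a b : Fin k, a ≠ b → ∀ x y, (if x = b then α a y else 0) +
      (if y = b then α x a else 0) + (if x = b ∧ y = b then α a a else 0) = 0 := by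
    intro a b hab x y
    have h1 := hinv (transvection a b 1) (by rw [det_transvection_of_ne _ _ hab]; exact isUnit_one)
    rw [det_transvection_of_ne _ _ hab, inv_one, one_smul] at h1
    have h3 := congrFun (congrFun h1 x) y
    rw [form_tv_entry] at h3
    linear_combination h3
  have T1 : ∀ a b x : Fin k, a ≠ b → x ≠ b → α x a = 0 := by
    intro a b x hab hxb
    have := T a b hab x b
    rw [if_neg hxb, if_pos rfl, if_neg (fun h => hxb h.1)] at this
    simpa using this
  have hs : ∀ i j, α i j = α j i := by
    intro i j
    have := congrFun (congrFun hsym i) j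
    rw [transpose_apply] at this
    exact this.symm
  have D : ∀ (s : F) (l x y : Fin k), s ≠ 0 →
      Function.update (1 : Fin k → F) l s x * α x y * Function.update (1 : Fin k → F) l s y =
        s⁻¹ * α x y := by
    intro s l x y hs0
    have h1 := hinv (diagonal (Function.update (1 : Fin k → F) l s))
      (by rw [form_det_update]; exact isUnit_iff_ne_zero.2 hs0)
    rw [form_det_update] at h1
    have h3 := congrFun (congrFun h1 x) y
    rw [form_diag_entry, Matrix.smul_apply, smul_eq_mul] at h3
    exact h3
  -- `k ≥ 3` is impossible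
  have hk3 : k ≤ 2 := by
    by_contra hcon
    have hk3 : 3 ≤ k := by omega
    apply hα
    ext x a
    rw [Matrix.zero_apply]
    have hcard : ({x, a} : Finset (Fin k)).card < (Finset.univ : Finset (Fin k)).card := by
      rw [Finset.card_univ, Fintype.card_fin]
      exact lt_of_le_of_lt Finset.card_le_two hk3
    obtain ⟨b, -, hb⟩ := Finset.exists_mem_notMem_of_card_lt_card hcard
    rw [Finset.mem_insert, Finset.mem_singleton, not_or] at hb
    exact T1 a b x (Ne.symm hb.2) (Ne.symm hb.1)
  rcases (by omega : k = 1 ∨ k = 2) with rfl | rfl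
  · -- `k = 1`
    exfalso
    have h00 : α 0 0 ≠ 0 := by
      intro h0
      apply hα
      ext x a
      rw [Subsingleton.elim x 0, Subsingleton.elim a 0, h0, Matrix.zero_apply]
    by_cases hc : ringChar F = 2
    · have := h2 hc (fun _ => 1)
      simp [dotProduct, mulVec] at this
      exact h00 this
    · have hm1 : (-1 : F) ≠ 0 := neg_ne_zero.2 one_ne_zero
      have := D (-1) 0 0 0 hm1
      rw [Function.update_self] at this
      have h3 : (2 : F) * α 0 0 = 0 := by
        have e : (-1 : F)⁻¹ = -1 := by rw [inv_neg, inv_one]
        rw [e] at this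
        linear_combination this
      rcases mul_eq_zero.1 h3 with h4 | h4
      · exact hc (form_two_of_eq h4)
      · exact h00 h4
  · -- `k = 2`
    refine ⟨rfl, ?_⟩
    have d00 : α 0 0 = 0 := T1 0 1 0 (by decide) (by decide)
    have d11 : α 1 1 = 0 := T1 1 0 1 (by decide) (by decide)
    have h01 : α 0 1 ≠ 0 := by
      intro h0
      apply hα
      ext x a
      rw [Matrix.zero_apply]
      fin_cases x <;> fin_cases a
      · exact d00
      · exact h0
      · exact (hs 1 0).trans h0
      · exact d11
    have t2 := T 0 1 (by decide) 1 1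
    rw [if_pos rfl, if_pos rfl, if_pos ⟨rfl, rfl⟩, d00, hs 1 0] at t2
    have h20 : (2 : F) = 0 := by
      have : (2 : F) * α 0 1 = 0 := by linear_combination t2
      rcases mul_eq_zero.1 this with h | h
      · exact h
      · exact absurd h h01
    have hall : ∀ s : F, s ≠ 0 → s = 1 := by
      intro s hs0
      have := D s 0 0 1 hs0
      rw [Function.update_self, Function.update_of_ne (by decide), Pi.one_apply, mul_one] at this
      have h5 : s = s⁻¹ := mul_right_cancel₀ h01 this
      have h6 : s * s = 1 := by
        nth_rewrite 2 [h5]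
        exact mul_inv_cancel₀ hs0
      have h7 : (s - 1) * (s - 1) = 0 := by linear_combination h6 - s * h20 + h20
      rcases mul_eq_zero.1 h7 with h | h <;> exact sub_eq_zero.1 h
    rw [Nat.card_eq_two_iff]
    refine ⟨0, 1, zero_ne_one, ?_⟩
    ext s
    simp only [Set.mem_insert_iff, Set.mem_singleton_iff, Set.mem_univ, iff_true]
    by_cases h : s = 0
    · exact Or.inl h
    · exact Or.inr (hall s h)

end Cfsg.Agent.Lib.Helper48.Mi
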