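import Cfsg.Agent.Lib.Helper48.NilHallA

/-!
# Fusion in nilpotent Hall subgroups of a minimal simple group of odd order, part B

Control of fusion by Sylow normalizers inside an arbitrary subgroup, and the splitting
`H = P × H'` of a nilpotent subgroup.
-/

set_option autoImplicit false
set_option linter.unusedSectionVars false
set_option linter.unusedVariables false
set_option linter.style.haveILetI false

namespace Cfsg.Agent.Lib.Helper48.NilHall

open Subgroup Cfsg
open Cfsg.Agent.Lib.Helper33 (cj cj_def mem_cj mem_cj' cj_mul cj_mono card_cj isPGroup_cj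
  conj_mem_cj cj_sup cj_eq_self_iff)

universe u

variable {G : Type u} [Group G] [Finite G]

/-- the normalizer of a Sylow subgroup of `L` controls fusion of its elements in `L`, for every
subgroup `L` of a minimal simple group of odd order -/
theorem sylowFus (hG : IsMinSimpleOddOrder G) {p : ℕ} [hp : Fact p.Prime] (L P : Subgroup G)
    (hPL : P ≤ L) (hPp : IsPGroup p P) (hPs : ¬ p ∣ P.relIndex L) (a g : G) (ha : a ∈ P)
    (hg : g ∈ L) (hag : g * a * g⁻¹ ∈ P) :
    ∃ y ∈ L ⊓ normalizer (P : Set G), ∃ c ∈ L ⊓ centralizer ({a} : Set G), g = y * c := by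
  classical
  by_cases hL : L = ⊤
  · subst hL
    have hidx : ¬ p ∣ P.index := by rwa [relIndex_top_right] at hPs
    let S : Sylow p G := hPp.toSylow hidx
    have hSP : (S : Subgroup G) = P := rfl
    have h4 : Cfsg.Agent.Lib.Helper24.BG.Stmt1404 G :=
      fun M hM p _ hp X hXp hX1 hXM => Cfsg.Agent.S1404.result hG M hM p hp X hXp hX1 hXM
    have h10 : Cfsg.Agent.Lib.Helper24.BG.Stmt1410 G :=
      fun p _ H hH => Cfsg.Agent.S1410.result hG p H hH
    have hQP : zpowers a ≤ (S : Subgroup G) := by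
      rw [hSP, zpowers_le]; exact ha
    have hx : cj g (zpowers a) ≤ (S : Subgroup G) := by
      rw [hSP]
      intro x hx
      rw [mem_cj'] at hx
      obtain ⟨h, hh, rfl⟩ := hx
      obtain ⟨k, rfl⟩ := mem_zpowers_iff.mp hh
      have : g * a ^ k * g⁻¹ = (g * a * g⁻¹) ^ k := by
        rw [conj_zpow]
      rw [this]
      exact P.zpow_mem hag k
    obtain ⟨y, hy, c, hc, hgyc⟩ := Cfsg.Agent.Lib.Helper24.BG.fus hG h4 h10 p S (zpowers a) g hQP hx
    refine ⟨y, mem_inf.mpr ⟨mem_top y, by rwa [hSP] at hy⟩, c, mem_inf.mpr ⟨mem_top c, ?_⟩, hgyc⟩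
    rw [mem_centralizer_iff]
    intro z hz
    rw [Set.mem_singleton_iff] at hz
    subst hz
    exact mem_centralizer_iff.mp hc z (mem_zpowers z)
  · haveI : Group.IsSolvable ↥L := Cfsg.Agent.Lib.Helper23.isSolvable_of_ne_top hG hL
    have hpl : PLengthLE p 1 ↥L := Cfsg.Agent.S1410.result hG p L hL
    have hq : IsPGroup p (P.subgroupOf L) := hPp.comap_subtype
    let S : Sylow p L := hq.toSylow hPs
    have hSP : ∀ z : L, z ∈ (S : Subgroup L) ↔ (z : G) ∈ P := fun z => mem_subgroupOf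
    obtain ⟨y, hy, c, hc, hyc⟩ := (Cfsg.Agent.S1461.result p hpl S).2.1
      {(⟨a, hPL ha⟩ : L)} ⟨g, hg⟩
      (by
        intro z hz
        rw [Set.mem_singleton_iff] at hz
        subst hz
        rw [SetLike.mem_coe, hSP]
        exact ha)
      (by
        rintro _ ⟨z, hz, rfl⟩
        rw [Set.mem_singleton_iff] at hz
        subst hz
        rw [SetLike.mem_coe, hSP]
        exact hag)
    refine ⟨(y : G), mem_inf.mpr ⟨y.2, ?_⟩, (c : G), mem_inf.mpr ⟨c.2, ?_⟩, ?_⟩
    · rw [mem_normalizer_iff] at hy ⊢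
      intro n
      constructor
      · intro hn
        have h1 := (hy ⟨n, hPL hn⟩).mp ((hSP _).mpr hn)
        exact (hSP _).mp h1
      · intro hn
        have hnL : n ∈ L := by
          have h1 : n = (y : G)⁻¹ * ((y : G) * n * (y : G)⁻¹) * (y : G) := by group
          rw [h1]
          exact L.mul_mem (L.mul_mem (L.inv_mem y.2) (hPL hn)) y.2
        have h1 := (hy ⟨n, hnL⟩).mpr ((hSP _).mpr hn)
        exact (hSP _).mp h1
    · rw [mem_centralizer_iff]
      intro z hz
      rw [Set.mem_singleton_iff] at hz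
      subst hz
      have h1 := mem_centralizer_iff.mp hc ⟨z, hPL ha⟩ (Set.mem_singleton _)
      exact congrArg (fun t : ↥L => (t : G)) h1
    · exact (congrArg (fun t : ↥L => (t : G)) hyc).symm

/-- the splitting of a nilpotent subgroup into its Sylow `p`-subgroup and its Hall `p'`-subgroup -/
theorem exists_split {p : ℕ} [hp : Fact p.Prime] (H : Subgroup G) (hH : Group.IsNilpotent H)
    (hpH : p ∣ Nat.card H) :
    ∃ P K : Subgroup G, P ≤ H ∧ K ≤ H ∧ IsPGroup p P ∧ P ≠ ⊥ ∧ (Nat.card K).Coprime p ∧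
      Nat.card H = Nat.card P * Nat.card K ∧ (∀ a ∈ P, ∀ b ∈ K, a * b = b * a) ∧ P ⊔ K = H ∧
      (∀ h ∈ H, (∃ k : ℕ, h ^ p ^ k = 1) → h ∈ P) ∧
      ∀ h ∈ H, (orderOf h).Coprime p → h ∈ K := by
  classical
  obtain ⟨S⟩ : Nonempty (Sylow p H) := inferInstance
  have hSn : (S : Subgroup H).Normal := by
    have h := (Group.isNilpotent_of_finite_tfae (G := ↥H)).out 0 3
    exact h.mp hH p hp S
  have hScop : (Nat.card (S : Subgroup H)).Coprime (S : Subgroup H).index :=
    S.card_coprime_index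
  obtain ⟨K₀, hK₀⟩ := exists_right_complement'_of_coprime hScop
  have hcardmul : Nat.card (S : Subgroup H) * Nat.card K₀ = Nat.card H := hK₀.card_mul_card
  have hdisj : (S : Subgroup H) ⊓ K₀ = ⊥ := hK₀.disjoint.eq_bot
  have hsup : (S : Subgroup H) ⊔ K₀ = ⊤ := hK₀.sup_eq_top
  have hK₀idx : K₀.index = Nat.card (S : Subgroup H) := hK₀.index_eq_card
  have hK₀card : Nat.card K₀ = (S : Subgroup H).index := hK₀.symm.index_eq_card.symm
  have hK₀cop : (Nat.card K₀).Coprime K₀.index := by
    rw [hK₀idx, hK₀card]; exact hScop.symm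
  haveI hK₀n : K₀.Normal := Cfsg.Agent.Lib.Helper1.normal_of_hall_of_isNilpotent K₀ hK₀cop
  have hcomm : ∀ a ∈ (S : Subgroup H), ∀ b ∈ K₀, a * b = b * a := fun a ha b hb =>
    Subgroup.commute_of_normal_of_disjoint _ _ hSn hK₀n (disjoint_iff.mpr hdisj) a b ha hb
  have hSne : (S : Subgroup H) ≠ ⊥ := by
    intro h
    have h1 : ¬ p ∣ (S : Subgroup H).index := S.not_dvd_index
    rw [h, index_bot] at h1
    exact h1 hpH
  have hK₀p : (Nat.card K₀).Coprime p := by
    rw [hK₀card]
    exact ((Nat.Prime.coprime_iff_not_dvd hp.out).mpr S.not_dvd_index).symm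
  refine ⟨(S : Subgroup H).map H.subtype, K₀.map H.subtype, map_subtype_le _, map_subtype_le _,
    S.isPGroup'.map _, ?_, ?_, ?_, ?_, ?_, ?_, ?_⟩
  · intro h
    apply hSne
    rwa [map_eq_bot_iff_of_injective _ H.subtype_injective] at h
  · rwa [card_map_of_injective H.subtype_injective]
  · rw [card_map_of_injective H.subtype_injective, card_map_of_injective H.subtype_injective,
      hcardmul]
  · rintro _ ⟨a, ha, rfl⟩ _ ⟨b, hb, rfl⟩
    have := hcomm a ha b hb
    exact congrArg (fun t : ↥H => (t : G)) this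
  · rw [← Subgroup.map_sup, hsup, ← MonoidHom.range_eq_map, range_subtype]
  · intro h hh ⟨k, hk⟩
    have hh' : (⟨h, hh⟩ : H) ^ p ^ k = 1 := Subtype.ext (by simpa using hk)
    obtain ⟨j, -, hj⟩ := (Nat.dvd_prime_pow hp.out).mp (orderOf_dvd_of_pow_eq_one hh')
    have hz : IsPGroup p (zpowers (⟨h, hh⟩ : H)) :=
      IsPGroup.of_card (n := j) (by rw [Nat.card_zpowers, hj])
    obtain ⟨S', hS'⟩ := hz.exists_le_sylow
    obtain ⟨g, hg⟩ := MulAction.exists_smul_eq H S S'
    haveI := hSn
    have hSS : S' = S := by rw [← hg]; exact Sylow.smul_eq_of_normal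
    refine ⟨⟨h, hh⟩, ?_, rfl⟩
    rw [SetLike.mem_coe, ← hSS]
    exact hS' (mem_zpowers _)
  · intro h hh hcop
    obtain ⟨⟨s, k⟩, hsk⟩ := hK₀.2 (⟨h, hh⟩ : H)
    have hsk' : (s : H) * (k : H) = ⟨h, hh⟩ := hsk
    have hck : (s : H) * (k : H) = (k : H) * (s : H) := hcomm s s.2 k k.2
    set n := orderOf h with hn
    have h1 : ((s : H) * (k : H)) ^ (Nat.card K₀ * n) = 1 := by
      rw [hsk', pow_mul']
      have : (⟨h, hh⟩ : H) ^ n = 1 := Subtype.ext (by simpa [hn] using pow_orderOf_eq_one h)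
      rw [this, one_pow]
    have h2 : (k : H) ^ (Nat.card K₀ * n) = 1 := by
      have : (k : H) ^ Nat.card K₀ = 1 := by
        have := pow_card_eq_one' (G := K₀) (x := k)
        exact_mod_cast congrArg (fun t : K₀ => (t : H)) this
      rw [pow_mul, this, one_pow]
    have h3 : (s : H) ^ (Nat.card K₀ * n) = 1 := by
      rw [(Commute.mul_pow hck _), h2, mul_one] at h1
      exact h1
    obtain ⟨e, he⟩ := IsPGroup.iff_card.mp S.isPGroup'
    have h4 : (s : H) ^ p ^ e = 1 := by
      have := pow_card_eq_one' (G := (S : Subgroup H)) (x := s)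
      rw [he] at this
      exact_mod_cast congrArg (fun t : (S : Subgroup H) => (t : H)) this
    have h5 : orderOf (s : H) ∣ Nat.card K₀ * n := orderOf_dvd_of_pow_eq_one h3
    have h6 : orderOf (s : H) ∣ p ^ e := orderOf_dvd_of_pow_eq_one h4
    have hc : (Nat.card K₀ * n).Coprime (p ^ e) :=
      Nat.Coprime.pow_right _ (Nat.Coprime.mul_left hK₀p hcop)
    have h7 : orderOf (s : H) = 1 := Nat.eq_one_of_dvd_coprimes hc h5 h6
    have h8 : (s : H) = 1 := orderOf_eq_one_iff.mp h7
    rw [h8, one_mul] at hsk'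
    refine ⟨(k : H), k.2, ?_⟩
    rw [hsk']
    rfl

end Cfsg.Agent.Lib.Helper48.NilHall
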