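import Cfsg.Agent.Lib.Helper48.NilHallB

/-!
# Fusion in nilpotent Hall subgroups of a minimal simple group of odd order, part C

The normalizer of a nilpotent Hall subgroup `H` of a subgroup `L` controls fusion of elements of
`H` in `L`.
-/

set_option autoImplicit false
set_option linter.unusedSectionVars false
set_option linter.unusedVariables false
set_option linter.style.haveILetI false

namespace Cfsg.Agent.Lib.Helper48.NilHall

open Subgroup Cfsg
open Cfsg.Agent.Lib.Helper33 (cj cj_def mem_cj mem_cj' cj_mul cj_mono card_cj isPGroup_cj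
  conj_mem_cj cj_sup cj_eq_self_iff centralizer_cj)

universe u

variable {G : Type u} [Group G] [Finite G]

theorem nil_of_le' {H K : Subgroup G} (hHK : H ≤ K) (hK : Group.IsNilpotent ↥K) :
    Group.IsNilpotent ↥H := by
  haveI := hK
  exact Group.nilpotent_of_mulEquiv (Subgroup.subgroupOfEquivOfLe hHK)

/-- the `p`-part and the `p'`-part of an element, as powers -/
theorem exists_parts {p : ℕ} (hp : p.Prime) (x : G) :
    ∃ (u v : ℤ) (e m : ℕ), m.Coprime p ∧ x = x ^ u * x ^ v ∧ (x ^ u) ^ p ^ e = 1 ∧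
      (x ^ v) ^ m = 1 := by
  obtain ⟨e, m, hm, ho⟩ := Nat.exists_eq_pow_mul_and_not_dvd (orderOf_pos x).ne' p hp.ne_one
  have hmp : m.Coprime p := ((Nat.Prime.coprime_iff_not_dvd hp).mpr hm).symm
  have hcop : (p ^ e).Coprime m := Nat.Coprime.pow_left e hmp.symm
  have hb := Nat.gcd_eq_gcd_ab (p ^ e) m
  rw [hcop.gcd_eq_one] at hb
  set A := Nat.gcdA (p ^ e) m
  set B := Nat.gcdB (p ^ e) m
  have hx : x ^ ((p ^ e * m : ℕ) : ℤ) = 1 := by
    rw [zpow_natCast, ← ho, pow_orderOf_eq_one]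
  refine ⟨(m : ℤ) * B, ((p ^ e : ℕ) : ℤ) * A, e, m, hmp, ?_, ?_, ?_⟩
  · rw [← zpow_add]
    have : (m : ℤ) * B + ((p ^ e : ℕ) : ℤ) * A = 1 := by
      have h1 := hb
      push_cast at h1 ⊢
      linarith
    rw [this, zpow_one]
  · rw [← zpow_natCast, ← zpow_mul]
    have : (m : ℤ) * B * ((p ^ e : ℕ) : ℤ) = ((p ^ e * m : ℕ) : ℤ) * B := by
      push_cast; ring
    rw [this, zpow_mul, hx, one_zpow]
  · rw [← zpow_natCast, ← zpow_mul]
    have : ((p ^ e : ℕ) : ℤ) * A * (m : ℤ) = ((p ^ e * m : ℕ) : ℤ) * A := by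
      push_cast; ring
    rw [this, zpow_mul, hx, one_zpow]

theorem mem_normalizer_sup {n : G} {P K : Subgroup G} (hP : n ∈ normalizer (P : Set G))
    (hK : n ∈ normalizer (K : Set G)) : n ∈ normalizer ((P ⊔ K : Subgroup G) : Set G) := by
  rw [← cj_eq_self_iff, cj_sup, cj_eq_self_iff.mpr hP, cj_eq_self_iff.mpr hK]

theorem le_centralizer_of_comm {P K : Subgroup G} (h : ∀ a ∈ P, ∀ b ∈ K, a * b = b * a) :
    K ≤ centralizer (P : Set G) := by
  intro b hb
  rw [mem_centralizer_iff]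
  intro a ha
  exact h a ha b hb

theorem conj_eq_of_mem_centralizer_singleton {c z : G} (hc : c ∈ centralizer ({z} : Set G)) :
    c * z * c⁻¹ = z := by
  have := mem_centralizer_iff.mp hc z (Set.mem_singleton z)
  rw [← this]; group

theorem conj_eq_of_mem_centralizer {c z : G} {K : Subgroup G} (hc : c ∈ centralizer (K : Set G))
    (hz : z ∈ K) : c * z * c⁻¹ = z := by
  have := mem_centralizer_iff.mp hc z hz
  rw [← this]; group

theorem mem_centralizer_singleton_of_conj {c z : G} (h : c * z * c⁻¹ = z) :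
    c ∈ centralizer ({z} : Set G) := by
  rw [mem_centralizer_iff]
  intro w hw
  rw [Set.mem_singleton_iff] at hw
  subst hw
  calc w * c = (c * w * c⁻¹) * c := by rw [h]
    _ = c * w := by group

/-- **Control of fusion by the normalizer of a nilpotent Hall subgroup**, inside an arbitrary
subgroup `L` of a minimal simple group of odd order. -/
theorem ctl (hG : IsMinSimpleOddOrder G) :
    ∀ (N : ℕ) (L H : Subgroup G), Nat.card H = N → H ≤ L → Group.IsNilpotent H →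
      (Nat.card H).Coprime (H.relIndex L) →
      ∀ x ∈ H, ∀ g ∈ L, g * x * g⁻¹ ∈ H →
        ∃ n ∈ L ⊓ normalizer (H : Set G), n * x * n⁻¹ = g * x * g⁻¹ := by
  intro N
  induction N using Nat.strong_induction_on with
  | _ N ih =>
  intro L H hN hHL hnil hcop x hx g hg hxg
  classical
  by_cases hH1 : Nat.card H = 1
  · have hbot : H = ⊥ := card_eq_one.mp hH1
    have hx1 : x = 1 := by
      rw [hbot, mem_bot] at hx; exact hx
    subst hx1
    exact ⟨1, one_mem _, by group⟩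
  obtain ⟨p, hp, hpH⟩ := Nat.exists_prime_and_dvd hH1
  haveI hpf : Fact p.Prime := ⟨hp⟩
  obtain ⟨P, K, hPH, hKH, hPp, hP1, hKp, hcard, hcomm, hsup, hPmem, hKmem⟩ :=
    exists_split H hnil hpH
  have hPL : P ≤ L := hPH.trans hHL
  have hKL : K ≤ L := hKH.trans hHL
  -- arithmetic of the indices
  have hPpos : 0 < Nat.card P := Nat.card_pos
  have hKpos : 0 < Nat.card K := Nat.card_pos
  have hPH_idx : P.relIndex H = Nat.card K := by
    have h1 := relIndex_mul_card hPH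
    rw [hcard, mul_comm] at h1
    exact Nat.eq_of_mul_eq_mul_left hPpos h1
  have hKH_idx : K.relIndex H = Nat.card P := by
    have h1 := relIndex_mul_card hKH
    rw [hcard] at h1
    exact Nat.eq_of_mul_eq_mul_right hKpos h1
  have hpidx : ¬ p ∣ H.relIndex L := by
    intro hd
    have := Nat.Coprime.eq_one_of_dvd (hcop.coprime_dvd_left hpH) hd
    exact hp.one_lt.ne' this
  have hPs : ∀ X : Subgroup G, P ≤ X → X ≤ L → ¬ p ∣ P.relIndex X := by
    intro X hPX hXL hd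
    have h1 : P.relIndex X ∣ P.relIndex L := ⟨_, (relIndex_mul_relIndex P X L hPX hXL).symm⟩
    have h2 : P.relIndex L = Nat.card K * H.relIndex L := by
      rw [← relIndex_mul_relIndex P H L hPH hHL, hPH_idx]
    rw [h2] at h1
    rcases (Nat.Prime.dvd_mul hp).mp (hd.trans h1) with h | h
    · have := Nat.Coprime.eq_one_of_dvd hKp.symm h
      exact hp.one_lt.ne' this
    · exact hpidx h
  obtain ⟨eP, hePcard⟩ := IsPGroup.iff_card.mp hPp
  have hKP : (Nat.card K).Coprime (Nat.card P) := by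
    rw [hePcard]; exact Nat.Coprime.pow_right _ hKp
  have hKhall : ∀ X : Subgroup G, K ≤ X → X ≤ L → (Nat.card K).Coprime (K.relIndex X) := by
    intro X hKX hXL
    have h1 : K.relIndex X ∣ K.relIndex L := ⟨_, (relIndex_mul_relIndex K X L hKX hXL).symm⟩
    have h2 : K.relIndex L = Nat.card P * H.relIndex L := by
      rw [← relIndex_mul_relIndex K H L hKH hHL, hKH_idx]
    rw [h2] at h1
    apply Nat.Coprime.coprime_dvd_right h1
    apply Nat.Coprime.mul_right hKP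
    exact hcop.coprime_dvd_left ⟨Nat.card P, by rw [hcard, mul_comm]⟩
  have hKlt : Nat.card K < N := by
    rw [← hN, hcard]
    have h2 : 1 < Nat.card P := by
      rcases Nat.lt_or_ge 1 (Nat.card P) with h | h
      · exact h
      · exfalso
        apply hP1
        apply card_eq_one.mp
        omega
    calc Nat.card K = 1 * Nat.card K := (one_mul _).symm
      _ < Nat.card P * Nat.card K := Nat.mul_lt_mul_of_pos_right h2 hKpos
  have hKnil : Group.IsNilpotent K := nil_of_le' hKH hnil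
  have hPtop : P ≠ ⊤ := by
    intro h
    apply Cfsg.Agent.Lib.Helper23.not_isPGroup_top hG p
    rw [← h]; exact hPp
  have hNPtop : normalizer (P : Set G) ≠ ⊤ :=
    Cfsg.Agent.Lib.Helper63.BG10.normalizer_ne_top hG hP1 hPtop
  have hKcP : K ≤ centralizer (P : Set G) := le_centralizer_of_comm hcomm
  have hPcK : P ≤ centralizer (K : Set G) :=
    le_centralizer_of_comm (fun b hb a ha => (hcomm a ha b hb).symm)
  -- the parts of `x`
  obtain ⟨u, v, e, m, hmp, hxuv, hu, hv⟩ := exists_parts hp x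
  set a := x ^ u with ha_def
  set b := x ^ v with hb_def
  have haH : a ∈ H := H.zpow_mem hx u
  have hbH : b ∈ H := H.zpow_mem hx v
  have ha : a ∈ P := hPmem a haH ⟨e, hu⟩
  have hb : b ∈ K := hKmem b hbH
    (Nat.Coprime.coprime_dvd_left (orderOf_dvd_of_pow_eq_one hv) hmp)
  have hga : g * a * g⁻¹ = (g * x * g⁻¹) ^ u := by rw [ha_def, conj_zpow]
  have hgb : g * b * g⁻¹ = (g * x * g⁻¹) ^ v := by rw [hb_def, conj_zpow]
  have hag : g * a * g⁻¹ ∈ P := by
    apply hPmem _ (by rw [hga]; exact H.zpow_mem hxg u)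
    refine ⟨e, ?_⟩
    rw [conj_pow, hu]; group
  have hbg : g * b * g⁻¹ ∈ K := by
    apply hKmem _ (by rw [hgb]; exact H.zpow_mem hxg v)
    apply Nat.Coprime.coprime_dvd_left _ hmp
    apply orderOf_dvd_of_pow_eq_one
    rw [conj_pow, hv]; group
  -- step (i)
  obtain ⟨y, hy, c, hc, hgyc⟩ := sylowFus hG L P hPL hPp (hPs L hPL le_rfl) a g ha hg hag
  set z := g * a * g⁻¹ with hz_def
  have hyz : y * a * y⁻¹ = z := by
    rw [hz_def, hgyc]
    have := conj_eq_of_mem_centralizer_singleton hc.2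
    calc y * a * y⁻¹ = y * (c * a * c⁻¹) * y⁻¹ := by rw [this]
      _ = y * c * a * (y * c)⁻¹ := by group
  -- step (ii)
  set C₁ := L ⊓ normalizer (P : Set G) ⊓ centralizer ({z} : Set G) with hC₁
  have hC₁top : C₁ ≠ ⊤ := by
    intro h
    apply hNPtop
    rw [eq_top_iff, ← h]
    exact inf_le_left.trans inf_le_right
  haveI : Group.IsSolvable ↥C₁ := Cfsg.Agent.Lib.Helper23.isSolvable_of_ne_top hG hC₁top
  have hcPz : centralizer (P : Set G) ≤ centralizer ({z} : Set G) :=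
    centralizer_le (by
      intro w hw
      rw [Set.mem_singleton_iff] at hw
      rw [hw]; exact hag)
  have hK1 : K ≤ C₁ :=
    le_inf (le_inf hKL (hKcP.trans (centralizer_le_normalizer _))) (hKcP.trans hcPz)
  have hyP : cj y P = P := cj_eq_self_iff.mpr hy.2
  have hK2 : cj y K ≤ C₁ := by
    have h1 : cj y K ≤ centralizer (P : Set G) := by
      have := cj_mono (g := y) hKcP
      rwa [← centralizer_cj, hyP] at this
    have h2 : cj y K ≤ L := by
      intro w hw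
      rw [mem_cj'] at hw
      obtain ⟨k, hk, rfl⟩ := hw
      exact L.mul_mem (L.mul_mem hy.1 (hKL hk)) (L.inv_mem hy.1)
    exact le_inf (le_inf h2 (h1.trans (centralizer_le_normalizer _))) (h1.trans hcPz)
  obtain ⟨c₁, hc₁, hc₁K⟩ := hall_conj_in C₁ K (cj y K) hK1 hK2 (card_cj y K)
    (hKhall C₁ hK1 (inf_le_left.trans inf_le_left))
  set n₁ := c₁ * y with hn₁
  have hn₁L : n₁ ∈ L := L.mul_mem hc₁.1.1 hy.1
  have hn₁P : n₁ ∈ normalizer (P : Set G) := (normalizer (P : Set G)).mul_mem hc₁.1.2 hy.2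
  have hn₁K : cj n₁ K = K := by rw [hn₁, cj_mul]; exact hc₁K
  have hn₁Kn : n₁ ∈ normalizer (K : Set G) := cj_eq_self_iff.mp hn₁K
  have hn₁a : n₁ * a * n₁⁻¹ = z := by
    have := conj_eq_of_mem_centralizer_singleton hc₁.2
    calc n₁ * a * n₁⁻¹ = c₁ * (y * a * y⁻¹) * c₁⁻¹ := by rw [hn₁]; group
      _ = z := by rw [hyz, this]
  -- step (iii)
  set b₁ := n₁ * b * n₁⁻¹ with hb₁_def
  have hb₁ : b₁ ∈ K := by
    rw [← hn₁K]; exact conj_mem_cj hb
  set g₁ := g * n₁⁻¹ with hg₁_def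
  have hg₁L : g₁ ∈ L := L.mul_mem hg (L.inv_mem hn₁L)
  have hg₁z : g₁ * z * g₁⁻¹ = z := by
    calc g₁ * z * g₁⁻¹ = g * (n₁⁻¹ * (n₁ * a * n₁⁻¹) * n₁) * g⁻¹ := by
          rw [hn₁a, hg₁_def]; group
      _ = z := by rw [hz_def]; group
  set b₂ := g * b * g⁻¹ with hb₂_def
  have hg₁b : g₁ * b₁ * g₁⁻¹ = b₂ := by
    rw [hg₁_def, hb₁_def, hb₂_def]; group
  -- step (iv)
  set L₂ := L ⊓ centralizer ({z} : Set G) with hL₂
  have hKL₂ : K ≤ L₂ := le_inf hKL (hKcP.trans hcPz)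
  have hg₁L₂ : g₁ ∈ L₂ := ⟨hg₁L, mem_centralizer_singleton_of_conj hg₁z⟩
  obtain ⟨n₀, hn₀, hn₀b⟩ := ih (Nat.card K) hKlt L₂ K rfl hKL₂ hKnil
    (hKhall L₂ hKL₂ inf_le_left) b₁ hb₁ g₁ hg₁L₂ (by rw [hg₁b]; exact hbg)
  rw [hg₁b] at hn₀b
  have hn₀z : n₀ * z * n₀⁻¹ = z := conj_eq_of_mem_centralizer_singleton hn₀.1.2
  have hn₀L : n₀ ∈ L := hn₀.1.1
  have hn₀K : cj n₀ K = K := cj_eq_self_iff.mpr hn₀.2
  -- step (v)
  set C' := L ⊓ centralizer (K : Set G) with hC'
  have hPC' : P ≤ C' := le_inf hPL hPcK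
  have hP2 : cj n₀ P ≤ C' := by
    have h1 : cj n₀ P ≤ centralizer (K : Set G) := by
      have := cj_mono (g := n₀) hPcK
      rwa [← centralizer_cj, hn₀K] at this
    have h2 : cj n₀ P ≤ L := by
      intro w hw
      rw [mem_cj'] at hw
      obtain ⟨k, hk, rfl⟩ := hw
      exact L.mul_mem (L.mul_mem hn₀L (hPL hk)) (L.inv_mem hn₀L)
    exact le_inf h2 h1
  obtain ⟨c', hc', hc'P⟩ := sylow_conj_in C' P (cj n₀ P) hPC' hP2 hPp (isPGroup_cj hPp)
    (hPs C' hPC' inf_le_left) (card_cj n₀ P).symm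
  set m' := c' * n₀ with hm'
  have hm'L : m' ∈ L := L.mul_mem hc'.1 hn₀L
  have hm'P : cj m' P = P := by rw [hm', cj_mul]; exact hc'P
  have hm'K : m' ∈ normalizer (K : Set G) :=
    (normalizer (K : Set G)).mul_mem (centralizer_le_normalizer _ hc'.2) hn₀.2
  set z' := c' * z * c'⁻¹ with hz'_def
  have hm'z : m' * z * m'⁻¹ = z' := by
    calc m' * z * m'⁻¹ = c' * (n₀ * z * n₀⁻¹) * c'⁻¹ := by rw [hm']; group
      _ = z' := by rw [hn₀z]
  have hz'P : z' ∈ P := by
    rw [← hm'z, ← hm'P]; exact conj_mem_cj hag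
  obtain ⟨y', hy', c'', hc'', hc'yc⟩ := sylowFus hG C' P hPC' hPp (hPs C' hPC' inf_le_left)
    z c' hag hc' hz'P
  have hy'z : y' * z * y'⁻¹ = z' := by
    have := conj_eq_of_mem_centralizer_singleton hc''.2
    calc y' * z * y'⁻¹ = y' * (c'' * z * c''⁻¹) * y'⁻¹ := by rw [this]
      _ = (y' * c'') * z * (y' * c'')⁻¹ := by group
      _ = z' := by rw [← hc'yc]
  set n₂ := y'⁻¹ * m' with hn₂
  have hn₂L : n₂ ∈ L := L.mul_mem (L.inv_mem hy'.1.1) hm'L
  have hn₂P : n₂ ∈ normalizer (P : Set G) :=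
    (normalizer (P : Set G)).mul_mem ((normalizer (P : Set G)).inv_mem hy'.2)
      (cj_eq_self_iff.mp hm'P)
  have hn₂K : n₂ ∈ normalizer (K : Set G) :=
    (normalizer (K : Set G)).mul_mem
      ((normalizer (K : Set G)).inv_mem (centralizer_le_normalizer _ hy'.1.2)) hm'K
  have hn₂z : n₂ * z * n₂⁻¹ = z := by
    calc n₂ * z * n₂⁻¹ = y'⁻¹ * (m' * z * m'⁻¹) * y' := by rw [hn₂]; group
      _ = y'⁻¹ * (y' * z * y'⁻¹) * y' := by rw [hm'z, hy'z]
      _ = z := by group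
  have hn₂b : n₂ * b₁ * n₂⁻¹ = b₂ := by
    have h1 : c' * b₂ * c'⁻¹ = b₂ := conj_eq_of_mem_centralizer hc'.2 hbg
    have h2 : y'⁻¹ * b₂ * y'⁻¹⁻¹ = b₂ :=
      conj_eq_of_mem_centralizer ((centralizer (K : Set G)).inv_mem hy'.1.2) hbg
    calc n₂ * b₁ * n₂⁻¹ = y'⁻¹ * (c' * (n₀ * b₁ * n₀⁻¹) * c'⁻¹) * y'⁻¹⁻¹ := by
          rw [hn₂, hm']; group
      _ = b₂ := by rw [hn₀b, h1, h2]
  -- the answer
  refine ⟨n₂ * n₁, ⟨L.mul_mem hn₂L hn₁L, ?_⟩, ?_⟩
  · rw [← hsup]
    exact (normalizer ((P ⊔ K : Subgroup G) : Set G)).mul_mem (mem_normalizer_sup hn₂P hn₂K)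
      (mem_normalizer_sup hn₁P hn₁Kn)
  · have hxab : x = a * b := hxuv
    have h1 : g * x * g⁻¹ = z * b₂ := by
      rw [hz_def, hb₂_def]
      conv_lhs => rw [hxab]
      group
    have h2 : n₂ * n₁ * x * (n₂ * n₁)⁻¹
        = (n₂ * (n₁ * a * n₁⁻¹) * n₂⁻¹) * (n₂ * (n₁ * b * n₁⁻¹) * n₂⁻¹) := by
      conv_lhs => rw [hxab]
      group
    rw [h2, hn₁a, hn₂z, ← hb₁_def, hn₂b, h1]

end Cfsg.Agent.Lib.Helper48.NilHall
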