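import Mathlib.GroupTheory.SpecificGroups.Cyclic
import Mathlib.GroupTheory.Index
import Mathlib.GroupTheory.OrderOfElement
import Mathlib.Tactic

set_option autoImplicit false

namespace Cfsg.Agent.Lib.Helper48

open Subgroup

/-- In a finite commutative group where the `p`-torsion has at most `p` elements for each prime
`p`, the `n`-torsion has at most `n` elements. -/
theorem card_torsion_le {A : Type*} [CommGroup A] [Finite A]
    (h : ∀ p : ℕ, p.Prime → Nat.card (powMonoidHom p : A →* A).ker ≤ p) :
    ∀ n : ℕ, 0 < n → Nat.card (powMonoidHom n : A →* A).ker ≤ n := by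
  intro n
  induction n using Nat.strong_induction_on with
  | _ n ih =>
    intro hn
    rcases Nat.lt_or_ge 1 n with h1 | h1
    · -- n > 1
      set p := n.minFac with hp_def
      have hp : p.Prime := Nat.minFac_prime (by omega)
      obtain ⟨m, hm⟩ : p ∣ n := Nat.minFac_dvd n
      have hm0 : 0 < m := by
        rcases Nat.eq_zero_or_pos m with h0 | h0
        · rw [h0, mul_zero] at hm; omega
        · exact h0
      have hmn : m < n := by
        rw [hm]
        have := hp.one_lt
        nlinarith
      have ihm := ih m hmn hm0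
      set Kn : Subgroup A := (powMonoidHom n : A →* A).ker
      set Kp : Subgroup A := (powMonoidHom p : A →* A).ker
      set Km : Subgroup A := (powMonoidHom m : A →* A).ker
      have hpn : Kp ≤ Kn := by
        intro x hx
        rw [MonoidHom.mem_ker, powMonoidHom_apply] at hx ⊢
        rw [hm, pow_mul, hx, one_pow]
      have hmap : Kn.map (powMonoidHom p : A →* A) ≤ Km := by
        rintro _ ⟨x, hx, rfl⟩
        have hx' : x ^ n = 1 := by
          have := hx
          rw [SetLike.mem_coe, MonoidHom.mem_ker, powMonoidHom_apply] at this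
          exact this
        rw [MonoidHom.mem_ker, powMonoidHom_apply, powMonoidHom_apply, ← pow_mul, ← hm]
        exact hx'
      have h2 : Nat.card (Kp.subgroupOf Kn) * (Kp.subgroupOf Kn).index = Nat.card Kn :=
        Subgroup.card_mul_index _
      have h3 : (Kp.subgroupOf Kn).index = Nat.card (Kn.map (powMonoidHom p : A →* A)) :=
        Subgroup.relIndex_ker Kn (powMonoidHom p : A →* A)
      have h4 : Nat.card (Kp.subgroupOf Kn) = Nat.card Kp :=
        Nat.card_congr (Subgroup.subgroupOfEquivOfLe hpn).toEquiv
      rw [h3, h4] at h2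
      rw [← h2, hm]
      exact Nat.mul_le_mul (h p hp) ((Subgroup.card_le_of_le hmap).trans ihm)
    · have hn1 : n = 1 := by omega
      subst hn1
      have : (powMonoidHom 1 : A →* A).ker = ⊥ := by
        ext x
        rw [MonoidHom.mem_ker, powMonoidHom_apply, pow_one, Subgroup.mem_bot]
      rw [this, Subgroup.card_bot]

/-- A finite commutative group which is not cyclic contains two independent elements of some
prime order `p`. -/
theorem exists_rank_two_of_not_isCyclic {A : Type*} [Group A] [Finite A]
    (hcomm : ∀ a b : A, a * b = b * a) (hA : ¬ IsCyclic A) :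
    ∃ p : ℕ, p.Prime ∧ ∃ a b : A, a ^ p = 1 ∧ b ^ p = 1 ∧ b ≠ 1 ∧ a ∉ Subgroup.zpowers b := by
  classical
  let _ : CommGroup A := { ‹Group A› with mul_comm := hcomm }
  by_contra hcon
  push Not at hcon
  apply hA
  have key : ∀ p : ℕ, p.Prime → Nat.card (powMonoidHom p : A →* A).ker ≤ p := by
    intro p hp
    by_contra hlt
    push Not at hlt
    set Ω : Subgroup A := (powMonoidHom p : A →* A).ker
    have hΩ1 : 1 < Nat.card Ω := lt_trans hp.one_lt hlt
    have hΩne : Ω ≠ ⊥ := (Subgroup.one_lt_card_iff_ne_bot (H := Ω)).mp hΩ1
    obtain ⟨b, hbΩ, hb1⟩ := (Subgroup.bot_or_exists_ne_one Ω).resolve_left hΩne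
    have hbp : b ^ p = 1 := by
      have := hbΩ
      rw [MonoidHom.mem_ker, powMonoidHom_apply] at this
      exact this
    have hbo : orderOf b = p := by
      have : Fact p.Prime := ⟨hp⟩
      exact orderOf_eq_prime hbp hb1
    have : ∃ a ∈ Ω, a ∉ Subgroup.zpowers b := by
      by_contra hcon2
      push Not at hcon2
      have hle : Ω ≤ Subgroup.zpowers b := hcon2
      have h1 : Nat.card Ω ≤ Nat.card (Subgroup.zpowers b) := Subgroup.card_le_of_le hle
      rw [Nat.card_zpowers, hbo] at h1
      omega
    obtain ⟨a, haΩ, haz⟩ := this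
    have hap : a ^ p = 1 := by
      have := haΩ
      rw [MonoidHom.mem_ker, powMonoidHom_apply] at this
      exact this
    exact haz (hcon p hp a b hap hbp hb1)
  have key2 := card_torsion_le key
  have := Fintype.ofFinite A
  apply isCyclic_of_card_pow_eq_one_le
  intro n hn
  have h1 := key2 n hn
  have h2 : Nat.card (powMonoidHom n : A →* A).ker
      = (Finset.univ.filter (fun a : A => a ^ n = 1)).card := by
    rw [Nat.card_eq_fintype_card, Fintype.card_subtype]
    congr 1
    ext x
    simp only [Finset.mem_filter, Finset.mem_univ, true_and, MonoidHom.mem_ker, powMonoidHom_apply]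
  rw [h2] at h1
  convert h1

end Cfsg.Agent.Lib.Helper48
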