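import Mathlib
import Cfsg.Agent.Lib.Helper53.UniqInv2
import Cfsg.Agent.Lib.Helper29.ExtraTwo

set_option autoImplicit false

/-!
Automorphisms of odd order of finite `2`-groups with a unique involution: a nontrivial one forces
the group to be nonabelian of order eight with fixed points `{1, z}`.
-/

namespace Cfsg.Agent.Lib.Helper48.OA

open Cfsg.Agent.Lib.Helper29 Cfsg.Agent.Lib.Helper53
open scoped commutatorElement

variable {Q : Type*} [Group Q]

theorem pow_apply_of_stable (φ : MulAut Q) (x : Q) (h : φ (x⁻¹ * φ x) = x⁻¹ * φ x) (j : ℕ) :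
    (φ ^ j) x = x * (x⁻¹ * φ x) ^ j := by
  induction j with
  | zero => simp
  | succ j ih =>
    rw [pow_succ', MulAut.mul_apply, ih, map_mul, map_pow, h]
    conv_rhs => rw [pow_succ', ← mul_assoc, mul_inv_cancel_left]

/-- the stability lemma -/
theorem fixed_of_stable (hQ : IsPGroup 2 Q) (φ : MulAut Q) {k : ℕ} (hk : Odd k) (hφ : φ ^ k = 1)
    (x : Q) (h : φ (x⁻¹ * φ x) = x⁻¹ * φ x) : φ x = x := by
  have h1 := pow_apply_of_stable φ x h k
  rw [hφ, MulAut.one_apply] at h1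
  have h2 : (x⁻¹ * φ x) ^ k = 1 := by
    have : x * 1 = x * (x⁻¹ * φ x) ^ k := by rw [mul_one]; exact h1
    exact (mul_left_cancel this).symm
  obtain ⟨a, ha⟩ := hQ (x⁻¹ * φ x)
  have h3 : orderOf (x⁻¹ * φ x) ∣ k := orderOf_dvd_of_pow_eq_one h2
  have h4 : orderOf (x⁻¹ * φ x) ∣ 2 ^ a := orderOf_dvd_of_pow_eq_one ha
  have h5 : Nat.Coprime (2 ^ a) k := by
    apply Nat.Coprime.pow_left
    rw [Nat.coprime_two_left]; exact hk
  have h6 : orderOf (x⁻¹ * φ x) = 1 := Nat.eq_one_of_dvd_coprimes h5 h4 h3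
  rw [orderOf_eq_one_iff] at h6
  exact (inv_mul_eq_one.mp h6).symm

theorem orderOf_sq_lt [Finite Q] (hQ : IsPGroup 2 Q) {x : Q} (hx : x ≠ 1) :
    orderOf (x * x) < orderOf x := by
  obtain ⟨a, ha⟩ := (IsPGroup.iff_orderOf.mp hQ) x
  have ha1 : a ≠ 0 := by
    rintro rfl
    rw [pow_zero, orderOf_eq_one_iff] at ha
    exact hx ha
  have h1 : x * x = x ^ 2 := (pow_two x).symm
  rw [h1, orderOf_pow x, ha]
  have h2 : Nat.gcd (2 ^ a) 2 = 2 := by
    apply Nat.gcd_eq_right
    exact dvd_pow_self 2 ha1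
  rw [h2]
  apply Nat.div_lt_self (by positivity) (by norm_num)

/-- an automorphism of odd order fixes every invariant abelian subgroup pointwise -/
theorem fixed_of_abelian [Finite Q] (hQ : IsPGroup 2 Q)
    (hu : ∀ x y : Q, orderOf x = 2 → orderOf y = 2 → x = y) (φ : MulAut Q) {k : ℕ} (hk : Odd k)
    (hφ : φ ^ k = 1) (A : Subgroup Q) (hA : ∀ x ∈ A, φ x ∈ A)
    (hAc : ∀ x ∈ A, ∀ y ∈ A, x * y = y * x) : ∀ x ∈ A, φ x = x := by
  have key : ∀ n : ℕ, ∀ x ∈ A, orderOf x = n → φ x = x := by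
    intro n
    induction n using Nat.strong_induction_on with
    | _ n ih =>
      intro x hx hn
      by_cases hx1 : x = 1
      · rw [hx1, map_one]
      have hlt := orderOf_sq_lt hQ hx1
      have h2 : φ (x * x) = x * x := ih _ (hn ▸ hlt) (x * x) (A.mul_mem hx hx) rfl
      have hn' : (x⁻¹ * φ x) * (x⁻¹ * φ x) = 1 := by
        have hc : φ x * x⁻¹ = x⁻¹ * φ x := hAc _ (hA x hx) _ (A.inv_mem hx)
        calc (x⁻¹ * φ x) * (x⁻¹ * φ x) = x⁻¹ * (φ x * x⁻¹) * φ x := by group
          _ = x⁻¹ * (x⁻¹ * φ x) * φ x := by rw [hc]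
          _ = (x * x)⁻¹ * φ (x * x) := by rw [map_mul]; group
          _ = 1 := by rw [h2]; group
      apply fixed_of_stable hQ φ hk hφ
      by_cases h1 : x⁻¹ * φ x = 1
      · rw [h1, map_one]
      · have : Fact (Nat.Prime 2) := ⟨Nat.prime_two⟩
        have ho : orderOf (x⁻¹ * φ x) = 2 := orderOf_eq_prime (by rw [pow_two]; exact hn') h1
        apply hu _ _ _ ho
        rw [MulEquiv.orderOf_eq]; exact ho
  intro x hx
  exact key _ x hx rfl

/-- an automorphism of odd order fixing a subgroup of index two pointwise is trivial -/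
theorem eq_one_of_index_two (hQ : IsPGroup 2 Q) (φ : MulAut Q) {k : ℕ} (hk : Odd k)
    (hφ : φ ^ k = 1) (A : Subgroup Q) (hidx : A.index = 2) (hA : ∀ x ∈ A, φ x = x) :
    ∀ x, φ x = x := by
  intro b
  by_cases hb : b ∈ A
  · exact hA b hb
  have hb' : φ b ∉ A := by
    intro h
    have h1 := hA _ h
    have h2 : φ b = b := φ.injective h1
    rw [h2] at h
    exact hb h
  apply fixed_of_stable hQ φ hk hφ
  apply hA
  rw [Subgroup.mul_mem_iff_of_index_two hidx]
  rw [Subgroup.inv_mem_iff]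
  exact ⟨fun h => absurd h hb, fun h => absurd h hb'⟩


theorem orderOf_eq_four {z a : Q} (hz : orderOf z = 2) (h : a * a = z) : orderOf a = 4 := by
  have : Fact (Nat.Prime 2) := ⟨Nat.prime_two⟩
  have h1 := orderOf_eq_prime_pow (x := a) (p := 2) (n := 1)
    (by rw [pow_one, pow_two, h]; exact ui_z_ne_one hz)
    (by
      have : a ^ 2 ^ (1 + 1) = (a * a) * (a * a) := by
        norm_num
        rw [show (4 : ℕ) = 2 + 2 from rfl, pow_add, pow_two]
      rw [this, h]; exact ui_z_sq hz)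
  simpa using h1

theorem card_eq_eight [Finite Q] (hQ : IsPGroup 2 Q) {z : Q} (hz : orderOf z = 2)
    (hu : ∀ t : Q, orderOf t = 2 → t = z) (φ : MulAut Q) {k : ℕ} (hk : Odd k) (hφ : φ ^ k = 1)
    (hna : ∃ x y : Q, x * y ≠ y * x) (hne : ∃ x, φ x ≠ x) : Nat.card Q = 8 := by
  obtain ⟨a, hidx⟩ := ui_exists_cyclic_index_two hQ hz hu hna
  have hu2 : ∀ x y : Q, orderOf x = 2 → orderOf y = 2 → x = y :=
    fun x y hx hy => (hu x hx).trans (hu y hy).symm
  have hφz : φ z = z := hu _ (by rw [MulEquiv.orderOf_eq]; exact hz)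
  by_cases ha : φ a ∈ Subgroup.zpowers a
  · exfalso
    obtain ⟨x, hx⟩ := hne
    apply hx
    have hA : ∀ y ∈ Subgroup.zpowers a, φ y ∈ Subgroup.zpowers a := by
      intro y hy
      obtain ⟨i, rfl⟩ := Subgroup.mem_zpowers_iff.mp hy
      rw [map_zpow]
      exact Subgroup.zpow_mem _ ha i
    have hAc : ∀ x ∈ Subgroup.zpowers a, ∀ y ∈ Subgroup.zpowers a, x * y = y * x :=
      fun x hx y hy => zpowers_comm hx hy
    have hfixA := fixed_of_abelian hQ hu2 φ hk hφ _ hA hAc
    exact eq_one_of_index_two hQ φ hk hφ _ hidx hfixA x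
  · obtain ⟨h1, -⟩ := ui_struct hQ hz hu hna hidx ha
    have h2 : a * a = z := by
      apply φ.injective
      rw [map_mul, h1, hφz]
    have h3 : orderOf a = 4 := orderOf_eq_four hz h2
    have h4 : Nat.card (Subgroup.zpowers a) = 4 := by rw [Nat.card_zpowers, h3]
    have h5 := Subgroup.card_mul_index (Subgroup.zpowers a)
    rw [h4, hidx] at h5
    omega

theorem pow_four_eq_one [Finite Q] (hc : Nat.card Q = 8) (hna : ∃ x y : Q, x * y ≠ y * x)
    (x : Q) : x ^ 4 = 1 := by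
  have h1 : orderOf x ∣ 2 ^ 3 := by
    have := orderOf_dvd_natCard x
    rw [hc] at this; exact this
  obtain ⟨i, hi, hi2⟩ := (Nat.dvd_prime_pow Nat.prime_two).mp h1
  have hi3 : i ≠ 3 := by
    rintro rfl
    have h2 : orderOf x = Nat.card Q := by rw [hi2, hc]; norm_num
    have hcyc : IsCyclic Q := isCyclic_of_orderOf_eq_card x h2
    obtain ⟨u, v, huv⟩ := hna
    exact huv ((IsCyclic.isMulCommutative (α := Q)).is_comm.comm u v)
  have h4 : orderOf x ∣ 4 := by
    rw [hi2]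
    have : i ≤ 2 := by omega
    exact pow_dvd_pow 2 this
  exact orderOf_dvd_iff_pow_eq_one.mp h4

section eight

variable {z : Q} (hz : orderOf z = 2) (hu : ∀ t : Q, orderOf t = 2 → t = z)
  (hc : Nat.card Q = 8) (hna : ∃ x y : Q, x * y ≠ y * x)
include hz hu hc hna

theorem sq_cases [Finite Q] (x : Q) : x * x = 1 ∨ x * x = z := by
  apply ui_sq_eq_one hu
  have := pow_four_eq_one hc hna x
  calc (x * x) * (x * x) = x ^ 4 := by
        rw [show (4 : ℕ) = 2 + 2 from rfl, pow_add, pow_two]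
    _ = 1 := this

omit hc hna in
theorem P_central {k : Q} (hk : k = 1 ∨ k = z) (g : Q) : g * k = k * g := by
  rcases hk with rfl | rfl
  · simp
  · exact ui_central hz hu g

omit hc hna hu in
theorem P_mul {a b : Q} (ha : a = 1 ∨ a = z) (hb : b = 1 ∨ b = z) : a * b = 1 ∨ a * b = z := by
  rcases ha with rfl | rfl <;> rcases hb with rfl | rfl
  · left; simp
  · right; simp
  · right; simp
  · left; exact ui_z_sq hz

omit hc hna hu in
theorem P_inv {a : Q} (ha : a = 1 ∨ a = z) : a⁻¹ = 1 ∨ a⁻¹ = z := by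
  rcases ha with rfl | rfl
  · left; simp
  · right; exact inv_eq_of_mul_eq_one_right (ui_z_sq hz)

theorem comm_cases [Finite Q] (x y : Q) : ∃ k, (k = 1 ∨ k = z) ∧ x * y = k * (y * x) := by
  have hs := sq_cases hz hu hc hna x
  have ht := sq_cases hz hu hc hna y
  have hw := sq_cases hz hu hc hna (x * y)
  refine ⟨(x * y * (x * y)) * ((y * y)⁻¹ * (x * x)⁻¹), P_mul hz hw (P_mul hz (P_inv hz ht) (P_inv hz hs)), ?_⟩
  have h1 : y * (x * x)⁻¹ = (x * x)⁻¹ * y := P_central hz hu (P_inv hz hs) y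
  calc x * y = (x * y * (x * y)) * ((y * y)⁻¹ * (y * (x * x)⁻¹) * x) := by group
    _ = (x * y * (x * y)) * ((y * y)⁻¹ * ((x * x)⁻¹ * y) * x) := by rw [h1]
    _ = (x * y * (x * y)) * ((y * y)⁻¹ * (x * x)⁻¹) * (y * x) := by group

theorem center_cases [Finite Q] (x : Q) (hx : ∀ y, x * y = y * x) : x = 1 ∨ x = z := by
  by_contra hcon
  push Not at hcon
  have hxx : x * x = z := by
    rcases sq_cases hz hu hc hna x with h | h
    · rcases ui_sq_eq_one hu h with h' | h'
      · exact absurd h' hcon.1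
      · exact absurd h' hcon.2
    · exact h
  have hcent : ∀ u v : Q, u * v = v * u := by
    intro u v
    rcases sq_cases hz hu hc hna u with h | h
    · exact (P_central hz hu (ui_sq_eq_one hu h) v).symm
    · have hw : u * x = 1 ∨ u * x = z := by
        apply ui_sq_eq_one hu
        calc (u * x) * (u * x) = u * (x * u) * x := by group
          _ = u * (u * x) * x := by rw [hx u]
          _ = (u * u) * (x * x) := by group
          _ = 1 := by rw [h, hxx]; exact ui_z_sq hz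
      have hxi : x⁻¹ * v = v * x⁻¹ := by
        have := hx v
        calc x⁻¹ * v = x⁻¹ * (v * x) * x⁻¹ := by group
          _ = x⁻¹ * (x * v) * x⁻¹ := by rw [this]
          _ = v * x⁻¹ := by group
      have hwv : v * (u * x) = (u * x) * v := P_central hz hu hw v
      calc u * v = (u * x) * (x⁻¹ * v) := by group
        _ = (u * x) * (v * x⁻¹) := by rw [hxi]
        _ = ((u * x) * v) * x⁻¹ := by group
        _ = (v * (u * x)) * x⁻¹ := by rw [hwv]
        _ = v * u := by group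
  obtain ⟨p, q, hpq⟩ := hna
  exact hpq (hcent p q)

theorem isE2 [Finite Q] : IsE2 Q z where
  mem := Subgroup.mem_center_iff.mpr (fun g => ui_central hz hu g)
  ne := ui_z_ne_one hz
  all := fun w hw => center_cases hz hu hc hna w
    (fun y => ((Subgroup.mem_center_iff.mp hw) y).symm)
  comm := by
    rw [commutator_def, Subgroup.commutator_le]
    intro a _ b _
    obtain ⟨k, hk, hab⟩ := comm_cases hz hu hc hna a b
    have h1 : ⁅a, b⁆ = k := by
      rw [commutatorElement_def, hab]; group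
    rw [h1, Subgroup.mem_center_iff]
    exact fun g => P_central hz hu hk g

theorem fixed_cases [Finite Q] (hQ : IsPGroup 2 Q) (φ : MulAut Q) {k : ℕ} (hk : Odd k)
    (hφ : φ ^ k = 1) (hne : ∃ x, φ x ≠ x) (x : Q) (hx : φ x = x) : x = 1 ∨ x = z := by
  by_contra hcon
  push Not at hcon
  obtain ⟨y, hy⟩ := hne
  apply hy
  have hxx : x * x = z := by
    rcases sq_cases hz hu hc hna x with h | h
    · rcases ui_sq_eq_one hu h with h' | h'
      · exact absurd h' hcon.1
      · exact absurd h' hcon.2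
    · exact h
  have h3 : orderOf x = 4 := orderOf_eq_four hz hxx
  have h4 : Nat.card (Subgroup.zpowers x) = 4 := by rw [Nat.card_zpowers, h3]
  have hidx : (Subgroup.zpowers x).index = 2 := by
    have h5 := Subgroup.card_mul_index (Subgroup.zpowers x)
    rw [h4, hc] at h5
    omega
  have hA : ∀ y ∈ Subgroup.zpowers x, φ y = y := by
    intro y hy
    obtain ⟨i, rfl⟩ := Subgroup.mem_zpowers_iff.mp hy
    rw [map_zpow, hx]
  exact eq_one_of_index_two hQ φ hk hφ _ hidx hA y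

theorem prime_dvd_six [Finite Q] (hQ : IsPGroup 2 Q) (φ : MulAut Q) {p n : ℕ} [hp : Fact p.Prime]
    (hp2 : p ≠ 2) (hφ : φ ^ p ^ n = 1) (hne : ∃ x, φ x ≠ x) : p ∣ 6 := by
  classical
  have := Fintype.ofFinite Q
  have hk : Odd (p ^ n) := (hp.out.odd_of_ne_two hp2).pow
  let F : Function.End Q := (φ : Q → Q)
  have hpow : ∀ m : ℕ, ∀ x, (F ^ m) x = (φ ^ m) x := by
    intro m
    induction m with
    | zero => intro x; rfl
    | succ m ih =>
      intro x
      rw [pow_succ', pow_succ', MulAut.mul_apply]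
      show F ((F ^ m) x) = _
      rw [ih]
  have h1 : F ^ p ^ n = 1 := by
    funext x
    rw [hpow, hφ]; rfl
  have h2 := Equiv.Perm.card_fixedPoints_modEq (f := F) h1
  have h3 : Fintype.card (Function.fixedPoints F) = Nat.card {x : Q // φ x = x} := by
    rw [← Nat.card_eq_fintype_card]
    rfl
  have hφz : φ z = z := hu _ (by rw [MulEquiv.orderOf_eq]; exact hz)
  have h4 : Nat.card {x : Q // φ x = x} = 2 := by
    rw [Nat.card_eq_two_iff' (⟨1, map_one φ⟩ : {x : Q // φ x = x})]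
    refine ⟨⟨z, hφz⟩, ?_, ?_⟩
    · intro h; exact ui_z_ne_one hz (congrArg Subtype.val h)
    · rintro ⟨y, hy⟩ hne'
      rcases fixed_cases hz hu hc hna hQ φ hk hφ hne y hy with h | h
      · exact absurd (Subtype.ext h) hne'
      · exact Subtype.ext h
  rw [h3, h4, ← Nat.card_eq_fintype_card, hc] at h2
  have h5 : (2 : ℕ) ≡ 8 [MOD p] := h2.symm
  have := (Nat.modEq_iff_dvd' (by norm_num)).mp h5
  simpa using this

end eight

/-- **Main lemma**: a nontrivial automorphism of odd order of a finite `2`-group with at most one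
involution. -/
theorem main [Finite Q] (hQ : IsPGroup 2 Q)
    (hu : ∀ x y : Q, orderOf x = 2 → orderOf y = 2 → x = y) (φ : MulAut Q) {k : ℕ} (hk : Odd k)
    (hφ : φ ^ k = 1) (hne : ∃ x, φ x ≠ x) :
    Nat.card Q = 8 ∧ ∃ z : Q, orderOf z = 2 ∧ (∀ x : Q, x * x = 1 ∨ x * x = z) ∧
      (∀ x, φ x = x → x = 1 ∨ x = z) ∧
      (∀ x y : Q, ∃ k, (k = 1 ∨ k = z) ∧ x * y = k * (y * x)) ∧
      (∀ x : Q, (∀ y, x * y = y * x) → x = 1 ∨ x = z) ∧ ∃ x y : Q, x * y ≠ y * x := by
  have hna : ∃ x y : Q, x * y ≠ y * x := by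
    by_contra hcon
    push Not at hcon
    obtain ⟨x, hx⟩ := hne
    exact hx (fixed_of_abelian hQ hu φ hk hφ ⊤ (fun _ _ => Subgroup.mem_top _)
      (fun x _ y _ => hcon x y) x (Subgroup.mem_top _))
  have : Fact (Nat.Prime 2) := ⟨Nat.prime_two⟩
  have hnt : Nontrivial Q := by
    obtain ⟨x, y, hxy⟩ := hna
    refine ⟨⟨x * y, y * x, hxy⟩⟩
  obtain ⟨n, hn0, hn⟩ := (IsPGroup.nontrivial_iff_card hQ).mp hnt
  have h2 : 2 ∣ Nat.card Q := by rw [hn]; exact dvd_pow_self 2 (by omega)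
  obtain ⟨z, hz⟩ := exists_prime_orderOf_dvd_card' 2 h2
  have hu' : ∀ t : Q, orderOf t = 2 → t = z := fun t ht => hu t z ht hz
  have hc := card_eq_eight hQ hz hu' φ hk hφ hna hne
  exact ⟨hc, z, hz, sq_cases hz hu' hc hna,
    fixed_cases hz hu' hc hna hQ φ hk hφ hne, comm_cases hz hu' hc hna,
    center_cases hz hu' hc hna, hna⟩

section sub

variable {W : Type*} [Group W]

/-- restriction of an automorphism to an invariant subgroup, as a homomorphism -/
def resHom (X : Subgroup W) (e : MulAut W) (h : ∀ x ∈ X, e x ∈ X) : X →* X where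
  toFun x := ⟨e x, h x x.2⟩
  map_one' := Subtype.ext (by
    show e ((1 : X) : W) = ((1 : X) : W)
    rw [Subgroup.coe_one, map_one])
  map_mul' a b := Subtype.ext (by
    show e ((a * b : X) : W) = e (a : W) * e (b : W)
    rw [Subgroup.coe_mul, map_mul])

theorem resHom_injective (X : Subgroup W) (e : MulAut W) (h : ∀ x ∈ X, e x ∈ X) :
    Function.Injective (resHom X e h) := by
  intro x y hxy
  have := congrArg Subtype.val hxy
  exact Subtype.ext (e.injective this)

/-- restriction of an automorphism to an invariant finite subgroup -/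
noncomputable def resAut (X : Subgroup W) [Finite X] (e : MulAut W) (h : ∀ x ∈ X, e x ∈ X) :
    MulAut X :=
  MulEquiv.ofBijective (resHom X e h)
    ⟨resHom_injective X e h, Finite.surjective_of_injective (resHom_injective X e h)⟩

theorem resAut_apply (X : Subgroup W) [Finite X] (e : MulAut W) (h : ∀ x ∈ X, e x ∈ X) (x : X) :
    ((resAut X e h x : X) : W) = e x := rfl

theorem resAut_pow_apply (X : Subgroup W) [Finite X] (e : MulAut W) (h : ∀ x ∈ X, e x ∈ X)
    (j : ℕ) (x : X) : ((((resAut X e h) ^ j) x : X) : W) = (e ^ j) x := by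
  induction j generalizing x with
  | zero => rfl
  | succ j ih =>
    rw [pow_succ', pow_succ', MulAut.mul_apply, MulAut.mul_apply, resAut_apply, ih]

theorem resAut_pow_eq_one (X : Subgroup W) [Finite X] (e : MulAut W) (h : ∀ x ∈ X, e x ∈ X)
    {k : ℕ} (hk : e ^ k = 1) : (resAut X e h) ^ k = 1 := by
  apply MulEquiv.ext
  intro x
  apply Subtype.ext
  rw [resAut_pow_apply, hk]; rfl

/-- the main lemma for an invariant subgroup -/
theorem main_sub (X : Subgroup W) [Finite X] (hX : IsPGroup 2 X)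
    (hu : ∀ x ∈ X, ∀ y ∈ X, orderOf x = 2 → orderOf y = 2 → x = y) (e : MulAut W) {k : ℕ}
    (hk : Odd k) (he : e ^ k = 1) (hinv : ∀ x ∈ X, e x ∈ X) (hne : ∃ x ∈ X, e x ≠ x) :
    Nat.card X = 8 ∧ ∃ z ∈ X, orderOf z = 2 ∧
      (∀ x ∈ X, x * x = 1 ∨ x * x = z) ∧
      (∀ x ∈ X, e x = x → x = 1 ∨ x = z) ∧
      (∀ x ∈ X, ∀ y ∈ X, ∃ k, (k = 1 ∨ k = z) ∧ x * y = k * (y * x)) ∧
      (∀ x ∈ X, (∀ y ∈ X, x * y = y * x) → x = 1 ∨ x = z) ∧
      ∃ x ∈ X, ∃ y ∈ X, x * y ≠ y * x := by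
  have hu' : ∀ x y : X, orderOf x = 2 → orderOf y = 2 → x = y := by
    intro x y hx hy
    apply Subtype.ext
    apply hu _ x.2 _ y.2
    · rw [Subgroup.orderOf_coe]; exact hx
    · rw [Subgroup.orderOf_coe]; exact hy
  have hne' : ∃ x : X, (resAut X e hinv) x ≠ x := by
    obtain ⟨x, hx, hxe⟩ := hne
    refine ⟨⟨x, hx⟩, fun h => hxe ?_⟩
    have := congrArg Subtype.val h
    exact this
  obtain ⟨hc, z, hz, h1, h2, h3, h4, x, y, hxy⟩ :=
    main hX hu' (resAut X e hinv) hk (resAut_pow_eq_one X e hinv he) hne'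
  have hcoe : ∀ w : X, (w = 1 ∨ w = z) → ((w : W) = 1 ∨ (w : W) = (z : W)) := by
    rintro w (rfl | rfl)
    · left; rfl
    · right; rfl
  refine ⟨hc, z, z.2, ?_, ?_, ?_, ?_, ?_, ?_⟩
  · rw [Subgroup.orderOf_coe]; exact hz
  · intro x hx
    have := hcoe _ (h1 ⟨x, hx⟩)
    exact this
  · intro x hx hex
    exact hcoe _ (h2 ⟨x, hx⟩ (Subtype.ext hex))
  · intro x hx y hy
    obtain ⟨k, hk, hxy⟩ := h3 ⟨x, hx⟩ ⟨y, hy⟩
    refine ⟨k, hcoe _ hk, ?_⟩
    have := congrArg Subtype.val hxy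
    exact this
  · intro x hx hxc
    apply hcoe _ (h4 ⟨x, hx⟩ ?_)
    intro y
    exact Subtype.ext (hxc y y.2)
  · refine ⟨x, x.2, y, y.2, fun h => hxy (Subtype.ext ?_)⟩
    exact h

/-- the prime is three -/
theorem prime_eq_three_sub (X : Subgroup W) [Finite X] (hX : IsPGroup 2 X)
    (hu : ∀ x ∈ X, ∀ y ∈ X, orderOf x = 2 → orderOf y = 2 → x = y) (e : MulAut W) {p n : ℕ}
    [hp : Fact p.Prime] (hp2 : p ≠ 2) (he : e ^ p ^ n = 1) (hinv : ∀ x ∈ X, e x ∈ X)
    (hne : ∃ x ∈ X, e x ≠ x) : p = 3 := by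
  have hk : Odd (p ^ n) := (hp.out.odd_of_ne_two hp2).pow
  have hu' : ∀ x y : X, orderOf x = 2 → orderOf y = 2 → x = y := by
    intro x y hx hy
    apply Subtype.ext
    apply hu _ x.2 _ y.2
    · rw [Subgroup.orderOf_coe]; exact hx
    · rw [Subgroup.orderOf_coe]; exact hy
  have hne' : ∃ x : X, (resAut X e hinv) x ≠ x := by
    obtain ⟨x, hx, hxe⟩ := hne
    refine ⟨⟨x, hx⟩, fun h => hxe ?_⟩
    have := congrArg Subtype.val h
    exact this
  obtain ⟨hc, z, hz, h1, h2, h3, h4, hna⟩ :=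
    main hX hu' (resAut X e hinv) hk (resAut_pow_eq_one X e hinv he) hne'
  have hd := prime_dvd_six hz (fun t ht => hu' t z ht hz) hc hna hX (resAut X e hinv) hp2
    (resAut_pow_eq_one X e hinv he) hne'
  have h6 : (6 : ℕ) = 2 * 3 := by norm_num
  rw [h6] at hd
  rcases (Nat.Prime.dvd_mul hp.out).mp hd with h | h
  · exact absurd ((Nat.prime_dvd_prime_iff_eq hp.out Nat.prime_two).mp h) hp2
  · exact (Nat.prime_dvd_prime_iff_eq hp.out Nat.prime_three).mp h

end sub

end Cfsg.Agent.Lib.Helper48.OA
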