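import Mathlib
import Cfsg.Agent.Lib.Helper48.OddAutTwo
import Cfsg.Agent.Lib.Helper48.CoprimeGenAut

set_option autoImplicit false
set_option linter.unusedSectionVars false

/-!
A noncyclic abelian group `E` of automorphisms of odd prime power order of a finite `2`-group `W`,
every nontrivial element of which fixes at most one involution.
-/

namespace Cfsg.Agent.Lib.Helper48.OAM

open Subgroup Cfsg.Agent.Lib.Helper48 Cfsg.Agent.Lib.Helper48.CGA Cfsg.Agent.Lib.Helper48.OA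
open scoped commutatorElement

variable {W : Type*} [Group W] [Finite W]

/-- the standing hypotheses -/
structure Ctx (E : Subgroup (MulAut W)) (p : ℕ) (a b : MulAut W) : Prop where
  hW : IsPGroup 2 W
  hp : p.Prime
  hp2 : p ≠ 2
  hE : IsPGroup p E
  hab : ∀ e ∈ E, ∀ f ∈ E, e * f = f * e
  hfix : ∀ e ∈ E, e ≠ 1 → ∀ x y : W, orderOf x = 2 → orderOf y = 2 → e x = x → e y = y → x = y
  ha : a ∈ E
  hb : b ∈ E
  hap : a ^ p = 1
  hbp : b ^ p = 1
  hb1 : b ≠ 1
  hanb : a ∉ Subgroup.zpowers b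

/-- invariance under `E` -/
def EInv (E : Subgroup (MulAut W)) (X : Subgroup W) : Prop := ∀ e ∈ E, ∀ x ∈ X, e x ∈ X

/-- common fixed points of `E` -/
def fixE (E : Subgroup (MulAut W)) : Subgroup W where
  carrier := {x | ∀ e ∈ E, e x = x}
  one_mem' := fun e _ => map_one e
  mul_mem' := by
    intro x y hx hy e he
    rw [map_mul, hx e he, hy e he]
  inv_mem' := by
    intro x hx e he
    rw [map_inv, hx e he]

theorem mem_fixE {E : Subgroup (MulAut W)} {x : W} : x ∈ fixE E ↔ ∀ e ∈ E, e x = x := Iff.rfl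

namespace Ctx

variable {E : Subgroup (MulAut W)} {p : ℕ} {a b : MulAut W} (C : Ctx E p a b)
include C

theorem pow_eq_one {e : MulAut W} (he : e ∈ E) : ∃ n : ℕ, e ^ p ^ n = 1 := by
  obtain ⟨n, hn⟩ := C.hE ⟨e, he⟩
  refine ⟨n, ?_⟩
  have := congrArg Subtype.val hn
  rw [Subgroup.coe_pow] at this
  exact this

theorem odd_pow (n : ℕ) : Odd (p ^ n) := (C.hp.odd_of_ne_two C.hp2).pow

theorem einv_fixSub {c : MulAut W} (hc : c ∈ E) : EInv E (fixSub c) := by
  intro e he x hx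
  rw [mem_fixSub] at hx ⊢
  have h1 : c (e x) = (c * e) x := rfl
  have h2 : e (c x) = (e * c) x := rfl
  rw [h1, C.hab c hc e he, ← h2, hx]

theorem einv_inv {X : Subgroup W} (hX : EInv E X) : ∀ e ∈ E, ∀ x ∈ X, e⁻¹ x ∈ X :=
  fun e he x hx => hX e⁻¹ (E.inv_mem he) x hx

theorem not_dvd_card (X : Subgroup W) : ¬ p ∣ Nat.card X := by
  intro h
  have : Fact (Nat.Prime 2) := ⟨Nat.prime_two⟩
  obtain ⟨n, hn⟩ := IsPGroup.iff_card.mp C.hW
  have h1 : p ∣ 2 ^ n := hn ▸ (h.trans (Subgroup.card_subgroup_dvd_card X))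
  have h2 := C.hp.dvd_of_dvd_pow h1
  exact C.hp2 ((Nat.prime_dvd_prime_iff_eq C.hp Nat.prime_two).mp h2)

theorem isPGroup_sub (X : Subgroup W) : IsPGroup 2 X := C.hW.to_subgroup X

theorem mem_E_of_genSet {c : MulAut W} (hc : c ∈ genSet a b) : c ∈ E := by
  rcases hc with rfl | ⟨n, rfl⟩
  · exact C.hb
  · exact E.mul_mem C.ha (E.pow_mem C.hb n)

theorem ne_one_of_genSet {c : MulAut W} (hc : c ∈ genSet a b) : c ≠ 1 := by
  rcases hc with rfl | ⟨n, rfl⟩
  · exact C.hb1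
  · intro h
    apply C.hanb
    have : a = (b ^ n)⁻¹ := eq_inv_of_mul_eq_one_left h
    rw [this]
    exact Subgroup.inv_mem _ (Subgroup.pow_mem _ (Subgroup.mem_zpowers b) n)

theorem gen (X : Subgroup W) (hX : EInv E X) : X ≤ ⨆ c ∈ genSet a b, X ⊓ fixSub c := by
  have : Fact p.Prime := ⟨C.hp⟩
  exact coprime_gen_aut X a b C.hap C.hbp (C.hab a C.ha b C.hb) (hX a C.ha) (hX b C.hb)
    (C.not_dvd_card X)

theorem uniq_inv {c : MulAut W} (hc : c ∈ E) (hc1 : c ≠ 1) {X : Subgroup W} (hX : X ≤ fixSub c) :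
    ∀ x ∈ X, ∀ y ∈ X, orderOf x = 2 → orderOf y = 2 → x = y :=
  fun x hx y hy hox hoy => C.hfix c hc hc1 x y hox hoy (hX hx) (hX hy)

/-- the main lemma in context -/
theorem act8 {X : Subgroup W} (hXinv : EInv E X) {c : MulAut W} (hc : c ∈ E) (hc1 : c ≠ 1)
    (hXc : X ≤ fixSub c) {e : MulAut W} (he : e ∈ E) (hne : ∃ x ∈ X, e x ≠ x) :
    Nat.card X = 8 ∧ p = 3 ∧ ∃ z ∈ X, orderOf z = 2 ∧
      (∀ x ∈ X, x * x = 1 ∨ x * x = z) ∧
      (∀ x ∈ X, e x = x → x = 1 ∨ x = z) ∧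
      (∀ x ∈ X, ∀ y ∈ X, ∃ k, (k = 1 ∨ k = z) ∧ x * y = k * (y * x)) ∧
      (∀ x ∈ X, (∀ y ∈ X, x * y = y * x) → x = 1 ∨ x = z) ∧
      ∃ x ∈ X, ∃ y ∈ X, x * y ≠ y * x := by
  obtain ⟨n, hn⟩ := C.pow_eq_one he
  have : Fact p.Prime := ⟨C.hp⟩
  have h1 := main_sub X (C.isPGroup_sub X) (C.uniq_inv hc hc1 hXc) e (C.odd_pow n) hn
    (hXinv e he) hne
  have h2 := prime_eq_three_sub X (C.isPGroup_sub X) (C.uniq_inv hc hc1 hXc) e C.hp2 hn
    (hXinv e he) hne
  exact ⟨h1.1, h2, h1.2⟩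

theorem exists_ne : ∃ x : W, b x ≠ x := by
  by_contra h
  push Not at h
  apply C.hb1
  apply MulEquiv.ext
  intro x
  rw [h x]; rfl

theorem exists_nontriv_fixSub : ∃ c ∈ genSet a b, ¬ fixSub c ≤ fixE E := by
  by_contra hcon
  push Not at hcon
  obtain ⟨x, hx⟩ := C.exists_ne
  apply hx
  have h1 : (⊤ : Subgroup W) ≤ ⨆ c ∈ genSet a b, ⊤ ⊓ fixSub c :=
    C.gen ⊤ (fun _ _ _ _ => Subgroup.mem_top _)
  have h2 : (⨆ c ∈ genSet a b, (⊤ : Subgroup W) ⊓ fixSub c) ≤ fixE E :=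
    iSup₂_le fun c hc => inf_le_right.trans (hcon c hc)
  exact (h2 (h1 (Subgroup.mem_top x))) b C.hb

/-- the distinguished involution -/
structure ZData (E : Subgroup (MulAut W)) (z : W) : Prop where
  ord : orderOf z = 2
  fix : ∀ e ∈ E, e z = z
  only : ∀ x : W, (∀ e ∈ E, e x = x) → x = 1 ∨ x = z

theorem exists_z : ∃ z : W, ZData E z ∧ p = 3 := by
  obtain ⟨c, hc, hcn⟩ := C.exists_nontriv_fixSub
  have hcE := C.mem_E_of_genSet hc
  have hc1 := C.ne_one_of_genSet hc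
  have hne : ∃ e ∈ E, ∃ x ∈ fixSub c, e x ≠ x := by
    by_contra hcon
    push Not at hcon
    exact hcn (fun x hx e he => hcon e he x hx)
  obtain ⟨e, he, hne⟩ := hne
  obtain ⟨h8, hp3, z, hz, hzo, h1, h2, -⟩ :=
    C.act8 (C.einv_fixSub hcE) hcE hc1 le_rfl he hne
  refine ⟨z, ⟨hzo, ?_, ?_⟩, hp3⟩
  · intro e' he'
    refine C.uniq_inv hcE hc1 le_rfl _ (C.einv_fixSub hcE e' he' z hz) _ hz ?_ hzo
    rw [MulEquiv.orderOf_eq]; exact hzo
  · intro x hx
    have hxc : x ∈ fixSub c := hx c hcE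
    exact h2 x hxc (hx e he)

/-- an active subgroup: order eight with the standard structure -/
structure Act (E : Subgroup (MulAut W)) (z : W) (X : Subgroup W) : Prop where
  card : Nat.card X = 8
  zmem : z ∈ X
  sq : ∀ x ∈ X, x * x = 1 ∨ x * x = z
  dich : ∀ e ∈ E, (∀ x ∈ X, e x = x) ∨ (∀ x ∈ X, e x = x → x = 1 ∨ x = z)
  comm : ∀ x ∈ X, ∀ y ∈ X, ∃ k, (k = 1 ∨ k = z) ∧ x * y = k * (y * x)
  cent : ∀ x ∈ X, (∀ y ∈ X, x * y = y * x) → x = 1 ∨ x = z
  nonab : ∃ x ∈ X, ∃ y ∈ X, x * y ≠ y * x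

omit C in
theorem Act.eq_of_le {z : W} {X Y : Subgroup W} (hX : Act E z X) (hY : Act E z Y) (h : X ≤ Y) :
    X = Y :=
  Subgroup.eq_of_le_of_card_ge h (by rw [hX.card, hY.card])

section withz

variable {z : W} (hz : ZData E z)
include hz

theorem inv_eq_z {c : MulAut W} (hc : c ∈ E) (hc1 : c ≠ 1) {y : W} (hy : c y = y)
    (hoy : orderOf y = 2) : y = z :=
  C.hfix c hc hc1 y z hoy hz.ord hy (hz.fix c hc)

omit C in
theorem zsq : z * z = 1 := by
  have := pow_orderOf_eq_one z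
  rw [hz.ord, pow_two] at this
  exact this

omit C in
theorem z_ne_one : z ≠ 1 := by
  intro h
  have := hz.ord
  rw [h, orderOf_one] at this
  omega

theorem z_comm_fix {c : MulAut W} (hc : c ∈ E) (hc1 : c ≠ 1) {x : W} (hx : c x = x) :
    x * z = z * x := by
  have h1 : c (x * z * x⁻¹) = x * z * x⁻¹ := by
    rw [map_mul, map_mul, map_inv, hx, hz.fix c hc]
  have h2 : orderOf (x * z * x⁻¹) = 2 := by
    have : x * z * x⁻¹ = MulAut.conj x z := by simp [MulAut.conj_apply]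
    rw [this, MulEquiv.orderOf_eq, hz.ord]
  have h3 := C.inv_eq_z hz hc hc1 h1 h2
  calc x * z = (x * z * x⁻¹) * x := by group
    _ = z * x := by rw [h3]

omit C in
theorem P_fix {k : W} (hk : k = 1 ∨ k = z) {e : MulAut W} (he : e ∈ E) : e k = k := by
  rcases hk with rfl | rfl
  · exact map_one e
  · exact hz.fix e he

theorem P_comm_fix {k : W} (hk : k = 1 ∨ k = z) {c : MulAut W} (hc : c ∈ E) (hc1 : c ≠ 1) {x : W}
    (hx : c x = x) : x * k = k * x := by
  rcases hk with rfl | rfl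
  · simp
  · exact C.z_comm_fix hz hc hc1 hx

theorem act8z {X : Subgroup W} (hXinv : EInv E X) {c : MulAut W} (hc : c ∈ E) (hc1 : c ≠ 1)
    (hXc : X ≤ fixSub c) (hne : ¬ X ≤ fixE E) : Act E z X := by
  have hne' : ∃ e ∈ E, ∃ x ∈ X, e x ≠ x := by
    by_contra hcon
    push Not at hcon
    exact hne (fun x hx e he => hcon e he x hx)
  obtain ⟨e₀, he₀, hne₀⟩ := hne'
  obtain ⟨h8, -, z', hz', hzo', h1, h2, h3, h4, h5⟩ := C.act8 hXinv hc hc1 hXc he₀ hne₀
  have hzz : z' = z := C.inv_eq_z hz hc hc1 (hXc hz') hzo'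
  subst hzz
  refine ⟨h8, hz', h1, ?_, h3, h4, h5⟩
  intro e he
  by_cases h : ∀ x ∈ X, e x = x
  · exact Or.inl h
  · right
    push Not at h
    obtain ⟨-, -, z'', hz'', hzo'', -, h2', -⟩ := C.act8 hXinv hc hc1 hXc he h
    have hzz : z'' = z' := C.inv_eq_z hz hc hc1 (hXc hz'') hzo''
    subst hzz
    exact h2'

omit C in
theorem Act.not_le_fixE {X : Subgroup W} (hX : Act E z X) : ¬ X ≤ fixE E := by
  intro h
  obtain ⟨x, hx, y, hy, hxy⟩ := hX.nonab
  apply hxy
  rcases hz.only x (h hx) with rfl | rfl <;> rcases hz.only y (h hy) with rfl | rfl <;> simp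

omit C hz in
theorem comm_map_mem {N X : Subgroup W} (f : W ≃* W) (hN : ∀ n ∈ N, f n ∈ N)
    (hX : ∀ x ∈ X, f x ∈ X) : ∀ y ∈ ⁅N, X⁆, f y ∈ ⁅N, X⁆ := by
  intro y hy
  have h1 : (⁅N, X⁆).map f.toMonoidHom ≤ ⁅N, X⁆ := by
    rw [Subgroup.map_commutator]
    apply Subgroup.commutator_mono
    · rintro _ ⟨n, hn, rfl⟩
      exact hN n hn
    · rintro _ ⟨x, hx, rfl⟩
      exact hX x hx
  exact h1 ⟨y, hy, rfl⟩

omit hz in
theorem comm_ne_self {N X : Subgroup W} (hNX : N ≤ X) (hN : N ≠ ⊥) : ⁅N, X⁆ ≠ N := by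
  intro h
  have : Fact (Nat.Prime 2) := ⟨Nat.prime_two⟩
  have hnil : Group.IsNilpotent X := (C.isPGroup_sub X).isNilpotent
  obtain ⟨n, hn⟩ := (Subgroup.isNilpotent_iff_lowerCentralSeries X).mp hnil
  have key : ∀ m : ℕ, N ≤ X.lowerCentralSeries m := by
    intro m
    induction m with
    | zero => exact hNX
    | succ m ih =>
      rw [Subgroup.lowerCentralSeries_succ]
      calc N = ⁅N, X⁆ := h.symm
        _ ≤ ⁅X.lowerCentralSeries m, X⁆ := Subgroup.commutator_mono ih le_rfl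
  apply hN
  have := key n
  rw [hn] at this
  exact le_bot_iff.mp this

theorem lemmaL {X : Subgroup W} (hXinv : EInv E X) (hne : ¬ X ≤ fixE E) :
    ∃ l ∈ genSet a b, ¬ fixSub l ≤ fixE E ∧ fixSub l ≤ X ∧
      ∀ r ∈ fixSub l, ∀ x ∈ X, ∃ k, (k = 1 ∨ k = z) ∧ r * x = k * (x * r) := by
  classical
  let 𝒩 : Set (Subgroup W) := {N | N ≤ X ∧ EInv E N ∧ (∀ x ∈ X, ∀ n ∈ N, x * n * x⁻¹ ∈ N) ∧
    ¬ N ≤ fixE E}
  have hX𝒩 : X ∈ 𝒩 := ⟨le_rfl, hXinv, fun x hx n hn => X.mul_mem (X.mul_mem hx hn) (X.inv_mem hx),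
    hne⟩
  obtain ⟨N, hN𝒩, hNmin⟩ := Set.exists_min_image 𝒩 (fun N => Nat.card N) (Set.toFinite 𝒩) ⟨X, hX𝒩⟩
  obtain ⟨hNX, hNinv, hNnorm, hNne⟩ := hN𝒩
  set Y : Subgroup W := ⁅N, X⁆ with hY
  have hYN : Y ≤ N := by
    rw [hY, Subgroup.commutator_le]
    intro n hn x hx
    rw [commutatorElement_def]
    have h1 := hNnorm x hx n⁻¹ (N.inv_mem hn)
    have h2 : n * x * n⁻¹ * x⁻¹ = n * (x * n⁻¹ * x⁻¹) := by group
    rw [h2]
    exact N.mul_mem hn h1
  have hYinv : EInv E Y := fun e he =>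
    comm_map_mem e (hNinv e he) (hXinv e he)
  have hYnorm : ∀ x ∈ X, ∀ y ∈ Y, x * y * x⁻¹ ∈ Y := by
    intro x hx y hy
    have := comm_map_mem (N := N) (X := X) (MulAut.conj x)
      (fun n hn => by rw [MulAut.conj_apply]; exact hNnorm x hx n hn)
      (fun x' hx' => by
        rw [MulAut.conj_apply]; exact X.mul_mem (X.mul_mem hx hx') (X.inv_mem hx)) y hy
    rw [MulAut.conj_apply] at this
    exact this
  have hNbot : N ≠ ⊥ := by
    rintro rfl
    exact hNne bot_le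
  have hYne : Y ≠ N := C.comm_ne_self hNX hNbot
  have hYfix : Y ≤ fixE E := by
    by_contra hcon
    have hY𝒩 : Y ∈ 𝒩 := ⟨hYN.trans hNX, hYinv, hYnorm, hcon⟩
    have h1 := hNmin Y hY𝒩
    exact hYne (Subgroup.eq_of_le_of_card_ge hYN h1)
  -- an active fixed-point subgroup inside `N`
  have hgen := C.gen N hNinv
  have hex : ∃ l ∈ genSet a b, ¬ N ⊓ fixSub l ≤ fixE E := by
    by_contra hcon
    push Not at hcon
    exact hNne (hgen.trans (iSup₂_le hcon))
  obtain ⟨l, hl, hlne⟩ := hex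
  have hlE := C.mem_E_of_genSet hl
  have hl1 := C.ne_one_of_genSet hl
  have hinf_inv : EInv E (N ⊓ fixSub l) := fun e he x hx =>
    Subgroup.mem_inf.mpr ⟨hNinv e he x (Subgroup.mem_inf.mp hx).1,
      C.einv_fixSub hlE e he x (Subgroup.mem_inf.mp hx).2⟩
  have hA1 : Act E z (N ⊓ fixSub l) := C.act8z hz hinf_inv hlE hl1 inf_le_right hlne
  have hlne' : ¬ fixSub l ≤ fixE E := fun h => hlne (inf_le_right.trans h)
  have hA2 : Act E z (fixSub l) := C.act8z hz (C.einv_fixSub hlE) hlE hl1 le_rfl hlne'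
  have heq : N ⊓ fixSub l = fixSub l := hA1.eq_of_le hA2 inf_le_right
  have hlN : fixSub l ≤ N := by
    rw [← heq]; exact inf_le_left
  refine ⟨l, hl, hlne', hlN.trans hNX, ?_⟩
  intro r hr x hx
  have h1 : ⁅r, x⁆ ∈ Y := Subgroup.commutator_mem_commutator (hlN hr) hx
  have h2 := hz.only _ (hYfix h1)
  refine ⟨⁅r, x⁆, h2, ?_⟩
  rw [commutatorElement_def]; group

theorem comm_of_normal {X : Subgroup W} {l d : MulAut W} (hl : l ∈ E) (_hl1 : l ≠ 1)
    (hlA : Act E z (fixSub l)) (hd : d ∈ E) (hd1 : d ≠ 1) (hdA : Act E z (fixSub d))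
    (hdX : fixSub d ≤ X)
    (hcomm : ∀ r ∈ fixSub l, ∀ x ∈ X, ∃ k, (k = 1 ∨ k = z) ∧ r * x = k * (x * r))
    (hne : fixSub l ≠ fixSub d) : ∀ q ∈ fixSub d, ∀ r ∈ fixSub l, q * r = r * q := by
  -- `l` acts nontrivially on `fixSub d`
  have hlact : ∃ q ∈ fixSub d, l q ≠ q := by
    by_contra hcon
    push Not at hcon
    have hle : fixSub d ≤ fixSub l := fun q hq => hcon q hq
    exact hne (hdA.eq_of_le hlA hle).symm
  set C' : Subgroup W := fixSub d ⊓ Subgroup.centralizer (fixSub l : Set W) with hC'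
  have hC'inv : EInv E C' := by
    intro e he x hx
    obtain ⟨hx1, hx2⟩ := Subgroup.mem_inf.mp hx
    refine Subgroup.mem_inf.mpr ⟨C.einv_fixSub hd e he x hx1, ?_⟩
    rw [Subgroup.mem_centralizer_iff] at hx2 ⊢
    intro r hr
    have hr' : e⁻¹ r ∈ fixSub l := C.einv_inv (C.einv_fixSub hl) e he r hr
    have h1 := hx2 _ hr'
    have h2 := congrArg e h1
    rw [map_mul, map_mul] at h2
    have h3 : e (e⁻¹ r) = r := by
      show (e * e⁻¹) r = r
      rw [mul_inv_cancel]; rfl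
    rw [h3] at h2
    exact h2
  have hkey : ∀ q ∈ fixSub d, q⁻¹ * l q ∈ C' := by
    intro q hq
    have hlq : l q ∈ fixSub d := C.einv_fixSub hd l hl q hq
    refine Subgroup.mem_inf.mpr ⟨(fixSub d).mul_mem ((fixSub d).inv_mem hq) hlq, ?_⟩
    rw [Subgroup.mem_centralizer_iff]
    intro r hr
    obtain ⟨k, hk, h1⟩ := hcomm r hr q (hdX hq)
    have h2 : r * l q = k * (l q * r) := by
      have := congrArg l h1
      rw [map_mul, map_mul, map_mul, P_fix hz hk hl] at this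
      have hr' : l r = r := hr
      rw [hr'] at this
      exact this
    have hkq : q * k = k * q := C.P_comm_fix hz hk hd hd1 hq
    -- `q⁻¹ * r = k * r * q⁻¹`
    have h3 : q⁻¹ * r = k * (r * q⁻¹) := by
      have : r = q * (k * (r * q⁻¹)) := by
        calc r = (r * q) * q⁻¹ := by group
          _ = (k * (q * r)) * q⁻¹ := by rw [h1]
          _ = (k * q) * (r * q⁻¹) := by group
          _ = (q * k) * (r * q⁻¹) := by rw [hkq]
          _ = q * (k * (r * q⁻¹)) := by group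
      calc q⁻¹ * r = q⁻¹ * (q * (k * (r * q⁻¹))) := by rw [← this]
        _ = k * (r * q⁻¹) := by group
    have h4 : l q * r = k⁻¹ * (r * l q) := by
      rw [h2]; group
    have hkq' : q⁻¹ * k⁻¹ = k⁻¹ * q⁻¹ := by
      calc q⁻¹ * k⁻¹ = (k * q)⁻¹ := by group
        _ = (q * k)⁻¹ := by rw [hkq]
        _ = k⁻¹ * q⁻¹ := by group
    calc r * (q⁻¹ * l q) = k⁻¹ * (k * (r * q⁻¹)) * l q := by group
      _ = k⁻¹ * (q⁻¹ * r) * l q := by rw [h3]
      _ = (k⁻¹ * q⁻¹) * (r * l q) := by group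
      _ = (q⁻¹ * k⁻¹) * (r * l q) := by rw [hkq']
      _ = q⁻¹ * (k⁻¹ * (r * l q)) := by group
      _ = q⁻¹ * (l q * r) := by rw [h4]
      _ = q⁻¹ * l q * r := by group
  have hC'eq : C' = fixSub d := by
    by_contra hcon
    have hC'fix : C' ≤ fixE E := by
      by_contra hcon2
      have hA := C.act8z hz hC'inv hd hd1 inf_le_left hcon2
      exact hcon (hA.eq_of_le hdA inf_le_left)
    obtain ⟨q, hq, hlq⟩ := hlact
    apply hlq
    obtain ⟨n, hn⟩ := C.pow_eq_one hl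
    apply fixed_of_stable C.hW l (C.odd_pow n) hn
    exact hC'fix (hkey q hq) l hl
  intro q hq r hr
  have h1 : q ∈ C' := by rw [hC'eq]; exact hq
  have h2 := (Subgroup.mem_inf.mp h1).2
  rw [Subgroup.mem_centralizer_iff] at h2
  exact (h2 r hr).symm

omit C hz in
theorem einv_sup {X Y : Subgroup W} (hX : EInv E X) (hY : EInv E Y) : EInv E (X ⊔ Y) := by
  intro e he x hx
  have h1 : (X ⊔ Y).map e.toMonoidHom ≤ X ⊔ Y := by
    rw [Subgroup.map_sup]
    apply sup_le_sup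
    · rintro _ ⟨x, hx, rfl⟩
      exact hX e he x hx
    · rintro _ ⟨y, hy, rfl⟩
      exact hY e he y hy
  exact h1 ⟨x, hx, rfl⟩

theorem pairwise_comm {c d : MulAut W} (hc : c ∈ E) (hc1 : c ≠ 1) (hcA : Act E z (fixSub c))
    (hd : d ∈ E) (hd1 : d ≠ 1) (hdA : Act E z (fixSub d)) (hne : fixSub c ≠ fixSub d) :
    ∀ q ∈ fixSub c, ∀ r ∈ fixSub d, q * r = r * q := by
  set X : Subgroup W := fixSub c ⊔ fixSub d with hX
  have hXinv : EInv E X := einv_sup (C.einv_fixSub hc) (C.einv_fixSub hd)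
  have hcX : fixSub c ≤ X := le_sup_left
  have hdX : fixSub d ≤ X := le_sup_right
  have hXne : ¬ X ≤ fixE E := fun h => Act.not_le_fixE hz hcA (hcX.trans h)
  obtain ⟨l, hl, hlne, hlX, hcomm⟩ := C.lemmaL hz hXinv hXne
  have hlE := C.mem_E_of_genSet hl
  have hl1 := C.ne_one_of_genSet hl
  have hlA : Act E z (fixSub l) := C.act8z hz (C.einv_fixSub hlE) hlE hl1 le_rfl hlne
  by_cases h1 : fixSub l = fixSub c
  · have h2 : fixSub l ≠ fixSub d := by rw [h1]; exact hne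
    have h3 := C.comm_of_normal hz hlE hl1 hlA hd hd1 hdA hdX hcomm h2
    intro q hq r hr
    rw [← h1] at hq
    exact (h3 r hr q hq).symm
  · by_cases h2 : fixSub l = fixSub d
    · have h3 := C.comm_of_normal hz hlE hl1 hlA hc hc1 hcA hcX hcomm h1
      intro q hq r hr
      rw [← h2] at hr
      exact h3 q hq r hr
    · exfalso
      have h3 := C.comm_of_normal hz hlE hl1 hlA hc hc1 hcA hcX hcomm h1
      have h4 := C.comm_of_normal hz hlE hl1 hlA hd hd1 hdA hdX hcomm h2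
      have h5 : X ≤ Subgroup.centralizer (fixSub l : Set W) := by
        apply sup_le
        · intro q hq
          rw [Subgroup.mem_centralizer_iff]
          intro r hr
          exact (h3 q hq r hr).symm
        · intro q hq
          rw [Subgroup.mem_centralizer_iff]
          intro r hr
          exact (h4 q hq r hr).symm
      obtain ⟨x, hx, y, hy, hxy⟩ := hlA.nonab
      apply hxy
      have h6 := h5 (hlX hy)
      rw [Subgroup.mem_centralizer_iff] at h6
      exact h6 x hx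

theorem fix_le_or_act {c : MulAut W} (hc : c ∈ genSet a b) :
    fixSub c ≤ fixE E ∨ Act E z (fixSub c) := by
  by_cases h : fixSub c ≤ fixE E
  · exact Or.inl h
  · exact Or.inr (C.act8z hz (C.einv_fixSub (C.mem_E_of_genSet hc)) (C.mem_E_of_genSet hc)
      (C.ne_one_of_genSet hc) le_rfl h)

omit hz in
theorem top_le : (⊤ : Subgroup W) ≤ ⨆ c ∈ genSet a b, fixSub c := by
  have h1 : (⊤ : Subgroup W) ≤ ⨆ c ∈ genSet a b, ⊤ ⊓ fixSub c :=
    C.gen ⊤ (fun _ _ _ _ => Subgroup.mem_top _)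
  simpa using h1

omit hz in
/-- a subgroup containing all the fixed point subgroups is everything -/
theorem eq_top_of_le {S : Subgroup W} (h : ∀ c ∈ genSet a b, fixSub c ≤ S) (x : W) : x ∈ S :=
  (iSup₂_le h) (C.top_le (Subgroup.mem_top x))

theorem z_central (x : W) : x * z = z * x := by
  have h : ∀ c ∈ genSet a b, fixSub c ≤ Subgroup.centralizer ({z} : Set W) := by
    intro c hc x hx
    rw [Subgroup.mem_centralizer_singleton_iff]
    exact C.z_comm_fix hz (C.mem_E_of_genSet hc) (C.ne_one_of_genSet hc) hx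
  have := C.eq_top_of_le h x
  rw [Subgroup.mem_centralizer_singleton_iff] at this
  exact this

theorem P_central {k : W} (hk : k = 1 ∨ k = z) (x : W) : x * k = k * x := by
  rcases hk with rfl | rfl
  · simp
  · exact C.z_central hz x

omit C in
theorem P_mul' {k k' : W} (hk : k = 1 ∨ k = z) (hk' : k' = 1 ∨ k' = z) :
    k * k' = 1 ∨ k * k' = z := by
  rcases hk with rfl | rfl <;> rcases hk' with rfl | rfl
  · left; simp
  · right; simp
  · right; simp
  · left; exact zsq hz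

omit C in
theorem P_inv' {k : W} (hk : k = 1 ∨ k = z) : k⁻¹ = 1 ∨ k⁻¹ = z := by
  rcases hk with rfl | rfl
  · left; simp
  · right; exact inv_eq_of_mul_eq_one_right (zsq hz)

/-- the elements commuting with `x` modulo `z` -/
def commSub (x : W) : Subgroup W where
  carrier := {y | ∃ k, (k = 1 ∨ k = z) ∧ x * y = k * (y * x)}
  one_mem' := ⟨1, Or.inl rfl, by simp⟩
  mul_mem' := by
    rintro y y' ⟨k, hk, h⟩ ⟨k', hk', h'⟩
    refine ⟨k * k', P_mul' hz hk hk', ?_⟩
    have hc : y * k' = k' * y := C.P_central hz hk' y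
    calc x * (y * y') = (x * y) * y' := by group
      _ = k * (y * x) * y' := by rw [h]
      _ = k * y * (x * y') := by group
      _ = k * y * (k' * (y' * x)) := by rw [h']
      _ = k * (y * k') * (y' * x) := by group
      _ = k * (k' * y) * (y' * x) := by rw [hc]
      _ = k * k' * (y * y' * x) := by group
  inv_mem' := by
    rintro y ⟨k, hk, h⟩
    refine ⟨k⁻¹, P_inv' hz hk, ?_⟩
    have hc : y⁻¹ * k⁻¹ = k⁻¹ * y⁻¹ := C.P_central hz (P_inv' hz hk) y⁻¹
    calc x * y⁻¹ = y⁻¹ * k⁻¹ * (k * (y * x)) * y⁻¹ := by group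
      _ = y⁻¹ * k⁻¹ * (x * y) * y⁻¹ := by rw [h]
      _ = (y⁻¹ * k⁻¹) * x := by group
      _ = (k⁻¹ * y⁻¹) * x := by rw [hc]
      _ = k⁻¹ * (y⁻¹ * x) := by group

theorem mem_commSub {x y : W} :
    y ∈ C.commSub hz x ↔ ∃ k, (k = 1 ∨ k = z) ∧ x * y = k * (y * x) := Iff.rfl

theorem commSub_symm {x y : W} (h : y ∈ C.commSub hz x) : x ∈ C.commSub hz y := by
  obtain ⟨k, hk, h⟩ := h
  refine ⟨k⁻¹, P_inv' hz hk, ?_⟩
  rw [h]; group

theorem gens_comm {c d : MulAut W} (hc : c ∈ genSet a b) (hd : d ∈ genSet a b) {x y : W}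
    (hx : x ∈ fixSub c) (hy : y ∈ fixSub d) : y ∈ C.commSub hz x := by
  rcases C.fix_le_or_act hz hc with h1 | h1
  · refine ⟨1, Or.inl rfl, ?_⟩
    rw [one_mul]
    exact (C.P_central hz (hz.only x (h1 hx)) y).symm
  rcases C.fix_le_or_act hz hd with h2 | h2
  · refine ⟨1, Or.inl rfl, ?_⟩
    rw [one_mul]
    exact C.P_central hz (hz.only y (h2 hy)) x
  by_cases h : fixSub c = fixSub d
  · rw [← h] at hy
    exact h1.comm x hx y hy
  · refine ⟨1, Or.inl rfl, ?_⟩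
    rw [one_mul]
    exact C.pairwise_comm hz (C.mem_E_of_genSet hc) (C.ne_one_of_genSet hc) h1
      (C.mem_E_of_genSet hd) (C.ne_one_of_genSet hd) h2 h x hx y hy

theorem comm_z (x y : W) : ∃ k, (k = 1 ∨ k = z) ∧ x * y = k * (y * x) := by
  -- first for `x` a generator
  have h1 : ∀ c ∈ genSet a b, ∀ x ∈ fixSub c, ∀ y : W, y ∈ C.commSub hz x := by
    intro c hc x hx y
    exact C.eq_top_of_le (S := C.commSub hz x) (fun d hd y hy => C.gens_comm hz hc hd hx hy) y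
  have h2 : x ∈ C.commSub hz y := by
    apply C.eq_top_of_le (S := C.commSub hz y)
    intro c hc x hx
    exact C.commSub_symm hz (h1 c hc x hx y)
  exact C.commSub_symm hz h2

omit C in
theorem mem_zpowers_z {x : W} : x ∈ Subgroup.zpowers z ↔ x = 1 ∨ x = z := by
  constructor
  · intro h
    obtain ⟨i, rfl⟩ := Subgroup.mem_zpowers_iff.mp h
    rcases Int.even_or_odd' i with ⟨m, rfl | rfl⟩
    · left
      rw [zpow_mul, zpow_two, zsq hz, one_zpow]
    · right
      rw [zpow_add, zpow_mul, zpow_two, zsq hz, one_zpow, one_mul, zpow_one]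
  · rintro (rfl | rfl)
    · exact Subgroup.one_mem _
    · exact Subgroup.mem_zpowers _

omit hz in
theorem einv_center : EInv E (Subgroup.center W) := by
  intro e _ x hx
  have h := (Subgroup.characteristic_iff_map_le.mp
    (inferInstance : (Subgroup.center W).Characteristic)) e
  exact h ⟨x, hx, rfl⟩

theorem center_cases {x : W} (hx : x ∈ Subgroup.center W) : x = 1 ∨ x = z := by
  rw [← mem_zpowers_z hz]
  have h1 := C.gen (Subgroup.center W) C.einv_center
  have h2 : (⨆ c ∈ genSet a b, Subgroup.center W ⊓ fixSub c) ≤ Subgroup.zpowers z := by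
    apply iSup₂_le
    intro c hc y hy
    obtain ⟨hy1, hy2⟩ := Subgroup.mem_inf.mp hy
    rw [mem_zpowers_z hz]
    rcases C.fix_le_or_act hz hc with h | h
    · exact hz.only y (h hy2)
    · apply h.cent y hy2
      intro w _
      exact ((Subgroup.mem_center_iff.mp hy1) w).symm
  exact h2 (h1 hx)

theorem isE2 : Cfsg.Agent.Lib.Helper29.IsE2 W z where
  mem := Subgroup.mem_center_iff.mpr (fun g => C.z_central hz g)
  ne := z_ne_one hz
  all := fun w hw => C.center_cases hz hw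
  comm := by
    rw [commutator_def, Subgroup.commutator_le]
    intro x _ y _
    obtain ⟨k, hk, h⟩ := C.comm_z hz x y
    have h1 : ⁅x, y⁆ = k := by
      rw [commutatorElement_def, h]; group
    rw [h1, Subgroup.mem_center_iff]
    exact fun g => C.P_central hz hk g

theorem exists_act : ∃ c ∈ genSet a b, Act E z (fixSub c) := by
  obtain ⟨c, hc, hcn⟩ := C.exists_nontriv_fixSub
  rcases C.fix_le_or_act hz hc with h | h
  · exact absurd h hcn
  · exact ⟨c, hc, h⟩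

theorem noncomm : ∃ x y : W, x * y ≠ y * x := by
  obtain ⟨c, -, hA⟩ := C.exists_act hz
  obtain ⟨x, -, y, -, hxy⟩ := hA.nonab
  exact ⟨x, y, hxy⟩

theorem exists_two_act : ∃ c ∈ genSet a b, ∃ d ∈ genSet a b, Act E z (fixSub c) ∧
    Act E z (fixSub d) ∧ fixSub c ≠ fixSub d := by
  obtain ⟨c, hc, hA⟩ := C.exists_act hz
  by_contra hcon
  push Not at hcon
  have hcE := C.mem_E_of_genSet hc
  apply C.ne_one_of_genSet hc
  apply MulEquiv.ext
  intro x
  have h : ∀ d ∈ genSet a b, fixSub d ≤ fixSub c := by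
    intro d hd
    rcases C.fix_le_or_act hz hd with h | h
    · intro y hy
      exact h hy c hcE
    · rw [hcon c hc d hd hA h]
  exact C.eq_top_of_le h x

omit C hz in
theorem card_sup_mul_card_inf (H K : Subgroup W) [K.Normal] :
    Nat.card (H ⊔ K : Subgroup W) * Nat.card (H ⊓ K : Subgroup W) = Nat.card H * Nat.card K := by
  have h1 : Nat.card (H ⊔ K : Subgroup W) = Nat.card K * K.relIndex H := by
    rw [← Subgroup.relIndex_bot_left (H ⊔ K),
      ← Subgroup.relIndex_mul_relIndex ⊥ K (H ⊔ K) bot_le le_sup_right,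
      Subgroup.relIndex_bot_left, Subgroup.relIndex_sup_right]
  have h2 : Nat.card H = Nat.card (H ⊓ K : Subgroup W) * K.relIndex H := by
    rw [← Subgroup.relIndex_bot_left H,
      ← Subgroup.relIndex_mul_relIndex ⊥ (H ⊓ K) H bot_le inf_le_left,
      Subgroup.relIndex_bot_left, Subgroup.inf_relIndex_left]
  rw [h1, h2]; ring

theorem normal_of_z_mem {H : Subgroup W} (h : z ∈ H) : H.Normal := by
  constructor
  intro n hn g
  obtain ⟨k, hk, hgn⟩ := C.comm_z hz g n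
  have h1 : g * n * g⁻¹ = k * n := by rw [hgn]; group
  rw [h1]
  rcases hk with rfl | rfl
  · simpa using hn
  · exact H.mul_mem h hn

theorem card_sup_le {H K : Subgroup W} (hH : z ∈ H) (hK : z ∈ K) :
    2 * Nat.card (H ⊔ K : Subgroup W) ≤ Nat.card H * Nat.card K := by
  have : K.Normal := C.normal_of_z_mem hz hK
  have h1 := card_sup_mul_card_inf H K
  have h2 : 2 ≤ Nat.card (H ⊓ K : Subgroup W) := by
    have h3 : Subgroup.zpowers z ≤ H ⊓ K := by
      rw [Subgroup.zpowers_le]; exact Subgroup.mem_inf.mpr ⟨hH, hK⟩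
    have h4 := Subgroup.card_le_of_le h3
    rw [Nat.card_zpowers, hz.ord] at h4
    exact h4
  calc 2 * Nat.card (H ⊔ K : Subgroup W)
      ≤ Nat.card (H ⊓ K : Subgroup W) * Nat.card (H ⊔ K : Subgroup W) :=
        Nat.mul_le_mul_right _ h2
    _ = Nat.card H * Nat.card K := by rw [mul_comm, h1]

theorem card_Q' {c : MulAut W} (hc : c ∈ genSet a b) :
    Nat.card (fixSub c ⊔ Subgroup.zpowers z : Subgroup W) ≤ 8 := by
  rcases C.fix_le_or_act hz hc with h | h
  · have h1 : fixSub c ⊔ Subgroup.zpowers z = Subgroup.zpowers z :=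
      sup_eq_right.mpr (fun x hx => (mem_zpowers_z hz).mpr (hz.only x (h hx)))
    rw [h1, Nat.card_zpowers, hz.ord]; norm_num
  · have h1 : fixSub c ⊔ Subgroup.zpowers z = fixSub c :=
      sup_eq_left.mpr (by rw [Subgroup.zpowers_le]; exact h.zmem)
    rw [h1, h.card]

omit hz in
theorem genSet_cases (hp3 : p = 3) {c : MulAut W} (hc : c ∈ genSet a b) :
    c = b ∨ c = a * b ^ 0 ∨ c = a * b ^ 1 ∨ c = a * b ^ 2 := by
  rcases hc with rfl | ⟨n, rfl⟩
  · exact Or.inl rfl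
  · right
    have hb3 : b ^ 3 = 1 := hp3 ▸ C.hbp
    have h1 := pow_mod_of_pow_eq_one hb3 n
    have h2 : n % 3 < 3 := Nat.mod_lt _ (by norm_num)
    rw [← h1]
    interval_cases (n % 3)
    · exact Or.inl rfl
    · exact Or.inr (Or.inl rfl)
    · exact Or.inr (Or.inr rfl)

theorem card_W_le (hp3 : p = 3) : Nat.card W ≤ 512 := by
  set Q' : MulAut W → Subgroup W := fun c => fixSub c ⊔ Subgroup.zpowers z with hQ'
  have hzQ : ∀ c, z ∈ Q' c := fun c =>
    (le_sup_right : Subgroup.zpowers z ≤ Q' c) (Subgroup.mem_zpowers z)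
  have hcard : ∀ c ∈ genSet a b, Nat.card (Q' c) ≤ 8 := fun c hc => C.card_Q' hz hc
  have hb : b ∈ genSet a b := Or.inl rfl
  have ha0 : a * b ^ 0 ∈ genSet a b := Or.inr ⟨0, rfl⟩
  have ha1 : a * b ^ 1 ∈ genSet a b := Or.inr ⟨1, rfl⟩
  have ha2 : a * b ^ 2 ∈ genSet a b := Or.inr ⟨2, rfl⟩
  set H2 : Subgroup W := Q' b ⊔ Q' (a * b ^ 0) with hH2
  set H3 : Subgroup W := H2 ⊔ Q' (a * b ^ 1) with hH3
  set H4 : Subgroup W := H3 ⊔ Q' (a * b ^ 2) with hH4
  have hz2 : z ∈ H2 := (le_sup_left : Q' b ≤ H2) (hzQ b)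
  have hz3 : z ∈ H3 := (le_sup_left : H2 ≤ H3) hz2
  have h2 : Nat.card H2 ≤ 32 := by
    have := C.card_sup_le hz (hzQ b) (hzQ (a * b ^ 0))
    have h1 := hcard b hb
    have h1' := hcard _ ha0
    have : 2 * Nat.card H2 ≤ 8 * 8 := this.trans (Nat.mul_le_mul h1 h1')
    omega
  have h3 : Nat.card H3 ≤ 128 := by
    have := C.card_sup_le hz hz2 (hzQ (a * b ^ 1))
    have h1' := hcard _ ha1
    have : 2 * Nat.card H3 ≤ 32 * 8 := this.trans (Nat.mul_le_mul h2 h1')
    omega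
  have h4 : Nat.card H4 ≤ 512 := by
    have := C.card_sup_le hz hz3 (hzQ (a * b ^ 2))
    have h1' := hcard _ ha2
    have : 2 * Nat.card H4 ≤ 128 * 8 := this.trans (Nat.mul_le_mul h3 h1')
    omega
  have htop : H4 = ⊤ := by
    rw [eq_top_iff]
    intro x _
    apply C.eq_top_of_le (S := H4)
    intro c hc
    have hle : fixSub c ≤ Q' c := le_sup_left
    rcases C.genSet_cases hp3 hc with rfl | rfl | rfl | rfl
    · exact hle.trans ((le_sup_left : Q' c ≤ H2).trans ((le_sup_left : H2 ≤ H3).trans le_sup_left))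
    · exact hle.trans ((le_sup_right : Q' (a * b ^ 0) ≤ H2).trans
        ((le_sup_left : H2 ≤ H3).trans le_sup_left))
    · exact hle.trans ((le_sup_right : Q' (a * b ^ 1) ≤ H3).trans le_sup_left)
    · exact hle.trans (le_sup_right : Q' (a * b ^ 2) ≤ H4)
  rw [htop, Subgroup.card_top] at h4
  exact h4

theorem card_W_gt : 8 < Nat.card W := by
  obtain ⟨c, -, d, -, hcA, hdA, hne⟩ := C.exists_two_act hz
  by_contra hcon
  push Not at hcon
  apply hne
  have h1 : fixSub c = ⊤ := Subgroup.eq_top_of_le_card _ (by rw [hcA.card]; exact hcon)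
  have h2 : fixSub d = ⊤ := Subgroup.eq_top_of_le_card _ (by rw [hdA.card]; exact hcon)
  rw [h1, h2]

omit C hz in
theorem zb_cases (s : Bool) : Cfsg.Agent.Lib.Helper29.bp z s = 1 ∨
    Cfsg.Agent.Lib.Helper29.bp z s = z := by
  cases s
  · left; rfl
  · right; rfl

omit C in
theorem zb_inj {s s' : Bool} (h : Cfsg.Agent.Lib.Helper29.bp z s = Cfsg.Agent.Lib.Helper29.bp z s') :
    s = s' := by
  cases s <;> cases s'
  · rfl
  · exact absurd h.symm (z_ne_one hz)
  · exact absurd h (z_ne_one hz)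
  · rfl

theorem inter_act {c d : MulAut W} (hc : c ∈ E) (hcA : Act E z (fixSub c))
    (hdA : Act E z (fixSub d)) (hne : fixSub c ≠ fixSub d) {x : W} (hxc : x ∈ fixSub c)
    (hxd : x ∈ fixSub d) : x = 1 ∨ x = z := by
  rcases hdA.dich c hc with h | h
  · exfalso
    apply hne
    have hle : fixSub d ≤ fixSub c := fun y hy => h y hy
    exact (hdA.eq_of_le hcA hle).symm
  · exact h x hxd hxc

theorem sq_of_not_P {c : MulAut W} (hc : c ∈ E) (hc1 : c ≠ 1) (hcA : Act E z (fixSub c)) {r : W}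
    (hr : r ∈ fixSub c) (hrz : ¬ (r = 1 ∨ r = z)) : r * r = z := by
  rcases hcA.sq r hr with h | h
  · exfalso
    apply hrz
    by_cases h1 : r = 1
    · exact Or.inl h1
    · right
      have : Fact (Nat.Prime 2) := ⟨Nat.prime_two⟩
      exact C.inv_eq_z hz hc hc1 hr (orderOf_eq_prime (by rw [pow_two]; exact h) h1)
  · exact h

theorem card_E_le : Nat.card E ≤ 16 := by
  obtain ⟨c, hc, d, hd, hcA, hdA, hne⟩ := C.exists_two_act hz
  have hcE := C.mem_E_of_genSet hc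
  have hc1 := C.ne_one_of_genSet hc
  have hdE := C.mem_E_of_genSet hd
  have hd1 := C.ne_one_of_genSet hd
  obtain ⟨r₁, hr₁, y₁, hy₁, hry₁⟩ := hcA.nonab
  obtain ⟨r₂, hr₂, y₂, hy₂, hry₂⟩ := hdA.nonab
  have hr₁z : ¬ (r₁ = 1 ∨ r₁ = z) := fun h => hry₁ ((C.P_central hz h y₁).symm)
  have hr₂z : ¬ (r₂ = 1 ∨ r₂ = z) := fun h => hry₂ ((C.P_central hz h y₂).symm)
  have hsq₁ : r₁ * r₁ = z := C.sq_of_not_P hz hcE hc1 hcA hr₁ hr₁z
  have hsq₂ : r₂ * r₂ = z := C.sq_of_not_P hz hdE hd1 hdA hr₂ hr₂z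
  have hcomm : r₁ * r₂ = r₂ * r₁ := C.pairwise_comm hz hcE hc1 hcA hdE hd1 hdA hne r₁ hr₁ r₂ hr₂
  have hne1 : r₁ * r₂ ≠ 1 := by
    intro h
    apply hr₂z
    have h1 : r₂ = r₁⁻¹ := eq_inv_of_mul_eq_one_right h
    exact C.inter_act hz hcE hcA hdA hne (h1 ▸ (fixSub c).inv_mem hr₁) hr₂
  have hnez : r₁ * r₂ ≠ z := by
    intro h
    apply hr₂z
    have h1 : r₂ = r₁⁻¹ * z := by rw [← h]; group
    exact C.inter_act hz hcE hcA hdA hne
      (h1 ▸ (fixSub c).mul_mem ((fixSub c).inv_mem hr₁) hcA.zmem) hr₂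
  have hinv : orderOf (r₁ * r₂) = 2 := by
    have : Fact (Nat.Prime 2) := ⟨Nat.prime_two⟩
    refine orderOf_eq_prime ?_ hne1
    rw [pow_two]
    calc (r₁ * r₂) * (r₁ * r₂) = r₁ * (r₂ * r₁) * r₂ := by group
      _ = r₁ * (r₁ * r₂) * r₂ := by rw [hcomm]
      _ = (r₁ * r₁) * (r₂ * r₂) := by group
      _ = 1 := by rw [hsq₁, hsq₂]; exact zsq hz
  have key : ∀ g ∈ E, ∀ k k' : W, (k = 1 ∨ k = z) → (k' = 1 ∨ k' = z) → g r₁ = k * r₁ →
      g r₂ = k' * r₂ → g = 1 ∧ k = 1 ∧ k' = 1 := by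
    intro g hg k k' hk hk' h1 h2
    obtain ⟨n, hn⟩ := C.pow_eq_one hg
    have hg1 : g r₁ = r₁ := by
      apply fixed_of_stable C.hW g (C.odd_pow n) hn
      have : r₁⁻¹ * g r₁ = k := by
        rw [h1, ← C.P_central hz hk r₁]; group
      rw [this]
      exact P_fix hz hk hg
    have hg2 : g r₂ = r₂ := by
      apply fixed_of_stable C.hW g (C.odd_pow n) hn
      have : r₂⁻¹ * g r₂ = k' := by
        rw [h2, ← C.P_central hz hk' r₂]; group
      rw [this]
      exact P_fix hz hk' hg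
    have hk1 : k = 1 := by
      rw [hg1] at h1
      have : 1 * r₁ = k * r₁ := by rw [one_mul]; exact h1
      exact (mul_right_cancel this).symm
    have hk'1 : k' = 1 := by
      rw [hg2] at h2
      have : 1 * r₂ = k' * r₂ := by rw [one_mul]; exact h2
      exact (mul_right_cancel this).symm
    refine ⟨?_, hk1, hk'1⟩
    by_contra hg_ne
    exact hnez (C.hfix g hg hg_ne (r₁ * r₂) z hinv hz.ord (by rw [map_mul, hg1, hg2])
      (hz.fix g hg))
  have hmem₁ : ∀ (e : E) (s : Bool), Cfsg.Agent.Lib.Helper29.bp z s * (e : MulAut W) r₁ ∈ fixSub c :=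
    fun e s => (fixSub c).mul_mem
      (by rcases zb_cases (z := z) s with h | h <;> rw [h]
          · exact Subgroup.one_mem _
          · exact hcA.zmem)
      (C.einv_fixSub hcE e e.2 r₁ hr₁)
  have hmem₂ : ∀ (e : E) (s : Bool), Cfsg.Agent.Lib.Helper29.bp z s * (e : MulAut W) r₂ ∈ fixSub d :=
    fun e s => (fixSub d).mul_mem
      (by rcases zb_cases (z := z) s with h | h <;> rw [h]
          · exact Subgroup.one_mem _
          · exact hdA.zmem)
      (C.einv_fixSub hdE e e.2 r₂ hr₂)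
  let F : E × Bool × Bool → fixSub c × fixSub d := fun t =>
    (⟨Cfsg.Agent.Lib.Helper29.bp z t.2.1 * (t.1 : MulAut W) r₁, hmem₁ t.1 t.2.1⟩,
     ⟨Cfsg.Agent.Lib.Helper29.bp z t.2.2 * (t.1 : MulAut W) r₂, hmem₂ t.1 t.2.2⟩)
  have hFinj : Function.Injective F := by
    rintro ⟨e, s, t⟩ ⟨e', s', t'⟩ h
    have h1 : Cfsg.Agent.Lib.Helper29.bp z s * (e : MulAut W) r₁
        = Cfsg.Agent.Lib.Helper29.bp z s' * (e' : MulAut W) r₁ :=
      congrArg (fun u => ((u.1 : fixSub c) : W)) h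
    have h2 : Cfsg.Agent.Lib.Helper29.bp z t * (e : MulAut W) r₂
        = Cfsg.Agent.Lib.Helper29.bp z t' * (e' : MulAut W) r₂ :=
      congrArg (fun u => ((u.2 : fixSub d) : W)) h
    set g : MulAut W := (e' : MulAut W)⁻¹ * e with hg
    have hgE : g ∈ E := E.mul_mem (E.inv_mem e'.2) e.2
    have hcancel : ∀ w : W, (e' : MulAut W)⁻¹ ((e' : MulAut W) w) = w := by
      intro w
      show ((e' : MulAut W)⁻¹ * e') w = w
      rw [inv_mul_cancel]; rfl
    have hg1 : g r₁ = ((Cfsg.Agent.Lib.Helper29.bp z s)⁻¹ * Cfsg.Agent.Lib.Helper29.bp z s') * r₁ := by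
      have h3 : (e : MulAut W) r₁ = (Cfsg.Agent.Lib.Helper29.bp z s)⁻¹ *
          (Cfsg.Agent.Lib.Helper29.bp z s' * (e' : MulAut W) r₁) := by rw [← h1]; group
      show (e' : MulAut W)⁻¹ ((e : MulAut W) r₁) = _
      rw [h3, map_mul, map_mul, map_inv, P_fix hz (zb_cases s) (E.inv_mem e'.2),
        P_fix hz (zb_cases s') (E.inv_mem e'.2), hcancel]
      group
    have hg2 : g r₂ = ((Cfsg.Agent.Lib.Helper29.bp z t)⁻¹ * Cfsg.Agent.Lib.Helper29.bp z t') * r₂ := by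
      have h3 : (e : MulAut W) r₂ = (Cfsg.Agent.Lib.Helper29.bp z t)⁻¹ *
          (Cfsg.Agent.Lib.Helper29.bp z t' * (e' : MulAut W) r₂) := by rw [← h2]; group
      show (e' : MulAut W)⁻¹ ((e : MulAut W) r₂) = _
      rw [h3, map_mul, map_mul, map_inv, P_fix hz (zb_cases t) (E.inv_mem e'.2),
        P_fix hz (zb_cases t') (E.inv_mem e'.2), hcancel]
      group
    obtain ⟨hg_one, hk, hk'⟩ := key g hgE _ _
      (P_mul' hz (P_inv' hz (zb_cases s)) (zb_cases s'))
      (P_mul' hz (P_inv' hz (zb_cases t)) (zb_cases t')) hg1 hg2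
    have he : e = e' := by
      apply Subtype.ext
      have : (e' : MulAut W)⁻¹ * e = 1 := hg_one
      exact (inv_mul_eq_one.mp this).symm
    have hs : s = s' := zb_inj hz (inv_mul_eq_one.mp hk)
    have ht : t = t' := zb_inj hz (inv_mul_eq_one.mp hk')
    rw [he, hs, ht]
  have h1 := Nat.card_le_card_of_injective F hFinj
  rw [Nat.card_prod, Nat.card_prod, Nat.card_prod, hcA.card, hdA.card] at h1
  have h2 : Nat.card Bool = 2 := by rw [Nat.card_eq_fintype_card, Fintype.card_bool]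
  rw [h2] at h1
  omega

end withz

end Ctx

end Cfsg.Agent.Lib.Helper48.OAM
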