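import Mathlib

/-!
Combinatorics of integer vectors of norm three (for the Peterfalvi 3.2 table lemma).
-/

namespace Cfsg.Agent.Lib.Helper48.PF32

set_option linter.unusedSectionVars false

variable {X : Type*} [Fintype X] [DecidableEq X]

/-- the standard inner product of integer vectors -/
def ip (u v : X → ℤ) : ℤ := ∑ x, u x * v x

theorem ip_comm (u v : X → ℤ) : ip u v = ip v u := by
  unfold ip
  exact Finset.sum_congr rfl (fun x _ => mul_comm _ _)

theorem ip_comp {σ : X → X} (hσ : ∀ x, σ (σ x) = x) (u v : X → ℤ) :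
    ip (u ∘ σ) v = ip u (v ∘ σ) := by
  have hinv : Function.Involutive σ := hσ
  have := Equiv.sum_comp (hinv.toPerm σ) (fun y => u y * v (σ y))
  show ∑ x, u (σ x) * v x = ∑ x, u x * v (σ x)
  rw [← this]
  refine Finset.sum_congr rfl (fun x _ => ?_)
  simp [Function.Involutive.toPerm, hσ]

theorem ip_comp_comp {σ : X → X} (hσ : ∀ x, σ (σ x) = x) (u v : X → ℤ) :
    ip (u ∘ σ) (v ∘ σ) = ip u v := by
  rw [ip_comp hσ]
  congr 1
  funext x
  simp [hσ]

theorem exists_of_ip_ne_zero {u v : X → ℤ} (h : ip u v ≠ 0) : ∃ x, u x ≠ 0 ∧ v x ≠ 0 := by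
  unfold ip at h
  obtain ⟨x, -, hx⟩ := Finset.exists_ne_zero_of_sum_ne_zero h
  exact ⟨x, left_ne_zero_of_mul hx, right_ne_zero_of_mul hx⟩

theorem n3_vals {u : X → ℤ} (h : ip u u = 3) (x : X) : u x = 0 ∨ u x = 1 ∨ u x = -1 := by
  have h1 : u x * u x ≤ 3 := by
    rw [← h]
    exact Finset.single_le_sum (f := fun x => u x * u x) (fun i _ => mul_self_nonneg _)
      (Finset.mem_univ x)
  have h2 : -1 ≤ u x ∧ u x ≤ 1 := by
    constructor <;> nlinarith
  omega

theorem n3_pm {u : X → ℤ} (h : ip u u = 3) {x : X} (hx : u x ≠ 0) : u x = 1 ∨ u x = -1 := by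
  rcases n3_vals h x with h0 | h0
  · exact absurd h0 hx
  · exact h0

/-- `u` is supported on the three distinct points `p q t`, with values `±1` -/
structure IsTri (u : X → ℤ) (p q t : X) : Prop where
  pq : p ≠ q
  pt : p ≠ t
  qt : q ≠ t
  vp : u p = 1 ∨ u p = -1
  vq : u q = 1 ∨ u q = -1
  vt : u t = 1 ∨ u t = -1
  supp : ∀ x, u x ≠ 0 → x = p ∨ x = q ∨ x = t

theorem IsTri.np {u : X → ℤ} {p q t : X} (h : IsTri u p q t) : u p ≠ 0 := by
  rcases h.vp with h | h <;> rw [h] <;> decide

theorem IsTri.nq {u : X → ℤ} {p q t : X} (h : IsTri u p q t) : u q ≠ 0 := by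
  rcases h.vq with h | h <;> rw [h] <;> decide

theorem IsTri.nt {u : X → ℤ} {p q t : X} (h : IsTri u p q t) : u t ≠ 0 := by
  rcases h.vt with h | h <;> rw [h] <;> decide

theorem IsTri.formula {u : X → ℤ} {p q t : X} (h : IsTri u p q t) (x : X) :
    u x = (if x = p then u p else 0) + (if x = q then u q else 0) + (if x = t then u t else 0) := by
  by_cases h1 : x = p
  · subst h1
    simp [h.pq, h.pt]
  · by_cases h2 : x = q
    · subst h2
      simp [h.pq.symm, h.qt]
    · by_cases h3 : x = t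
      · subst h3
        simp [h.pt.symm, h.qt.symm]
      · have : u x = 0 := by
          by_contra hne
          rcases h.supp x hne with h' | h' | h'
          · exact h1 h'
          · exact h2 h'
          · exact h3 h'
        simp [h1, h2, h3, this]

theorem IsTri.ip {u : X → ℤ} {p q t : X} (h : IsTri u p q t) (w : X → ℤ) :
    ip w u = w p * u p + w q * u q + w t * u t := by
  unfold PF32.ip
  have : ∀ x, w x * u x = (if x = p then w p * u p else 0) + (if x = q then w q * u q else 0)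
      + (if x = t then w t * u t else 0) := by
    intro x
    rw [h.formula x]
    by_cases h1 : x = p
    · subst h1; simp [h.pq, h.pt]
    · by_cases h2 : x = q
      · subst h2; simp [h.pq.symm, h.qt]
      · by_cases h3 : x = t
        · subst h3; simp [h.pt.symm, h.qt.symm]
        · simp [h1, h2, h3]
  rw [Finset.sum_congr rfl (fun x _ => this x)]
  simp [Finset.sum_add_distrib]

theorem IsTri.swap23 {u : X → ℤ} {p q t : X} (h : IsTri u p q t) : IsTri u p t q :=
  ⟨h.pt, h.pq, h.qt.symm, h.vp, h.vt, h.vq, fun x hx => by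
    rcases h.supp x hx with h' | h' | h'
    · exact Or.inl h'
    · exact Or.inr (Or.inr h')
    · exact Or.inr (Or.inl h')⟩

theorem n3_triple {u : X → ℤ} (h : ip u u = 3) : ∃ a b c, IsTri u a b c := by
  have hsq : ∀ x, u x * u x = if u x ≠ 0 then 1 else 0 := by
    intro x
    rcases n3_vals h x with h0 | h0 | h0 <;> simp [h0]
  have hcard : (Finset.univ.filter (fun x => u x ≠ 0)).card = 3 := by
    have h1 : ip u u = ((Finset.univ.filter (fun x => u x ≠ 0)).card : ℤ) := by
      unfold ip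
      rw [Finset.sum_congr rfl (fun x _ => hsq x)]
      rw [Finset.sum_ite, Finset.sum_const_zero, add_zero, Finset.sum_const]
      simp
    rw [h] at h1
    exact_mod_cast h1.symm
  obtain ⟨a, b, c, hab, hac, hbc, hS⟩ := Finset.card_eq_three.mp hcard
  have hmem : ∀ x, u x ≠ 0 ↔ x = a ∨ x = b ∨ x = c := by
    intro x
    have : x ∈ Finset.univ.filter (fun x => u x ≠ 0) ↔ x ∈ ({a, b, c} : Finset X) := by rw [hS]
    simpa using this
  have ha : u a ≠ 0 := (hmem a).mpr (Or.inl rfl)
  have hb : u b ≠ 0 := (hmem b).mpr (Or.inr (Or.inl rfl))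
  have hc : u c ≠ 0 := (hmem c).mpr (Or.inr (Or.inr rfl))
  exact ⟨a, b, c, hab, hac, hbc, n3_pm h ha, n3_pm h hb, n3_pm h hc, fun x hx => (hmem x).mp hx⟩

theorem n3_third {u : X → ℤ} (h : ip u u = 3) {p q : X} (hpq : p ≠ q) (hp : u p ≠ 0)
    (hq : u q ≠ 0) : ∃ t, IsTri u p q t := by
  obtain ⟨a, b, c, T⟩ := n3_triple h
  have hP := T.supp p hp
  have hQ := T.supp q hq
  have key : ∀ t, t ≠ p → t ≠ q → u t ≠ 0 → (∀ x, u x ≠ 0 → x = p ∨ x = q ∨ x = t) →
      ∃ t, IsTri u p q t := fun t h1 h2 h3 h4 =>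
    ⟨t, hpq, h1.symm, h2.symm, n3_pm h hp, n3_pm h hq, n3_pm h h3, h4⟩
  rcases hP with rfl | rfl | rfl <;> rcases hQ with rfl | rfl | rfl
  · exact absurd rfl hpq
  · exact key c T.pt.symm T.qt.symm T.nt (fun x hx => T.supp x hx)
  · exact key b T.pq.symm T.qt T.nq (fun x hx => by
      rcases T.supp x hx with h' | h' | h'
      · exact Or.inl h'
      · exact Or.inr (Or.inr h')
      · exact Or.inr (Or.inl h'))
  · exact key c T.qt.symm T.pt.symm T.nt (fun x hx => by
      rcases T.supp x hx with h' | h' | h'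
      · exact Or.inr (Or.inl h')
      · exact Or.inl h'
      · exact Or.inr (Or.inr h'))
  · exact absurd rfl hpq
  · exact key a T.pq T.pt T.np (fun x hx => by
      rcases T.supp x hx with h' | h' | h'
      · exact Or.inr (Or.inr h')
      · exact Or.inl h'
      · exact Or.inr (Or.inl h'))
  · exact key b T.qt T.pq.symm T.nq (fun x hx => by
      rcases T.supp x hx with h' | h' | h'
      · exact Or.inr (Or.inl h')
      · exact Or.inr (Or.inr h')
      · exact Or.inl h')
  · exact key a T.pt T.pq T.np (fun x hx => by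
      rcases T.supp x hx with h' | h' | h'
      · exact Or.inr (Or.inr h')
      · exact Or.inr (Or.inl h')
      · exact Or.inl h')
  · exact absurd rfl hpq

theorem n3_two_more {u : X → ℤ} (h : ip u u = 3) {p : X} (hp : u p ≠ 0) :
    ∃ q t, IsTri u p q t := by
  obtain ⟨a, b, c, T⟩ := n3_triple h
  rcases T.supp p hp with rfl | rfl | rfl
  · exact ⟨b, c, T⟩
  · obtain ⟨t, ht⟩ := n3_third h T.pq.symm T.nq T.np
    exact ⟨a, t, ht⟩
  · obtain ⟨t, ht⟩ := n3_third h T.pt.symm T.nt T.np
    exact ⟨a, t, ht⟩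

end Cfsg.Agent.Lib.Helper48.PF32
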