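import Cfsg.Agent.Lib.Helper48.PF32Base

/-!
No conjugate overlap, and the block lemma.
-/

namespace Cfsg.Agent.Lib.Helper48.PF32

set_option linter.unusedSectionVars false

variable {X : Type*} [Fintype X] [DecidableEq X]

theorem pm_mul {a b : ℤ} (ha : a = 1 ∨ a = -1) (hb : b = 1 ∨ b = -1) :
    a * b = 1 ∨ a * b = -1 := by
  rcases ha with rfl | rfl <;> rcases hb with rfl | rfl <;> simp

theorem tri_mul {a b : ℤ} (ha : a = 0 ∨ a = 1 ∨ a = -1) (hb : b = 1 ∨ b = -1) :
    (a * b = 0 ∨ a * b = 1 ∨ a * b = -1) ∧ (a * b = 0 ↔ a = 0) ∧ (a * b = 1 ↔ a = b) := by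
  rcases ha with rfl | rfl | rfl <;> rcases hb with rfl | rfl <;> simp

theorem no_conj_overlap {σ : X → X} (hσ : ∀ x, σ (σ x) = x) {u : X → ℤ} (h3 : ip u u = 3)
    (h0 : ip u (u ∘ σ) = 0) : ∀ x, u x ≠ 0 → u (σ x) = 0 := by
  intro x hx
  by_contra hy
  rw [ip_comm] at h0
  by_cases hfix : σ x = x
  · obtain ⟨q, t, T⟩ := n3_two_more h3 hx
    have e := T.ip (u ∘ σ)
    rw [h0] at e
    simp only [Function.comp_apply, hfix] at e
    have key : ∀ q t, IsTri u x q t → u (σ q) * u q = -1 → u (σ t) * u t = -1 := by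
      intro q t T hq
      have hne : u (σ q) ≠ 0 := by
        intro h0'
        rw [h0'] at hq
        simp at hq
      rcases T.supp _ hne with h' | h' | h'
      · exfalso
        have : q = x := by rw [← hσ q, h', hfix]
        exact T.pq this.symm
      · exfalso
        rw [h'] at hq
        rcases T.vq with h'' | h'' <;> rw [h''] at hq <;> simp at hq
      · have h2 : σ t = q := by rw [← h', hσ]
        rw [h2, ← h', mul_comm]
        exact hq
    have hxx : u x * u x = 1 := by rcases T.vp with h | h <;> rw [h] <;> simp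
    have hq3 := (tri_mul (n3_vals h3 (σ q)) T.vq).1
    have ht3 := (tri_mul (n3_vals h3 (σ t)) T.vt).1
    have k1 := key q t T
    have k2 := key t q T.swap23
    rcases hq3 with h1 | h1 | h1 <;> rcases ht3 with h2 | h2 | h2 <;>
      first
        | omega
        | (have := k1 h1; omega)
        | (have := k2 h2; omega)
  · obtain ⟨t, T⟩ := n3_third h3 (Ne.symm hfix) hx hy
    have e := T.ip (u ∘ σ)
    rw [h0] at e
    simp only [Function.comp_apply, hσ] at e
    have h1 := pm_mul T.vq T.vp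
    have h2 := (tri_mul (n3_vals h3 (σ t)) T.vt).1
    have h3' : u x * u (σ x) = u (σ x) * u x := mul_comm _ _
    rcases h1 with h1 | h1 <;> rcases h2 with h2 | h2 | h2 <;> omega

/-- the block structure attached to the pair `(u0, u1)` -/
structure Blk (σ : X → X) (u0 u1 : X → ℤ) (r c z z' : X) : Prop where
  t0 : IsTri u0 r c z
  t1 : IsTri u1 r (σ c) z'
  er : u1 r = u0 r
  ec : u1 (σ c) = u0 c
  u1c : u1 c = 0
  u1z : u1 z = 0
  u1sr : u1 (σ r) = 0
  u1sz : u1 (σ z) = 0
  u1sz' : u1 (σ z') = 0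
  u0z' : u0 z' = 0
  u0sr : u0 (σ r) = 0
  u0sc : u0 (σ c) = 0
  u0sz : u0 (σ z) = 0
  u0sz' : u0 (σ z') = 0

theorem exists_blk {σ : X → X} (hσ : ∀ x, σ (σ x) = x) {u0 u1 : X → ℤ}
    (h0 : ip u0 u0 = 3) (h1 : ip u1 u1 = 3)
    (hb0 : ∀ x, u0 x ≠ 0 → u0 (σ x) = 0) (hb1 : ∀ x, u1 x ≠ 0 → u1 (σ x) = 0)
    (h01 : ip u0 u1 = 1) (h01b : ip u0 (u1 ∘ σ) = 1) :
    ∃ r c z z', Blk σ u0 u1 r c z z' := by
  obtain ⟨r, hr0, hr1⟩ := exists_of_ip_ne_zero (u := u0) (v := u1) (by rw [h01]; decide)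
  obtain ⟨c, hc0, hc1⟩ := exists_of_ip_ne_zero (u := u0) (v := u1 ∘ σ) (by rw [h01b]; decide)
  simp only [Function.comp_apply] at hc1
  have hrc : r ≠ c := by
    rintro rfl
    exact hc1 (hb1 r hr1)
  obtain ⟨z, T0⟩ := n3_third h0 hrc hr0 hc0
  have u1sr : u1 (σ r) = 0 := hb1 r hr1
  have u1c : u1 c = 0 := by
    have := hb1 (σ c) hc1
    rwa [hσ] at this
  have e1 := T0.ip u1
  rw [ip_comm, h01] at e1
  have e2 := T0.ip (u1 ∘ σ)
  rw [ip_comm, h01b] at e2
  simp only [Function.comp_apply] at e2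
  rw [u1c] at e1
  rw [u1sr] at e2
  have a1 := pm_mul (n3_pm h1 hr1) T0.vp
  have a2 := pm_mul (n3_pm h1 hc1) T0.vq
  have a3 := tri_mul (n3_vals h1 z) T0.vt
  have a4 := tri_mul (n3_vals h1 (σ z)) T0.vt
  have a5 := tri_mul (n3_vals h1 r) T0.vp
  have a6 := tri_mul (n3_vals h1 (σ c)) T0.vq
  have u1z : u1 z = 0 := by
    rcases a3.1 with h | h | h
    · exact a3.2.1.mp h
    · rcases a1 with h' | h' <;> omega
    · rcases a1 with h' | h' <;> omega
  have u1sz : u1 (σ z) = 0 := by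
    rcases a4.1 with h | h | h
    · exact a4.2.1.mp h
    · rcases a2 with h' | h' <;> omega
    · rcases a2 with h' | h' <;> omega
  rw [u1z] at e1
  rw [u1sz] at e2
  have er : u1 r = u0 r := a5.2.2.mp (by omega)
  have ec : u1 (σ c) = u0 c := a6.2.2.mp (by omega)
  have hrsc : r ≠ σ c := by
    intro h
    have := hb0 r hr0
    rw [h, hσ] at this
    exact hc0 this
  obtain ⟨z', T1⟩ := n3_third h1 hrsc hr1 hc1
  have u1sz' : u1 (σ z') = 0 := hb1 z' T1.nt
  have u0z' : u0 z' = 0 := by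
    by_contra hne
    rcases T0.supp z' hne with h | h | h
    · exact T1.pt h.symm
    · rw [h] at T1; exact T1.nt u1c
    · rw [h] at T1; exact T1.nt u1z
  have u0sz' : u0 (σ z') = 0 := by
    by_contra hne
    rcases T0.supp _ hne with h | h | h
    · have : z' = σ r := by rw [← h, hσ]
      rw [this] at T1; exact T1.nt u1sr
    · have : z' = σ c := by rw [← h, hσ]
      exact T1.qt this.symm
    · have : z' = σ z := by rw [← h, hσ]
      rw [this] at T1; exact T1.nt u1sz
  exact ⟨r, c, z, z', T0, T1, er, ec, u1c, u1z, u1sr, u1sz, u1sz', u0z', hb0 r hr0, hb0 c hc0,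
    hb0 z T0.nt, u0sz'⟩

theorem Blk.inj {σ : X → X} (hσ : ∀ x, σ (σ x) = x) {u0 u1 : X → ℤ} {r c z z' : X}
    (B : Blk σ u0 u1 r c z z') :
    Function.Injective ![r, c, z, z', σ r, σ c, σ z, σ z'] := by
  let f : X → Bool × Bool × Bool × Bool := fun x =>
    (decide (u0 x ≠ 0), decide (u1 x ≠ 0), decide (u0 (σ x) ≠ 0), decide (u1 (σ x) ≠ 0))
  let S : Fin 8 → Bool × Bool × Bool × Bool :=
    ![(true, true, false, false), (true, false, false, true), (true, false, false, false),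
      (false, true, false, false), (false, false, true, true), (false, true, true, false),
      (false, false, true, false), (false, false, false, true)]
  have hS : Function.Injective S := by decide
  have h1 := B.t0.np
  have h2 := B.t0.nq
  have h3 := B.t0.nt
  have h4 := B.t1.np
  have h5 := B.t1.nq
  have h6 := B.t1.nt
  have hfS : ∀ k, f (![r, c, z, z', σ r, σ c, σ z, σ z'] k) = S k := by
    intro k
    fin_cases k <;>
      simp [f, S, hσ, h1, h2, h3, h4, h5, h6, B.u1c, B.u1z, B.u1sr, B.u1sz, B.u1sz', B.u0z',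
        B.u0sr, B.u0sc, B.u0sz, B.u0sz']
  intro k l hkl
  apply hS
  rw [← hfS k, ← hfS l, hkl]

end Cfsg.Agent.Lib.Helper48.PF32
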