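import Cfsg.Agent.Lib.Helper48.PF32Block

/-!
Relative position of a third vector with respect to a block.
-/

namespace Cfsg.Agent.Lib.Helper48.PF32

set_option linter.unusedSectionVars false

variable {X : Type*} [Fintype X] [DecidableEq X]

theorem relpos_arith (br bc bz bz' bsr bsc bsz bsz' nr nc nz nz' nsr nsc nsz nsz' : ℤ)
    (h1 : br ≤ nr ∧ -br ≤ nr) (h2 : bc ≤ nc ∧ -bc ≤ nc) (h3 : bz ≤ nz ∧ -bz ≤ nz)
    (h4 : bz' ≤ nz' ∧ -bz' ≤ nz') (h5 : bsr ≤ nsr ∧ -bsr ≤ nsr) (h6 : bsc ≤ nsc ∧ -bsc ≤ nsc)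
    (h7 : bsz ≤ nsz ∧ -bsz ≤ nsz) (h8 : bsz' ≤ nsz' ∧ -bsz' ≤ nsz')
    (p1 : nr + nsr ≤ 1) (p2 : nc + nsc ≤ 1) (p3 : nz + nsz ≤ 1) (p4 : nz' + nsz' ≤ 1)
    (tot : nr + nc + nz + nz' + nsr + nsc + nsz + nsz' ≤ 3)
    (E1 : br + bc + bz = 1) (E2 : br + bsc + bz' = 1) (E3 : bsr + bc + bsz' = 0)
    (E4 : bsr + bsc + bsz = 0) :
    (bc = 0 ∧ bsr = 0 ∧ bsc = 0 ∧ bsz = 0 ∧ bsz' = 0) ∧
      ((br = 1 ∧ bz = 0 ∧ bz' = 0) ∨ (br = 0 ∧ bz = 1 ∧ bz' = 1)) := by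
  have a1 : bsr = 0 := by omega
  have a2 : bc = 0 := by omega
  have a3 : bsc = 0 := by omega
  have a4 : bsz = 0 := by omega
  have a5 : bsz' = 0 := by omega
  refine ⟨⟨a2, a1, a3, a4, a5⟩, ?_⟩
  omega

theorem b_le {v e : ℤ} (hv : v = 0 ∨ v = 1 ∨ v = -1) (he : e = 1 ∨ e = -1) :
    v * e ≤ v * v ∧ -(v * e) ≤ v * v := by
  rcases hv with rfl | rfl | rfl <;> rcases he with rfl | rfl <;> simp

theorem pair_le {v v' : ℤ} (hv : v = 0 ∨ v = 1 ∨ v = -1) (hv' : v' = 0 ∨ v' = 1 ∨ v' = -1)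
    (h : v ≠ 0 → v' = 0) : v * v + v' * v' ≤ 1 := by
  rcases hv with rfl | rfl | rfl
  · rcases hv' with rfl | rfl | rfl <;> simp
  · rw [h (by decide)]; simp
  · rw [h (by decide)]; simp

theorem sum_eight_le {w : X → ℤ} (hw : ip w w = 3) {p : Fin 8 → X} (hp : Function.Injective p) :
    ∑ k, w (p k) * w (p k) ≤ 3 := by
  rw [← hw]
  unfold ip
  have := Finset.sum_image (s := Finset.univ) (g := p) (f := fun x => w x * w x)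
    (fun a _ b _ h => hp h)
  rw [← this]
  exact Finset.sum_le_univ_sum_of_nonneg (fun x => mul_self_nonneg _)

theorem relpos {σ : X → X} (hσ : ∀ x, σ (σ x) = x) {u0 u1 : X → ℤ} {r c z z' : X}
    (B : Blk σ u0 u1 r c z z') {w : X → ℤ} (hw : ip w w = 3)
    (hbw : ∀ x, w x ≠ 0 → w (σ x) = 0)
    (e1 : ip w u0 = 1) (e2 : ip w u1 = 1) (e3 : ip w (u1 ∘ σ) = 0) (e4 : ip w (u0 ∘ σ) = 0) :
    (w c = 0 ∧ w (σ r) = 0 ∧ w (σ c) = 0 ∧ w (σ z) = 0 ∧ w (σ z') = 0) ∧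
      ((w r = u0 r ∧ w z = 0 ∧ w z' = 0) ∨ (w r = 0 ∧ w z = u0 z ∧ w z' = u1 z')) := by
  have tot := sum_eight_le hw (B.inj hσ)
  simp only [Fin.sum_univ_eight, Matrix.cons_val] at tot
  rw [B.t0.ip] at e1
  rw [B.t1.ip, B.er, B.ec] at e2
  rw [← ip_comp hσ, B.t1.ip, B.er, B.ec] at e3
  rw [← ip_comp hσ, B.t0.ip] at e4
  simp only [Function.comp_apply, hσ] at e3 e4
  have V := n3_vals hw
  have := relpos_arith (w r * u0 r) (w c * u0 c) (w z * u0 z) (w z' * u1 z')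
    (w (σ r) * u0 r) (w (σ c) * u0 c) (w (σ z) * u0 z) (w (σ z') * u1 z')
    (w r * w r) (w c * w c) (w z * w z) (w z' * w z')
    (w (σ r) * w (σ r)) (w (σ c) * w (σ c)) (w (σ z) * w (σ z)) (w (σ z') * w (σ z'))
    (b_le (V _) B.t0.vp) (b_le (V _) B.t0.vq) (b_le (V _) B.t0.vt) (b_le (V _) B.t1.vt)
    (b_le (V _) B.t0.vp) (b_le (V _) B.t0.vq) (b_le (V _) B.t0.vt) (b_le (V _) B.t1.vt)
    (pair_le (V _) (V _) (hbw r)) (pair_le (V _) (V _) (hbw c)) (pair_le (V _) (V _) (hbw z))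
    (pair_le (V _) (V _) (hbw z')) (by linarith) e1 (by linarith) (by linarith) (by linarith)
  have m1 := tri_mul (V r) B.t0.vp
  have m2 := tri_mul (V c) B.t0.vq
  have m3 := tri_mul (V z) B.t0.vt
  have m4 := tri_mul (V z') B.t1.vt
  have m5 := tri_mul (V (σ r)) B.t0.vp
  have m6 := tri_mul (V (σ c)) B.t0.vq
  have m7 := tri_mul (V (σ z)) B.t0.vt
  have m8 := tri_mul (V (σ z')) B.t1.vt
  obtain ⟨⟨q1, q2, q3, q4, q5⟩, q6⟩ := this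
  refine ⟨⟨m2.2.1.mp q1, m5.2.1.mp q2, m6.2.1.mp q3, m7.2.1.mp q4, m8.2.1.mp q5⟩, ?_⟩
  rcases q6 with ⟨q7, q8, q9⟩ | ⟨q7, q8, q9⟩
  · exact Or.inl ⟨m1.2.2.mp q7, m3.2.1.mp q8, m4.2.1.mp q9⟩
  · exact Or.inr ⟨m1.2.1.mp q7, m3.2.2.mp q8, m4.2.2.mp q9⟩

/-- the mixed case is impossible -/
theorem mixed_false {σ : X → X} (hσ : ∀ x, σ (σ x) = x) {w2 w3 : X → ℤ} {z z' : X}
    (h3 : ip w3 w3 = 3) (hb2 : ∀ x, w2 x ≠ 0 → w2 (σ x) = 0)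
    (e1 : ip w2 w3 = 1) (e2 : ip w2 (w3 ∘ σ) = 1) (hzz : z ≠ z')
    (a1 : w3 z ≠ 0) (a2 : w3 z' ≠ 0) (b1 : w2 z = 0) (b2 : w2 z' = 0)
    (b3 : w2 (σ z) = 0) (b4 : w2 (σ z') = 0) : False := by
  obtain ⟨f, T⟩ := n3_third h3 hzz a1 a2
  rw [T.ip, b1, b2] at e1
  rw [← ip_comp hσ, T.ip] at e2
  simp only [Function.comp_apply, b3, b4] at e2
  have c1 : w2 f ≠ 0 := by
    intro h; rw [h] at e1; simp at e1
  have c2 : w2 (σ f) ≠ 0 := by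
    intro h; rw [h] at e2; simp at e2
  exact c2 (hb2 f c1)

end Cfsg.Agent.Lib.Helper48.PF32
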