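import Cfsg.Agent.Lib.Helper48.PF32Rel

/-!
The table lemma for Peterfalvi 3.2 (cyclic TI isometry): a doubly indexed family of integer
vectors with Gram matrix `[s = s'] + [t = t'] + [s = s' ∧ t = t']`, compatible with an involution,
has the shape `± x_s ± y_t ± z_{st}`.
-/

namespace Cfsg.Agent.Lib.Helper48.PF32

set_option linter.unusedSectionVars false

variable {X I J : Type*} [Fintype X] [DecidableEq X] [DecidableEq I] [DecidableEq J]

/-- the hypotheses of the table lemma -/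
structure Tbl (σ : X → X) (ι : I → I) (κ : J → J) (c : I → J → X → ℤ) : Prop where
  hσ : ∀ x, σ (σ x) = x
  hι : ∀ s, ι (ι s) = s
  hι' : ∀ s, ι s ≠ s
  hκ : ∀ t, κ (κ t) = t
  hκ' : ∀ t, κ t ≠ t
  gram : ∀ s t s' t', ip (c s t) (c s' t') =
    (if s = s' then 1 else 0) + (if t = t' then 1 else 0) + (if s = s' ∧ t = t' then 1 else 0)
  conj : ∀ s t x, c (ι s) (κ t) x = c s t (σ x)

variable {σ : X → X} {ι : I → I} {κ : J → J} {c : I → J → X → ℤ}

theorem Tbl.transpose (H : Tbl σ ι κ c) : Tbl σ κ ι (fun t s => c s t) where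
  hσ := H.hσ
  hι := H.hκ
  hι' := H.hκ'
  hκ := H.hι
  hκ' := H.hι'
  gram := by
    intro t s t' s'
    rw [H.gram]
    by_cases h1 : s = s' <;> by_cases h2 : t = t' <;> simp [h1, h2]
  conj := fun t s x => H.conj s t x

theorem Tbl.n3 (H : Tbl σ ι κ c) (s : I) (t : J) : ip (c s t) (c s t) = 3 := by
  rw [H.gram]; simp

theorem Tbl.row (H : Tbl σ ι κ c) (s : I) {t t' : J} (h : t ≠ t') :
    ip (c s t) (c s t') = 1 := by
  rw [H.gram]; simp [h]

theorem Tbl.col (H : Tbl σ ι κ c) {s s' : I} (h : s ≠ s') (t : J) :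
    ip (c s t) (c s' t) = 1 := by
  rw [H.gram]; simp [h]

theorem Tbl.diag (H : Tbl σ ι κ c) {s s' : I} (h : s ≠ s') {t t' : J} (h' : t ≠ t') :
    ip (c s t) (c s' t') = 0 := by
  rw [H.gram]; simp [h, h']

theorem Tbl.conj1 (H : Tbl σ ι κ c) (s : I) (t : J) : c s t ∘ σ = c (ι s) (κ t) :=
  funext fun x => (H.conj s t x).symm

theorem Tbl.conj2 (H : Tbl σ ι κ c) (s : I) (t : J) : c s (κ t) ∘ σ = c (ι s) t := by
  rw [H.conj1, H.hκ]

theorem Tbl.conj3 (H : Tbl σ ι κ c) (s : I) (t : J) : c (ι s) t ∘ σ = c s (κ t) := by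
  rw [H.conj1, H.hι]

theorem Tbl.hb (H : Tbl σ ι κ c) (s : I) (t : J) : ∀ x, c s t x ≠ 0 → c s t (σ x) = 0 :=
  no_conj_overlap H.hσ (H.n3 s t)
    (by rw [H.conj1]; exact H.diag (H.hι' s).symm (H.hκ' t).symm)

theorem Tbl.exists_blk (H : Tbl σ ι κ c) (s : I) (t : J) :
    ∃ r c' z z', Blk σ (c s t) (c s (κ t)) r c' z z' :=
  PF32.exists_blk H.hσ (H.n3 _ _) (H.n3 _ _) (H.hb _ _) (H.hb _ _) (H.row s (H.hκ' t).symm)
    (by rw [H.conj2]; exact H.col (H.hι' s).symm t)

theorem Tbl.row_const (H : Tbl σ ι κ c) (s : I) (t0 : J) {r c' z z' : X}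
    (B : Blk σ (c s t0) (c s (κ t0)) r c' z z') : ∀ t', c s t' r = c s t0 r := by
  intro t'
  by_cases h1 : t' = t0
  · rw [h1]
  by_cases h2 : t' = κ t0
  · rw [h2]; exact B.er
  have h3 : κ t' ≠ t0 := by
    intro h; apply h2; rw [← h, H.hκ]
  have h4 : κ t' ≠ κ t0 := by
    intro h; apply h1; rw [← H.hκ t', h, H.hκ]
  have hs : s ≠ ι s := (H.hι' s).symm
  have R2 := relpos H.hσ B (H.n3 s t') (H.hb s t') (H.row s h1) (H.row s h2)
    (by rw [H.conj2]; exact H.diag hs h1) (by rw [H.conj1]; exact H.diag hs h2)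
  have R3 := relpos H.hσ B (H.n3 s (κ t')) (H.hb s (κ t')) (H.row s h3) (H.row s h4)
    (by rw [H.conj2]; exact H.diag hs h3) (by rw [H.conj1]; exact H.diag hs h4)
  obtain ⟨r', c'', z'', z''', B'⟩ := H.exists_blk s t'
  have huniq : ∀ x, c s t' x ≠ 0 → c s (κ t') x ≠ 0 → x = r' := by
    intro x hx1 hx2
    rcases B'.t0.supp x hx1 with h | h | h
    · exact h
    · rw [h] at hx2; exact absurd B'.u1c hx2
    · rw [h] at hx2; exact absurd B'.u1z hx2
  have hzz : z ≠ z' := by
    intro h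
    have := B.t1.nt
    rw [← h] at this
    exact this B.u1z
  obtain ⟨⟨R21, R22, R23, R24, R25⟩, R26⟩ := R2
  obtain ⟨⟨R31, R32, R33, R34, R35⟩, R36⟩ := R3
  rcases R26 with ⟨q1, q2, q3⟩ | ⟨q1, q2, q3⟩
  · exact q1
  · exfalso
    rcases R36 with ⟨p1, p2, p3⟩ | ⟨p1, p2, p3⟩
    · exact mixed_false H.hσ (w2 := c s (κ t')) (w3 := c s t') (z := z) (z' := z')
        (H.n3 _ _) (H.hb _ _) (H.row s (H.hκ' t'))
        (by rw [H.conj1]; exact H.col hs (κ t'))
        hzz (by rw [q2]; exact B.t0.nt) (by rw [q3]; exact B.t1.nt) p2 p3 R34 R35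
    · have e1 : z = r' := huniq z (by rw [q2]; exact B.t0.nt) (by rw [p2]; exact B.t0.nt)
      have e2 : z' = r' := huniq z' (by rw [q3]; exact B.t1.nt) (by rw [p3]; exact B.t1.nt)
      exact hzz (e1.trans e2.symm)

theorem Tbl.off_row (H : Tbl σ ι κ c) (s : I) (t0 : J) (r : X) (hr0 : c s t0 r ≠ 0)
    (hr : ∀ t', c s t' r = c s t0 r) : ∀ s', s' ≠ s → ∀ t', c s' t' r = 0 := by
  intro s' hs' t'
  have hrt : ∀ t', c s t' r ≠ 0 := fun t' => by rw [hr]; exact hr0
  by_cases h1 : s' = ι s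
  · rw [h1, ← H.conj2]
    exact H.hb s (κ t') r (hrt _)
  have Ht := H.transpose
  obtain ⟨r', c'', z'', z3, B'⟩ := Ht.exists_blk t' s
  have hB : Blk σ (c s t') (c (ι s) t') r' c'' z'' z3 := B'
  have hval : c (ι s) t' (σ r) ≠ 0 := by
    have := congrFun (H.conj2 s t') (σ r)
    simp only [Function.comp_apply, H.hσ] at this
    rw [← this]
    exact hrt _
  have hrc : r = c'' := by
    rcases hB.t0.supp r (hrt t') with h | h | h
    · rw [h] at hval; exact absurd hB.u1sr hval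
    · exact h
    · rw [h] at hval; exact absurd hB.u1sz hval
  have hs1 : s' ≠ ι s := h1
  have hk : t' ≠ κ t' := (H.hκ' t').symm
  have R := relpos H.hσ hB (H.n3 s' t') (H.hb s' t') (H.col hs' t') (H.col hs1 t')
    (by rw [H.conj3]; exact H.diag hs' hk) (by rw [H.conj1]; exact H.diag hs1 hk)
  rw [hrc]
  exact R.1.1

theorem Tbl.exists_row (H : Tbl σ ι κ c) [Nonempty J] (s : I) :
    ∃ r e, (e = 1 ∨ e = -1) ∧ ∀ s' t', c s' t' r = if s' = s then e else 0 := by
  obtain ⟨t0⟩ := ‹Nonempty J›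
  obtain ⟨r, c', z, z', B⟩ := H.exists_blk s t0
  have hr := H.row_const s t0 B
  have hoff := H.off_row s t0 r B.t0.np hr
  refine ⟨r, c s t0 r, B.t0.vp, ?_⟩
  intro s' t'
  by_cases h : s' = s
  · rw [if_pos h, h]; exact hr t'
  · rw [if_neg h]; exact hoff s' h t'

theorem Tbl.final (H : Tbl σ ι κ c) [Nonempty I] [Nonempty J] :
    ∃ (xr : I → X) (er : I → ℤ) (yc : J → X) (ec : J → ℤ) (z : I → J → X) (ez : I → J → ℤ),
      (∀ s, er s = 1 ∨ er s = -1) ∧ (∀ t, ec t = 1 ∨ ec t = -1) ∧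
      (∀ s t, ez s t = 1 ∨ ez s t = -1) ∧
      Function.Injective xr ∧ Function.Injective yc ∧
      Function.Injective (fun p : I × J => z p.1 p.2) ∧
      (∀ s t, xr s ≠ yc t) ∧ (∀ s s' t, xr s ≠ z s' t) ∧ (∀ t s t', yc t ≠ z s t') ∧
      ∀ s t x, c s t x = (if x = xr s then er s else 0) + (if x = yc t then ec t else 0) +
        (if x = z s t then ez s t else 0) := by
  have hR := fun s => H.exists_row s
  choose xr er her hxr using hR
  have hC := fun t => H.transpose.exists_row t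
  choose yc ec hec hyc using hC
  have hyc' : ∀ t s' t', c s' t' (yc t) = if t' = t then ec t else 0 := fun t s' t' => hyc t t' s'
  have ner : ∀ s, er s ≠ 0 := fun s => by rcases her s with h | h <;> rw [h] <;> decide
  have nec : ∀ t, ec t ≠ 0 := fun t => by rcases hec t with h | h <;> rw [h] <;> decide
  have hxy : ∀ s t, xr s ≠ yc t := by
    intro s t h
    have h1 := hxr s (ι s) t
    rw [if_neg (H.hι' s), h, hyc' t (ι s) t, if_pos rfl] at h1
    exact nec t h1
  have hT : ∀ s t, ∃ z, IsTri (c s t) (xr s) (yc t) z := by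
    intro s t
    refine n3_third (H.n3 s t) (hxy s t) ?_ ?_
    · rw [hxr s s t, if_pos rfl]; exact ner s
    · rw [hyc' t s t, if_pos rfl]; exact nec t
  choose z hz using hT
  have hxz : ∀ s s' t, xr s ≠ z s' t := by
    intro s s' t h
    have h1 := (hz s' t).nt
    rw [← h, hxr s s' t] at h1
    by_cases hs : s' = s
    · subst hs
      exact (hz s' t).pt h
    · rw [if_neg hs] at h1; exact h1 rfl
  have hyz : ∀ t s t', yc t ≠ z s t' := by
    intro t s t' h
    have h1 := (hz s t').nt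
    rw [← h, hyc' t s t'] at h1
    by_cases ht : t' = t
    · subst ht
      exact (hz s t').qt h
    · rw [if_neg ht] at h1; exact h1 rfl
  refine ⟨xr, er, yc, ec, z, fun s t => c s t (z s t), her, hec, fun s t => (hz s t).vt, ?_, ?_, ?_,
    hxy, hxz, hyz, ?_⟩
  · intro s s' h
    have h1 := hxr s s' (Classical.arbitrary J)
    rw [h, hxr s' s' _, if_pos rfl] at h1
    by_contra hne
    rw [if_neg (Ne.symm hne)] at h1
    exact ner s' h1
  · intro t t' h
    have h1 := hyc' t (Classical.arbitrary I) t'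
    rw [h, hyc' t' _ t', if_pos rfl] at h1
    by_contra hne
    rw [if_neg (Ne.symm hne)] at h1
    exact nec t' h1
  · rintro ⟨s, t⟩ ⟨s', t'⟩ h
    simp only at h
    have e := (hz s t).ip (c s' t')
    rw [ip_comm, H.gram, hxr s s t, if_pos rfl, hyc' t s t, if_pos rfl, hxr s s' t', hyc' t s' t',
      h] at e
    have v1 := pm_mul (hz s' t').vt (by rw [← h]; exact (hz s t).vt : c s t (z s' t') = 1 ∨ _)
    have v2 : er s * er s = 1 := by rcases her s with h' | h' <;> rw [h'] <;> simp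
    have v3 : ec t * ec t = 1 := by rcases hec t with h' | h' <;> rw [h'] <;> simp
    by_cases hs : s = s'
    · subst hs
      by_cases ht : t = t'
      · subst ht; rfl
      · exfalso
        have ht' : ¬ t' = t := fun h => ht h.symm
        simp only [ht, ht', if_true, if_false, and_false, v2] at e
        rcases v1 with v | v <;> omega
    · exfalso
      have hs' : ¬ s' = s := fun h => hs h.symm
      by_cases ht : t = t'
      · subst ht
        simp only [hs, hs', if_true, if_false, false_and, v3] at e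
        rcases v1 with v | v <;> omega
      · have ht' : ¬ t' = t := fun h => ht h.symm
        simp only [hs, hs', ht, ht', if_false, false_and] at e
        rcases v1 with v | v <;> omega
  · intro s t x
    rw [(hz s t).formula x, hxr s s t, if_pos rfl, hyc' t s t, if_pos rfl]

end Cfsg.Agent.Lib.Helper48.PF32

namespace Cfsg.Agent.Lib.Helper48.PF32

/-- The table lemma, in the form requested for Peterfalvi 3.2. -/
theorem table_structure {X I J : Type*} [Fintype X] [DecidableEq X] [DecidableEq I] [DecidableEq J]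
    [Nonempty I] [Nonempty J]
    (σ : X → X) (hσ : ∀ x, σ (σ x) = x) (ι : I → I) (hι : ∀ s, ι (ι s) = s) (hι' : ∀ s, ι s ≠ s)
    (κ : J → J) (hκ : ∀ t, κ (κ t) = t) (hκ' : ∀ t, κ t ≠ t)
    (c : I → J → X → ℤ)
    (hgram : ∀ s t s' t', ∑ x, c s t x * c s' t' x = (if s = s' then 1 else 0) +
      (if t = t' then 1 else 0) + (if s = s' ∧ t = t' then 1 else 0))
    (hconj : ∀ s t x, c (ι s) (κ t) x = c s t (σ x)) :
    ∃ (xr : I → X) (er : I → ℤ) (yc : J → X) (ec : J → ℤ) (z : I → J → X) (ez : I → J → ℤ),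
      (∀ s, er s = 1 ∨ er s = -1) ∧ (∀ t, ec t = 1 ∨ ec t = -1) ∧
      (∀ s t, ez s t = 1 ∨ ez s t = -1) ∧
      Function.Injective xr ∧ Function.Injective yc ∧
      Function.Injective (fun p : I × J => z p.1 p.2) ∧
      (∀ s t, xr s ≠ yc t) ∧ (∀ s s' t, xr s ≠ z s' t) ∧ (∀ t s t', yc t ≠ z s t') ∧
      ∀ s t x, c s t x = (if x = xr s then er s else 0) + (if x = yc t then ec t else 0) +
        (if x = z s t then ez s t else 0) :=
  Tbl.final (σ := σ) (ι := ι) (κ := κ) (c := c) ⟨hσ, hι, hι', hκ, hκ', hgram, hconj⟩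

end Cfsg.Agent.Lib.Helper48.PF32
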