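import Cfsg.Prelude.Def_LocalEven
import Cfsg.Agent.Lib.Helper91.Wielandt
import Cfsg.Agent.Lib.Helper47.Sylow
import Cfsg.Agent.Lib.Helper47.PIrr
import Cfsg.Agent.Lib.Helper46.SylowAux
import Cfsg.Agent.Lib.Helper32.RelSylow
import Cfsg.Agent.Lib.Helper48.PCore
import Cfsg.Agent.Lib.Helper48.Misc
import Cfsg.Agent.Lib.Helper50.Basic
import Cfsg.Agent.Lib.Helper21.SupNormalizer
import Cfsg.Agent.Lib.Helper32.PPrimeP

set_option autoImplicit false
open Cfsg
open scoped Pointwise

namespace Cfsg.Agent.Lib.Helper48.PMin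

variable {P : Type*} [Group P] [Finite P] {p : ℕ} [Fact p.Prime]

/-- every proper subgroup containing the Sylow subgroup lies in the unique maximal one. -/
theorem le_of_ne_top (hP : Cfsg.IsPMinimal p P) (S : Sylow p P) (M : Subgroup P)
    (hM : IsCoatom M) (hSM : (S : Subgroup P) ≤ M) {H : Subgroup P}
    (hSH : (S : Subgroup P) ≤ H) (hH : H ≠ ⊤) : H ≤ M := by
  obtain ⟨M', hM', hHM'⟩ := (eq_top_or_exists_le_coatom H).resolve_left hH
  have := (hP S).2.unique ⟨hM', hSH.trans hHM'⟩ ⟨hM, hSM⟩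
  exact this ▸ hHM'

/-- a normal subgroup inside `M` meets `S` inside `O_p`. -/
theorem normal_inf_le_pCore (hP : Cfsg.IsPMinimal p P) (S : Sylow p P) (M : Subgroup P)
    (hM : IsCoatom M) (hSM : (S : Subgroup P) ≤ M) (N : Subgroup P) [hN : N.Normal]
    (hNM : N ≤ M) : (S : Subgroup P) ⊓ N ≤ Cfsg.pCore p P := by
  have hnorm : Subgroup.normalizer (((S : Subgroup P) ⊓ N : Subgroup P) : Set P) = ⊤ := by
    by_contra hne
    have hS : (S : Subgroup P) ≤ Subgroup.normalizer (((S : Subgroup P) ⊓ N : Subgroup P) : Set P) := by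
      intro s hs
      apply Cfsg.Agent.Lib.Helper50.mem_normalizer_of_conj_mem
      intro x hx
      exact ⟨S.1.mul_mem (S.1.mul_mem hs hx.1) (S.1.inv_mem hs), hN.conj_mem x hx.2 s⟩
    have hle := le_of_ne_top hP S M hM hSM hS hne
    apply hM.1
    rw [eq_top_iff]
    intro g _
    obtain ⟨a, ha, c, hc, rfl⟩ := Cfsg.Agent.Lib.Helper46.frattini_inf_normal S N g
    exact M.mul_mem (hle ha) (hNM hc)
  have hnormal : ((S : Subgroup P) ⊓ N).Normal := Subgroup.normalizer_eq_top_iff.mp hnorm
  exact le_pCore hnormal (S.isPGroup'.to_le inf_le_left)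

theorem mem_conj_smul_iff {H : Subgroup P} {g y : P} :
    y ∈ MulAut.conj g • H ↔ ∃ l ∈ H, y = g * l * g⁻¹ := by
  rw [Subgroup.mem_smul_pointwise_iff_exists]
  constructor
  · rintro ⟨l, hl, rfl⟩
    exact ⟨l, hl, by simp [MulAut.smul_def]⟩
  · rintro ⟨l, hl, rfl⟩
    exact ⟨l, hl, by simp [MulAut.smul_def]⟩

/-- the join of the conjugates of `L` by the elements of `K`. -/
def conjJoin (K L : Subgroup P) : Subgroup P := ⨆ x : K, MulAut.conj (x : P) • L

theorem conj_mem_conjJoin {K L : Subgroup P} {x l : P} (hx : x ∈ K) (hl : l ∈ L) :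
    x * l * x⁻¹ ∈ conjJoin K L := by
  have h1 : MulAut.conj x • L ≤ conjJoin K L :=
    le_iSup (fun x : K => MulAut.conj (x : P) • L) ⟨x, hx⟩
  exact h1 (mem_conj_smul_iff.mpr ⟨l, hl, rfl⟩)

theorem le_conjJoin (K L : Subgroup P) : L ≤ conjJoin K L := by
  intro l hl
  have := conj_mem_conjJoin (K := K) K.one_mem hl
  simpa using this

theorem conjJoin_le {K L T : Subgroup P} (h : ∀ x ∈ K, ∀ l ∈ L, x * l * x⁻¹ ∈ T) :
    conjJoin K L ≤ T := by
  apply iSup_le
  intro x y hy
  obtain ⟨l, hl, rfl⟩ := mem_conj_smul_iff.mp hy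
  exact h x x.2 l hl

/-- `g` normalizes `conjJoin K L` as soon as it maps the generators into it. -/
theorem mem_normalizer_conjJoin {K L : Subgroup P} {g : P}
    (h : ∀ x ∈ K, ∀ l ∈ L, g * (x * l * x⁻¹) * g⁻¹ ∈ conjJoin K L) :
    g ∈ Subgroup.normalizer (conjJoin K L : Set P) := by
  apply Cfsg.Agent.Lib.Helper50.mem_normalizer_of_conj_mem
  have : conjJoin K L ≤ (conjJoin K L).comap (MulAut.conj g).toMonoidHom := by
    apply conjJoin_le
    intro x hx l hl
    rw [Subgroup.mem_comap]
    simpa using h x hx l hl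
  intro x hx
  simpa using this hx

/-- an `S`-invariant subnormal subgroup inside `M` has its normal closure inside `M`. -/
theorem normalClosure_le (hP : Cfsg.IsPMinimal p P) (S : Sylow p P) (M : Subgroup P)
    (hM : IsCoatom M) (hSM : (S : Subgroup P) ≤ M) (L : Subgroup P) (hL : L.IsSubnormal)
    (hLM : L ≤ M) (hSL : (S : Subgroup P) ≤ Subgroup.normalizer (L : Set P)) :
    Subgroup.normalClosure (L : Set P) ≤ M := by
  by_contra hnot
  set L1 := Subgroup.normalClosure (L : Set P) with hL1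
  have hLL1 : L ≤ L1 := Subgroup.le_normalClosure
  have hL1n : L1.Normal := Subgroup.normalClosure_normal
  have htop : L1 ⊔ (S : Subgroup P) = ⊤ := by
    by_contra hne
    exact hnot (le_sup_left.trans (le_of_ne_top hP S M hM hSM le_sup_right hne))
  have hsub : (L.subgroupOf L1).IsSubnormal := hL.subgroupOf
  have hne : L.subgroupOf L1 ≠ ⊤ := by
    intro h
    rw [Subgroup.subgroupOf_eq_top] at h
    exact hnot (h.trans hLM)
  obtain ⟨K', hK'n, hLK', hK'lt⟩ := hsub.exists_normal_and_le_and_lt_top_of_ne hne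
  have hLL2 : L ≤ conjJoin L1 L := le_conjJoin L1 L
  have hL2K : conjJoin L1 L ≤ K'.map L1.subtype := by
    apply conjJoin_le
    intro x hx l hl
    have hlK : (⟨l, hLL1 hl⟩ : L1) ∈ K' := hLK' (by rw [Subgroup.mem_subgroupOf]; exact hl)
    exact Subgroup.mem_map.mpr ⟨⟨x, hx⟩ * ⟨l, hLL1 hl⟩ * ⟨x, hx⟩⁻¹, hK'n.conj_mem _ hlK _, rfl⟩
  have hnorm1 : L1 ≤ Subgroup.normalizer (conjJoin L1 L : Set P) := by
    intro g hg
    apply mem_normalizer_conjJoin
    intro x hx l hl
    have := conj_mem_conjJoin (K := L1) (L1.mul_mem hg hx) hl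
    simpa [mul_assoc] using this
  have hnorm2 : (S : Subgroup P) ≤ Subgroup.normalizer (conjJoin L1 L : Set P) := by
    intro s hs
    apply mem_normalizer_conjJoin
    intro x hx l hl
    have hx' : s * x * s⁻¹ ∈ L1 := hL1n.conj_mem _ hx s
    have hl' : s * l * s⁻¹ ∈ L := (Subgroup.mem_normalizer_iff.mp (hSL hs) l).mp hl
    have := conj_mem_conjJoin (K := L1) hx' hl'
    simpa [mul_assoc] using this
  have hL2n : (conjJoin L1 L).Normal := by
    rw [← Subgroup.normalizer_eq_top_iff, eq_top_iff, ← htop]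
    exact sup_le hnorm1 hnorm2
  have hL1L2 : L1 ≤ conjJoin L1 L := Subgroup.normalClosure_le_normal hLL2
  apply hK'lt.ne
  rw [eq_top_iff]
  intro x _
  obtain ⟨y, hy, hyx⟩ := Subgroup.mem_map.mp (hL2K (hL1L2 x.2))
  have : y = x := Subtype.ext hyx
  exact this ▸ hy

/-- part (a): subnormal subgroups inside `M` meet `S` inside `O_p`. -/
theorem subnormal_inf_le_pCore (hP : Cfsg.IsPMinimal p P) (S : Sylow p P) (M : Subgroup P)
    (hM : IsCoatom M) (hSM : (S : Subgroup P) ≤ M) (N : Subgroup P) (hN : N.IsSubnormal)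
    (hNM : N ≤ M) : N ⊓ (S : Subgroup P) ≤ Cfsg.pCore p P := by
  have hLsub : (conjJoin (S : Subgroup P) N).IsSubnormal := by
    unfold conjJoin
    rw [iSup]
    apply Cfsg.Agent.Lib.Helper91.isSubnormal_sSup
    rintro U ⟨s, rfl⟩
    exact hN.smul _
  have hLM : conjJoin (S : Subgroup P) N ≤ M := by
    apply conjJoin_le
    intro s hs l hl
    exact M.mul_mem (M.mul_mem (hSM hs) (hNM hl)) (M.inv_mem (hSM hs))
  have hNL : N ≤ conjJoin (S : Subgroup P) N := le_conjJoin _ _
  have hSL : (S : Subgroup P) ≤ Subgroup.normalizer (conjJoin (S : Subgroup P) N : Set P) := by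
    intro s hs
    apply mem_normalizer_conjJoin
    intro x hx l hl
    have := conj_mem_conjJoin (K := (S : Subgroup P)) (S.1.mul_mem hs hx) hl
    simpa [mul_assoc] using this
  have hcl := normalClosure_le hP S M hM hSM _ hLsub hLM hSL
  haveI : (Subgroup.normalClosure (conjJoin (S : Subgroup P) N : Set P)).Normal :=
    Subgroup.normalClosure_normal
  have h2 := normal_inf_le_pCore hP S M hM hSM
    (Subgroup.normalClosure (conjJoin (S : Subgroup P) N : Set P)) hcl
  intro x hx
  exact h2 ⟨hx.2, Subgroup.le_normalClosure (hNL hx.1)⟩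

/-- part (c). -/
theorem residual_le_or_le_core (hP : Cfsg.IsPMinimal p P) (S : Sylow p P) (M : Subgroup P)
    (hM : IsCoatom M) (hSM : (S : Subgroup P) ≤ M) (N : Subgroup P) (hN : N.Normal) :
    Cfsg.pResidual p P ≤ N ∨ N ≤ M.normalCore := by
  by_cases h : (S : Subgroup P) ⊔ N = ⊤
  · left
    exact Cfsg.Agent.Lib.Helper47.pResidual_le_of_sup_eq_top (S : Subgroup P) N S.isPGroup' h
  · right
    have := le_of_ne_top hP S M hM hSM le_sup_left h
    exact Subgroup.normal_le_normalCore.mpr (le_sup_right.trans this)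

/-- part (e). -/
theorem core_lt (S : Sylow p P) (M : Subgroup P)
    (hM : IsCoatom M) (hSM : (S : Subgroup P) ≤ M) :
    M.normalCore < Cfsg.pResidual p P ⊔ M.normalCore := by
  refine lt_of_le_of_ne le_sup_right ?_
  intro heq
  have h1 : Cfsg.pResidual p P ≤ M := by
    have : Cfsg.pResidual p P ≤ M.normalCore := by rw [heq]; exact le_sup_left
    exact this.trans (Subgroup.normalCore_le M)
  have := Cfsg.Agent.Lib.Helper47.pResidual_sup_sylow S
  apply hM.1
  rw [eq_top_iff, ← this]
  exact sup_le h1 hSM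

theorem eq_of_dvd_card_pGroup {H : Type*} [Group H] [Finite H] {p q : ℕ} [Fact p.Prime]
    (hq : q.Prime) (h : IsPGroup p H) (hd : q ∣ Nat.card H) : q = p := by
  obtain ⟨n, hn⟩ := h.exists_card_eq
  rw [hn] at hd
  exact (Nat.prime_dvd_prime_iff_eq hq Fact.out).mp (hq.dvd_of_dvd_pow hd)

/-- the index of the unique maximal subgroup does not depend on the Sylow subgroup. -/
theorem index_coatom_eq (hP : Cfsg.IsPMinimal p P) (S S1 : Sylow p P) (M M1 : Subgroup P)
    (hM : IsCoatom M) (hSM : (S : Subgroup P) ≤ M) (hM1 : IsCoatom M1)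
    (hS1 : (S1 : Subgroup P) ≤ M1) : M1.index = M.index := by
  obtain ⟨g, hg⟩ := MulAction.exists_smul_eq P S1 S
  have hco : IsCoatom (M1.map ((MulAut.conj g : P ≃* P) : P →* P)) :=
    ((MulEquiv.mapSubgroup (MulAut.conj g : P ≃* P)).isCoatom_iff M1).mpr hM1
  have hle : (S : Subgroup P) ≤ M1.map ((MulAut.conj g : P ≃* P) : P →* P) := by
    rw [← hg, Sylow.coe_subgroup_smul]
    intro x hx
    obtain ⟨l, hl, rfl⟩ := mem_conj_smul_iff.mp hx
    exact Subgroup.mem_map.mpr ⟨l, hS1 hl, by simp⟩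
  have := (hP S).2.unique ⟨hco, hle⟩ ⟨hM, hSM⟩
  rw [← this]
  exact (Subgroup.index_map_equiv M1 (MulAut.conj g : P ≃* P)).symm

/-- part (b). -/
theorem card_primeFactors_le_two (hP : Cfsg.IsPMinimal p P) (S : Sylow p P) (M : Subgroup P)
    (hM : IsCoatom M) (hSM : (S : Subgroup P) ≤ M)
    (hcl : ∀ T : Sylow p ↥(Cfsg.pResidual p P), (T : Subgroup ↥(Cfsg.pResidual p P)).Normal) :
    (Nat.card P).primeFactors.card ≤ 2 := by
  by_contra hgt
  rw [not_le] at hgt
  haveI hQn : (Cfsg.pResidual p P).Normal := Cfsg.Agent.Lib.Helper47.pResidual_normal p P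
  have hTn : ((S : Subgroup P) ⊓ Cfsg.pResidual p P).Normal :=
    Cfsg.Agent.Lib.Helper47.sylow_inf_normal_of_isPClosed S _ hcl
  have hidx : M.index = 1 := by
    by_contra hne
    obtain ⟨r, hr, hrdvd⟩ := Nat.exists_prime_and_dvd hne
    by_cases hrp : r = p
    · subst hrp
      exact S.not_dvd_index (hrdvd.trans (Subgroup.index_dvd_of_le hSM))
    · haveI : Fact r.Prime := ⟨hr⟩
      obtain ⟨q, hq, hqp, hqr⟩ : ∃ q ∈ (Nat.card P).primeFactors, q ≠ p ∧ q ≠ r := by
        by_contra hnone
        push Not at hnone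
        have hsub : (Nat.card P).primeFactors ⊆ {p, r} := by
          intro q hq
          by_cases h1 : q = p
          · simp [h1]
          · simp [hnone q hq h1]
        have h1 := Finset.card_le_card hsub
        have h2 : ({p, r} : Finset ℕ).card ≤ 2 := Finset.card_le_two
        omega
      have hqprime := Nat.prime_of_mem_primeFactors hq
      have hqdvd := Nat.dvd_of_mem_primeFactors hq
      let R : Sylow r ↥(Cfsg.pResidual p P) := default
      obtain ⟨R', hR'⟩ : ∃ R' : Subgroup P,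
        R' = (R : Subgroup ↥(Cfsg.pResidual p P)).map (Cfsg.pResidual p P).subtype := ⟨_, rfl⟩
      obtain ⟨T', hT'⟩ : ∃ T' : Subgroup P, T' = (S : Subgroup P) ⊓ Cfsg.pResidual p P := ⟨_, rfl⟩
      have hT'n : T'.Normal := hT' ▸ hTn
      have hfr : Subgroup.normalizer (R' : Set P) ⊔ Cfsg.pResidual p P = ⊤ := by
        rw [hR']; exact Sylow.normalizer_sup_eq_top R
      have hNX : Subgroup.normalizer (R' : Set P) ≤ Subgroup.normalizer ((R' ⊔ T' : Subgroup P) : Set P) := by
        intro g hg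
        apply Cfsg.Agent.Lib.Helper50.mem_normalizer_of_conj_mem
        have : R' ⊔ T' ≤ (R' ⊔ T').comap (MulAut.conj g).toMonoidHom := by
          apply sup_le
          · intro x hx
            rw [Subgroup.mem_comap]
            exact le_sup_left (α := Subgroup P)
              (by simpa using (Subgroup.mem_normalizer_iff.mp hg x).mp hx)
          · intro x hx
            rw [Subgroup.mem_comap]
            exact le_sup_right (α := Subgroup P) (by simpa using hT'n.conj_mem x hx g)
        intro x hx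
        simpa using this hx
      have htop : Subgroup.normalizer ((R' ⊔ T' : Subgroup P) : Set P) ⊔ Cfsg.pResidual p P = ⊤ := by
        rw [eq_top_iff, ← hfr]
        exact sup_le_sup_right hNX _
      have hidxN : ¬ p ∣ (Subgroup.normalizer ((R' ⊔ T' : Subgroup P) : Set P)).index := by
        have h1 := Cfsg.Agent.Lib.Helper32.relIndex_sup_eq_inf_relIndex
          (P := Subgroup.normalizer ((R' ⊔ T' : Subgroup P) : Set P)) (R := Cfsg.pResidual p P)
          (by rw [Subgroup.normalizer_eq_top_iff.mpr hQn]; exact le_top)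
        rw [htop, Subgroup.relIndex_top_right] at h1
        rw [h1]
        have h2 : (Subgroup.normalizer ((R' ⊔ T' : Subgroup P) : Set P) ⊓ Cfsg.pResidual p P).relIndex
            (Cfsg.pResidual p P) ∣ ((S : Subgroup P) ⊓ Cfsg.pResidual p P).relIndex (Cfsg.pResidual p P) := by
          apply Subgroup.relIndex_dvd_of_le_left
          refine le_inf ?_ inf_le_right
          rw [← hT']
          exact le_sup_right.trans Subgroup.le_normalizer
        intro hdvd
        exact Cfsg.Agent.Lib.Helper32.not_dvd_relIndex_inf_normal S _ (hdvd.trans h2)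
      obtain ⟨N0, hN0⟩ : ∃ N0 : Subgroup P,
        N0 = Subgroup.normalizer ((R' ⊔ T' : Subgroup P) : Set P) := ⟨_, rfl⟩
      rw [← hN0] at hidxN
      let S0 : Sylow p N0 := default
      have hS0p : IsPGroup p ((S0 : Subgroup N0).map N0.subtype) := S0.isPGroup'.map _
      have hS0i : ¬ p ∣ ((S0 : Subgroup N0).map N0.subtype).index := by
        rw [Subgroup.index_map_subtype]
        exact Nat.Prime.not_dvd_mul Fact.out S0.not_dvd_index hidxN
      obtain ⟨S1, hS1⟩ : ∃ S1 : Sylow p P, (S1 : Subgroup P) = (S0 : Subgroup N0).map N0.subtype :=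
        ⟨hS0p.toSylow hS0i, IsPGroup.toSylow_coe _ _⟩
      have hS1N : (S1 : Subgroup P) ≤ Subgroup.normalizer ((R' ⊔ T' : Subgroup P) : Set P) := by
        rw [hS1, ← hN0]; exact Subgroup.map_subtype_le _
      obtain ⟨M1, ⟨hM1, hS1M1⟩, _⟩ := (hP S1).2
      have hHne : (R' ⊔ T') ⊔ (S1 : Subgroup P) ≠ ⊤ := by
        intro hHtop
        have hc1 := Cfsg.Agent.Lib.Helper21.card_sup_dvd hS1N
        have hc2 : Nat.card (R' ⊔ T' : Subgroup P) ∣ Nat.card R' * Nat.card T' :=
          Cfsg.Agent.Lib.Helper48.card_sup_dvd_mul' R' T'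
        have hc3 : Nat.card P ∣ (Nat.card R' * Nat.card T') * Nat.card (S1 : Subgroup P) := by
          have : Nat.card P = Nat.card ((R' ⊔ T') ⊔ (S1 : Subgroup P) : Subgroup P) := by
            rw [hHtop, Subgroup.card_top]
          rw [this]
          exact hc1.trans (Nat.mul_dvd_mul_right hc2 _)
        have hq3 := hqdvd.trans hc3
        rcases (hqprime.dvd_mul).mp hq3 with h | h
        · rcases (hqprime.dvd_mul).mp h with h | h
          · have hRp : IsPGroup r R' := by rw [hR']; exact R.isPGroup'.map _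
            exact hqr (eq_of_dvd_card_pGroup hqprime hRp h)
          · have hTp : IsPGroup p T' := by rw [hT']; exact S.isPGroup'.to_le inf_le_left
            exact hqp (eq_of_dvd_card_pGroup hqprime hTp h)
        · exact hqp (eq_of_dvd_card_pGroup hqprime S1.isPGroup' h)
      have hHM1 : (R' ⊔ T') ⊔ (S1 : Subgroup P) ≤ M1 :=
        le_of_ne_top hP S1 M1 hM1 hS1M1 le_sup_right hHne
      have hR'M1 : R' ≤ M1 := le_sup_left.trans (le_sup_left.trans hHM1)
      have hri : ¬ r ∣ R'.index := by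
        rw [hR', Subgroup.index_map_subtype]
        apply Nat.Prime.not_dvd_mul hr R.not_dvd_index
        intro hd
        have hpg : IsPGroup p (P ⧸ Cfsg.pResidual p P) :=
          Cfsg.Agent.Lib.Helper47.quotient_pResidual_isPGroup
        exact hrp (eq_of_dvd_card_pGroup hr hpg hd)
      have hidxeq := index_coatom_eq hP S S1 M M1 hM hSM hM1 hS1M1
      rw [← hidxeq] at hrdvd
      exact hri (hrdvd.trans (Subgroup.index_dvd_of_le hR'M1))
  exact hM.1 (Subgroup.index_eq_one.mp hidx)

end Cfsg.Agent.Lib.Helper48.PMin
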