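import Mathlib

set_option autoImplicit false

/-!
# Rc hive (S2357): the arithmetic leaves RC-AR0, RC-FIN1 .. RC-FIN4 (`q = 3^(2m+1)`, `r = 3^(m+1)`)
-/

namespace Cfsg.Agent.Lib.Helper52.Rc

/-- basic shape of `q = 3^(2m+1)` and `r = 3^(m+1)` -/
theorem rcfin_qr (m : ℕ) (hm : 1 ≤ m) :
    ∃ t r : ℕ, 3 ^ (2 * m + 1) = 8 * t + 3 ∧ 3 ^ (m + 1) = r ∧ r * r = 3 * (8 * t + 3) ∧
      r < 8 * t + 3 ∧ r % 2 = 1 ∧ r % 3 = 0 := by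
  have h8 : 3 ^ (2 * m + 1) % 8 = 3 := by
    rw [pow_succ, pow_mul, Nat.mul_mod, Nat.pow_mod]
    norm_num
  refine ⟨3 ^ (2 * m + 1) / 8, 3 ^ (m + 1), by omega, rfl, ?_, ?_, ?_, ?_⟩
  · have : 8 * (3 ^ (2 * m + 1) / 8) + 3 = 3 ^ (2 * m + 1) := by omega
    rw [this, ← pow_add, ← pow_succ']
    congr 1
    omega
  · have : 8 * (3 ^ (2 * m + 1) / 8) + 3 = 3 ^ (2 * m + 1) := by omega
    rw [this]
    exact Nat.pow_lt_pow_right (by norm_num) (by omega)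
  · rw [Nat.pow_mod]
    norm_num
  · rw [pow_succ, Nat.mul_mod_left]

theorem rcfin_coprime6 (x : ℕ) (h2 : x % 2 = 1) (h3 : x % 3 = 1) : Nat.Coprime 6 x := by
  have e : (6 : ℕ) = 2 * 3 := by norm_num
  rw [e]
  apply Nat.Coprime.mul_left
  · exact (Nat.Prime.coprime_iff_not_dvd Nat.prime_two).2 (by omega)
  · exact (Nat.Prime.coprime_iff_not_dvd Nat.prime_three).2 (by omega)

theorem rcfin_coprime24 (x : ℕ) (h2 : x % 2 = 1) (h3 : x % 3 = 1) : Nat.Coprime 24 x := by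
  have e : (24 : ℕ) = 2 ^ 3 * 3 := by norm_num
  rw [e]
  apply Nat.Coprime.mul_left
  · exact Nat.Coprime.pow_left 3 ((Nat.Prime.coprime_iff_not_dvd Nat.prime_two).2 (by omega))
  · exact (Nat.Prime.coprime_iff_not_dvd Nat.prime_three).2 (by omega)

theorem rcfin_coprime4 (x : ℕ) (h2 : x % 2 = 1) : Nat.Coprime 4 x := by
  have e : (4 : ℕ) = 2 ^ 2 := by norm_num
  rw [e]
  exact Nat.Coprime.pow_left 2 ((Nat.Prime.coprime_iff_not_dvd Nat.prime_two).2 (by omega))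

/-- RC-AR0 (Mathlib, arithmetic).  Basic facts on `q = 3^(2m+1)`, `r = 3^(m+1)`, `m ≥ 1`. -/
theorem rc_arith (m : ℕ) (hm : 1 ≤ m) :
    3 ^ (m + 1) < 3 ^ (2 * m + 1) ∧
    2 * ((3 ^ (2 * m + 1) - 1) / 2) = 3 ^ (2 * m + 1) - 1 ∧
    4 * ((3 ^ (2 * m + 1) + 1) / 4) = 3 ^ (2 * m + 1) + 1 ∧
    Nat.Coprime 4 ((3 ^ (2 * m + 1) - 1) / 2) ∧
    Nat.Coprime 24 ((3 ^ (2 * m + 1) + 1) / 4) ∧
    Nat.Coprime 6 (3 ^ (2 * m + 1) - 3 ^ (m + 1) + 1) ∧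
    Nat.Coprime 6 (3 ^ (2 * m + 1) + 3 ^ (m + 1) + 1) ∧
    (3 ^ (2 * m + 1) + 1) * (3 ^ (2 * m + 1) - 3 ^ (m + 1) + 1) * (3 ^ (2 * m + 1) + 3 ^ (m + 1) + 1) =
      (3 ^ (2 * m + 1)) ^ 3 + 1 := by
  obtain ⟨t, r, hq, hr, hrr, hlt, hr2, hr3⟩ := rcfin_qr m hm
  rw [hq, hr]
  refine ⟨hlt, by omega, by omega, ?_, ?_, ?_, ?_, ?_⟩
  · apply rcfin_coprime4
    omega
  · have hq3 : (8 * t + 3) % 3 = 0 := by
      rw [← hq, pow_succ, Nat.mul_mod_left]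
    apply rcfin_coprime24 <;> omega
  · have hq3 : (8 * t + 3) % 3 = 0 := by
      rw [← hq, pow_succ, Nat.mul_mod_left]
    apply rcfin_coprime6 <;> omega
  · have hq3 : (8 * t + 3) % 3 = 0 := by
      rw [← hq, pow_succ, Nat.mul_mod_left]
    apply rcfin_coprime6 <;> omega
  · obtain ⟨k, hk⟩ : ∃ k, 8 * t + 3 - r + 1 = k ∧ k + r = 8 * t + 3 + 1 := ⟨_, rfl, by omega⟩
    rw [hk.1]
    have h1 := hk.2
    zify at h1 hrr ⊢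
    have hk' : (k : ℤ) = 8 * t + 3 + 1 - r := by linarith
    rw [hk']
    linear_combination (-(8 * (t : ℤ) + 3 + 1)) * hrr

/-- RC-FIN1 (Mathlib, arithmetic). -/
theorem rc_fin1 (m : ℕ) (hm : 1 ≤ m) (N φ : ℕ)
    (h : N * (4 * ((3 ^ (2 * m + 1) - 1) / 2)) =
      φ * ((3 ^ (2 * m + 1)) ^ 3 * (3 ^ (2 * m + 1) - 1) * ((3 ^ (2 * m + 1)) ^ 3 + 1))) :
    2 * N = φ * (3 ^ (2 * m + 1)) ^ 3 * ((3 ^ (2 * m + 1)) ^ 3 + 1) := by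
  obtain ⟨t, r, hq, -⟩ := rcfin_qr m hm
  rw [hq] at h ⊢
  have e1 : (8 * t + 3 - 1) / 2 = 4 * t + 1 := by omega
  have e2 : 8 * t + 3 - 1 = 2 * (4 * t + 1) := by omega
  rw [e1, e2] at h
  apply Nat.eq_of_mul_eq_mul_right (show 0 < 2 * (4 * t + 1) by omega)
  calc 2 * N * (2 * (4 * t + 1)) = N * (4 * (4 * t + 1)) := by ring
    _ = _ := h
    _ = _ := by ring

/-- RC-FIN2 (Mathlib, arithmetic). -/
theorem rc_fin2 (m : ℕ) (hm : 1 ≤ m) (N φ : ℕ)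
    (h : N * (24 * ((3 ^ (2 * m + 1) + 1) / 4)) =
      φ * ((3 ^ (2 * m + 1)) ^ 3 * (3 ^ (2 * m + 1) - 1) * ((3 ^ (2 * m + 1)) ^ 3 + 1))) :
    6 * N = φ * (3 ^ (2 * m + 1)) ^ 3 * (3 ^ (2 * m + 1) - 1) * ((3 ^ (2 * m + 1)) ^ 2 - 3 ^ (2 * m + 1) + 1) := by
  obtain ⟨t, r, hq, -⟩ := rcfin_qr m hm
  rw [hq] at h ⊢
  have e1 : (8 * t + 3 + 1) / 4 = 2 * t + 1 := by omega
  obtain ⟨A, hA, hA'⟩ : ∃ A, (8 * t + 3) ^ 2 - (8 * t + 3) + 1 = A ∧ A + (8 * t + 3) = (8 * t + 3) ^ 2 + 1 := by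
    refine ⟨_, rfl, ?_⟩
    have : 8 * t + 3 ≤ (8 * t + 3) ^ 2 := by nlinarith
    omega
  have e3 : (8 * t + 3) ^ 3 + 1 = 4 * (2 * t + 1) * A := by
    zify at hA' ⊢
    have : (A : ℤ) = (8 * t + 3) ^ 2 + 1 - (8 * t + 3) := by linarith
    rw [this]
    ring
  rw [e1, e3] at h
  rw [hA]
  apply Nat.eq_of_mul_eq_mul_right (show 0 < 4 * (2 * t + 1) by omega)
  calc 6 * N * (4 * (2 * t + 1)) = N * (24 * (2 * t + 1)) := by ring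
    _ = _ := h
    _ = _ := by ring

/-- RC-FIN3 (Mathlib, arithmetic). -/
theorem rc_fin3 (m : ℕ) (hm : 1 ≤ m) (N φ : ℕ)
    (h : N * (6 * (3 ^ (2 * m + 1) - 3 ^ (m + 1) + 1)) =
      φ * ((3 ^ (2 * m + 1)) ^ 3 * (3 ^ (2 * m + 1) - 1) * ((3 ^ (2 * m + 1)) ^ 3 + 1))) :
    6 * N = φ * (3 ^ (2 * m + 1)) ^ 3 * ((3 ^ (2 * m + 1)) ^ 2 - 1) * (3 ^ (2 * m + 1) + 3 ^ (m + 1) + 1) := by
  obtain ⟨t, r, hq, hr, hrr, hlt, -⟩ := rcfin_qr m hm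
  rw [hq, hr] at h ⊢
  obtain ⟨k, hk, hk'⟩ : ∃ k, 8 * t + 3 - r + 1 = k ∧ k + r = 8 * t + 3 + 1 := ⟨_, rfl, by omega⟩
  obtain ⟨B, hB, hB'⟩ : ∃ B, 8 * t + 3 - 1 = B ∧ B + 1 = 8 * t + 3 := ⟨_, rfl, by omega⟩
  obtain ⟨C, hC, hC'⟩ : ∃ C, (8 * t + 3) ^ 2 - 1 = C ∧ C + 1 = (8 * t + 3) ^ 2 := by
    refine ⟨_, rfl, ?_⟩
    have : 1 ≤ (8 * t + 3) ^ 2 := by nlinarith
    omega
  have e3 : (8 * t + 3) ^ 3 + 1 = k * ((8 * t + 3 + 1) * (8 * t + 3 + r + 1)) := by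
    zify at hk' hrr ⊢
    have : (k : ℤ) = 8 * t + 3 + 1 - r := by linarith
    rw [this]
    linear_combination (8 * (t : ℤ) + 3 + 1) * hrr
  have e4 : C = B * (8 * t + 3 + 1) := by
    zify at hB' hC' ⊢
    have h1 : (B : ℤ) = 8 * t + 3 - 1 := by linarith
    have h2 : (C : ℤ) = (8 * t + 3) ^ 2 - 1 := by linarith
    rw [h1, h2]
    ring
  rw [hk, hB, e3] at h
  rw [hC, e4]
  have hkpos : 0 < k := by omega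
  apply Nat.eq_of_mul_eq_mul_right hkpos
  calc 6 * N * k = N * (6 * k) := by ring
    _ = _ := h
    _ = _ := by ring

/-- RC-FIN4 (Mathlib, arithmetic). -/
theorem rc_fin4 (m : ℕ) (hm : 1 ≤ m) (N φ : ℕ)
    (h : N * (6 * (3 ^ (2 * m + 1) + 3 ^ (m + 1) + 1)) =
      φ * ((3 ^ (2 * m + 1)) ^ 3 * (3 ^ (2 * m + 1) - 1) * ((3 ^ (2 * m + 1)) ^ 3 + 1))) :
    6 * N = φ * (3 ^ (2 * m + 1)) ^ 3 * ((3 ^ (2 * m + 1)) ^ 2 - 1) * (3 ^ (2 * m + 1) - 3 ^ (m + 1) + 1) := by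
  obtain ⟨t, r, hq, hr, hrr, hlt, -⟩ := rcfin_qr m hm
  rw [hq, hr] at h ⊢
  obtain ⟨k, hk, hk'⟩ : ∃ k, 8 * t + 3 - r + 1 = k ∧ k + r = 8 * t + 3 + 1 := ⟨_, rfl, by omega⟩
  obtain ⟨B, hB, hB'⟩ : ∃ B, 8 * t + 3 - 1 = B ∧ B + 1 = 8 * t + 3 := ⟨_, rfl, by omega⟩
  obtain ⟨C, hC, hC'⟩ : ∃ C, (8 * t + 3) ^ 2 - 1 = C ∧ C + 1 = (8 * t + 3) ^ 2 := by
    refine ⟨_, rfl, ?_⟩
    have : 1 ≤ (8 * t + 3) ^ 2 := by nlinarith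
    omega
  have e3 : (8 * t + 3) ^ 3 + 1 = (8 * t + 3 + r + 1) * ((8 * t + 3 + 1) * k) := by
    zify at hk' hrr ⊢
    have : (k : ℤ) = 8 * t + 3 + 1 - r := by linarith
    rw [this]
    linear_combination (8 * (t : ℤ) + 3 + 1) * hrr
  have e4 : C = B * (8 * t + 3 + 1) := by
    zify at hB' hC' ⊢
    have h1 : (B : ℤ) = 8 * t + 3 - 1 := by linarith
    have h2 : (C : ℤ) = (8 * t + 3) ^ 2 - 1 := by linarith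
    rw [h1, h2]
    ring
  rw [hB, e3] at h
  rw [hk, hC, e4]
  have hpos : 0 < 8 * t + 3 + r + 1 := by omega
  apply Nat.eq_of_mul_eq_mul_right hpos
  calc 6 * N * (8 * t + 3 + r + 1) = N * (6 * (8 * t + 3 + r + 1)) := by ring
    _ = _ := h
    _ = _ := by ring

end Cfsg.Agent.Lib.Helper52.Rc
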