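import Mathlib
import Cfsg.Agent.Lib.Helper41.SL2Count

/-!
# Rc hive (S2357, owner helper52), round 2: leaves RC-SL3A and RC-SL3B

Elements of order `3` of `SL₂(K)` in characteristic `3`: trace `2`, not the identity; there are `q² - 1`.
-/

set_option autoImplicit false

namespace Cfsg.Agent.Lib.Helper52.Rc

open Matrix

section SL
variable {K : Type*} [Field K] [Fintype K] [CharP K 3]

omit [Fintype K] in
theorem rcsl3a_three : (3 : K) = 0 := by
  have := CharP.cast_eq_zero K 3
  exact_mod_cast this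

omit [Fintype K] [CharP K 3] in
/-- `M³ = (t² - 1) M - t` for a `2 × 2` matrix of determinant one and trace `t`. -/
theorem rcsl3a_cube (M : Matrix (Fin 2) (Fin 2) K) (hdet : M.det = 1) :
    M ^ 3 = (M.trace ^ 2 - 1) • M - M.trace • (1 : Matrix (Fin 2) (Fin 2) K) := by
  have h2 := Cfsg.Agent.Lib.Helper41.mat2_sq_eq M hdet
  have h3 : M ^ 3 = (M * M) * M := by rw [pow_succ, pow_two]
  rw [h3, h2, sub_mul, smul_mul_assoc, h2, one_mul]
  module

set_option linter.unusedSectionVars false in
/-- RC-SL3A. -/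
theorem sl2_orderOf_three_iff (x : SpecialLinearGroup (Fin 2) K) :
    orderOf x = 3 ↔ (x 0 0 + x 1 1 = 2 ∧ x ≠ 1) := by
  have h3 : (3 : K) = 0 := rcsl3a_three
  have hcube := rcsl3a_cube (x : Matrix (Fin 2) (Fin 2) K) x.det_coe
  have htr : (x : Matrix (Fin 2) (Fin 2) K).trace = x 0 0 + x 1 1 := by
    simp [Matrix.trace, Fin.sum_univ_two]
  have hpow : x ^ 3 = 1 ↔ (x : Matrix (Fin 2) (Fin 2) K) ^ 3 = 1 := by
    constructor
    · intro h
      have := congrArg (fun y : SpecialLinearGroup (Fin 2) K => (y : Matrix (Fin 2) (Fin 2) K)) h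
      simpa using this
    · intro h
      apply Subtype.ext
      simpa using h
  constructor
  · intro ho
    have hx1 : x ≠ 1 := by
      rintro rfl
      rw [orderOf_one] at ho
      omega
    refine ⟨?_, hx1⟩
    have hx3 : x ^ 3 = 1 := by rw [← ho]; exact pow_orderOf_eq_one x
    have hm := hpow.mp hx3
    rw [hcube, htr] at hm
    have e00 := congrFun (congrFun hm 0) 0
    have e11 := congrFun (congrFun hm 1) 1
    simp only [Matrix.sub_apply, Matrix.smul_apply, Matrix.one_apply_eq, smul_eq_mul,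
      mul_one] at e00 e11
    have hz : (x 0 0 + x 1 1 - 2) ^ 3 = 0 := by
      linear_combination e00 + e11 +
        (-2 * (x 0 0 + x 1 1) ^ 2 + 5 * (x 0 0 + x 1 1) - 2) * h3
    have := pow_eq_zero_iff (n := 3) (by norm_num) |>.mp hz
    linear_combination this
  · rintro ⟨ht, hx1⟩
    have : Fact (Nat.Prime 3) := ⟨by norm_num⟩
    apply orderOf_eq_prime _ hx1
    rw [hpow, hcube, htr, ht]
    have e1 : ((2 : K) ^ 2 - 1) = 0 := by linear_combination h3
    have e2 : (2 : K) = -1 := by linear_combination h3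
    rw [e1, zero_smul, zero_sub, e2, neg_smul, one_smul, neg_neg]

/-- RC-SL3B. -/
theorem card_SL2_orderOf_three
    (hiff : ∀ x : SpecialLinearGroup (Fin 2) K, orderOf x = 3 ↔ (x 0 0 + x 1 1 = 2 ∧ x ≠ 1)) :
    Nat.card {x : SpecialLinearGroup (Fin 2) K // orderOf x = 3} = (Fintype.card K) ^ 2 - 1 := by
  classical
  have h3 : (3 : K) = 0 := rcsl3a_three
  -- the elements of trace 2
  have hfilter : (Finset.univ.filter (fun a : K => a * (2 - a) = 1)) = {1} := by
    ext a
    simp only [Finset.mem_filter, Finset.mem_univ, true_and, Finset.mem_singleton]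
    constructor
    · intro h
      have hz : (a - 1) ^ 2 = 0 := by linear_combination (-1 : K) * h
      have := pow_eq_zero_iff (n := 2) (by norm_num) |>.mp hz
      linear_combination this
    · rintro rfl
      ring
  have hq : 0 < Fintype.card K := Fintype.card_pos
  have htr : Nat.card {Y : SpecialLinearGroup (Fin 2) K // Cfsg.Agent.Lib.Helper41.tr2 Y = 2}
      = Fintype.card K ^ 2 := by
    rw [Cfsg.Agent.Lib.Helper41.card_tr2_eq, hfilter, Finset.card_singleton, mul_one, pow_two,
      ← Nat.mul_succ]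
    congr 1
    omega
  -- remove the identity
  let S : Set (SpecialLinearGroup (Fin 2) K) := {Y | Cfsg.Agent.Lib.Helper41.tr2 Y = 2}
  have h1S : (1 : SpecialLinearGroup (Fin 2) K) ∈ S := by
    show Cfsg.Agent.Lib.Helper41.tr2 (1 : SpecialLinearGroup (Fin 2) K) = 2
    simp [Cfsg.Agent.Lib.Helper41.tr2]
    norm_num
  have hS : S.ncard = Fintype.card K ^ 2 := by
    rw [← htr]
    exact (Nat.card_coe_set_eq S).symm
  have hset : {x : SpecialLinearGroup (Fin 2) K | orderOf x = 3} = S \ {1} := by
    ext x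
    simp only [Set.mem_ofPred_eq, Set.mem_sdiff, Set.mem_singleton_iff, S]
    rw [hiff x]
    rfl
  have hfin : S.Finite := Set.toFinite S
  calc Nat.card {x : SpecialLinearGroup (Fin 2) K // orderOf x = 3}
      = ({x : SpecialLinearGroup (Fin 2) K | orderOf x = 3}).ncard :=
        Nat.card_coe_set_eq _
    _ = (S \ {1}).ncard := by rw [hset]
    _ = S.ncard - 1 := Set.ncard_sdiff_singleton_of_mem h1S
    _ = Fintype.card K ^ 2 - 1 := by rw [hS]

end SL

end Cfsg.Agent.Lib.Helper52.Rc
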