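import Cfsg.Agent.Lib.Helper34.TateT1
import Cfsg.Agent.Lib.Helper80.TateT9
import Cfsg.Agent.Lib.Helper47.Frattini
import Cfsg.Agent.Lib.Helper54.FusFoc

set_option autoImplicit false
set_option linter.style.haveILetI false

/-!
# [T12] the easy half of Tate's theorem for fusion systems

If `F` is saturated, `H ⊆ F`, and the focal subgroups of `F` and `H` agree modulo the Frattini
subgroup of `S`, then they agree.
-/

namespace Cfsg.Agent.Lib.Helper34.Tate

open Cfsg Cfsg.FusionSystem
open Cfsg.Agent.Lib.Helper87 (hom_le hom_mem_S)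
open scoped commutatorElement

variable {Ω : Type*} [Group Ω] {S : Subgroup Ω}

theorem Stab.of_sub {F H : FusionSystem S} (hHF : H.IsSubsystemOf F) {A : Type*} {lam : S → A}
    (h : Stab F lam) : Stab H lam :=
  fun Q ψ hψ v => h Q ψ (hHF Q hψ) v

theorem Stab.hom_pow {F : FusionSystem S} {A : Type*} [CommGroup A] {lam : S →* A}
    (h : Stab F lam) (k : ℕ) : Stab F (lam ^ k : S →* A) := by
  intro Q ψ hψ v
  rw [MonoidHom.pow_apply, MonoidHom.pow_apply, h Q ψ hψ v]

theorem Stab.hom_div {F : FusionSystem S} {A : Type*} [CommGroup A] {lam mu : S →* A}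
    (h : Stab F lam) (h' : Stab F mu) : Stab F (lam / mu : S →* A) := by
  intro Q ψ hψ v
  rw [MonoidHom.div_apply, MonoidHom.div_apply, h Q ψ hψ v, h' Q ψ hψ v]

/-- the key induction: `H`-stable characters into an abelian group are `F`-stable -/
theorem stab_of_stab_of_frattini [Finite S] {p : ℕ} [Fact p.Prime] (hS : IsPGroup p S)
    (F H : FusionSystem S) (hF : F.IsSaturated p) (hHF : H.IsSubsystemOf F)
    (h : (frattini ↥S).map S.subtype ⊔ F.focalSubgroup =
      (frattini ↥S).map S.subtype ⊔ H.focalSubgroup)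
    {A : Type*} [CommGroup A] :
    ∀ (e : ℕ) (κ : S →* A), κ ^ (p ^ e) = 1 → Stab H κ → Stab F κ := by
  classical
  have hp : p.Prime := Fact.out
  obtain ⟨n, τ, hn, hτstab, hτfix, -, -⟩ := exists_transfer hS F hF A
  intro e
  induction e with
  | zero =>
    intro κ hκ _
    have h1 : κ = 1 := by simpa using hκ
    subst h1
    intro Q ψ hψ v
    simp
  | succ e ih =>
    intro κ hκ hst
    -- `κ ^ p` is `F`-stable by induction
    have hκp : (κ ^ p) ^ (p ^ e) = 1 := by
      rw [← pow_mul, ← pow_succ']; exact hκ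
    have hFp : Stab F (κ ^ p : S →* A) := ih (κ ^ p) hκp (hst.hom_pow p)
    -- the error term
    set ε : S →* A := τ κ / κ ^ n with hε
    have hεp : ε ^ p = 1 := by
      rw [hε, div_pow, ← map_pow, hτfix _ hFp, ← pow_mul, ← pow_mul, mul_comm, div_self']
    -- `ε` kills the Frattini subgroup
    have hΦ : frattini ↥S ≤ ε.ker := by
      apply Cfsg.Agent.Lib.Helper47.frattini_le_of_elementary_abelian_quotient p
      · intro x y
        rw [MonoidHom.mem_ker, commutatorElement_def]
        simp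
      · intro x
        rw [MonoidHom.mem_ker, map_pow, ← MonoidHom.pow_apply, hεp]
        rfl
    -- `ε` is `H`-stable
    have hεH : Stab H ε := ((hτstab κ).of_sub hHF).hom_div (hst.hom_pow n)
    have hεfoc := (stab_iff_focal H ε).mp hεH
    -- so `ε` kills the focal subgroup of `F`
    have hK : F.focalSubgroup ≤ (ε.ker).map S.subtype := by
      have h1 : (frattini ↥S).map S.subtype ⊔ H.focalSubgroup ≤ (ε.ker).map S.subtype := by
        apply sup_le
        · exact Subgroup.map_mono hΦ
        · intro x hx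
          have hxS : x ∈ S := Cfsg.Agent.Lib.Helper54.FusFoc.focal_le_S H hx
          exact ⟨⟨x, hxS⟩, MonoidHom.mem_ker.mpr (hεfoc x hx hxS), rfl⟩
      exact le_trans (le_trans le_sup_right (le_of_eq h)) h1
    have hεF : Stab F ε := by
      rw [stab_iff_focal]
      intro x hx hxS
      obtain ⟨s, hs, hsx⟩ := hK hx
      have : (⟨x, hxS⟩ : S) = s := Subtype.ext hsx.symm
      rw [this]
      exact MonoidHom.mem_ker.mp hs
    -- hence `κ ^ n` is `F`-stable
    have hκn : Stab F (κ ^ n : S →* A) := by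
      have e1 : (κ ^ n : S →* A) = τ κ / ε := by
        rw [hε, div_div_cancel]
      rw [e1]
      exact (hτstab κ).hom_div hεF
    -- and so is `κ`
    intro Q ψ hψ v
    have h1 := hκn Q ψ hψ v
    rw [MonoidHom.pow_apply, MonoidHom.pow_apply] at h1
    set a := κ ⟨ψ v, hom_mem_S F hψ v⟩ with ha
    set b := κ ⟨(v : Ω), hom_le F hψ v.2⟩ with hb
    have h2 : (a / b) ^ n = 1 := by rw [div_pow, h1, div_self']
    have h3 : ∀ x : S, (κ x) ^ (p ^ (e + 1)) = 1 := by
      intro x
      rw [← MonoidHom.pow_apply, hκ]; rfl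
    have h4 : (a / b) ^ (p ^ (e + 1)) = 1 := by rw [div_pow, h3, h3, div_self']
    have h5 : orderOf (a / b) ∣ n := orderOf_dvd_of_pow_eq_one h2
    have h6 : orderOf (a / b) ∣ p ^ (e + 1) := orderOf_dvd_of_pow_eq_one h4
    have hcop : Nat.Coprime n (p ^ (e + 1)) :=
      Nat.Coprime.pow_right _ ((Nat.Prime.coprime_iff_not_dvd hp).mpr hn).symm
    have h7 : orderOf (a / b) = 1 := Nat.eq_one_of_dvd_coprimes hcop h5 h6
    exact div_eq_one.mp (orderOf_eq_one_iff.mp h7)

open scoped IsMulCommutative in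
/-- [T12] the easy half of S5224 -/
theorem focal_eq_of_frattini [Finite S] {p : ℕ} [Fact p.Prime] (hS : IsPGroup p S)
    (F H : FusionSystem S) (hF : F.IsSaturated p) (hHF : H.IsSubsystemOf F)
    (h : (frattini ↥S).map S.subtype ⊔ F.focalSubgroup =
      (frattini ↥S).map S.subtype ⊔ H.focalSubgroup) :
    F.focalSubgroup = H.focalSubgroup := by
  classical
  apply le_antisymm
  · -- the quotient `S / foc(H)`
    set N : Subgroup ↥S := H.focalSubgroup.subgroupOf S with hN
    have hcomm : commutator ↥S ≤ N := by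
      rw [commutator_def, Subgroup.commutator_le]
      intro a _ b _
      rw [hN, Subgroup.mem_subgroupOf]
      have hφ : conjHom S (a : Ω) ∈ H.Hom S := H.conj_mem le_rfl a.2
      have h1 := Cfsg.Agent.Lib.Helper54.FusFoc.mem_focal H hφ (b⁻¹ : S)
      have e1 : (((b⁻¹ : S) : S) : Ω)⁻¹ * conjHom S (a : Ω) (b⁻¹ : S)
          = ((b : Ω)⁻¹)⁻¹ * ((a : Ω) * (b : Ω)⁻¹ * (a : Ω)⁻¹) := rfl
      rw [e1] at h1
      have e2 : ((⁅a, b⁆ : S) : Ω) = (((b : Ω)⁻¹)⁻¹ * ((a : Ω) * (b : Ω)⁻¹ * (a : Ω)⁻¹))⁻¹ := by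
        rw [commutatorElement_def]
        push_cast
        group
      rw [e2]
      exact Subgroup.inv_mem _ h1
    haveI hNn : N.Normal := by
      constructor
      intro x hx g
      have : g * x * g⁻¹ = ⁅g, x⁆ * x := by
        rw [commutatorElement_def]; group
      rw [this]
      exact N.mul_mem (hcomm (Subgroup.commutator_mem_commutator (Subgroup.mem_top g)
        (Subgroup.mem_top x))) hx
    haveI : IsMulCommutative (↥S ⧸ N) :=
      (Subgroup.Normal.quotient_commutative_iff_commutator_le).mpr hcomm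
    set κ₀ : S →* (↥S ⧸ N) := QuotientGroup.mk' N with hκ₀
    obtain ⟨e, he⟩ := IsPGroup.iff_card.mp hS
    have hpow : κ₀ ^ (p ^ e) = 1 := by
      ext x
      rw [MonoidHom.pow_apply, ← map_pow, ← he, pow_card_eq_one']
      simp
    have hstH : Stab H κ₀ := by
      rw [stab_iff_focal]
      intro x hx hxS
      rw [hκ₀, QuotientGroup.mk'_apply, QuotientGroup.eq_one_iff, hN, Subgroup.mem_subgroupOf]
      exact hx
    have hstF : Stab F κ₀ := stab_of_stab_of_frattini hS F H hF hHF h e κ₀ hpow hstH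
    have hfoc := (stab_iff_focal F κ₀).mp hstF
    intro x hx
    have hxS : x ∈ S := Cfsg.Agent.Lib.Helper54.FusFoc.focal_le_S F hx
    have h1 := hfoc x hx hxS
    rw [hκ₀, QuotientGroup.mk'_apply, QuotientGroup.eq_one_iff, hN, Subgroup.mem_subgroupOf] at h1
    exact h1
  · unfold FusionSystem.focalSubgroup
    apply Subgroup.closure_mono
    rintro y ⟨P, φ, x, hφ, rfl⟩
    exact ⟨P, φ, x, hHF P hφ, rfl⟩

end Cfsg.Agent.Lib.Helper34.Tate
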