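import Mathlib
import Cfsg.Prelude.Def_ClassicalGeometry
import Cfsg.Agent.Lib.Helper2.BGLin
import Cfsg.Agent.Lib.Helper2.BGPoly
import Cfsg.Agent.Lib.Helper99.SympForm
import Cfsg.Agent.Lib.Helper48.TiDefs

/-! # S5955 hive (helper48): TI-BRIDGE, the concrete symplectic space -/

set_option autoImplicit false

namespace Cfsg.Agent.Lib.Helper48.Ti

open Polynomial Module
open Cfsg.Agent.Lib.Helper2.BG Cfsg.Agent.Lib.Helper99

section concrete

variable {F : Type*} [Field F]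

/-- TI-BRIDGE (1) -/
theorem isom_toLin' (d : ℕ) (x : ↥(Matrix.symplecticGroup (Fin d) F)) :
    Isom (sympB (F := F) d)
      (Matrix.toLin' (x : Matrix (Fin d ⊕ Fin d) (Fin d ⊕ Fin d) F)) :=
  fun u v => sympB_preserved d _ x.2 u v

/-- TI-BRIDGE (2) -/
theorem injective_toLin' (d : ℕ) (x : ↥(Matrix.symplecticGroup (Fin d) F)) :
    Function.Injective (Matrix.toLin' (x : Matrix (Fin d ⊕ Fin d) (Fin d ⊕ Fin d) F)) := by
  have h : (x⁻¹ : ↥(Matrix.symplecticGroup (Fin d) F)).1 * x.1 = 1 := by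
    have := congrArg Subtype.val (inv_mul_cancel x)
    exact this
  intro u v huv
  have h2 : ∀ w, Matrix.toLin' ((x⁻¹ : ↥(Matrix.symplecticGroup (Fin d) F)).1)
      (Matrix.toLin' x.1 w) = w := by
    intro w
    rw [← LinearMap.comp_apply, ← Matrix.toLin'_mul, h, Matrix.toLin'_one]
    rfl
  rw [← h2 u, ← h2 v, huv]

/-- TI-BRIDGE (3): a scalar symplectic matrix is `±1` -/
theorem scalar_sq_eq_one (d : ℕ) (hd : 1 ≤ d) (y : ↥(Matrix.symplecticGroup (Fin d) F)) (z : F)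
    (h : (y : Matrix (Fin d ⊕ Fin d) (Fin d ⊕ Fin d) F) = z • 1) : z * z = 1 := by
  have hy := SymplecticGroup.mem_iff.mp y.2
  rw [h] at hy
  rw [Matrix.transpose_smul, Matrix.transpose_one, Matrix.smul_mul, Matrix.one_mul,
    Matrix.mul_smul, Matrix.mul_one, smul_smul] at hy
  have h0 : (0 : ℕ) < d := hd
  have he := congrFun (congrFun hy (Sum.inl ⟨0, h0⟩)) (Sum.inr ⟨0, h0⟩)
  simp only [Matrix.J, Matrix.smul_apply, Matrix.fromBlocks_apply₁₂, Matrix.neg_apply,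
    Matrix.one_apply_eq, smul_eq_mul] at he
  linear_combination -he

/-- TI-BRIDGE (4) -/
theorem isSemisimple_of_pow_eq (d n : ℕ) (hn : (n : F) ≠ 0)
    (A : Matrix (Fin d ⊕ Fin d) (Fin d ⊕ Fin d) F) (z : F) (hz : z ≠ 0)
    (h : A ^ n = z • 1) :
    Module.End.IsSemisimple (Matrix.toLin' A : Module.End F (Fin d ⊕ Fin d → F)) := by
  apply Module.End.isSemisimple_of_squarefree_aeval_eq_zero
    (squarefree_X_pow_sub_C (F := F) hn hz)
  rw [map_sub, map_pow, aeval_X, aeval_C, ← Matrix.toLin'_pow, h, map_smul, Matrix.toLin'_one]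
  rw [Algebra.algebraMap_eq_smul_one]
  exact sub_self _

/-- TI-BRIDGE (5) -/
theorem good_top_iff (d m : ℕ) (A : Matrix (Fin d ⊕ Fin d) (Fin d ⊕ Fin d) F) :
    Good (sympB (F := F) d) (Matrix.toLin' A) ⊤ m ↔
      ∃ W : Submodule F (Fin d ⊕ Fin d → F), finrank F W = m ∧
        (∀ u ∈ W, ∀ v ∈ W, Cfsg.sympForm d F u v = 0) ∧ W.map (Matrix.toLin' A) ≤ W := by
  constructor
  · rintro ⟨U, -, hUf, hU, hUm⟩
    refine ⟨U, hUm, ?_, (inv_iff_map_le _ U).mp hUf⟩
    intro u hu v hv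
    rw [← sympB_apply]
    exact hU u hu v hv
  · rintro ⟨W, hWm, hW, hWf⟩
    refine ⟨W, le_top, (inv_iff_map_le _ W).mpr hWf, ?_, hWm⟩
    intro u hu v hv
    rw [sympB_apply]
    exact hW u hu v hv

/-- TI-BRIDGE (6) -/
theorem finrank_top_symp (d : ℕ) :
    finrank F (⊤ : Submodule F (Fin d ⊕ Fin d → F)) = 2 * d := by
  rw [finrank_top, Module.finrank_fintype_fun_eq_card, Fintype.card_sum, Fintype.card_fin]
  omega

end concrete

end Cfsg.Agent.Lib.Helper48.Ti
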