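import Cfsg.Agent.Lib.Helper48.TiOdd
import Cfsg.Agent.Lib.Helper8.SpBlkFinal
import Cfsg.Agent.Lib.Helper13.Symp
import Cfsg.Agent.Lib.Helper99.SpMax

/-! # S5955 hive (helper48): backup of TI-D1 — an element of order `r` with a small fixed space,
from helper8's semisimple elements. -/

set_option autoImplicit false

namespace Cfsg.Agent.Lib.Helper48.Ti

open Polynomial Module
open Cfsg.Agent.Lib.Helper2.BG Cfsg.Agent.Lib.Helper99

section d1b

variable {F : Type*} [Field F]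

/-- TI-D1 (backup, same statement as `exists_smallfix_elt`) -/
theorem d1b_exists_smallfix_elt [Fintype F] {p : ℕ} [Fact p.Prime] [CharP F p] (d : ℕ) (r : ℕ)
    [Fact r.Prime] (hr2 : r ≠ 2) (hrp : r ≠ p) (i c : ℕ)
    (hi : i = orderOf ((Fintype.card F : ℕ) : ZMod r))
    (hc : c = if Even i then i else 2 * i) (hcd : c ≤ 2 * d) :
    ∃ x : ↥(Matrix.symplecticGroup (Fin d) F),
      ((x ^ r : ↥(Matrix.symplecticGroup (Fin d) F)) :
        Matrix (Fin d ⊕ Fin d) (Fin d ⊕ Fin d) F) = 1 ∧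
      (∀ z : F, (x : Matrix (Fin d ⊕ Fin d) (Fin d ⊕ Fin d) F) ≠
        z • (1 : Matrix (Fin d ⊕ Fin d) (Fin d ⊕ Fin d) F)) ∧
      ∀ U : Submodule F (Fin d ⊕ Fin d → F),
        U.map (Matrix.toLin' (x : Matrix (Fin d ⊕ Fin d) (Fin d ⊕ Fin d) F)) ≤ U →
        (∀ u ∈ U, ∀ v ∈ U, Cfsg.sympForm d F u v = 0) →
        ∃ a j : ℕ, finrank F U = a + j * i ∧ 2 * a ≤ (2 * d) % c := by
  classical
  have hi0 : 0 < i := by
    rw [hi]
    exact orderOf_card_pos hrp
  have hcpos : 0 < c := by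
    rw [hc]
    split_ifs <;> omega
  obtain ⟨c', hc'⟩ : ∃ c', c = 2 * c' := by
    rw [hc]
    split_ifs with h
    · obtain ⟨k, hk⟩ := h
      exact ⟨k, by omega⟩
    · exact ⟨i, rfl⟩
  have hcb : Cfsg.Agent.Lib.Helper8.SpBlk.blk F r = c := by
    rw [hc, hi]
    rfl
  have hq1 : 1 ≤ 2 * d / c := (Nat.one_le_div_iff hcpos).2 hcd
  obtain ⟨t, ht⟩ : ∃ t, t = 2 * d / c := ⟨_, rfl⟩
  rw [← ht] at hq1
  have hdm : c * t + (2 * d) % c = 2 * d := by
    rw [ht]
    exact Nat.div_add_mod (2 * d) c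
  have hmodlt : (2 * d) % c < c := Nat.mod_lt _ hcpos
  have h2j : c * t = 2 * (c' * t) := by
    rw [hc']
    ring
  have hj1 : 1 ≤ c' * t := by
    have h1 : 1 ≤ c' := by omega
    exact Nat.mul_le_mul h1 hq1
  have hjd : c' * t ≤ d := by omega
  have hrj : r ∣ Fintype.card F ^ (2 * (c' * t)) - 1 := by
    have h := Cfsg.Agent.Lib.Helper8.SpBlk.dvd_pow_blk_sub_one (F := F) (r := r) t
    rw [hcb, h2j] at h
    exact h
  obtain ⟨x, hx, hxr, hxns, W, U₀, hfix⟩ :=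
    Cfsg.Agent.Lib.Helper8.SpExt.exists_semisimple (F := F) d p (c' * t) hj1 hjd r hr2 hrj
  have hker := Cfsg.Agent.Lib.Helper8.SpBlk.finrank_ker_of_fixData hfix
  have hxm : (x : Matrix (Fin d ⊕ Fin d) (Fin d ⊕ Fin d) F) ∈
      Matrix.symplecticGroup (Fin d) F :=
    Cfsg.Agent.Lib.Helper13.mem_symplectic_of_preserves d _
      ((Cfsg.Agent.Lib.Helper99.mem_spGL_iff d x).1 hx)
  have hMr : (x : Matrix (Fin d ⊕ Fin d) (Fin d ⊕ Fin d) F) ^ r = 1 := by
    rw [← Units.val_pow_eq_pow_val, hxr, Units.val_one]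
  refine ⟨⟨(x : Matrix (Fin d ⊕ Fin d) (Fin d ⊕ Fin d) F), hxm⟩, ?_, hxns, ?_⟩
  · rw [SubmonoidClass.coe_pow]
    exact hMr
  · intro U hUinv hUti
    set M : Matrix (Fin d ⊕ Fin d) (Fin d ⊕ Fin d) F :=
      (x : Matrix (Fin d ⊕ Fin d) (Fin d ⊕ Fin d) F) with hM
    set f : Module.End F (Fin d ⊕ Fin d → F) := Matrix.toLin' M with hf
    have hiso : Isom (sympB (F := F) d) f := isom_toLin' d ⟨M, hxm⟩
    have hMr' : M ^ r = (1 : F) • (1 : Matrix (Fin d ⊕ Fin d) (Fin d ⊕ Fin d) F) := by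
      rw [one_smul]
      exact hMr
    have hrF : (r : F) ≠ 0 := natCast_ne_zero_of_ne_char hrp
    have hss : f.IsSemisimple := isSemisimple_of_pow_eq d r hrF M 1 one_ne_zero hMr'
    have hfr : f ^ r = 1 := by
      rw [hf, ← Matrix.toLin'_pow, hMr, Matrix.toLin'_one]
      rfl
    have hkill : aeval f ((X - 1 : F[X]) * cyclotomic r F) = 0 := by
      rw [mul_comm, Polynomial.cyclotomic_prime_mul_X_sub_one, map_sub, map_pow, aeval_X, map_one,
        hfr, sub_self]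
    have hcop : IsCoprime (X - 1 : F[X]) (cyclotomic r F) := isCoprime_X_sub_one_cyclotomic hrF
    have hdeg : AllIrrDeg (cyclotomic r F) i := by
      rw [hi]
      exact allIrrDeg_cyclotomic hrp
    have hP0 : cyclotomic r F ≠ 0 := cyclotomic_ne_zero r F
    have hUf : Inv f U := fun v hv => hUinv ⟨v, hv, rfl⟩
    have hUt : TI (sympB (F := F) d) U := by
      intro u hu v hv
      rw [sympB_apply]
      exact hUti u hu v hv
    obtain ⟨a, jj, h1, h2⟩ := nofix_dims (sympB_self d) hiso hss hP0 hdeg hcop hkill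
      (sympB_nd d) hUf hUt
    refine ⟨a, jj, h1, ?_⟩
    have hker' : finrank F (LinearMap.ker (f - 1)) + 2 * (c' * t) = 2 * d := hker
    omega

end d1b

end Cfsg.Agent.Lib.Helper48.Ti
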