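import Cfsg.Agent.Lib.Helper48.TiDefs
import Cfsg.Agent.Lib.Helper55.TiPEEL
import Cfsg.Agent.Lib.Helper55.TiPIGEON
import Cfsg.Agent.Lib.Helper2.TiFIX
import Cfsg.Agent.Lib.Helper33.TiBASE
import Cfsg.Agent.Lib.Helper33.TiODDIRR
import Cfsg.Agent.Lib.Helper48.TiBRIDGE
import Cfsg.Agent.Lib.Helper48.TiCYC
import Cfsg.Agent.Lib.Helper33.TiCW

/-! # S5955 hive (helper48): the leaves used by the inductions and the wrappers (peel, glue,
ti_bound, fix_split, nofix_dims, exists_ti_of_nd, even_finrank_of_nd, ti_of_odd_irreducible,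
exists_ti_irreducible_cw, exists_factor_large, the bridge lemmas and the cyclotomic lemmas),
collected. -/
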