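import Cfsg.Agent.Lib.Helper48.TiInd

/-! # TI layer (helper48): the peeling induction with the sharp bound, inside the part killed by
`P` (no fixed vectors): blocks `b * i` exist as soon as `b = 0` or `2 b + τ ≤ N + 1`, where
`N = finrank Z / i` is the number of irreducible blocks and `τ` bounds the number of
isomorphism types. -/

set_option autoImplicit false

namespace Cfsg.Agent.Lib.Helper48.Ti

open Polynomial Module
open Cfsg.Agent.Lib.Helper2.BG Cfsg.Agent.Lib.Helper99

section ind2

variable {F V : Type*} [Field F] [AddCommGroup V] [Module F V] [FiniteDimensional F V]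
variable {B : V →ₗ[F] V →ₗ[F] F}

/-- the zero subspace is good -/
theorem ind2_good_zero {f : Module.End F V} (Z : Submodule F V) : Good B f Z 0 := by
  refine ⟨⊥, bot_le, inv_bot f, ?_, by simp⟩
  intro u hu v _
  rw [(Submodule.mem_bot F).mp hu, map_zero, LinearMap.zero_apply]

/-- sharp version of `exists_ti_even` inside the part killed by `P` -/
theorem exists_ti_even_sharp [Finite F] (hB : ∀ v, B v v = 0) {f : Module.End F V}
    (hf : Isom B f) (hinj : Function.Injective f) (hss : f.IsSemisimple) {P : F[X]}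
    (hsq : Squarefree P) {i τ : ℕ} (hi0 : 0 < i) (hdeg : AllIrrDeg P i) (hτ : FactorBound P τ) :
    ∀ (b : ℕ) (Z : Submodule F V), Nd B Z → Inv f Z → (∀ v ∈ Z, aeval f P v = 0) →
      (b = 0 ∨ 2 * b + τ ≤ finrank F Z / i + 1) → Good B f Z (b * i) := by
  have hP0 : P ≠ 0 := hsq.ne_zero
  intro b
  induction b with
  | zero =>
    intro Z _ _ _ _
    rw [Nat.zero_mul]
    exact ind2_good_zero Z
  | succ b ih =>
    intro Z hZ hZf hZk hb
    have hb' : 2 * (b + 1) + τ ≤ finrank F Z / i + 1 := by
      rcases hb with h | h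
      · omega
      · exact h
    have hdvd : i ∣ finrank F Z := dvd_finrank_of_inv hss hP0 hdeg _ _ rfl hZf hZk
    obtain ⟨N, hN⟩ := hdvd
    have hNdiv : finrank F Z / i = N := by
      rw [hN, Nat.mul_div_cancel_left _ hi0]
    rw [hNdiv] at hb'
    have hbig : i * τ < finrank F Z := by
      rw [hN]
      exact Nat.mul_lt_mul_of_pos_left (by omega) hi0
    obtain ⟨φ, hφ, hφP, hφdim⟩ := exists_factor_large hss hsq hdeg hτ hZf hZk hbig
    have hφi : φ.natDegree = i := hdeg φ hφ hφP
    have hZ₁f : Inv f (Z ⊓ LinearMap.ker (aeval f φ)) := hZf.inf (inv_ker_aeval f φ)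
    obtain ⟨Y, hYZ₁, hYf, hYti, hYi⟩ :=
      exists_ti_irreducible_cw hB hf hss hφ hZ₁f ind_killed (by rw [hφi]; omega)
    rw [hφi] at hYi
    have hYZ : Y ≤ Z := hYZ₁.trans inf_le_left
    have key := ind_step (m := b * i) hB hf hinj hss hZ hZf hYZ hYf hYti (by
      intro Z' hZ'Z hZ'f hZ'nd hdim
      rw [hYi] at hdim
      refine ih Z' hZ'nd hZ'f (fun v hv => hZk v (hZ'Z hv)) ?_
      have e4 : finrank F Z' / i + 2 = N := by
        have h1 : finrank F Z' + i * 2 = i * N := by
          rw [← hN, ← hdim]
          ring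
        have h2 : (finrank F Z' + i * 2) / i = N := by
          rw [h1, Nat.mul_div_cancel_left _ hi0]
        rw [Nat.add_mul_div_left _ _ hi0] at h2
        exact h2
      rcases Nat.eq_zero_or_pos b with h0 | hpos
      · left
        exact h0
      · right
        omega)
    rw [hYi] at key
    have e : i + b * i = (b + 1) * i := by ring
    rw [e] at key
    exact key

end ind2

end Cfsg.Agent.Lib.Helper48.Ti
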