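import Cfsg.Agent.Lib.Helper48.TiInd
import Cfsg.Agent.Lib.Helper48.TiBRIDGE
import Cfsg.Agent.Lib.Helper48.TiCYC

/-! # S5955 hive (helper48): elements of odd prime order fix a totally isotropic `m`-space -/

set_option autoImplicit false

namespace Cfsg.Agent.Lib.Helper48.Ti

open Polynomial Module
open Cfsg.Agent.Lib.Helper2.BG Cfsg.Agent.Lib.Helper99

section odd

variable {F : Type*} [Field F]

/-- TI-W1 -/
theorem fix_of_odd [Fintype F] {p : ℕ} [Fact p.Prime] [CharP F p] (d m : ℕ) (hd : 1 ≤ d)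
    (hmd : m ≤ d) (r : ℕ) [Fact r.Prime] (hr2 : r ≠ 2) (hrp : r ≠ p) (i c : ℕ)
    (hi : i = orderOf ((Fintype.card F : ℕ) : ZMod r))
    (hc : c = if Even i then i else 2 * i)
    (hk : 2 * (m % i) ≤ (2 * d) % c)
    (ht : Odd i ∨ (r - 1) / i + 2 * (m / i) ≤ (2 * d) / i)
    (x : ↥(Matrix.symplecticGroup (Fin d) F))
    (hx : ∃ z : F, ((x ^ r : ↥(Matrix.symplecticGroup (Fin d) F)) :
      Matrix (Fin d ⊕ Fin d) (Fin d ⊕ Fin d) F) =
        z • (1 : Matrix (Fin d ⊕ Fin d) (Fin d ⊕ Fin d) F)) :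
    ∃ W : Submodule F (Fin d ⊕ Fin d → F), finrank F W = m ∧
      (∀ u ∈ W, ∀ v ∈ W, Cfsg.sympForm d F u v = 0) ∧
      W.map (Matrix.toLin' (x : Matrix (Fin d ⊕ Fin d) (Fin d ⊕ Fin d) F)) ≤ W := by
  classical
  have hrP : r.Prime := Fact.out
  obtain ⟨z, hz⟩ := hx
  have hzz : z * z = 1 := scalar_sq_eq_one d hd (x ^ r) z hz
  have hz0 : z ≠ 0 := by
    rintro rfl
    simp at hzz
  obtain ⟨s, hs⟩ := hrP.odd_of_ne_two hr2
  have hzr : z ^ (r + 1) = 1 := by
    have e : r + 1 = 2 * (s + 1) := by omega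
    rw [e, pow_mul, pow_two, hzz, one_pow]
  set M : Matrix (Fin d ⊕ Fin d) (Fin d ⊕ Fin d) F :=
    (x : Matrix (Fin d ⊕ Fin d) (Fin d ⊕ Fin d) F) with hM
  have hMr : M ^ r = z • (1 : Matrix (Fin d ⊕ Fin d) (Fin d ⊕ Fin d) F) := by
    rw [← hz]
    exact (SubmonoidClass.coe_pow x r).symm
  set A : Matrix (Fin d ⊕ Fin d) (Fin d ⊕ Fin d) F := z • M with hA
  have hAr : A ^ r = (1 : F) • (1 : Matrix (Fin d ⊕ Fin d) (Fin d ⊕ Fin d) F) := by
    rw [hA, _root_.smul_pow, hMr, smul_smul, ← pow_succ, hzr]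
  set f : Module.End F (Fin d ⊕ Fin d → F) := Matrix.toLin' A with hf
  have hfz : ∀ v, f v = z • Matrix.toLin' M v := by
    intro v
    rw [hf, hA, map_smul, LinearMap.smul_apply]
  have hisoM : Isom (sympB (F := F) d) (Matrix.toLin' M) := isom_toLin' d x
  have hiso : Isom (sympB (F := F) d) f := by
    intro u v
    rw [hfz, hfz]
    simp only [map_smul, LinearMap.smul_apply, smul_eq_mul]
    rw [← mul_assoc, hzz, one_mul]
    exact hisoM u v
  have hinj : Function.Injective f := by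
    intro u v huv
    rw [hfz, hfz] at huv
    exact injective_toLin' d x (smul_right_injective _ hz0 huv)
  have hrF : (r : F) ≠ 0 := natCast_ne_zero_of_ne_char hrp
  have hss : f.IsSemisimple := isSemisimple_of_pow_eq d r hrF A 1 one_ne_zero hAr
  have hfr : f ^ r = 1 := by
    rw [hf, ← Matrix.toLin'_pow, hAr, one_smul, Matrix.toLin'_one]
    rfl
  have hkill : aeval f ((X - 1 : F[X]) * cyclotomic r F) = 0 := by
    rw [mul_comm, Polynomial.cyclotomic_prime_mul_X_sub_one, map_sub, map_pow, aeval_X, map_one,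
      hfr, sub_self]
  have hcop : IsCoprime (X - 1 : F[X]) (cyclotomic r F) := isCoprime_X_sub_one_cyclotomic hrF
  have hdeg : AllIrrDeg (cyclotomic r F) i := by
    rw [hi]
    exact allIrrDeg_cyclotomic hrp
  have hP0 : cyclotomic r F ≠ 0 := cyclotomic_ne_zero r F
  have hi0 : 0 < i := by
    rw [hi]
    exact orderOf_card_pos hrp
  have htop : finrank F (⊤ : Submodule F (Fin d ⊕ Fin d → F)) = 2 * d := finrank_top_symp d
  have hgood : Good (sympB (F := F) d) f ⊤ m := by
    rcases Nat.even_or_odd i with hie | hio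
    · have hci : c = i := by rw [hc, if_pos hie]
      have ht' : (r - 1) / i + 2 * (m / i) ≤ (2 * d) / i := by
        rcases ht with h | h
        · exact absurd hie (Nat.not_even_iff_odd.mpr h)
        · exact h
      have hfb : FactorBound (cyclotomic r F) ((r - 1) / i) := by
        rw [hi]
        exact factorBound_cyclotomic hrp
      refine exists_ti_even (sympB_self d) hiso hinj hss (squarefree_cyclotomic_of_ne hrp) hi0
        hdeg hfb hcop hkill m ⊤ (sympB_nd d) (inv_top f) ?_ ?_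
      · rw [htop]
        rw [hci] at hk
        exact hk
      · rw [htop]
        exact ht'
    · have hci : c = 2 * i := by rw [hc, if_neg (Nat.not_even_iff_odd.mpr hio)]
      refine exists_ti_odd (sympB_self d) hiso hinj hss hP0 hio hdeg hcop hkill m ⊤
        (sympB_nd d) (inv_top f) ?_ ?_
      · rw [htop]
        omega
      · rw [htop]
        rw [hci] at hk
        exact hk
  rw [hf, good_top_iff] at hgood
  obtain ⟨W, hWm, hWti, hWA⟩ := hgood
  refine ⟨W, hWm, hWti, ?_⟩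
  rintro _ ⟨w, hw, rfl⟩
  have h1 : Matrix.toLin' A w ∈ W := hWA ⟨w, hw, rfl⟩
  rw [hA, map_smul, LinearMap.smul_apply] at h1
  have h2 := W.smul_mem z⁻¹ h1
  rwa [smul_smul, inv_mul_cancel₀ hz0, one_smul] at h2

end odd

end Cfsg.Agent.Lib.Helper48.Ti
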