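import Mathlib
import Cfsg.Agent.Lib.Helper99.SympForm
import Cfsg.Agent.Lib.Helper59.TqDefs
import Cfsg.Agent.Lib.Helper8.TiD2

/-! # TQ-DEREVEN, leaf DE-BLOCK (helper48, for helper59's Tq hive): the irreducible quadratic block
`Q0 v = ω (v, y v)` on helper8's symplectic block. -/

set_option autoImplicit false

namespace Cfsg.Agent.Lib.Helper59.Tq

open Module Polynomial
open Cfsg.Agent.Lib.Helper99
open Cfsg.Agent.Lib.Helper2.BG (Inv)
open Cfsg.Agent.Lib.Helper48.Ti (d2_Irr)

section leaves1

variable {F : Type*} [Field F] [Fintype F]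

/-- DE-BLOCK -/
theorem dereven_block {p : ℕ} [Fact p.Prime] [CharP F p] (r : ℕ) [Fact r.Prime] (hr2 : r ≠ 2)
    (hrp : r ≠ p) (i' : ℕ) (hi : 2 * i' = orderOf ((Fintype.card F : ℕ) : ZMod r)) :
    ∃ (y : Module.End F (Fin i' ⊕ Fin i' → F)) (Q0 : QuadraticForm F (Fin i' ⊕ Fin i' → F)),
      Nd (QuadraticMap.polarBilin Q0) ⊤ ∧ (∀ v, Q0 (y v) = Q0 v) ∧ y ^ r = 1 ∧
      (∀ v, y v = v → v = 0) ∧ d2_Irr y := by
  classical
  have hr : r.Prime := Fact.out
  obtain ⟨y, hyiso, hyr, hyfpf, hyirr⟩ :=
    Cfsg.Agent.Lib.Helper48.Ti.d2_exists_block (F := F) (p := p) r hr2 hrp i' hi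
  have halt : (sympB (F := F) i').IsAlt := fun v => sympB_self i' v
  refine ⟨y, LinearMap.BilinMap.toQuadraticMap ((sympB (F := F) i').compl₂ y), ?_, ?_, hyr, hyfpf,
    hyirr⟩
  · intro a _ ha
    have hpol : ∀ v, sympB (F := F) i' a (y v) + sympB (F := F) i' v (y a) = 0 := by
      intro v
      have h1 := ha v Submodule.mem_top
      change QuadraticMap.polar (LinearMap.BilinMap.toQuadraticMap
        ((sympB (F := F) i').compl₂ y)) a v = 0 at h1
      rw [LinearMap.BilinMap.polar_toQuadraticMap] at h1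
      simpa [LinearMap.compl₂_apply] using h1
    have h2inj : Function.Injective (y ^ 2 - 1 : Module.End F (Fin i' ⊕ Fin i' → F)) := by
      rw [← LinearMap.ker_eq_bot, LinearMap.ker_eq_bot']
      intro v hv
      rw [LinearMap.sub_apply, Module.End.one_apply, sub_eq_zero] at hv
      have hnd2 : ¬ r ∣ 2 := by
        intro h
        have h1 := Nat.le_of_dvd (by norm_num) h
        have h2 := hr.two_le
        omega
      obtain ⟨m, hm⟩ := Cfsg.Agent.Lib.Helper48.Ti.d2_pow_pow_eq hr hyr hnd2
      apply hyfpf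
      rw [← hm]
      have : ∀ n : ℕ, ((y ^ 2) ^ n) v = v := by
        intro n
        induction n with
        | zero => simp
        | succ n ih => rw [pow_succ, Module.End.mul_apply, hv, ih]
      exact this m
    have h2surj := LinearMap.injective_iff_surjective.1 h2inj
    apply sympB_nd i' a Submodule.mem_top
    intro w _
    obtain ⟨v', hv'⟩ := h2surj w
    rw [← hv', LinearMap.sub_apply, Module.End.one_apply, map_sub, pow_two, Module.End.mul_apply]
    have h1 := hpol (y v')
    rw [hyiso, ← halt.neg a v'] at h1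
    rw [sub_eq_add_neg]
    exact h1
  · intro v
    rw [LinearMap.BilinMap.toQuadraticMap_apply, LinearMap.BilinMap.toQuadraticMap_apply,
      LinearMap.compl₂_apply, LinearMap.compl₂_apply, hyiso]

end leaves1

end Cfsg.Agent.Lib.Helper59.Tq
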