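import Mathlib
import Cfsg.Agent.Lib.Helper99.SympForm
import Cfsg.Agent.Lib.Helper59.TqDefs
import Cfsg.Agent.Lib.Helper48.TqDEREVENDefs
import Cfsg.Agent.Lib.Helper27.TqWITT

/-! # TQ-DEREVEN, leaf DE-UBC (helper48, for helper59's Tq hive): an invariant totally singular
subspace of the model is the product of its block part and its fixed part. -/

set_option autoImplicit false

namespace Cfsg.Agent.Lib.Helper59.Tq

open Module Polynomial
open Cfsg.Agent.Lib.Helper99

section deubc_aux

variable {F : Type*} [Field F] {W : Type*} [AddCommGroup W] [Module F W]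
  {C : Type*} [AddCommGroup C] [Module F C]

/-- powers of the model map -/
theorem deubc_g_pow {N : ℕ} (y : Module.End F W) (s : Fin N → ℕ) (n : ℕ)
    (m : (Fin N → W) × C) :
    ((dereven_g C y s) ^ n) m = (fun l => ((y ^ s l) ^ n) (m.1 l), m.2) := by
  induction n generalizing m with
  | zero =>
    simp
  | succ n ih =>
    rw [pow_succ, Module.End.mul_apply, dereven_g_apply, ih]
    apply Prod.ext
    · funext l
      show ((y ^ s l) ^ n) (dereven_gR y s m.1 l) = ((y ^ s l) ^ (n + 1)) (m.1 l)
      rw [dereven_gR_apply, pow_succ, Module.End.mul_apply]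
    · rfl

/-- the norm element of a fixed-point-free map of finite order vanishes -/
theorem deubc_geom_zero (z : Module.End F W) (r : ℕ) (hz : z ^ r = 1)
    (hfpf : ∀ v, z v = v → v = 0) (v : W) : (∑ n ∈ Finset.range r, z ^ n) v = 0 := by
  apply hfpf
  have h1 : (z - 1) * ∑ n ∈ Finset.range r, z ^ n = 0 := by
    rw [mul_geom_sum, hz, sub_self]
  have h2 := congrArg (fun T : Module.End F W => T v) h1
  simp only [Module.End.mul_apply, LinearMap.sub_apply, Module.End.one_apply,
    LinearMap.zero_apply] at h2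
  exact sub_eq_zero.1 h2

end deubc_aux

section leaves3

universe u

variable {F : Type u} [Field F] [Fintype F] {W : Type u} [AddCommGroup W] [Module F W]
  [FiniteDimensional F W] {C : Type u} [AddCommGroup C] [Module F C] [FiniteDimensional F C]

/-- DE-UBC: an invariant totally singular subspace of the model is the product of its block part
and its fixed part, which gives the dimension formula and the bounds. -/
theorem dereven_ub_split (Q0 : QuadraticForm F W) (Qc : QuadraticForm F C)
    (hc : Nd (QuadraticMap.polarBilin Qc) ⊤) (hCev : Even (finrank F C)) {N : ℕ}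
    (y : Module.End F W) (s : Fin N → ℕ) (r : ℕ) (hr : r.Prime) (hrF : (r : F) ≠ 0)
    (hyr : y ^ r = 1) (hfpf : ∀ l v, (y ^ s l) v = v → v = 0)
    (U : Submodule F ((Fin N → W) × C))
    (hUts : ∀ m ∈ U, dereven_Q Q0 Qc N m = 0)
    (hUinv : ∀ m ∈ U, dereven_g C y s m ∈ U) :
    ∃ (UR : Submodule F (Fin N → W)) (a : ℕ),
      finrank F U = a + finrank F UR ∧
      (∀ w ∈ UR, dereven_gR y s w ∈ UR) ∧
      (∀ w ∈ UR, ∀ w' ∈ UR, ∑ l, QuadraticMap.polar Q0 (w l) (w' l) = 0) ∧
      2 * a ≤ finrank F C ∧ (¬ PlusOn Qc ⊤ → 2 * a + 2 ≤ finrank F C) := by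
  classical
  -- invariance under powers
  have hpow : ∀ (n : ℕ) (m : (Fin N → W) × C), m ∈ U → ((dereven_g C y s) ^ n) m ∈ U := by
    intro n
    induction n with
    | zero =>
      intro m hm
      simpa using hm
    | succ n ih =>
      intro m hm
      rw [pow_succ, Module.End.mul_apply]
      exact ih _ (hUinv m hm)
  -- the second component splits off
  have hsnd : ∀ m : (Fin N → W) × C, m ∈ U → ((0 : Fin N → W), m.2) ∈ U := by
    intro m hm
    have h1 : (∑ n ∈ Finset.range r, (dereven_g C y s) ^ n) m ∈ U := by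
      rw [LinearMap.sum_apply]
      exact U.sum_mem (fun n _ => hpow n m hm)
    have h2 : (∑ n ∈ Finset.range r, (dereven_g C y s) ^ n) m = ((0 : Fin N → W), (r : F) • m.2) := by
      rw [LinearMap.sum_apply]
      simp only [deubc_g_pow]
      apply Prod.ext
      · rw [Prod.fst_sum]
        funext l
        rw [Finset.sum_apply]
        have h3 := deubc_geom_zero (y ^ s l) r
          (by rw [← pow_mul, mul_comm, pow_mul, hyr, one_pow]) (hfpf l) (m.1 l)
        rw [LinearMap.sum_apply] at h3
        exact h3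
      · rw [Prod.snd_sum]
        simp only [Finset.sum_const, Finset.card_range]
        rw [Nat.cast_smul_eq_nsmul]
    rw [h2] at h1
    have h4 := U.smul_mem ((r : F)⁻¹) h1
    rw [Prod.smul_mk, smul_zero, smul_smul, inv_mul_cancel₀ hrF, one_smul] at h4
    exact h4
  have hfst : ∀ m : (Fin N → W) × C, m ∈ U → (m.1, (0 : C)) ∈ U := by
    intro m hm
    have h1 := U.sub_mem hm (hsnd m hm)
    have h2 : m - ((0 : Fin N → W), m.2) = (m.1, (0 : C)) := by
      apply Prod.ext
      · simp
      · simp
    rw [h2] at h1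
    exact h1
  -- the two parts
  set UR : Submodule F (Fin N → W) := U.comap (LinearMap.inl F (Fin N → W) C) with hURdef
  set UC : Submodule F C := U.comap (LinearMap.inr F (Fin N → W) C) with hUCdef
  have hURmem : ∀ w, w ∈ UR ↔ (w, (0 : C)) ∈ U := fun w => Iff.rfl
  have hUCmem : ∀ c, c ∈ UC ↔ ((0 : Fin N → W), c) ∈ U := fun c => Iff.rfl
  have hsup : U = UR.map (LinearMap.inl F (Fin N → W) C) ⊔ UC.map (LinearMap.inr F (Fin N → W) C) := by
    apply le_antisymm
    · intro m hm
      rw [Submodule.mem_sup]
      refine ⟨(m.1, 0), Submodule.mem_map.2 ⟨m.1, (hURmem _).2 (hfst m hm), rfl⟩,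
        (0, m.2), Submodule.mem_map.2 ⟨m.2, (hUCmem _).2 (hsnd m hm), rfl⟩, ?_⟩
      apply Prod.ext
      · simp
      · simp
    · exact sup_le (Submodule.map_comap_le _ _) (Submodule.map_comap_le _ _)
  have hdisj : UR.map (LinearMap.inl F (Fin N → W) C) ⊓ UC.map (LinearMap.inr F (Fin N → W) C) = ⊥ := by
    rw [eq_bot_iff]
    rintro m ⟨h1, h2⟩
    obtain ⟨w, _, rfl⟩ := Submodule.mem_map.1 h1
    obtain ⟨c, _, hc'⟩ := Submodule.mem_map.1 h2
    rw [Submodule.mem_bot]
    have h3 := congrArg Prod.fst hc'
    have h4 := congrArg Prod.snd hc'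
    simp only [LinearMap.inl_apply, LinearMap.inr_apply] at h3 h4
    apply Prod.ext
    · simpa using h3.symm
    · simp
  have hdim : finrank F U = finrank F UC + finrank F UR := by
    have h1 := Submodule.finrank_sup_add_finrank_inf_eq
      (UR.map (LinearMap.inl F (Fin N → W) C)) (UC.map (LinearMap.inr F (Fin N → W) C))
    rw [hdisj, finrank_bot, add_zero, ← hsup] at h1
    rw [h1, (Submodule.equivMapOfInjective _ LinearMap.inl_injective UR).finrank_eq.symm,
      (Submodule.equivMapOfInjective _ LinearMap.inr_injective UC).finrank_eq.symm]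
    exact add_comm _ _
  -- the fixed part is totally singular
  have hUCts : ∀ c ∈ UC, Qc c = 0 := by
    intro c hcm
    have h1 := hUts _ ((hUCmem c).1 hcm)
    rw [dereven_Q_apply] at h1
    simpa using h1
  refine ⟨UR, finrank F UC, hdim, ?_, ?_, ?_, ?_⟩
  · intro w hw
    rw [hURmem]
    have h1 := hUinv _ ((hURmem w).1 hw)
    rw [dereven_g_apply] at h1
    exact h1
  · intro w hw w' hw'
    have h1 : QuadraticMap.polar (dereven_Q Q0 Qc N) (w, (0 : C)) (w', (0 : C)) = 0 := by
      unfold QuadraticMap.polar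
      rw [hUts _ (U.add_mem ((hURmem w).1 hw) ((hURmem w').1 hw')), hUts _ ((hURmem w).1 hw),
        hUts _ ((hURmem w').1 hw')]
      simp
    rw [dereven_polar] at h1
    simpa using h1
  · have h1 := Cfsg.Agent.Lib.Helper79.TsSwap.ti_bound_refl (B := QuadraticMap.polarBilin Qc)
      (fun u v h => by
        show QuadraticMap.polar Qc v u = 0
        rw [QuadraticMap.polar_comm]
        exact h) hc (le_top : UC ≤ ⊤) (witt_ti_of_ts Qc hUCts)
    rw [finrank_top] at h1
    exact h1
  · intro hnp
    have hev' : Even (finrank F (⊤ : Submodule F C)) := by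
      rw [finrank_top]
      exact hCev
    have h1 := ts_bound_of_not_plus Qc hc hev' (le_top : UC ≤ ⊤) hUCts hnp
    rw [finrank_top] at h1
    exact h1

end leaves3

end Cfsg.Agent.Lib.Helper59.Tq
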