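import Mathlib
import Cfsg.Agent.Lib.Helper99.SympForm
import Cfsg.Agent.Lib.Helper59.TqDefs
import Cfsg.Agent.Lib.Helper48.TqDEREVENDefs
import Cfsg.Agent.Lib.Helper8.TiD2
import Cfsg.Agent.Lib.Helper27.TqWITT

/-! # TQ-DEREVEN, leaf DE-UBR (helper48, for helper59's Tq hive): invariant totally isotropic
subspaces of the block part of the model. -/

set_option autoImplicit false

namespace Cfsg.Agent.Lib.Helper59.Tq

open Module Polynomial
open Cfsg.Agent.Lib.Helper99
open Cfsg.Agent.Lib.Helper2.BG (Inv)
open Cfsg.Agent.Lib.Helper48.Ti (d2_Irr)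

section deubr_aux

variable {F : Type*} [Field F] {W : Type*} [AddCommGroup W] [Module F W]

/-- polynomials in the block map act coordinatewise -/
theorem deubr_aeval_apply {N : ℕ} (y : Module.End F W) (s : Fin N → ℕ) (P : F[X])
    (w : Fin N → W) (l : Fin N) :
    aeval (dereven_gR y s) P w l = aeval (y ^ s l) P (w l) :=
  Cfsg.Agent.Lib.Helper48.Ti.d2_aeval_intertwine
    (LinearMap.proj (R := F) (φ := fun _ : Fin N => W) l) (dereven_gR y s) (y ^ s l)
    (fun _ => rfl) P w

/-- the block map on a vector supported on one coordinate -/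
theorem deubr_gR_single {N : ℕ} (y : Module.End F W) (s : Fin N → ℕ) (l : Fin N) (x : W) :
    dereven_gR y s (Pi.single l x) = Pi.single l ((y ^ s l) x) := by
  funext l'
  rw [dereven_gR_apply]
  by_cases h : l' = l
  · subst h
    rw [Pi.single_eq_same, Pi.single_eq_same]
  · rw [Pi.single_eq_of_ne h, Pi.single_eq_of_ne h, map_zero]

/-- the pi form is nondegenerate -/
theorem deubr_nd_pi (Q0 : QuadraticForm F W) (h0 : Nd (QuadraticMap.polarBilin Q0) ⊤) (n : ℕ) :
    Nd (QuadraticMap.polarBilin (QuadraticMap.pi fun _ : Fin n => Q0)) ⊤ := by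
  classical
  intro v _ hv
  funext b
  apply h0 (v b) Submodule.mem_top
  intro x _
  have h1 := hv (Pi.single b x) Submodule.mem_top
  change QuadraticMap.polar (QuadraticMap.pi fun _ : Fin n => Q0) v (Pi.single b x) = 0 at h1
  rw [QuadraticMap.Ring.polar_pi, Finset.sum_eq_single b] at h1
  · rw [Pi.single_eq_same] at h1
    exact h1
  · intro b' _ hb'
    rw [Pi.single_eq_of_ne hb', QuadraticMap.polar_zero_right]
  · intro h
    exact absurd (Finset.mem_univ b) h

end deubr_aux

section leaves3

universe u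

variable {F : Type u} [Field F] [Fintype F] {W : Type u} [AddCommGroup W] [Module F W]
  [FiniteDimensional F W] {C : Type u} [AddCommGroup C] [Module F C] [FiniteDimensional F C]

/-- DE-UBR -/
theorem dereven_ub_R [Nontrivial W] {p : ℕ} [Fact p.Prime] [CharP F p] (r : ℕ) [Fact r.Prime]
    (hrp : r ≠ p) (Q0 : QuadraticForm F W) (h0 : Nd (QuadraticMap.polarBilin Q0) ⊤)
    (y : Module.End F W) (hyQ : ∀ v, Q0 (y v) = Q0 v) (hyr : y ^ r = 1)
    (hyfpf : ∀ v, y v = v → v = 0) (hyirr : d2_Irr y)
    (hWdim : finrank F W = orderOf ((Fintype.card F : ℕ) : ZMod r))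
    (u N : ℕ) (hu : 0 < u) (huN : u ≤ N) (σ : Fin u → ℕ) (hσ : ∀ j, 1 ≤ σ j ∧ σ j < r)
    (hσinj : ∀ j j', j ≠ j' → Function.Injective (aeval (y ^ σ j) (minpoly F (y ^ σ j'))))
    (U : Submodule F (Fin N → W))
    (hUinv : ∀ w ∈ U, dereven_gR y (fun l => σ (dereven_tau u N hu l)) w ∈ U)
    (hUti : ∀ w ∈ U, ∀ w' ∈ U, ∑ l, QuadraticMap.polar Q0 (w l) (w' l) = 0) :
    ∃ b, finrank F U = b * finrank F W ∧ 2 * b + u ≤ N + 1 := by
  classical
  have hr : r.Prime := Fact.out
  obtain ⟨s, hsdef⟩ : ∃ s : Fin N → ℕ, s = fun l => σ (dereven_tau u N hu l) := ⟨_, rfl⟩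
  rw [← hsdef] at hUinv
  have hsl : ∀ l, s l = σ (dereven_tau u N hu l) := fun l => by rw [hsdef]
  have hsnd : ∀ l, ¬ r ∣ s l := by
    intro l h
    rw [hsl] at h
    have h1 := Nat.le_of_dvd (by have := (hσ (dereven_tau u N hu l)).1; omega) h
    have := (hσ (dereven_tau u N hu l)).2
    omega
  have hfpf : ∀ l v, (y ^ s l) v = v → v = 0 := by
    intro l v hv
    obtain ⟨m', hm'⟩ := Cfsg.Agent.Lib.Helper48.Ti.d2_pow_pow_eq hr hyr (hsnd l)
    apply hyfpf
    rw [← hm']
    have : ∀ n : ℕ, ((y ^ s l) ^ n) v = v := by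
      intro n
      induction n with
      | zero => simp
      | succ n ih => rw [pow_succ, Module.End.mul_apply, hv, ih]
    exact this m'
  have hUI : Inv (dereven_gR y s) U := hUinv
  -- (B) the coordinates of multiplicity one vanish
  have hzero : ∀ w ∈ U, ∀ l : Fin N, l.val + 1 < u → w l = 0 := by
    intro w hw l hl
    have hτl : dereven_tau u N hu l = ⟨l.val + 1, hl⟩ := by
      unfold dereven_tau
      rw [dif_pos hl]
    set j0 : Fin u := ⟨l.val + 1, hl⟩ with hj0
    set h : F[X] := ∏ j ∈ Finset.univ.erase j0, minpoly F (y ^ σ j) with hh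
    have hv : aeval (dereven_gR y s) h w ∈ U := hUI.aeval h w hw
    -- the other coordinates vanish
    have hother : ∀ l' : Fin N, l' ≠ l → aeval (dereven_gR y s) h w l' = 0 := by
      intro l' hl'
      rw [deubr_aeval_apply]
      have hne : dereven_tau u N hu l' ≠ j0 := by
        unfold dereven_tau
        by_cases h1 : l'.val + 1 < u
        · rw [dif_pos h1, hj0]
          intro h2
          apply hl'
          apply Fin.ext
          have := congrArg Fin.val h2
          simp only at this
          omega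
        · rw [dif_neg h1, hj0]
          intro h2
          have := congrArg Fin.val h2
          simp only at this
          omega
      have hdvd : minpoly F (y ^ s l') ∣ h := by
        rw [hh, hsl]
        exact Finset.dvd_prod_of_mem _ (Finset.mem_erase.2 ⟨hne, Finset.mem_univ _⟩)
      obtain ⟨q, hq⟩ := hdvd
      rw [hq, mul_comm, map_mul, Module.End.mul_apply, minpoly.aeval, LinearMap.zero_apply,
        map_zero]
    -- injectivity on the coordinate `l`
    have hinj : Function.Injective (aeval (y ^ s l) h) := by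
      rw [hh, hsl, hτl]
      apply Cfsg.Agent.Lib.Helper48.Ti.d2_injective_prod
      intro j hj
      exact hσinj j0 j (Finset.ne_of_mem_erase hj).symm
    -- the subspace of vectors supported on the coordinate `l`
    set S : Submodule F W := U.comap (LinearMap.single F (fun _ : Fin N => W) l) with hS
    have hSmem : ∀ x, x ∈ S ↔ Pi.single l x ∈ U := fun x => Iff.rfl
    have hSinv : Inv (y ^ s l) S := by
      intro x hx
      rw [hSmem, ← deubr_gR_single]
      exact hUinv _ ((hSmem x).1 hx)
    have hSbot : S = ⊥ := by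
      rcases hyirr S (Cfsg.Agent.Lib.Helper48.Ti.d2_inv_of_pow hr hyr (hsnd l) hSinv) with h1 | h1
      · exact h1
      · exfalso
        obtain ⟨x, hx⟩ := exists_ne (0 : W)
        apply hx
        apply h0 x Submodule.mem_top
        intro x' _
        have hxS : Pi.single l x ∈ U := (hSmem x).1 (by rw [h1]; exact Submodule.mem_top)
        have hx'S : Pi.single l x' ∈ U := (hSmem x').1 (by rw [h1]; exact Submodule.mem_top)
        have h2 := hUti _ hxS _ hx'S
        rw [Finset.sum_eq_single l] at h2
        · rw [Pi.single_eq_same, Pi.single_eq_same] at h2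
          exact h2
        · intro l' _ hl'
          rw [Pi.single_eq_of_ne hl', QuadraticMap.polar_zero_left]
        · intro h3
          exact absurd (Finset.mem_univ l) h3
    have hsingle : aeval (dereven_gR y s) h w = Pi.single l (aeval (y ^ s l) h (w l)) := by
      funext l'
      by_cases h1 : l' = l
      · subst h1
        rw [Pi.single_eq_same, deubr_aeval_apply]
      · rw [Pi.single_eq_of_ne h1, hother l' h1]
    rw [hsingle] at hv
    have h4 : aeval (y ^ s l) h (w l) ∈ S := (hSmem _).2 hv
    rw [hSbot, Submodule.mem_bot] at h4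
    apply hinj
    rw [h4, map_zero]
  -- (D) divisibility
  have hgRpow : ∀ (n : ℕ) (w : Fin N → W) (l : Fin N),
      ((dereven_gR y s) ^ n) w l = ((y ^ s l) ^ n) (w l) := by
    intro n
    induction n with
    | zero => intro w l; simp
    | succ n ih =>
      intro w l
      rw [pow_succ, Module.End.mul_apply, ih, dereven_gR_apply, pow_succ, Module.End.mul_apply]
  have hgRr : (dereven_gR y s) ^ r = 1 := by
    apply LinearMap.ext
    intro w
    funext l
    rw [hgRpow, ← pow_mul, mul_comm, pow_mul, hyr, one_pow]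
    rfl
  have hUfpf : U ⊓ LinearMap.ker (dereven_gR y s - 1) = ⊥ := by
    rw [eq_bot_iff]
    rintro w ⟨_, hw2⟩
    rw [Submodule.mem_bot]
    have hw2' := LinearMap.mem_ker.1 hw2
    rw [LinearMap.sub_apply, Module.End.one_apply, sub_eq_zero] at hw2'
    funext l
    apply hfpf l
    have := congrFun hw2' l
    rw [dereven_gR_apply] at this
    exact this
  have hdvd := Cfsg.Agent.Lib.Helper8.SpBlk.ord_dvd_finrank (p := p) hrp hgRr hUI hUfpf
  rw [← hWdim] at hdvd
  obtain ⟨b, hb⟩ := hdvd
  refine ⟨b, by rw [hb, mul_comm], ?_⟩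
  -- (C) the bound
  obtain ⟨n, rfl⟩ : ∃ n, N = (u - 1) + n := ⟨N - (u - 1), by omega⟩
  set ρ : (Fin (u - 1 + n) → W) →ₗ[F] (Fin n → W) :=
    LinearMap.funLeft F W (Fin.natAdd (u - 1)) with hρ
  have hρapply : ∀ (w : Fin (u - 1 + n) → W) (k : Fin n), ρ w k = w (Fin.natAdd (u - 1) k) :=
    fun w k => rfl
  have hcast : ∀ w ∈ U, ∀ a : Fin (u - 1), w (Fin.castAdd n a) = 0 := by
    intro w hw a
    apply hzero w hw
    rw [Fin.val_castAdd]
    have := a.isLt
    omega
  set ρU : U →ₗ[F] (Fin n → W) := ρ.domRestrict U with hρU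
  have hρUinj : Function.Injective ρU := by
    rw [← LinearMap.ker_eq_bot, LinearMap.ker_eq_bot']
    intro w hw
    apply Subtype.ext
    funext l
    induction l using Fin.addCases with
    | left a => exact hcast w.1 w.2 a
    | right k =>
      have := congrFun hw k
      exact this
  have hdimU : finrank F (LinearMap.range ρU) = finrank F U :=
    LinearMap.finrank_range_of_inj hρUinj
  have hti : Cfsg.Agent.Lib.Helper48.Ti.TI
      (QuadraticMap.polarBilin (QuadraticMap.pi fun _ : Fin n => Q0)) (LinearMap.range ρU) := by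
    rintro _ ⟨w, rfl⟩ _ ⟨w', rfl⟩
    change QuadraticMap.polar (QuadraticMap.pi fun _ : Fin n => Q0) (ρ w.1) (ρ w'.1) = 0
    rw [QuadraticMap.Ring.polar_pi]
    have h1 := hUti w.1 w.2 w'.1 w'.2
    rw [Fin.sum_univ_add] at h1
    have h2 : ∑ a : Fin (u - 1), QuadraticMap.polar Q0 (w.1 (Fin.castAdd n a))
        (w'.1 (Fin.castAdd n a)) = 0 := by
      apply Finset.sum_eq_zero
      intro a _
      rw [hcast w.1 w.2 a, QuadraticMap.polar_zero_left]
    rw [h2, zero_add] at h1
    exact h1
  have hbound := Cfsg.Agent.Lib.Helper79.TsSwap.ti_bound_refl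
    (B := QuadraticMap.polarBilin (QuadraticMap.pi fun _ : Fin n => Q0))
    (fun a b h => by
      show QuadraticMap.polar (QuadraticMap.pi fun _ : Fin n => Q0) b a = 0
      rw [QuadraticMap.polar_comm]
      exact h) (deubr_nd_pi Q0 h0 n) (le_top : LinearMap.range ρU ≤ ⊤) hti
  rw [hdimU, finrank_top, Module.finrank_pi_fintype, Finset.sum_const, Finset.card_univ,
    Fintype.card_fin, smul_eq_mul, hb] at hbound
  have hipos : 0 < finrank F W := Module.finrank_pos
  have h5 : finrank F W * (2 * b) ≤ finrank F W * n := by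
    calc finrank F W * (2 * b) = 2 * (finrank F W * b) := by ring
      _ ≤ n * finrank F W := hbound
      _ = finrank F W * n := by ring
  have h6 := Nat.le_of_mul_le_mul_left h5 hipos
  omega

end leaves3

end Cfsg.Agent.Lib.Helper59.Tq
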