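import Mathlib
import Cfsg.Prelude.Def_ClassicalGeometry
import Cfsg.Prelude.Def_GeometricClasses
import Cfsg.Agent.Lib.Helper99.SympForm
import Cfsg.Agent.Lib.Helper59.TqDefs
import Cfsg.Agent.Lib.Helper48.TqDEREVENDefs
import Cfsg.Agent.Lib.Helper8.TiD2b
import Cfsg.Agent.Lib.Helper27.TqWITT
import Cfsg.Agent.Lib.Helper64.TqTRF
import Cfsg.Agent.Lib.Helper59.TqOMEGA
import Cfsg.Agent.Lib.Helper48.TiCYC
import Cfsg.Agent.Lib.Helper97.TqTYPEEVEN
import Cfsg.Agent.Lib.Helper43.TqTRANS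
import Cfsg.Agent.Lib.Helper48.TqDEBLOCK
import Cfsg.Agent.Lib.Helper99.TqDEFORM
import Cfsg.Agent.Lib.Helper38.TqDEMODA
import Cfsg.Agent.Lib.Helper53.TqDEMODB
import Cfsg.Agent.Lib.Helper48.TqDEUBR
import Cfsg.Agent.Lib.Helper48.TqDEUBC

/-! # TQ-DEREVEN (helper48, for helper59's Tq hive S5973 + S5987): the assembly

The element with `N` irreducible blocks of dimension `i` (`i` even), as many pairwise
non-isomorphic as possible, and the converse bound for its invariant totally singular subspaces.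
Leaves: DE-BLOCK, DE-UBR, DE-UBC (helper48), DE-FORM (helper99), DE-MODA (helper38), DE-MODB
(helper53); chunks TQ-TYPEEVEN (helper97), TQ-TRANS (helper43), TQ-TRF (helper64), TQ-OMEGA
(helper59/helper79), TQ-WITT (helper27). -/

set_option autoImplicit false

namespace Cfsg.Agent.Lib.Helper59.Tq

open Module Polynomial
open Cfsg.Agent.Lib.Helper99
open Cfsg.Agent.Lib.Helper2.BG (Inv)
open Cfsg.Agent.Lib.Helper48.Ti (d2_Irr)

/-! ## the assembly -/

section assembly

variable {ι : Type} [Fintype ι] [DecidableEq ι] {F : Type*} [Field F] [Fintype F]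

omit [Fintype F] in
/-- `IsPlus` in terms of `PlusOn` -/
theorem dereven_isPlus_iff (QF : QuadraticForm F (ι → F)) : IsPlus (⇑QF) ↔ PlusOn QF ⊤ := by
  constructor
  · rintro ⟨U, hU, hd⟩
    refine ⟨U, le_top, hU, ?_⟩
    rw [hd, finrank_top, Module.finrank_fintype_fun_eq_card]
  · rintro ⟨U, -, hU, hd⟩
    refine ⟨U, hU, ?_⟩
    rw [hd, finrank_top, Module.finrank_fintype_fun_eq_card]

omit [Fintype F] in
/-- a linear map of finite order as a linear equivalence -/
noncomputable def dereven_equiv {V : Type*} [AddCommGroup V] [Module F V] (g : Module.End F V)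
    (r : ℕ) (hr : 0 < r) (hg : g ^ r = 1) : V ≃ₗ[F] V :=
  LinearEquiv.ofLinearMap g (g ^ (r - 1))
    (by
      rw [← Module.End.mul_eq_comp, ← pow_succ', Nat.sub_add_cancel hr, hg]
      rfl)
    (by
      rw [← Module.End.mul_eq_comp, ← pow_succ, Nat.sub_add_cancel hr, hg]
      rfl)

omit [Fintype F] in
/-- a power prime to the order generates -/
theorem dereven_pow_pow_eq {W : Type*} [AddCommGroup W] [Module F W] {y : Module.End F W} {r : ℕ}
    (hr : r.Prime) (hy : y ^ r = 1) {s : ℕ} (hs : ¬ r ∣ s) : ∃ m : ℕ, (y ^ s) ^ m = y := by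
  have hcop : Nat.Coprime s r := (Nat.Prime.coprime_iff_not_dvd hr).2 hs |>.symm
  obtain ⟨m, _, hm⟩ := Nat.exists_mul_mod_eq_one_of_coprime hcop hr.one_lt
  refine ⟨m, ?_⟩
  rw [← pow_mul]
  have h2 := Nat.div_add_mod (s * m) r
  rw [hm] at h2
  rw [← h2, pow_add, pow_mul, hy, one_pow, one_mul, pow_one]

/-- TQ-DEREVEN (`⟹`, `i` even): `N` blocks, as many pairwise non-isomorphic as possible -/
theorem der_even {p : ℕ} [Fact p.Prime] [CharP F p] (Q : (ι → F) → F) (d e : ℕ) (hS : Std Q d)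
    (he : TypeE Q e) (r : ℕ) [Fact r.Prime] (hr2 : r ≠ 2) (hrp : r ≠ p) (i : ℕ)
    (hi : i = orderOf ((Fintype.card F : ℕ) : ZMod r)) (hie : Even i) (hd : 3 ≤ d)
    (N : ℕ) (hN1 : 1 ≤ N) (hN : i * N ≤ 2 * d) (hNe : i * N = 2 * d → (N + e) % 2 = 0) :
    ∃ x : GL ι F, x ∈ Cfsg.Geo.omegaGL Q ∧ x ^ r = 1 ∧ x ≠ 1 ∧
      ∀ m, FixTS Q m x → ∃ a b, a + b * i = m ∧ (b = 0 ∨ 2 * b + (r - 1) / i ≤ N + 1) ∧
        2 * a + 2 * ((N + e) % 2) + i * N ≤ 2 * d := by
  classical
  have hr : r.Prime := Fact.out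
  obtain ⟨QF, hQF, hQFnd⟩ := hS.exists_form
  subst hQF
  have hie' := hie
  obtain ⟨i', hi'⟩ := hie
  have hi2 : 2 * i' = orderOf ((Fintype.card F : ℕ) : ZMod r) := by
    rw [← hi]
    omega
  have hipos : 0 < i := by
    rw [hi]
    exact Cfsg.Agent.Lib.Helper48.Ti.orderOf_card_pos (F := F) hrp
  have hrF : (r : F) ≠ 0 := Cfsg.Agent.Lib.Helper48.Ti.natCast_ne_zero_of_ne_char hrp
  obtain ⟨y, Q0, h0nd, hyQ, hyr, hyfpf, hyirr⟩ := dereven_block (F := F) (p := p) r hr2 hrp i' hi2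
  have hWdim : finrank F (Fin i' ⊕ Fin i' → F) = i := by
    rw [Module.finrank_fintype_fun_eq_card, Fintype.card_sum, Fintype.card_fin]
    omega
  have hnt : Nontrivial (Fin i' ⊕ Fin i' → F) :=
    Module.nontrivial_of_finrank_pos (R := F) (by rw [hWdim]; exact hipos)
  have hy1 : y ≠ 1 := by
    intro h
    obtain ⟨v, hv⟩ := exists_ne (0 : Fin i' ⊕ Fin i' → F)
    exact hv (hyfpf v (by rw [h]; rfl))
  -- the number of types
  have hidvd : i ∣ r - 1 := by
    rw [hi]
    apply orderOf_dvd_of_pow_eq_one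
    apply ZMod.pow_card_sub_one_eq_one
    intro h0
    have h1 := Cfsg.Agent.Lib.Helper48.Ti.orderOf_card_pos (F := F) (p := p) hrp
    rw [h0] at h1
    have h2 : orderOf (0 : ZMod r) = 0 := by
      rw [orderOf_eq_zero_iff']
      intro n hn
      rw [zero_pow (by omega)]
      exact zero_ne_one
    omega
  have hr1 : 1 ≤ r - 1 := by
    have := hr.two_le
    omega
  have ht1 : 1 ≤ (r - 1) / i := by
    rw [Nat.one_le_div_iff hipos]
    exact Nat.le_of_dvd (by omega) hidvd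
  obtain ⟨u, hudef⟩ : ∃ u, u = min ((r - 1) / i) N := ⟨_, rfl⟩
  have hu : 0 < u := by
    rw [hudef]
    exact lt_min (by omega) (by omega)
  have huN : u ≤ N := by
    rw [hudef]
    exact min_le_right _ _
  have hut : u ≤ (r - 1) / i := by
    rw [hudef]
    exact min_le_left _ _
  have hle : finrank F (Fin i' ⊕ Fin i' → F) * u ≤ r - 1 := by
    rw [hWdim]
    calc i * u ≤ i * ((r - 1) / i) := Nat.mul_le_mul_left _ hut
      _ ≤ r - 1 := Nat.mul_div_le _ _
  obtain ⟨σ, hσ, hσinj⟩ := Cfsg.Agent.Lib.Helper48.Ti.d2_exists_exponents hyirr hr hyr hy1 u hle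
  obtain ⟨s, hsdef⟩ : ∃ s : Fin N → ℕ, s = fun l => σ (dereven_tau u N hu l) := ⟨_, rfl⟩
  have hsl : ∀ l, s l = σ (dereven_tau u N hu l) := fun l => by rw [hsdef]
  have hsnd : ∀ l, ¬ r ∣ s l := by
    intro l h
    rw [hsl] at h
    have h1 := Nat.le_of_dvd (by have := (hσ (dereven_tau u N hu l)).1; omega) h
    have := (hσ (dereven_tau u N hu l)).2
    omega
  have hfpf : ∀ l v, (y ^ s l) v = v → v = 0 := by
    intro l v hv
    have hinv : Inv (y ^ s l) (LinearMap.ker (y ^ s l - 1)) := by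
      intro w hw
      rw [LinearMap.mem_ker, LinearMap.sub_apply, Module.End.one_apply, sub_eq_zero] at hw ⊢
      rw [hw, hw]
    rcases hyirr _ (Cfsg.Agent.Lib.Helper48.Ti.d2_inv_of_pow hr hyr (hsnd l) hinv) with h | h
    · have hv' : v ∈ LinearMap.ker (y ^ s l - 1) := by
        rw [LinearMap.mem_ker, LinearMap.sub_apply, Module.End.one_apply, hv, sub_self]
      rw [h] at hv'
      exact (Submodule.mem_bot F).1 hv'
    · exfalso
      have hall : ∀ w, (y ^ s l) w = w := by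
        intro w
        have hw : w ∈ LinearMap.ker (y ^ s l - 1) := by
          rw [h]
          exact Submodule.mem_top
        rw [LinearMap.mem_ker, LinearMap.sub_apply, Module.End.one_apply, sub_eq_zero] at hw
        exact hw
      obtain ⟨m', hm'⟩ := dereven_pow_pow_eq hr hyr (hsnd l)
      apply hy1
      rw [← hm']
      have : y ^ s l = 1 := LinearMap.ext hall
      rw [this, one_pow]
  -- the complement
  have hiN : i * N = 2 * (i' * N) := by
    rw [hi']
    ring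
  obtain ⟨k, hkdef⟩ : ∃ k, k = d - i' * N := ⟨_, rfl⟩
  have hk2 : 2 * k + i * N = 2 * d := by omega
  obtain ⟨Qc, hcnd, hcplus⟩ := dereven_exists_form (F := F) k ((N + e) % 2 = 0)
    (by
      intro hk0
      exact hNe (by omega))
  have hCdim : finrank F (Fin (2 * k) → F) = 2 * k := by
    rw [Module.finrank_fintype_fun_eq_card, Fintype.card_fin]
  -- the model
  have hQMnd := dereven_nd Q0 Qc N h0nd hcnd
  have hgQ := dereven_isom Q0 Qc y hyQ s
  have hgr : (dereven_g (Fin (2 * k) → F) y s) ^ r = 1 := by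
    apply LinearMap.ext
    intro m
    rw [dereven_g_pow, Module.End.one_apply]
    apply Prod.ext
    · funext l
      show ((y ^ s l) ^ r) (m.1 l) = m.1 l
      rw [← pow_mul, mul_comm, pow_mul, hyr, one_pow, Module.End.one_apply]
    · rfl
  have hdimM : finrank F ((Fin N → (Fin i' ⊕ Fin i' → F)) × (Fin (2 * k) → F)) = 2 * d := by
    rw [Module.finrank_prod, Module.finrank_pi_fintype, Finset.sum_const, Finset.card_univ,
      Fintype.card_fin, smul_eq_mul, hWdim, hCdim]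
    rw [mul_comm N i]
    omega
  have hker1 := dereven_ker_sub_one (C := Fin (2 * k) → F) y s hfpf
  have hkerc := dereven_ker_cyclotomic (C := Fin (2 * k) → F) y s r hr hrF hyr hfpf
  have hcyc : finrank F (LinearMap.ker (aeval (dereven_g (Fin (2 * k) → F) y s)
      (cyclotomic r F))) = i * N := by
    rw [hkerc, dereven_finrank_prod_top_bot, hWdim, mul_comm]
  have hev : Even (finrank F ((Fin N → (Fin i' ⊕ Fin i' → F)) × (Fin (2 * k) → F))) :=
    ⟨d, by rw [hdimM]; ring⟩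
  have htype := plusOn_fixed_even (dereven_Q Q0 Qc N) hQMnd hev
    (dereven_g (Fin (2 * k) → F) y s) hgQ r hr2 hrp hgr i hi hie' N hcyc
  rw [hker1, dereven_plusOn_fix, hcplus] at htype
  have hQFnd' : Nd (QuadraticMap.polarBilin QF) ⊤ := by
    intro v _ hv
    exact hQFnd.1 v (fun w => hv w Submodule.mem_top)
  have ht : PlusOn (dereven_Q Q0 Qc N) ⊤ ↔ PlusOn QF ⊤ := by
    rw [← dereven_isPlus_iff]
    rcases he with ⟨he0, hp⟩ | ⟨he1, hnp⟩
    · subst he0
      have h1 : (N + 0) % 2 = 0 ↔ Even N := by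
        rw [Nat.add_zero, Nat.even_iff]
      have h2 : PlusOn (dereven_Q Q0 Qc N) ⊤ := by
        by_cases hN2 : Even N
        · exact (htype.1 (h1.2 hN2)).2 hN2
        · by_contra hcon
          exact hN2 (h1.1 (htype.2 ⟨fun h => absurd h hcon, fun h => absurd h hN2⟩))
      exact ⟨fun _ => hp, fun _ => h2⟩
    · subst he1
      have h1 : (N + 1) % 2 = 0 ↔ ¬ Even N := by
        rw [Nat.even_iff]
        omega
      have h2 : ¬ PlusOn (dereven_Q Q0 Qc N) ⊤ := by
        intro hpl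
        by_cases hN2 : Even N
        · exact (h1.1 (htype.2 ⟨fun _ => hN2, fun _ => hpl⟩)) hN2
        · exact hN2 ((htype.1 (h1.2 hN2)).1 hpl)
      exact ⟨fun h => absurd h h2, fun h => absurd h hnp⟩
  obtain ⟨Θ, hΘ⟩ := exists_isometry_of_type (dereven_Q Q0 Qc N) QF hQMnd hQFnd'
    (by rw [hdimM, Module.finrank_fintype_fun_eq_card, hS.card]) hev ht
  obtain ⟨x, hx, hxΘ⟩ := exists_GL_of_model (⇑QF) (⇑(dereven_Q Q0 Qc N)) Θ hΘ
    (dereven_equiv (dereven_g (Fin (2 * k) → F) y s) r hr.pos hgr) (fun v => hgQ v)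
  have hxΘ' : ∀ v, Matrix.toLin' (x : Matrix ι ι F) (Θ v) =
      Θ (dereven_g (Fin (2 * k) → F) y s v) := hxΘ
  have hxpow : ∀ (n : ℕ) v, Matrix.toLin' ((x ^ n : GL ι F) : Matrix ι ι F) (Θ v) =
      Θ (((dereven_g (Fin (2 * k) → F) y s) ^ n) v) := by
    intro n
    induction n with
    | zero =>
      intro v
      rw [pow_zero, pow_zero, Units.val_one, Matrix.toLin'_one]
      rfl
    | succ n ih =>
      intro v
      rw [pow_succ, Units.val_mul, Matrix.toLin'_mul, LinearMap.comp_apply, hxΘ', ih, pow_succ,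
        Module.End.mul_apply]
  have hxr : x ^ r = 1 := by
    apply Units.ext
    apply Matrix.toLin'.injective
    apply LinearMap.ext
    intro w
    obtain ⟨v, rfl⟩ := Θ.surjective w
    rw [hxpow, hgr, Units.val_one, Matrix.toLin'_one]
    rfl
  have hx1 : x ≠ 1 := by
    intro h
    obtain ⟨w, hw⟩ := exists_ne (0 : Fin i' ⊕ Fin i' → F)
    have hl : (0 : ℕ) < N := by omega
    have h1 := hxΘ' (Pi.single (⟨0, hl⟩ : Fin N) w, 0)
    rw [h, Units.val_one, Matrix.toLin'_one, LinearMap.id_apply] at h1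
    have h2 := congrArg (fun m : (Fin N → (Fin i' ⊕ Fin i' → F)) × (Fin (2 * k) → F) =>
      m.1 ⟨0, hl⟩) (Θ.injective h1)
    simp only [dereven_g_apply, dereven_gR_apply, Pi.single_eq_same] at h2
    exact hw (hfpf _ w h2.symm)
  refine ⟨x, mem_omegaGL_of_odd (⇑QF) d hd hS x hx r (hr.odd_of_ne_two hr2) hxr, hxr, hx1, ?_⟩
  rintro m ⟨Wx, hWm, hWts, hWinv⟩
  obtain ⟨U, hUdef⟩ : ∃ U : Submodule F ((Fin N → (Fin i' ⊕ Fin i' → F)) × (Fin (2 * k) → F)),
      U = Wx.comap (Θ : ((Fin N → (Fin i' ⊕ Fin i' → F)) × (Fin (2 * k) → F)) →ₗ[F] (ι → F)) :=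
    ⟨_, rfl⟩
  have hUmem : ∀ v, v ∈ U ↔ Θ v ∈ Wx := by
    intro v
    rw [hUdef]
    rfl
  have hUdim : finrank F U = m := by
    have h1 : U = Wx.map (Θ.symm : (ι → F) →ₗ[F]
        ((Fin N → (Fin i' ⊕ Fin i' → F)) × (Fin (2 * k) → F))) := by
      rw [hUdef]
      exact (Submodule.map_equiv_eq_comap_symm Θ.symm Wx).symm
    rw [h1, LinearEquiv.finrank_map_eq, hWm]
  have hUts : ∀ v ∈ U, dereven_Q Q0 Qc N v = 0 := by
    intro v hv
    rw [← hΘ]
    exact hWts _ ((hUmem v).1 hv)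
  have hUinv : ∀ v ∈ U, dereven_g (Fin (2 * k) → F) y s v ∈ U := by
    intro v hv
    rw [hUmem, ← hxΘ']
    exact hWinv (Submodule.mem_map_of_mem ((hUmem v).1 hv))
  have hCev : Even (finrank F (Fin (2 * k) → F)) := ⟨k, by rw [hCdim]; ring⟩
  obtain ⟨UR, a, hsum, hURinv, hURti, ha1, ha2⟩ := dereven_ub_split Q0 Qc hcnd hCev y s r hr hrF
    hyr hfpf U hUts hUinv
  rw [hsdef] at hURinv
  obtain ⟨b, hb, hbu⟩ := dereven_ub_R (p := p) r hrp Q0 h0nd y hyQ hyr hyfpf hyirr
    (hWdim.trans hi) u N hu huN σ hσ hσinj UR hURinv hURti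
  refine ⟨a, b, ?_, ?_, ?_⟩
  · rw [← hUdim, hsum, hb, hWdim]
  · rcases le_total ((r - 1) / i) N with h | h
    · right
      rw [hudef, min_eq_left h] at hbu
      exact hbu
    · left
      rw [hudef, min_eq_right h] at hbu
      omega
  · rw [hCdim] at ha1 ha2
    by_cases hpl : (N + e) % 2 = 0
    · rw [hpl]
      omega
    · have h1 : (N + e) % 2 = 1 := by omega
      have h2 := ha2 (by rw [hcplus]; exact hpl)
      rw [h1]
      omega

end assembly

end Cfsg.Agent.Lib.Helper59.Tq
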