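import Cfsg.Agent.Lib.Helper48.TrTitsTab

/-! # Two-rank hive S1788, leaf TR-TITS: `tr_tits` (helper48) -/

set_option autoImplicit false

namespace Cfsg.Agent.Lib.Helper48.Tr

open Cfsg Cfsg.Lie Cfsg.Agent.Lib.Helper36
open scoped commutatorElement

/-- three commuting involutions of `X`, each a commutator of elements of `K`, whose seven non-trivial products are
not the identity: the derived group of `K` has 2-rank at least 3 -/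
theorem prank_nested_three {X : Type*} [Group X] (K : Subgroup X) (u y₁ y₂ y₃ : X) (hu : u ∈ K) (h₁ : y₁ ∈ K)
    (h₂ : y₂ ∈ K) (h₃ : y₃ ∈ K)
    (haa : ⁅u, y₁⁆ * ⁅u, y₁⁆ = 1) (hbb : ⁅u, y₂⁆ * ⁅u, y₂⁆ = 1) (hcc : ⁅u, y₃⁆ * ⁅u, y₃⁆ = 1)
    (hab : ⁅u, y₁⁆ * ⁅u, y₂⁆ = ⁅u, y₂⁆ * ⁅u, y₁⁆) (hac : ⁅u, y₁⁆ * ⁅u, y₃⁆ = ⁅u, y₃⁆ * ⁅u, y₁⁆)
    (hbc : ⁅u, y₂⁆ * ⁅u, y₃⁆ = ⁅u, y₃⁆ * ⁅u, y₂⁆)
    (n1 : ⁅u, y₁⁆ ≠ 1) (n2 : ⁅u, y₂⁆ ≠ 1) (n3 : ⁅u, y₃⁆ ≠ 1) (n4 : ⁅u, y₁⁆ * ⁅u, y₂⁆ ≠ 1)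
    (n5 : ⁅u, y₁⁆ * ⁅u, y₃⁆ ≠ 1) (n6 : ⁅u, y₂⁆ * ⁅u, y₃⁆ ≠ 1) (n7 : ⁅u, y₁⁆ * ⁅u, y₂⁆ * ⁅u, y₃⁆ ≠ 1) :
    PRankAtLeast 2 3 ↥(commutator ↥K) := by
  let a : ↥(commutator ↥K) := ⟨⁅(⟨u, hu⟩ : K), ⟨y₁, h₁⟩⁆,
    Subgroup.commutator_mem_commutator (Subgroup.mem_top _) (Subgroup.mem_top _)⟩
  let b : ↥(commutator ↥K) := ⟨⁅(⟨u, hu⟩ : K), ⟨y₂, h₂⟩⁆,
    Subgroup.commutator_mem_commutator (Subgroup.mem_top _) (Subgroup.mem_top _)⟩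
  let c : ↥(commutator ↥K) := ⟨⁅(⟨u, hu⟩ : K), ⟨y₃, h₃⟩⁆,
    Subgroup.commutator_mem_commutator (Subgroup.mem_top _) (Subgroup.mem_top _)⟩
  have va : ((a : ↥K) : X) = ⁅u, y₁⁆ := rfl
  have vb : ((b : ↥K) : X) = ⁅u, y₂⁆ := rfl
  have vc : ((c : ↥K) : X) = ⁅u, y₃⁆ := rfl
  have ext : ∀ x y : ↥(commutator ↥K), ((x : ↥K) : X) = ((y : ↥K) : X) → x = y :=
    fun x y h => Subtype.ext (Subtype.ext h)
  have ne1 : ∀ x : ↥(commutator ↥K), ((x : ↥K) : X) ≠ 1 → x ≠ 1 := by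
    intro x hx h
    apply hx
    rw [h]; rfl
  refine prank_of_three a b c (ext _ _ ?_) (ext _ _ ?_) (ext _ _ ?_) (ext _ _ ?_) (ext _ _ ?_) (ext _ _ ?_)
    (ne1 _ ?_) (ne1 _ ?_) (ne1 _ ?_) (ne1 _ ?_) (ne1 _ ?_) (ne1 _ ?_) (ne1 _ ?_)
  · exact haa
  · exact hbb
  · exact hcc
  · exact hab
  · exact hac
  · exact hbc
  · exact n1
  · exact n2
  · exact n3
  · exact n4
  · exact n5
  · exact n6
  · exact n7

theorem tits_mul_eq (g h : GL chevF4.Idx (ZMod 2)) (A B : List ℕ)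
    (hg : (g : Matrix chevF4.Idx chevF4.Idx (ZMod 2)) = bitMat A)
    (hh : (h : Matrix chevF4.Idx chevF4.Idx (ZMod 2)) = bitMat B) :
    ((g * h : GL chevF4.Idx (ZMod 2)) : Matrix chevF4.Idx chevF4.Idx (ZMod 2)) = bitMat (mulBits A B) := by
  rw [Units.val_mul, hg, hh, bitMat_mul]

theorem tits_eq_one (g : GL chevF4.Idx (ZMod 2)) (A : List ℕ)
    (hg : (g : Matrix chevF4.Idx chevF4.Idx (ZMod 2)) = bitMat A) (hA : A = idBits) : g = 1 := by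
  apply Units.ext
  rw [hg, hA, ← bitMat_one]; rfl

theorem tits_ne_one (g : GL chevF4.Idx (ZMod 2)) (A : List ℕ)
    (hg : (g : Matrix chevF4.Idx chevF4.Idx (ZMod 2)) = bitMat A) (hA : bitMat A ≠ bitMat idBits) : g ≠ 1 := by
  intro h
  apply hA
  rw [← hg, h, ← bitMat_one]; rfl

theorem tits_eq (g h : GL chevF4.Idx (ZMod 2)) (A B : List ℕ)
    (hg : (g : Matrix chevF4.Idx chevF4.Idx (ZMod 2)) = bitMat A)
    (hh : (h : Matrix chevF4.Idx chevF4.Idx (ZMod 2)) = bitMat B) (hAB : A = B) : g = h := by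
  apply Units.ext
  rw [hg, hh, hAB]

/-- **TR-TITS**: the Tits group `²F₄(2)'` has 2-rank at least 3. -/
theorem tr_tits : PRankAtLeast 2 3 Lie.TitsGroup := by
  have m1 : titsV * titsU * titsZ ∈ twistedF4 (ZMod 2) 1 :=
    Subgroup.mul_mem _ (Subgroup.mul_mem _ titsV_mem titsU_mem) titsZ_mem
  have m2 : titsW * titsU * titsW ∈ twistedF4 (ZMod 2) 1 :=
    Subgroup.mul_mem _ (Subgroup.mul_mem _ titsW_mem titsU_mem) titsW_mem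
  have m3 : titsZ * titsU * titsV ∈ twistedF4 (ZMod 2) 1 :=
    Subgroup.mul_mem _ (Subgroup.mul_mem _ titsZ_mem titsU_mem) titsV_mem
  refine prank_nested_three (twistedF4 (ZMod 2) 1) titsU _ _ _ titsU_mem m1 m2 m3 ?_ ?_ ?_ ?_ ?_ ?_ ?_ ?_ ?_ ?_ ?_ ?_ ?_
  · exact tits_eq_one _ _ (tits_mul_eq _ _ _ _ tits_c1_val tits_c1_val) tits_rel_11
  · exact tits_eq_one _ _ (tits_mul_eq _ _ _ _ tits_c2_val tits_c2_val) tits_rel_22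
  · exact tits_eq_one _ _ (tits_mul_eq _ _ _ _ tits_c3_val tits_c3_val) tits_rel_33
  · exact tits_eq _ _ _ _ (tits_mul_eq _ _ _ _ tits_c1_val tits_c2_val) (tits_mul_eq _ _ _ _ tits_c2_val tits_c1_val)
      tits_rel_12
  · exact tits_eq _ _ _ _ (tits_mul_eq _ _ _ _ tits_c1_val tits_c3_val) (tits_mul_eq _ _ _ _ tits_c3_val tits_c1_val)
      tits_rel_13
  · exact tits_eq _ _ _ _ (tits_mul_eq _ _ _ _ tits_c2_val tits_c3_val) (tits_mul_eq _ _ _ _ tits_c3_val tits_c2_val)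
      tits_rel_23
  · exact tits_ne_one _ _ tits_c1_val tits_ne_a
  · exact tits_ne_one _ _ tits_c2_val tits_ne_b
  · exact tits_ne_one _ _ tits_c3_val tits_ne_c
  · exact tits_ne_one _ _ (tits_mul_eq _ _ _ _ tits_c1_val tits_c2_val) tits_ne_ab
  · exact tits_ne_one _ _ (tits_mul_eq _ _ _ _ tits_c1_val tits_c3_val) tits_ne_ac
  · exact tits_ne_one _ _ (tits_mul_eq _ _ _ _ tits_c2_val tits_c3_val) tits_ne_bc
  · exact tits_ne_one _ _ (tits_mul_eq _ _ _ _ (tits_mul_eq _ _ _ _ tits_c1_val tits_c2_val) tits_c3_val) tits_ne_abc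

end Cfsg.Agent.Lib.Helper48.Tr
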