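import Cfsg.Agent.Lib.Helper36.F4Lit
import Cfsg.Agent.Lib.Helper48.TrDefs
import Cfsg.Prelude.Def_LieTwisted

/-! # Two-rank hive S1788, leaf TR-TITS: the Tits group has 2-rank at least 3 (helper48)

In `R = ²F₄(2)` let `u = x₃₃ x₂₄`, `v = x₂₇ x₂₅ x₂₈`, `w = x₂₈ x₃₀`, `z = x₂₇ x₂₅ x₃₀` (generators). Then
`[u, v u z]`, `[u, w u w]`, `[u, z u v]` are three pairwise commuting involutions of the derived group which generate
a group of order 8. Everything is checked on 52 × 52 bit matrices with the engine of `Helper36.F4Lit`. -/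

set_option autoImplicit false

namespace Cfsg.Agent.Lib.Helper48.Tr

open Cfsg Cfsg.Lie Cfsg.Agent.Lib.Helper36
open scoped commutatorElement

/-! ### bit tables -/

def titsL33 : List ℕ := [262145, 2, 4, 8, 16, 32, 64, 128, 256, 512, 1024, 2176, 4352, 8704, 17408, 32768, 65536, 131072, 262144, 524544, 1049088, 2098176, 4227072, 8454144, 16908288, 33554432, 67108864, 134217728, 268435456, 536870912, 1073741824, 2147483648, 4294967296, 8589934592, 17179869184, 34359738368, 68719476736, 137439215618, 277025390592, 554050781184, 1108101562368, 2216203124736, 4432406249472, 8864812498944, 17592186044416, 35201551958016, 70403103916032, 140806207832064, 299067162755072, 562949953421312, 1125899906842624, 2251799813685248]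
def titsL24 : List ℕ := [1, 2, 4, 134217736, 16, 48, 64, 128, 256, 512, 1536, 2048, 4096, 8192, 24576, 32768, 98304, 131072, 262144, 524288, 1048576, 3145728, 4194304, 12582912, 16777216, 33554432, 100663296, 134217728, 402653188, 536870912, 1610612736, 2147483648, 4294967296, 12884901888, 17179869184, 51539607552, 68719476736, 137438953472, 274877906944, 549755813888, 1649267441664, 2199023255552, 6597069766656, 8796093022208, 17592186044416, 35184372088832, 105553116266496, 140737488355328, 281474976710656, 562949953421312, 1125899906842624, 3377699720527872]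

theorem tits_x33 : chevF4.x (ZMod 2) 33 1 = bitMat titsL33 := by decide +kernel
theorem tits_x24 : chevF4.x (ZMod 2) 24 1 = bitMat titsL24 := by decide +kernel
theorem tits_x25_zero' : chevF4.x (ZMod 2) 25 0 = bitMat idBits := by decide +kernel
theorem tits_x27_zero' : chevF4.x (ZMod 2) 27 0 = bitMat idBits := by decide +kernel
theorem tits_x28_zero' : chevF4.x (ZMod 2) 28 0 = bitMat idBits := by decide +kernel
theorem tits_x30_zero' : chevF4.x (ZMod 2) 30 0 = bitMat idBits := by decide +kernel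
theorem tits_x25_zero : chevF4.x (ZMod 2) 25 0 = 1 := tits_x25_zero'.trans bitMat_one.symm
theorem tits_x27_zero : chevF4.x (ZMod 2) 27 0 = 1 := tits_x27_zero'.trans bitMat_one.symm
theorem tits_x28_zero : chevF4.x (ZMod 2) 28 0 = 1 := tits_x28_zero'.trans bitMat_one.symm
theorem tits_x30_zero : chevF4.x (ZMod 2) 30 0 = 1 := tits_x30_zero'.trans bitMat_one.symm

/-! ### the four generators as bit matrices -/

def titsLU : List ℕ := mulBits titsL33 titsL24
def titsLV : List ℕ := mulBits (f4Tab 27) (mulBits (f4Tab 25) (f4Tab 28))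
def titsLW : List ℕ := mulBits (f4Tab 28) (f4Tab 30)
def titsLZ : List ℕ := mulBits (f4Tab 27) (mulBits (f4Tab 25) (f4Tab 30))
/-- the inverses of `v` and `z` -/
def titsLVi : List ℕ := mulBits (f4Tab 28) (mulBits (f4Tab 25) (f4Tab 27))
def titsLZi : List ℕ := mulBits (f4Tab 30) (mulBits (f4Tab 25) (f4Tab 27))

theorem tits_mul_id (A : List ℕ) : bitMat A * bitMat idBits = bitMat A := by
  rw [← bitMat_one, mul_one]

theorem tits_id_mul (A : List ℕ) : bitMat idBits * bitMat A = bitMat A := by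
  rw [← bitMat_one, one_mul]

theorem tits_wordU : chevF4.wordMat (ZMod 2) (f4PairWord 1 f4p1 f4p4 1) = bitMat titsLU := by
  show ([chevF4.x (ZMod 2) 33 ((1 : ZMod 2) ^ 1), chevF4.x (ZMod 2) 24 1]).prod = _
  rw [pow_one, List.prod_cons, List.prod_cons, List.prod_nil, mul_one, tits_x33, tits_x24, bitMat_mul]
  rfl

theorem tits_wordV : chevF4.wordMat (ZMod 2) (b2ClassWord 1 f4a f4b f4ab f4aab 1 0) = bitMat titsLV := by
  show ([chevF4.x (ZMod 2) 27 ((1 : ZMod 2) ^ 1), chevF4.x (ZMod 2) 25 1,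
    chevF4.x (ZMod 2) 28 ((1 : ZMod 2) ^ (1 + 1) + 0), chevF4.x (ZMod 2) 30 ((0 : ZMod 2) ^ (2 * 1))]).prod = _
  have e1 : ((1 : ZMod 2) ^ (1 + 1) + 0) = 1 := by decide
  have e2 : ((0 : ZMod 2) ^ (2 * 1)) = 0 := by decide
  rw [pow_one, e1, e2, List.prod_cons, List.prod_cons, List.prod_cons, List.prod_cons, List.prod_nil, mul_one,
    f4x_27, f4x_25, f4x_28, tits_x30_zero, mul_one, bitMat_mul, bitMat_mul]
  rfl

theorem tits_wordW : chevF4.wordMat (ZMod 2) (b2ClassWord 1 f4a f4b f4ab f4aab 0 1) = bitMat titsLW := by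
  show ([chevF4.x (ZMod 2) 27 ((0 : ZMod 2) ^ 1), chevF4.x (ZMod 2) 25 0,
    chevF4.x (ZMod 2) 28 ((0 : ZMod 2) ^ (1 + 1) + 1), chevF4.x (ZMod 2) 30 ((1 : ZMod 2) ^ (2 * 1))]).prod = _
  have e1 : ((0 : ZMod 2) ^ (1 + 1) + 1) = 1 := by decide
  have e2 : ((1 : ZMod 2) ^ (2 * 1)) = 1 := by decide
  rw [pow_one, e1, e2, List.prod_cons, List.prod_cons, List.prod_cons, List.prod_cons, List.prod_nil, mul_one,
    tits_x27_zero, tits_x25_zero, f4x_28, f4x_30, one_mul, one_mul, bitMat_mul]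
  rfl

theorem tits_wordZ : chevF4.wordMat (ZMod 2) (b2ClassWord 1 f4a f4b f4ab f4aab 1 1) = bitMat titsLZ := by
  show ([chevF4.x (ZMod 2) 27 ((1 : ZMod 2) ^ 1), chevF4.x (ZMod 2) 25 1,
    chevF4.x (ZMod 2) 28 ((1 : ZMod 2) ^ (1 + 1) + 1), chevF4.x (ZMod 2) 30 ((1 : ZMod 2) ^ (2 * 1))]).prod = _
  have e1 : ((1 : ZMod 2) ^ (1 + 1) + 1) = 0 := by decide
  have e2 : ((1 : ZMod 2) ^ (2 * 1)) = 1 := by decide
  rw [pow_one, e1, e2, List.prod_cons, List.prod_cons, List.prod_cons, List.prod_cons, List.prod_nil, mul_one,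
    f4x_27, f4x_25, tits_x28_zero, f4x_30, one_mul, bitMat_mul, bitMat_mul]
  rfl

/-! ### the generators as units -/

theorem tits_unit_aux (M : Matrix chevF4.Idx chevF4.Idx (ZMod 2)) (A B : List ℕ) (hM : M = bitMat A)
    (h : mulBits A B = idBits) : M * bitMat B = 1 := by
  rw [hM, bitMat_mul, h, ← bitMat_one]

theorem tits_unit_aux' (M : Matrix chevF4.Idx chevF4.Idx (ZMod 2)) (A B : List ℕ) (hM : M = bitMat A)
    (h : mulBits B A = idBits) : bitMat B * M = 1 := by
  rw [hM, bitMat_mul, h, ← bitMat_one]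

theorem tits_UU : mulBits titsLU titsLU = idBits := by decide +kernel
theorem tits_VVi : mulBits titsLV titsLVi = idBits := by decide +kernel
theorem tits_ViV : mulBits titsLVi titsLV = idBits := by decide +kernel
theorem tits_WW : mulBits titsLW titsLW = idBits := by decide +kernel
theorem tits_ZZi : mulBits titsLZ titsLZi = idBits := by decide +kernel
theorem tits_ZiZ : mulBits titsLZi titsLZ = idBits := by decide +kernel

def titsU : GL chevF4.Idx (ZMod 2) :=
  ⟨chevF4.wordMat (ZMod 2) (f4PairWord 1 f4p1 f4p4 1), bitMat titsLU,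
    tits_unit_aux _ _ _ tits_wordU tits_UU, tits_unit_aux' _ _ _ tits_wordU tits_UU⟩

def titsV : GL chevF4.Idx (ZMod 2) :=
  ⟨chevF4.wordMat (ZMod 2) (b2ClassWord 1 f4a f4b f4ab f4aab 1 0), bitMat titsLVi,
    tits_unit_aux _ _ _ tits_wordV tits_VVi, tits_unit_aux' _ _ _ tits_wordV tits_ViV⟩

def titsW : GL chevF4.Idx (ZMod 2) :=
  ⟨chevF4.wordMat (ZMod 2) (b2ClassWord 1 f4a f4b f4ab f4aab 0 1), bitMat titsLW,
    tits_unit_aux _ _ _ tits_wordW tits_WW, tits_unit_aux' _ _ _ tits_wordW tits_WW⟩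

def titsZ : GL chevF4.Idx (ZMod 2) :=
  ⟨chevF4.wordMat (ZMod 2) (b2ClassWord 1 f4a f4b f4ab f4aab 1 1), bitMat titsLZi,
    tits_unit_aux _ _ _ tits_wordZ tits_ZZi, tits_unit_aux' _ _ _ tits_wordZ tits_ZiZ⟩

theorem titsU_mem : titsU ∈ twistedF4 (ZMod 2) 1 :=
  Subgroup.subset_closure ⟨_, Or.inl ⟨1, Or.inl rfl⟩, rfl⟩

theorem titsV_mem : titsV ∈ twistedF4 (ZMod 2) 1 :=
  Subgroup.subset_closure ⟨_, Or.inr ⟨1, 0, Or.inl rfl⟩, rfl⟩

theorem titsW_mem : titsW ∈ twistedF4 (ZMod 2) 1 :=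
  Subgroup.subset_closure ⟨_, Or.inr ⟨0, 1, Or.inl rfl⟩, rfl⟩

theorem titsZ_mem : titsZ ∈ twistedF4 (ZMod 2) 1 :=
  Subgroup.subset_closure ⟨_, Or.inr ⟨1, 1, Or.inl rfl⟩, rfl⟩

theorem titsU_val : (titsU : Matrix chevF4.Idx chevF4.Idx (ZMod 2)) = bitMat titsLU := tits_wordU
theorem titsV_val : (titsV : Matrix chevF4.Idx chevF4.Idx (ZMod 2)) = bitMat titsLV := tits_wordV
theorem titsW_val : (titsW : Matrix chevF4.Idx chevF4.Idx (ZMod 2)) = bitMat titsLW := tits_wordW
theorem titsZ_val : (titsZ : Matrix chevF4.Idx chevF4.Idx (ZMod 2)) = bitMat titsLZ := tits_wordZ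
theorem titsU_inv_val : ((titsU⁻¹ : GL chevF4.Idx (ZMod 2)) : Matrix chevF4.Idx chevF4.Idx (ZMod 2)) = bitMat titsLU := rfl
theorem titsV_inv_val : ((titsV⁻¹ : GL chevF4.Idx (ZMod 2)) : Matrix chevF4.Idx chevF4.Idx (ZMod 2)) = bitMat titsLVi := rfl
theorem titsW_inv_val : ((titsW⁻¹ : GL chevF4.Idx (ZMod 2)) : Matrix chevF4.Idx chevF4.Idx (ZMod 2)) = bitMat titsLW := rfl
theorem titsZ_inv_val : ((titsZ⁻¹ : GL chevF4.Idx (ZMod 2)) : Matrix chevF4.Idx chevF4.Idx (ZMod 2)) = bitMat titsLZi := rfl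

/-! ### the three commutators -/

/-- bits of `[u, y]` for `y` with bits `Y` and inverse bits `Yi` -/
def titsComm (Y Yi : List ℕ) : List ℕ := mulBits (mulBits (mulBits titsLU Y) titsLU) Yi

def titsC1 : List ℕ :=
  titsComm (mulBits (mulBits titsLV titsLU) titsLZ) (mulBits titsLZi (mulBits titsLU titsLVi))
def titsC2 : List ℕ :=
  titsComm (mulBits (mulBits titsLW titsLU) titsLW) (mulBits titsLW (mulBits titsLU titsLW))
def titsC3 : List ℕ :=
  titsComm (mulBits (mulBits titsLZ titsLU) titsLV) (mulBits titsLVi (mulBits titsLU titsLZi))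

theorem tits_c1_val : ((⁅titsU, titsV * titsU * titsZ⁆ : GL chevF4.Idx (ZMod 2)) :
    Matrix chevF4.Idx chevF4.Idx (ZMod 2)) = bitMat titsC1 := by
  rw [commutatorElement_def, mul_inv_rev, mul_inv_rev]
  simp only [Units.val_mul, titsU_val, titsV_val, titsZ_val, titsU_inv_val, titsV_inv_val, titsZ_inv_val,
    bitMat_mul]
  rfl

theorem tits_c2_val : ((⁅titsU, titsW * titsU * titsW⁆ : GL chevF4.Idx (ZMod 2)) :
    Matrix chevF4.Idx chevF4.Idx (ZMod 2)) = bitMat titsC2 := by
  rw [commutatorElement_def, mul_inv_rev, mul_inv_rev]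
  simp only [Units.val_mul, titsU_val, titsW_val, titsU_inv_val, titsW_inv_val, bitMat_mul]
  rfl

theorem tits_c3_val : ((⁅titsU, titsZ * titsU * titsV⁆ : GL chevF4.Idx (ZMod 2)) :
    Matrix chevF4.Idx chevF4.Idx (ZMod 2)) = bitMat titsC3 := by
  rw [commutatorElement_def, mul_inv_rev, mul_inv_rev]
  simp only [Units.val_mul, titsU_val, titsV_val, titsZ_val, titsU_inv_val, titsV_inv_val, titsZ_inv_val,
    bitMat_mul]
  rfl

theorem tits_rel_11 : mulBits titsC1 titsC1 = idBits := by decide +kernel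
theorem tits_rel_22 : mulBits titsC2 titsC2 = idBits := by decide +kernel
theorem tits_rel_33 : mulBits titsC3 titsC3 = idBits := by decide +kernel
theorem tits_rel_12 : mulBits titsC1 titsC2 = mulBits titsC2 titsC1 := by decide +kernel
theorem tits_rel_13 : mulBits titsC1 titsC3 = mulBits titsC3 titsC1 := by decide +kernel
theorem tits_rel_23 : mulBits titsC2 titsC3 = mulBits titsC3 titsC2 := by decide +kernel

theorem tits_ne_a : bitMat titsC1 ≠ bitMat idBits := by
  intro h
  have := congrFun (congrFun h (Sum.inl ⟨0, by decide⟩ : chevF4.Idx)) (Sum.inr ⟨0, by decide⟩ : chevF4.Idx)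
  revert this
  decide +kernel

theorem tits_ne_b : bitMat titsC2 ≠ bitMat idBits := by
  intro h
  have := congrFun (congrFun h (Sum.inl ⟨0, by decide⟩ : chevF4.Idx)) (Sum.inr ⟨0, by decide⟩ : chevF4.Idx)
  revert this
  decide +kernel

theorem tits_ne_c : bitMat titsC3 ≠ bitMat idBits := by
  intro h
  have := congrFun (congrFun h (Sum.inl ⟨0, by decide⟩ : chevF4.Idx)) (Sum.inr ⟨0, by decide⟩ : chevF4.Idx)
  revert this
  decide +kernel

theorem tits_ne_ab : bitMat (mulBits titsC1 titsC2) ≠ bitMat idBits := by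
  intro h
  have := congrFun (congrFun h (Sum.inl ⟨0, by decide⟩ : chevF4.Idx)) (Sum.inr ⟨5, by decide⟩ : chevF4.Idx)
  revert this
  decide +kernel

theorem tits_ne_ac : bitMat (mulBits titsC1 titsC3) ≠ bitMat idBits := by
  intro h
  have := congrFun (congrFun h (Sum.inl ⟨0, by decide⟩ : chevF4.Idx)) (Sum.inr ⟨0, by decide⟩ : chevF4.Idx)
  revert this
  decide +kernel

theorem tits_ne_bc : bitMat (mulBits titsC2 titsC3) ≠ bitMat idBits := by
  intro h
  have := congrFun (congrFun h (Sum.inl ⟨0, by decide⟩ : chevF4.Idx)) (Sum.inr ⟨0, by decide⟩ : chevF4.Idx)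
  revert this
  decide +kernel

theorem tits_ne_abc : bitMat (mulBits (mulBits titsC1 titsC2) titsC3) ≠ bitMat idBits := by
  intro h
  have := congrFun (congrFun h (Sum.inl ⟨0, by decide⟩ : chevF4.Idx)) (Sum.inr ⟨0, by decide⟩ : chevF4.Idx)
  revert this
  decide +kernel

end Cfsg.Agent.Lib.Helper48.Tr
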