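import Cfsg.Agent.Lib.Helper48.U3XEcore
import Cfsg.Agent.Lib.Helper54.U3Xe5
import Cfsg.Agent.Lib.Helper23.U3XE8

/-!
# U3 hive (S2283, owner helper23): leaf U3-XE `e_mem_Tset` (sub-architect helper48)

The long root group at `e` lies in `H = closure {u1, u2}`: assembly of the XE sub-hive.
`e_mem_Tset_core` (XE-A helper54, XE-M helper70, XE-COMM helper32, XE-GEN helper35, XE-NT helper77)
+ XE-5 `xe_five` (helper54) + XE-8 `xe8` (helper23, helper38).
-/

set_option autoImplicit false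

namespace Cfsg.Agent.Lib.Helper23.U3

open Matrix Cfsg.Agent.Lib.Helper99 Cfsg.Agent.Lib.Helper13 Cfsg.Agent.Lib.Helper90.Psu

variable {F : Type*} [Field F] [Fintype F] {q : ℕ}

/-- U3-XE, EXACT statement of the parent skeleton. -/
theorem e_mem_Tset (hF : Fintype.card F = q ^ 2) (hq : 3 ≤ q) (C : Cfg q F)
    (hμo : orderOf C.μ = q + 1) (h8 : q = 8 → C.c = 1) : C.e ∈ Tset q C.H :=
  e_mem_Tset_core hF hq C hμo (fun h5 hA1 => xe_five hF h5 C hμo (cfg_rel hF C) hA1)
    (fun h8' => by subst h8'; exact xe8 hF C hμo (h8 rfl))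

end Cfsg.Agent.Lib.Helper23.U3
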