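import Cfsg.Agent.Lib.Helper23.U3Defs

/-!
# U3 hive (S2283, owner helper23), sub-hive XE (sub-architect helper48): definitions

`xeM C` = the set of `r : F` such that some Heisenberg element `x(r, β') = heis q e (r • ε) β'`
(`β' + β'^q + N(r) = 0`) lies in `H = closure {u1, u2}`.
-/

set_option autoImplicit false

namespace Cfsg.Agent.Lib.Helper23.U3

open Matrix Cfsg.Agent.Lib.Helper99 Cfsg.Agent.Lib.Helper13 Cfsg.Agent.Lib.Helper90.Psu

variable {F : Type*} [Field F] {q : ℕ}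

/-- `M = {r | ∃ β', β' + β'^q + r^(q+1) = 0 ∧ x(r, β') ∈ H}` -/
def xeM (C : Cfg q F) : Set F :=
  {r | ∃ β' : F, β' + β' ^ q + r ^ (q + 1) = 0 ∧ heis q C.e (r • C.ε) β' ∈ C.H}

theorem mem_xeM (C : Cfg q F) (r : F) :
    r ∈ xeM C ↔ ∃ β' : F, β' + β' ^ q + r ^ (q + 1) = 0 ∧ heis q C.e (r • C.ε) β' ∈ C.H := Iff.rfl

end Cfsg.Agent.Lib.Helper23.U3
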