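import Mathlib
import Cfsg.Agent.Lib.Helper48.WardRedB
import Cfsg.Agent.Lib.Helper35.HallFusion
import Cfsg.Agent.S0033

/-!
Reduction of Ward's theorem to its three-layer core: the acting group.
-/

set_option autoImplicit false
set_option linter.unusedSectionVars false
set_option linter.unusedVariables false
set_option linter.style.haveILetI false

namespace Cfsg.Agent.Lib.Helper48.Ward

open Subgroup
open scoped commutatorElement
open Cfsg.Agent.Lib.Helper33
open Cfsg.Agent.Lib.Helper24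

universe u

section ctx2
variable {Γ : Type u} [Group Γ] [Finite Γ] {r : ℕ} {A G : Subgroup Γ}

theorem WCtx.solvΓ (h : WCtx Γ r A G) : Group.IsSolvable Γ := by
  haveI := h.normal
  haveI := h.solv
  haveI : Group.IsSolvable (Γ ⧸ G) := by
    apply Group.isSolvable_of_comm
    have hsurj : ∀ z : Γ ⧸ G, ∃ a ∈ A, (QuotientGroup.mk' G) a = z := by
      intro z
      obtain ⟨γ, rfl⟩ := QuotientGroup.mk'_surjective G z
      have : γ ∈ A ⊔ G := by rw [h.sup]; exact mem_top γ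
      obtain ⟨a, ha, g, hg, rfl⟩ := mem_sup_of_normal_right.mp this
      refine ⟨a, ha, ?_⟩
      have hg1 : (QuotientGroup.mk' G) g = 1 := by
        rw [QuotientGroup.mk'_apply, QuotientGroup.eq_one_iff]
        exact hg
      rw [map_mul, hg1, mul_one]
    intro x y
    obtain ⟨a, ha, rfl⟩ := hsurj x
    obtain ⟨b, hb, rfl⟩ := hsurj y
    rw [← map_mul, ← map_mul, h.comm a ha b hb]
  exact Group.isSolvable_of_ker_le_range G.subtype (QuotientGroup.mk' G)
    (by rw [QuotientGroup.ker_mk', G.range_subtype])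

theorem WCtx.eq_bot_of_isPGroup (h : WCtx Γ r A G) {H : Subgroup Γ} (hHG : H ≤ G)
    (hH : IsPGroup r H) : H = ⊥ := by
  haveI := Fact.mk h.hr
  obtain ⟨k, hk⟩ := hH.exists_card_eq
  have hc := h.coprime_of_le hHG
  rw [h.card, hk] at hc
  have hk0 : k = 0 := by
    by_contra hk0
    have h1 : r ∣ r ^ 2 := dvd_pow_self r two_ne_zero
    have h2 : r ∣ r ^ k := dvd_pow_self r hk0
    have h3 : Nat.Coprime r r :=
      Nat.Coprime.coprime_dvd_right h2 (Nat.Coprime.coprime_dvd_left h1 hc)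
    exact h.hr.one_lt.ne' ((Nat.coprime_self r).mp h3)
  rw [hk0, pow_zero] at hk
  exact Subgroup.card_eq_one.mp hk

theorem WCtx.ne_of_isPGroup (h : WCtx Γ r A G) {p : ℕ} {H : Subgroup Γ} (hHG : H ≤ G)
    (hH : IsPGroup p H) (hne : H ≠ ⊥) : r ≠ p := by
  intro e
  subst e
  exact hne (h.eq_bot_of_isPGroup hHG hH)

/-- structure of a minimal normal subgroup of a solvable group -/
theorem minimal_normal_structure [Group.IsSolvable Γ] (V : Subgroup Γ) [hVn : V.Normal]
    (hV : V ≠ ⊥) (mV : ∀ W : Subgroup Γ, W.Normal → W ≤ V → W ≠ ⊥ → W = V) :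
    ∃ q : ℕ, q.Prime ∧ (∀ x ∈ V, ∀ y ∈ V, x * y = y * x) ∧ ∀ x ∈ V, x ^ q = 1 := by
  have hlt := Group.IsSolvable.commutator_lt_of_ne_bot hV
  have hcomm0 : ⁅V, V⁆ = ⊥ := by
    by_contra hne
    have := mV ⁅V, V⁆ inferInstance hlt.le hne
    exact hlt.ne this
  have hcomm : ∀ x ∈ V, ∀ y ∈ V, x * y = y * x := by
    intro x hx y hy
    have : ⁅x, y⁆ ∈ ⁅V, V⁆ := commutator_mem_commutator hx hy
    rw [hcomm0, mem_bot] at this
    exact commutatorElement_eq_one_iff_mul_comm.mp this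
  have hcard : Nat.card V ≠ 1 := fun h1 => hV (Subgroup.card_eq_one.mp h1)
  obtain ⟨q, hq, hqd⟩ := Nat.exists_prime_and_dvd hcard
  haveI := Fact.mk hq
  obtain ⟨x₀, hx₀⟩ := exists_prime_orderOf_dvd_card' q hqd
  let W : Subgroup Γ :=
    { carrier := {x | x ∈ V ∧ x ^ q = 1}
      mul_mem' := by
        rintro a b ⟨ha, ha2⟩ ⟨hb, hb2⟩
        refine ⟨V.mul_mem ha hb, ?_⟩
        have hc : Commute a b := hcomm a ha b hb
        rw [hc.mul_pow, ha2, hb2, one_mul]
      one_mem' := ⟨V.one_mem, one_pow q⟩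
      inv_mem' := by
        rintro a ⟨ha, ha2⟩
        exact ⟨V.inv_mem ha, by rw [inv_pow, ha2, inv_one]⟩ }
  have hWn : W.Normal :=
    ⟨fun n hn g => ⟨hVn.conj_mem n hn.1 g, by rw [conj_pow, hn.2]; group⟩⟩
  have hWV : W ≤ V := fun x hx => hx.1
  have hW0 : W ≠ ⊥ := by
    intro h0
    have hx1 : (x₀ : Γ) ∈ W := by
      refine ⟨x₀.2, ?_⟩
      rw [← Subgroup.coe_pow, ← hx₀, pow_orderOf_eq_one]
      rfl
    rw [h0, mem_bot] at hx1
    have h2 : x₀ = 1 := Subtype.ext hx1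
    rw [h2, orderOf_one] at hx₀
    exact hq.one_lt.ne hx₀
  have hWeq := mV W hWn hWV hW0
  refine ⟨q, hq, hcomm, fun x hx => ?_⟩
  have : x ∈ W := by rw [hWeq]; exact hx
  exact this.2

/-- Thompson: centralizers of subgroups of order `r` of `A` are nilpotent. -/
theorem WCtx.nil_centralizer (h : WCtx Γ r A G) (B : Subgroup Γ) (hBA : B ≤ A)
    (hB : Nat.card B = r) : Group.IsNilpotent ↥(G ⊓ centralizer (B : Set Γ)) := by
  have hr := h.hr
  haveI := h.normal
  obtain ⟨a, haA, haB⟩ : ∃ a ∈ A, a ∉ B := by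
    by_contra hcon
    push Not at hcon
    have hAB : A ≤ B := fun a ha => hcon a ha
    have h1 := Subgroup.card_le_of_le hAB
    rw [h.card, hB] at h1
    nlinarith [hr.one_lt]
  set D := B ⊔ zpowers a with hD
  have hDA : D ≤ A := sup_le hBA (zpowers_le.mpr haA)
  have hBD : B ≤ D := le_sup_left
  have haD : a ∈ D := mem_sup_right (mem_zpowers a)
  have hDeq : D = A := by
    apply eq_of_le_of_card_ge hDA
    rw [h.card]
    obtain ⟨m, hm⟩ := card_dvd_of_le hBD
    have h2 : Nat.card D ∣ r ^ 2 := h.card ▸ card_dvd_of_le hDA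
    rw [hm, hB] at h2
    rw [hm, hB]
    have h3 : m ∣ r := by
      rw [pow_two] at h2
      exact Nat.dvd_of_mul_dvd_mul_left hr.pos h2
    rcases (Nat.dvd_prime hr).mp h3 with h4 | h4
    · exfalso
      have h5 : Nat.card D = Nat.card B := by rw [hm, h4, mul_one]
      have hDB : B = D := eq_of_le_of_card_ge hBD h5.le
      exact haB (hDB ▸ haD)
    · rw [h4, pow_two]
  set C := G ⊓ centralizer (B : Set Γ) with hC
  have haCB : a ∈ centralizer (B : Set Γ) := by
    rw [mem_centralizer_iff]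
    intro b hb
    exact h.comm b (hBA hb) a haA
  have haC : a ∈ normalizer (C : Set Γ) := by
    rw [← cj_eq_self_iff]
    exact cj_inf_centralizer_eq (by rw [normalizer_eq_top]; exact mem_top a)
      (centralizer_le_normalizer _ haCB)
  set φ : ↥C ≃* ↥C := C.normalizerMonoidHom ⟨a, haC⟩ with hφ
  have hφval : ∀ c : ↥C, ((φ c : ↥C) : Γ) = a * c * a⁻¹ := fun c => rfl
  have hfpf : MonoidHom.FixedPointFree ((φ : ↥C →* ↥C) : ↥C → ↥C) := by
    intro c hc
    have h1 : a * (c : Γ) * a⁻¹ = c := by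
      have := congrArg Subtype.val hc
      exact this
    have hca : (c : Γ) * a = a * c := by
      have : a * (c : Γ) = c * a := by
        calc a * (c : Γ) = a * c * a⁻¹ * a := by group
          _ = c * a := by rw [h1]
      exact this.symm
    have hcB : (c : Γ) ∈ centralizer (B : Set Γ) := c.2.2
    have hAc : A ≤ centralizer ({(c : Γ)} : Set Γ) := by
      rw [← hDeq, hD]
      apply sup_le
      · intro b hb
        rw [mem_centralizer_iff]
        intro x hx
        rw [Set.mem_singleton_iff] at hx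
        subst hx
        exact (mem_centralizer_iff.mp hcB b hb).symm
      · rw [zpowers_le, mem_centralizer_iff]
        intro x hx
        rw [Set.mem_singleton_iff] at hx
        subst hx
        exact hca
    have hcA : (c : Γ) ∈ G ⊓ centralizer (A : Set Γ) := by
      refine ⟨c.2.1, ?_⟩
      apply mem_centralizer_iff.mpr
      intro x hx
      exact (mem_centralizer_iff.mp (hAc hx) c rfl).symm
    rw [h.fix, mem_bot] at hcA
    exact Subtype.ext hcA
  have hpow : φ ^ r = 1 := by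
    have h1 : (⟨a, haC⟩ : normalizer (C : Set Γ)) ^ r = 1 := by
      apply Subtype.ext
      rw [Subgroup.coe_pow]
      exact h.elem.2 a haA
    rw [hφ, ← map_pow, h1, map_one]
  have hord : orderOf φ ∣ r := orderOf_dvd_of_pow_eq_one hpow
  rcases (Nat.dvd_prime hr).mp hord with h1 | h1
  · have hφ1 : φ = 1 := orderOf_eq_one_iff.mp h1
    have hall : ∀ c : ↥C, c = 1 := by
      intro c
      apply hfpf c
      rw [hφ1]
      rfl
    have hCbot : C = ⊥ := by
      rw [eq_bot_iff]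
      intro x hx
      rw [mem_bot]
      exact congrArg Subtype.val (hall ⟨x, hx⟩)
    rw [hCbot]
    exact (isNilpotent_iff_lowerCentralSeries ⊥).mpr ⟨0, rfl⟩
  · exact Cfsg.Agent.S0033.result φ hfpf r hr h1

theorem WCtx.commute_centralizers (h : WCtx Γ r A G) {p₁ p₂ : ℕ} (hp₁ : p₁.Prime)
    (hp₂ : p₂.Prime) (hne : p₁ ≠ p₂) {H₁ H₂ : Subgroup Γ} (h1 : H₁ ≤ G) (h2 : H₂ ≤ G)
    (hH₁ : IsPGroup p₁ H₁) (hH₂ : IsPGroup p₂ H₂) (B : Subgroup Γ) (hBA : B ≤ A)
    (hB : Nat.card B = r) :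
    ∀ x ∈ H₁ ⊓ centralizer (B : Set Γ), ∀ y ∈ H₂ ⊓ centralizer (B : Set Γ), x * y = y * x := by
  intro x hx y hy
  haveI := h.nil_centralizer B hBA hB
  obtain ⟨k, hk⟩ := hH₁ ⟨x, hx.1⟩
  obtain ⟨l, hl⟩ := hH₂ ⟨y, hy.1⟩
  have hk' : x ^ p₁ ^ k = 1 := by
    have := congrArg Subtype.val hk
    simpa using this
  have hl' : y ^ p₂ ^ l = 1 := by
    have := congrArg Subtype.val hl
    simpa using this
  set x' : ↥(G ⊓ centralizer (B : Set Γ)) := ⟨x, h1 hx.1, hx.2⟩ with hx'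
  set y' : ↥(G ⊓ centralizer (B : Set Γ)) := ⟨y, h2 hy.1, hy.2⟩ with hy'
  have hcop : Nat.Coprime (p₁ ^ k) (p₂ ^ l) :=
    Nat.Coprime.pow _ _ ((Nat.coprime_primes hp₁ hp₂).mpr hne)
  have hc := Cfsg.Agent.Lib.Helper35.commute_of_coprime_of_isNilpotent
    ↥(G ⊓ centralizer (B : Set Γ)) x' y' (p₁ ^ k) (p₂ ^ l)
    (Subtype.ext (by rw [Subgroup.coe_pow]; exact hk'))
    (Subtype.ext (by rw [Subgroup.coe_pow]; exact hl')) hcop
  exact congrArg Subtype.val hc.eq

/-- some `A`-invariant Sylow subgroup of `R` for a prime other than `q` acts nontrivially -/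
theorem WCtx.exists_sylow_not_centralizing (h : WCtx Γ r A G) {q : ℕ} (hq : q.Prime)
    (V R : Subgroup Γ) [V.Normal] [R.Normal] (hRG : R ≤ G) (hVR : V ≤ R)
    (hVq : IsPGroup q V) (hVc : V ≤ ⁅V, R⁆) (hV : V ≠ ⊥) :
    ∃ s : ℕ, s.Prime ∧ s ≠ q ∧ ∃ S : Subgroup Γ, S ≤ R ∧ IsPGroup s S ∧
      ¬ s ∣ S.relIndex R ∧ A ≤ normalizer (S : Set Γ) ∧ ¬ S ≤ centralizer (V : Set Γ) := by
  by_contra hcon
  apply hV
  apply eq_bot_of_le_commutator_of_sylows hq V R hVq hVR
    (by rw [normalizer_eq_top]; exact le_top) ?_ hVc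
  intro t ht htq
  haveI := Fact.mk ht
  have hAR : A ≤ normalizer (R : Set Γ) := by rw [normalizer_eq_top]; exact le_top
  obtain ⟨P, hP⟩ := exists_invariant_sylow (p := t) A R hAR (h.coprime_of_le hRG)
    (Or.inl h.solvA)
  obtain ⟨h1, h2, h3⟩ := sylow_map_facts R P
  refine ⟨_, h1, h3, ?_⟩
  by_contra hnc
  exact hcon ⟨t, ht, htq, _, h1, h2, h3, hP, hnc⟩

theorem sylow_inf_centralizer_eq_bot {s : ℕ} (hs : s.Prime) (V S G : Subgroup Γ) [V.Normal]
    (hN : (V ⊔ S).Normal) (hS : IsPGroup s S) (hidx : ¬ s ∣ S.relIndex (V ⊔ S)) (hSG : S ≤ G)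
    (hVS : V ⊓ S = ⊥) (hV : V ≠ ⊥)
    (uV : ∀ W : Subgroup Γ, W.Normal → W ≤ G → W ≠ ⊥ → V ≤ W) :
    S ⊓ centralizer (V : Set Γ) = ⊥ := by
  set E₀ := S ⊓ centralizer (V : Set Γ) with hE₀
  have hEn : E₀.Normal := by
    apply normal_of_forall_cj_le
    intro γ
    obtain ⟨v, hv, hγ⟩ := exists_cj_eq_of_sup_normal hs V S hN hS hidx γ
    have h1 : cj γ E₀ = cj v E₀ := by
      rw [hE₀, cj_inf, cj_inf, hγ, ← centralizer_cj, ← centralizer_cj, cj_eq_of_normal γ V,
        cj_eq_of_normal v V]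
    rw [h1]
    have h2 : v ∈ normalizer (E₀ : Set Γ) := by
      apply centralizer_le_normalizer
      rw [mem_centralizer_iff]
      intro e he
      exact (mem_centralizer_iff.mp he.2 v hv).symm
    exact (cj_eq_self_iff.mpr h2).le
  by_contra hne
  have h3 := uV E₀ hEn (inf_le_left.trans hSG) hne
  apply hV
  have h4 : V ≤ V ⊓ S := le_inf le_rfl (h3.trans inf_le_left)
  rw [hVS] at h4
  exact le_bot_iff.mp h4

theorem inf_centralizer_center_eq_bot {s : ℕ} (hs : s.Prime) (V S : Subgroup Γ) [V.Normal]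
    (hN : (V ⊔ S).Normal) (hS : IsPGroup s S) (hidx : ¬ s ∣ S.relIndex (V ⊔ S))
    (hVab : ∀ x ∈ V, ∀ y ∈ V, x * y = y * x) (hS0 : S ≠ ⊥)
    (hSV : S ⊓ centralizer (V : Set Γ) = ⊥)
    (mV : ∀ W : Subgroup Γ, W.Normal → W ≤ V → W ≠ ⊥ → W = V) :
    V ⊓ centralizer ((S ⊓ centralizer (S : Set Γ) : Subgroup Γ) : Set Γ) = ⊥ := by
  set Z := S ⊓ centralizer (S : Set Γ) with hZ
  set F₀ := V ⊓ centralizer (Z : Set Γ) with hF₀
  have hFn : F₀.Normal := by
    apply normal_of_forall_cj_le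
    intro γ
    obtain ⟨v, hv, hγ⟩ := exists_cj_eq_of_sup_normal hs V S hN hS hidx γ
    have hZ1 : cj γ Z = cj v Z := by
      rw [hZ, cj_inf, cj_inf, ← centralizer_cj, ← centralizer_cj, hγ]
    have h1 : cj γ F₀ = cj v F₀ := by
      rw [hF₀, cj_inf, cj_inf, ← centralizer_cj, ← centralizer_cj, hZ1, cj_eq_of_normal γ V,
        cj_eq_of_normal v V]
    rw [h1]
    have h2 : v ∈ normalizer (F₀ : Set Γ) := by
      apply centralizer_le_normalizer
      rw [mem_centralizer_iff]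
      intro e he
      exact hVab e he.1 v hv
    exact (cj_eq_self_iff.mpr h2).le
  by_contra hne
  have hFV := mV F₀ hFn inf_le_left hne
  have hZV : Z ≤ S ⊓ centralizer (V : Set Γ) := by
    intro z hz
    refine ⟨hz.1, ?_⟩
    apply mem_centralizer_iff.mpr
    intro v hv
    have hvF : v ∈ F₀ := by rw [hFV]; exact hv
    exact (mem_centralizer_iff.mp hvF.2 z hz).symm
  rw [hSV] at hZV
  haveI := Fact.mk hs
  haveI : Nontrivial ↥S := (nontrivial_iff_ne_bot S).mpr hS0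
  haveI := hS.center_nontrivial
  obtain ⟨z, hz⟩ := exists_ne (1 : center ↥S)
  have hzZ : ((z : ↥S) : Γ) ∈ Z := by
    refine ⟨(z : ↥S).2, ?_⟩
    apply mem_centralizer_iff.mpr
    intro x hx
    have := (mem_center_iff.mp z.2) ⟨x, hx⟩
    exact congrArg Subtype.val this
  have h5 := hZV hzZ
  rw [mem_bot] at h5
  apply hz
  exact Subtype.ext (Subtype.ext h5)

/-- application of the core -/
theorem WCtx.sylow_centralizes (hcore : Cfsg.Agent.Lib.Helper24.Ward.CoreStmt.{u})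
    (h : WCtx Γ r A G) {q s : ℕ} (hq : q.Prime) (hs : s.Prime) (hqs : q ≠ s)
    (V S : Subgroup Γ) [V.Normal] (hVG : V ≤ G) (hSG : S ≤ G) (hVq : IsPGroup q V)
    (hVab : ∀ x ∈ V, ∀ y ∈ V, x * y = y * x) (hSs : IsPGroup s S)
    (hAS : A ≤ normalizer (S : Set Γ)) (hV0 : V ≠ ⊥) (hS0 : S ≠ ⊥)
    (hSV : S ⊓ centralizer (V : Set Γ) = ⊥)
    (hVZ : V ⊓ centralizer ((S ⊓ centralizer (S : Set Γ) : Subgroup Γ) : Set Γ) = ⊥)
    (t : ℕ) (ht : t.Prime) (hts : t ≠ s) :
    ∃ T : Subgroup Γ, T ≤ G ⊓ normalizer (S : Set Γ) ∧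
      ¬ t ∣ T.relIndex (G ⊓ normalizer (S : Set Γ)) ∧ T ≤ centralizer (S : Set Γ) := by
  haveI := h.normal
  haveI := Fact.mk ht
  set Y := G ⊓ normalizer (S : Set Γ) with hY
  have hAY : A ≤ normalizer (Y : Set Γ) := by
    intro a ha
    rw [← cj_eq_self_iff, hY, cj_inf, ← normalizer_cj, cj_eq_of_normal a G,
      cj_eq_self_iff.mpr (hAS ha)]
  obtain ⟨P, hP⟩ := exists_invariant_sylow (p := t) A Y hAY (h.coprime_of_le inf_le_left)
    (Or.inl h.solvA)
  obtain ⟨hT1, hT2, hT3⟩ := sylow_map_facts Y P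
  set T := (P : Subgroup Y).map Y.subtype with hT
  refine ⟨T, hT1, hT3, ?_⟩
  have hTG : T ≤ G := hT1.trans inf_le_left
  by_cases htr : t = r
  · have hTb : T = ⊥ := h.eq_bot_of_isPGroup hTG (htr ▸ hT2)
    rw [hTb]
    exact bot_le
  have hnV : ∀ H : Subgroup Γ, H ≤ normalizer (V : Set Γ) := fun H => by
    rw [normalizer_eq_top]; exact le_top
  have hfix : ∀ H : Subgroup Γ, H ≤ G → H ⊓ centralizer (A : Set Γ) = ⊥ := fun H hH =>
    le_bot_iff.mp (h.fix ▸ inf_le_inf_right _ hH)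
  have hres := hcore Γ r q s t h.hr hq hs ht hqs (Ne.symm hts)
    (h.ne_of_isPGroup hVG hVq hV0) (h.ne_of_isPGroup hSG hSs hS0) (Ne.symm htr) A V S T
    h.elem h.card hVq hVab hSs hT2 (hnV A) hAS hP (hnV S) (hnV T) (hT1.trans inf_le_right)
    (hfix V hVG) (hfix S hSG) (hfix T hTG) hSV hVZ
    (fun B hBA hB => h.commute_centralizers hs hq hqs.symm hSG hVG hSs hVq B hBA hB)
    (fun B hBA hB => h.commute_centralizers hs ht (Ne.symm hts) hSG hTG hSs hT2 B hBA hB)
  intro y hy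
  rw [mem_centralizer_iff]
  intro x hx
  exact hres x hx y hy

theorem exists_stable (G : Subgroup Γ) (k₀ : ℕ) :
    ∃ k, k₀ ≤ k ∧ G.lowerCentralSeries (k + 1) = G.lowerCentralSeries k := by
  by_contra hcon
  push Not at hcon
  have key : ∀ n, Nat.card (G.lowerCentralSeries (k₀ + n)) + n ≤
      Nat.card (G.lowerCentralSeries k₀) := by
    intro n
    induction n with
    | zero => simp
    | succ n ih =>
      have hne := hcon (k₀ + n) (Nat.le_add_right _ _)
      have hle : G.lowerCentralSeries (k₀ + n + 1) ≤ G.lowerCentralSeries (k₀ + n) :=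
        G.lowerCentralSeries_antitone (Nat.le_succ _)
      have hlt : Nat.card (G.lowerCentralSeries (k₀ + n + 1)) <
          Nat.card (G.lowerCentralSeries (k₀ + n)) := by
        by_contra hge
        push Not at hge
        exact hne (eq_of_le_of_card_ge hle hge)
      have e : k₀ + (n + 1) = k₀ + n + 1 := rfl
      rw [e]
      omega
  have := key (Nat.card (G.lowerCentralSeries k₀) + 1)
  omega

end ctx2

end Cfsg.Agent.Lib.Helper48.Ward
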