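import Mathlib
import Cfsg.Agent.Lib.Helper48.WardRedC

/-!
Reduction of Ward's theorem (an elementary abelian group of order `r ^ 2` acting without
common fixed points on a finite solvable group forces Fitting height at most two) to its
three-layer core statement `Cfsg.Agent.Lib.Helper24.Ward.CoreStmt`.
-/

set_option autoImplicit false
set_option linter.unusedSectionVars false
set_option linter.unusedVariables false
set_option linter.style.haveILetI false

namespace Cfsg.Agent.Lib.Helper48.Ward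

open Subgroup
open scoped commutatorElement
open Cfsg.Agent.Lib.Helper33
open Cfsg.Agent.Lib.Helper24

universe u

theorem nil_bot {Γ : Type u} [Group Γ] : Group.IsNilpotent ↥(⊥ : Subgroup Γ) :=
  (isNilpotent_iff_lowerCentralSeries ⊥).mpr ⟨0, rfl⟩

/-- main induction -/
theorem fh2_of_core (hcore : Cfsg.Agent.Lib.Helper24.Ward.CoreStmt.{u}) (r : ℕ) :
    ∀ (n : ℕ) (Γ : Type u) [Group Γ] [Finite Γ] (A G : Subgroup Γ),
      WCtx Γ r A G → Nat.card G = n → FH2 G := by
  intro n
  induction n using Nat.strong_induction_on with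
  | _ n IH =>
    intro Γ _ _ A G h hn
    haveI := h.normal
    by_cases hG0 : G = ⊥
    · refine ⟨0, ?_⟩
      rw [Subgroup.lowerCentralSeries_zero, hG0]
      exact nil_bot
    have hex : ∃ m, ∃ V : Subgroup Γ, V.Normal ∧ V ≤ G ∧ V ≠ ⊥ ∧ Nat.card V = m :=
      ⟨_, G, h.normal, le_rfl, hG0, rfl⟩
    classical
    obtain ⟨V, hVn, hVG, hV0, hVcard⟩ := Nat.find_spec hex
    have hmin : ∀ W : Subgroup Γ, W.Normal → W ≤ G → W ≠ ⊥ → Nat.card V ≤ Nat.card W := by
      intro W hWn hWG hW0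
      rw [hVcard]
      exact Nat.find_min' hex ⟨W, hWn, hWG, hW0, rfl⟩
    haveI := hVn
    have mV : ∀ W : Subgroup Γ, W.Normal → W ≤ V → W ≠ ⊥ → W = V := fun W hWn hWV hW0 =>
      eq_of_le_of_card_ge hWV (hmin W hWn (hWV.trans hVG) hW0)
    have IHq : ∀ (W : Subgroup Γ) [W.Normal], W ≤ G → W ≠ ⊥ →
        FH2 (G.map (QuotientGroup.mk' W)) := by
      intro W hWn hWG hW0
      exact IH _ (hn ▸ card_map_mk_lt W G hWG hW0) (Γ ⧸ W) _ _ (h.quot W hWG) rfl
    by_cases hB : ∀ W : Subgroup Γ, W.Normal → W ≤ G → W ≠ ⊥ → V ≤ W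
    swap
    · push Not at hB
      obtain ⟨W, hWn, hWG, hW0, hVW⟩ := hB
      haveI := hWn
      have hVW0 : V ⊓ W = ⊥ := by
        by_contra hne
        have h1 := mV (V ⊓ W) inferInstance inf_le_left hne
        exact hVW (inf_eq_left.mp h1)
      obtain ⟨k₁, hk₁⟩ := IHq V hVG hV0
      obtain ⟨k₂, hk₂⟩ := IHq W hWG hW0
      refine ⟨max k₁ k₂, nil_of_map_two (QuotientGroup.mk' V) (QuotientGroup.mk' W) _ ?_ ?_ ?_⟩
      · rw [map_lowerCentralSeries]
        exact nil_of_le ((G.map _).lowerCentralSeries_antitone (le_max_left _ _)) hk₁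
      · rw [map_lowerCentralSeries]
        exact nil_of_le ((G.map _).lowerCentralSeries_antitone (le_max_right _ _)) hk₂
      · rw [QuotientGroup.ker_mk', QuotientGroup.ker_mk', hVW0]
    haveI := h.solvΓ
    obtain ⟨q, hq, hVab, hVexp⟩ := minimal_normal_structure V hV0 mV
    have hVq : IsPGroup q V := fun x =>
      ⟨1, by rw [pow_one]; exact Subtype.ext (by simpa using hVexp x x.2)⟩
    obtain ⟨k₀, hk₀⟩ := IHq V hVG hV0
    obtain ⟨k, hkk₀, hstab⟩ := exists_stable G k₀
    set R := G.lowerCentralSeries k with hR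
    have hRG : R ≤ G := lowerCentralSeries_le_self G k
    have hRc : R ≤ ⁅R, G⁆ := by
      have h1 : G.lowerCentralSeries (k + 1) = ⁅R, G⁆ := rfl
      rw [← h1, hstab]
    have hnil : Group.IsNilpotent ↥(R.map (QuotientGroup.mk' V)) := by
      rw [hR, map_lowerCentralSeries]
      exact nil_of_le ((G.map _).lowerCentralSeries_antitone hkk₀) hk₀
    by_cases hR0 : R = ⊥
    · refine ⟨k, ?_⟩
      rw [← hR, hR0]
      exact nil_bot
    have hVR : V ≤ R := hB R inferInstance hRG hR0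
    by_cases hVRc : ⁅V, R⁆ = ⊥
    · exact ⟨k, nil_of_map_central (QuotientGroup.mk' V) R hnil
        (by rw [QuotientGroup.ker_mk']; exact hVRc)⟩
    exfalso
    have hVR2 : ⁅V, R⁆ = V := mV _ inferInstance (commutator_le_left V R) hVRc
    obtain ⟨s, hs, hsq, S, hSR, hSs, hSi, hAS, hSnc⟩ :=
      h.exists_sylow_not_centralizing hq V R hRG hVR hVq hVR2.ge hV0
    have hS0 : S ≠ ⊥ := by
      rintro rfl
      exact hSnc bot_le
    haveI := Fact.mk hq
    haveI := Fact.mk hs
    have hVS : V ⊓ S = ⊥ := (IsPGroup.disjoint_of_ne q s hsq.symm V S hVq hSs).eq_bot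
    have hN : (V ⊔ S).Normal := sup_sylow_normal V R S hs hVR hnil hSR hSs hSi
    have hidxN : ¬ s ∣ S.relIndex (V ⊔ S) :=
      not_dvd_relIndex_of_le_right le_sup_right (sup_le hVR hSR) hSi
    have hSV := sylow_inf_centralizer_eq_bot hs V S G hN hSs hidxN (hSR.trans hRG) hVS hV0 hB
    have hVZ := inf_centralizer_center_eq_bot hs V S hN hSs hidxN hVab hS0 hSV mV
    have hcomm := le_commutator_normalizer hs V R S G hVR hRG hRc hnil hSR hSs hSi hVS
    apply hS0
    apply eq_bot_of_le_commutator_of_sylows hs S (G ⊓ normalizer (S : Set Γ)) hSs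
      (le_inf (hSR.trans hRG) le_normalizer) inf_le_right ?_ hcomm
    intro t ht hts
    exact h.sylow_centralizes hcore hq hs hsq.symm V S hVG (hSR.trans hRG) hVq hVab hSs hAS
      hV0 hS0 hSV hVZ t ht hts

theorem nil_quot_of_lcs_le {G : Type u} [Group G] (N : Subgroup G) [N.Normal] (k : ℕ)
    (h : (⊤ : Subgroup G).lowerCentralSeries k ≤ N) : Group.IsNilpotent (G ⧸ N) := by
  rw [Subgroup.nilpotent_iff_lowerCentralSeries]
  refine ⟨k, ?_⟩
  have h1 : (⊤ : Subgroup (G ⧸ N)) = (⊤ : Subgroup G).map (QuotientGroup.mk' N) :=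
    (map_top_of_surjective _ (QuotientGroup.mk'_surjective N)).symm
  rw [h1, ← map_lowerCentralSeries, eq_bot_iff]
  exact (map_mono h).trans (QuotientGroup.map_mk'_self N).le

/-- **Reduction of Ward's theorem to its core**, lower central series form. -/
theorem ward_of_core_lcs (hcore : Cfsg.Agent.Lib.Helper24.Ward.CoreStmt.{u}) {G : Type u}
    [Group G] [Finite G] (hG : Group.IsSolvable G) {p : ℕ} (hp : p.Prime)
    (A : Subgroup (MulAut G)) (hA : Cfsg.IsElementaryAbelian p A) (hcard : Nat.card A = p ^ 2)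
    (hfpf : ∀ g : G, (∀ a ∈ A, a g = g) → g = 1) :
    ∃ N : Subgroup G, N.Normal ∧ (∃ k, N.lowerCentralSeries k = ⊥) ∧
      ∃ k, (⊤ : Subgroup G).lowerCentralSeries k ≤ N := by
  haveI : Finite ↥A := by
    apply Nat.finite_of_card_ne_zero
    rw [hcard]
    exact pow_ne_zero 2 hp.ne_zero
  let φ : ↥A →* MulAut G := A.subtype
  let Γ := G ⋊[φ] ↥A
  haveI : Finite Γ := Finite.of_equiv (G × ↥A) SemidirectProduct.equivProd.symm
  let il : G →* Γ := SemidirectProduct.inl
  let ir : ↥A →* Γ := SemidirectProduct.inr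
  have hil : Function.Injective il := SemidirectProduct.inl_injective
  have hir : Function.Injective ir := SemidirectProduct.inr_injective
  have hctx : WCtx Γ p ir.range il.range := by
    refine ⟨hp, ⟨?_, ?_⟩, ?_, ?_, ?_, ?_, ?_⟩
    · refine ⟨⟨fun x y => ?_⟩⟩
      obtain ⟨x, a, rfl⟩ := x
      obtain ⟨y, b, rfl⟩ := y
      apply Subtype.ext
      show ir a * ir b = ir b * ir a
      rw [← map_mul, ← map_mul, hA.1.is_comm.comm a b]
    · rintro x ⟨a, rfl⟩
      rw [← map_pow]
      have : a ^ p = 1 := Subtype.ext (by rw [Subgroup.coe_pow]; exact hA.2 a a.2)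
      rw [this, map_one]
    · rw [← hcard]
      exact (Nat.card_congr (MonoidHom.ofInjective hir).toEquiv).symm
    · have : il.range = (SemidirectProduct.rightHom : Γ →* ↥A).ker :=
        SemidirectProduct.range_inl_eq_ker_rightHom
      rw [this]
      exact MonoidHom.normal_ker _
    · rw [eq_top_iff]
      intro x _
      have h1 : il x.left * ir x.right = x := SemidirectProduct.inl_left_mul_inr_right x
      rw [← h1, sup_comm]
      exact mul_mem_sup ⟨_, rfl⟩ ⟨_, rfl⟩
    · exact Group.isSolvable_of_surjective (f := il.rangeRestrict) il.rangeRestrict_surjective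
    · rw [eq_bot_iff]
      rintro x ⟨⟨g, rfl⟩, hx2⟩
      rw [mem_bot]
      have hg : g = 1 := by
        apply hfpf
        intro a ha
        have h1 : ir ⟨a, ha⟩ * il g = il g * ir ⟨a, ha⟩ :=
          mem_centralizer_iff.mp hx2 (ir ⟨a, ha⟩) ⟨_, rfl⟩
        have h2 : il ((φ ⟨a, ha⟩) g) = ir ⟨a, ha⟩ * il g * ir (⟨a, ha⟩ : ↥A)⁻¹ :=
          SemidirectProduct.inl_aut _ _
        rw [h1, mul_assoc, ← map_mul, mul_inv_cancel, map_one, mul_one] at h2
        exact hil h2
      rw [hg, map_one]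
  obtain ⟨k, hk⟩ := fh2_of_core hcore p _ Γ ir.range il.range hctx rfl
  refine ⟨(⊤ : Subgroup G).lowerCentralSeries k, inferInstance, ?_, ⟨k, le_rfl⟩⟩
  have h1 : ((⊤ : Subgroup G).lowerCentralSeries k).map il = il.range.lowerCentralSeries k := by
    rw [map_lowerCentralSeries, ← MonoidHom.range_eq_map]
  obtain ⟨m, hm⟩ := (isNilpotent_iff_lowerCentralSeries _).mp hk
  refine ⟨m, ?_⟩
  rw [← h1, ← map_lowerCentralSeries] at hm
  exact (map_eq_bot_iff_of_injective _ hil).mp hm

/-- **Reduction of Ward's theorem to its core.** -/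
theorem ward_of_core (hcore : Cfsg.Agent.Lib.Helper24.Ward.CoreStmt.{u}) {G : Type u} [Group G]
    [Finite G] (hG : Group.IsSolvable G) {p : ℕ} (hp : p.Prime) (A : Subgroup (MulAut G))
    (hA : Cfsg.IsElementaryAbelian p A) (hcard : Nat.card A = p ^ 2)
    (hfpf : ∀ g : G, (∀ a ∈ A, a g = g) → g = 1) :
    ∃ (N : Subgroup G) (_ : N.Normal), Group.IsNilpotent N ∧ Group.IsNilpotent (G ⧸ N) := by
  obtain ⟨N, hN, ⟨m, hm⟩, ⟨k, hk⟩⟩ := ward_of_core_lcs hcore hG hp A hA hcard hfpf
  haveI := hN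
  exact ⟨N, hN, (isNilpotent_iff_lowerCentralSeries N).mpr ⟨m, hm⟩, nil_quot_of_lcs_le N k hk⟩

/-- **Ward's theorem from its core**, in the shape of the statement S3796. -/
theorem ward_result_of_core (hcore : Cfsg.Agent.Lib.Helper24.Ward.CoreStmt.{u}) {G : Type u}
    [Group G] [Finite G] (hG : Group.IsSolvable G) {p : ℕ} (hp : p.Prime)
    (A : Subgroup (MulAut G)) (hA : Cfsg.IsElementaryAbelian p A) (hcard : Nat.card A = p ^ 2)
    (hfpf : ∀ g : G, (∀ a ∈ A, a g = g) → g = 1) :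
    ∃ F : Fin (2 + 1) → Subgroup G, F 0 = ⊥ ∧ F (Fin.last 2) = ⊤ ∧ Monotone F ∧
      (∀ i, (F i).Normal) ∧
      ∀ i : Fin 2, ∃ k : ℕ, (F i.succ).lowerCentralSeries k ≤ F i.castSucc := by
  obtain ⟨N, hN, ⟨m, hm⟩, ⟨k, hk⟩⟩ := ward_of_core_lcs hcore hG hp A hA hcard hfpf
  refine ⟨![⊥, N, ⊤], rfl, rfl, ?_, ?_, ?_⟩
  · rw [Fin.monotone_iff_le_succ]
    intro i
    fin_cases i
    · exact bot_le
    · exact le_top
  · intro i
    fin_cases i
    · exact (inferInstance : (⊥ : Subgroup G).Normal)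
    · exact hN
    · exact (inferInstance : (⊤ : Subgroup G).Normal)
  · intro i
    fin_cases i
    · exact ⟨m, hm.le⟩
    · exact ⟨k, hk⟩

end Cfsg.Agent.Lib.Helper48.Ward
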